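import Cfsg.Agent.Th.QP
set_option autoImplicit false
set_option maxRecDepth 100000
namespace CA.QP
open CA.TC
noncomputable def q_hB_Ft : BT Nat := (.leaf (nat_lit 0x8000060000040000a000052000040000890000400002c8000180001e3000110000b10000880006040002800044600010000203000060000c18000100005000000c0000c20000a000101000020000600000100002800000400010000022000161000100000f0000078000708000380003400001a0001210000c0000b1000058000488000280000c20001200006000008000071000038000208000180000440000a0000010000400000))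
noncomputable def q_hB_F (p : Nat) : Nat := row q_hB_Ft (nat_lit 5) (nat_lit 31) (nat_lit 45) (nat_lit 35184372088831) p
noncomputable def q_hB_P : BT Pf := (.node (.node (.node (.node (.node (.leaf .df) (.leaf (.pin (nat_lit 2) [(nat_lit 2)] []))) (.node (.leaf .df) (.leaf (.cyc (nat_lit 1) [(nat_lit 22), (nat_lit 19), (nat_lit 16), (nat_lit 20), (nat_lit 8)])))) (.node (.node (.leaf .df) (.leaf (.pin (nat_lit 6) [(nat_lit 5), (nat_lit 7), (nat_lit 8)] [(nat_lit 16)]))) (.node (.leaf .df) (.leaf (.cyc (nat_lit 3) [(nat_lit 22), (nat_lit 27), (nat_lit 17)]))))) (.node (.node (.node (.leaf .df) (.leaf (.pin (nat_lit 4) [] []))) (.node (.leaf .df) (.leaf (.cyc (nat_lit 3) [(nat_lit 12), (nat_lit 25), (nat_lit 8)])))) (.node (.node (.leaf .df) (.leaf (.pin (nat_lit 8) [(nat_lit 5), (nat_lit 7), (nat_lit 13)] [(nat_lit 6), (nat_lit 18)]))) (.node (.leaf (.pin (nat_lit 0) [(nat_lit 0)] [])) (.leaf .df)))))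 (.node (.node (.node (.node (.leaf .df) (.leaf (.pin (nat_lit 3) [(nat_lit 14), (nat_lit 3), (nat_lit 4)] [(nat_lit 15)]))) (.node (.leaf .df) (.leaf (.cyc (nat_lit 2) [(nat_lit 23), (nat_lit 13), (nat_lit 7), (nat_lit 9), (nat_lit 10), (nat_lit 11)])))) (.node (.node (.leaf .df) (.leaf (.pin (nat_lit 7) [(nat_lit 5), (nat_lit 9), (nat_lit 10), (nat_lit 11), (nat_lit 12)] [(nat_lit 17), (nat_lit 15)]))) (.node (.leaf .df) (.leaf (.cyc (nat_lit 5) [(nat_lit 6), (nat_lit 28), (nat_lit 1)]))))) (.node (.node (.node (.leaf .df) (.leaf (.pin (nat_lit 5) [(nat_lit 6)] []))) (.node (.leaf .df) (.leaf (.cyc (nat_lit 4) [(nat_lit 21), (nat_lit 26), (nat_lit 24)])))) (.node (.node (.leaf .df) (.leaf (.cyc (nat_lit 0) [(nat_lit 22), (nat_lit 6), (nat_lit 5), (nat_lit 7), (nat_lit 8)]))) (.node (.leaf (.pin (nat_lit 1) [(nat_lit 1)] [])) (.leaf .df))))))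
noncomputable def q_hB_R : BT (List ℕ × ℕ × List ℕ) := (.node (.node (.node (.leaf ([(nat_lit 2), (nat_lit 1), (nat_lit 2), (nat_lit 1), (nat_lit 2), (nat_lit 1)], (nat_lit 2), [(nat_lit 1), (nat_lit 2), (nat_lit 1), (nat_lit 2), (nat_lit 1)])) (.leaf ([(nat_lit 3), (nat_lit 3)], (nat_lit 1000000), []))) (.node (.leaf ([(nat_lit 2), (nat_lit 0), (nat_lit 2), (nat_lit 0), (nat_lit 2), (nat_lit 0)], (nat_lit 1), [(nat_lit 0)])) (.leaf ([], (nat_lit 1000000), [])))) (.node (.node (.leaf ([(nat_lit 3), (nat_lit 1), (nat_lit 3), (nat_lit 1), (nat_lit 3), (nat_lit 1)], (nat_lit 6), [])) (.leaf ([(nat_lit 2), (nat_lit 2)], (nat_lit 1000000), []))) (.node (.leaf ([(nat_lit 1), (nat_lit 1)], (nat_lit 1000000), [])) (.leaf ([], (nat_lit 1000000), [])))))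
noncomputable def q_hB_Q : BT (ℕ × List ℕ × ℕ) := (.node (.node (.node (.node (.leaf ((nat_lit 0), [(nat_lit 1), (nat_lit 0)], (nat_lit 1))) (.leaf ((nat_lit 3), [(nat_lit 1), (nat_lit 2), (nat_lit 0), (nat_lit 1), (nat_lit 2), (nat_lit 0)], (nat_lit 3)))) (.node (.leaf ((nat_lit 3), [(nat_lit 0)], (nat_lit 3))) (.leaf ((nat_lit 0), [(nat_lit 0)], (nat_lit 0))))) (.node (.node (.leaf ((nat_lit 1), [(nat_lit 2), (nat_lit 1)], (nat_lit 2))) (.leaf ((nat_lit 0), [(nat_lit 0)], (nat_lit 0)))) (.node (.leaf ((nat_lit 3), [(nat_lit 1), (nat_lit 2), (nat_lit 1), (nat_lit 3), (nat_lit 1)], (nat_lit 2))) (.leaf ((nat_lit 0), [(nat_lit 0)], (nat_lit 0)))))) (.node (.node (.node (.leaf ((nat_lit 0), [(nat_lit 2), (nat_lit 0)], (nat_lit 2))) (.leaf ((nat_lit 0), [(nat_lit 0)], (nat_lit 0)))) (.node (.leaf ((nat_lit 3), [(nat_lit 2), (nat_lit 3)], (nat_lit 2))) (.leaf ((nat_lit 0), [(nat_lit 0)], (nat_lit 0)))))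 (.node (.node (.leaf ((nat_lit 1), [(nat_lit 0), (nat_lit 2), (nat_lit 0), (nat_lit 1), (nat_lit 0)], (nat_lit 2))) (.leaf ((nat_lit 0), [(nat_lit 0)], (nat_lit 0)))) (.node (.leaf ((nat_lit 3), [(nat_lit 1), (nat_lit 0), (nat_lit 2), (nat_lit 0), (nat_lit 1), (nat_lit 3), (nat_lit 1), (nat_lit 0)], (nat_lit 2))) (.leaf ((nat_lit 0), [(nat_lit 0)], (nat_lit 0)))))))
noncomputable def q_hB_C : Cert := ⟨(nat_lit 4), (nat_lit 30), q_hB_F, q_hB_P, q_hB_R, q_hB_Q⟩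
noncomputable def q_hB_h : List (Ex × Ex) := [((.t (.g 0) (.g 1)), (.t (.g 1) (.g 0))), ((.t (.g 0) (.g 2)), (.t (.g 2) (.g 0))), ((.t (.g 1) (.g 2)), (.t (.g 2) (.g 1))), ((.t (.g 1) (.t (.g 2) (.g 0))), (.t (.t (.g 2) (.g 0)) (.g 1))), ((.t (.g 0) (.g 3)), (.g 0)), ((.t (.g 3) (.g 0)), (.g 3)), ((.t (.g 3) (.g 1)), (.t (.g 1) (.g 3))), ((.t (.g 3) (.g 2)), (.t (.g 2) (.g 3))), ((.t (.g 3) (.t (.g 2) (.g 1))), (.t (.t (.g 2) (.g 1)) (.g 3))), ((.t (.g 3) (.t (.t (.g 2) (.g 0)) (.g 1))), (.t (.t (.t (.g 2) (.g 0)) (.g 1)) (.g 3))), ((.t (.t (.t (.t (.t (.t (.g 3) (.g 1)) (.g 2)) (.g 0)) (.g 1)) (.g 2)) (.g 0)), (.g 3))]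
noncomputable def q_hB_g : List (Ex × Ex) := [((.g 0), (.g 3))]
theorem q_hB_k : q_hB_C.full 0 q_hB_h q_hB_g [[(nat_lit 29)]] = true := by decide +kernel
theorem q_hB {G : Type*} [Group G] {a b c e : G} (qa : a * a = 1) (qb : b * b = 1) (qc : c * c = 1) (qe : e * e = 1)
    (h0 : tw a b = tw b a)
    (h1 : tw a c = tw c a)
    (h2 : tw b c = tw c b)
    (h3 : tw b (tw c a) = tw (tw c a) b)
    (h4 : Commute a e)
    (h5 : tw e b = tw b e)
    (h6 : tw e c = tw c e)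
    (h7 : tw e (tw c b) = tw (tw c b) e)
    (h8 : tw e (tw (tw c a) b) = tw (tw (tw c a) b) e)
    (h9 : (tw (tw (tw (tw (tw (tw e b) c) a) b) c) a) = e)
    : a = e := by
  have H := Cert.sound (s := val [a, b, c, e]) q_hB_C _ q_hB_h q_hB_g _ q_hB_k (val_sq (by simp [*]))
    ⟨h0, h1, h2, h3, tw_of_comm qe h4, tw_of_comm qa h4.symm, h5, h6, h7, h8, h9, trivial⟩
  exact H.1
end CA.QP
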