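import Cfsg.Agent.Th.QP
set_option autoImplicit false
set_option maxRecDepth 100000
namespace CA.QP
open CA.TC
noncomputable def q_hN_Ft : BT Nat := (.leaf (nat_lit 0xc0002400024400012000124000090000a100005000048000018000248000120001600000b00006200006000030800014000202000060000e10000200006000001800028000008000104000060000630000200002000000800008c0000c0000c4000040000400000c0000b100005800050c000280002420001200008300008000041800038000088000180000460000a0000020000400000))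
noncomputable def q_hN_F (p : Nat) : Nat := row q_hN_Ft (nat_lit 5) (nat_lit 31) (nat_lit 45) (nat_lit 35184372088831) p
noncomputable def q_hN_P : BT Pf := (.node (.node (.node (.node (.node (.leaf .df) (.leaf (.pin (nat_lit 7) [(nat_lit 2)] []))) (.node (.leaf .df) (.leaf (.cyc (nat_lit 4) [(nat_lit 22), (nat_lit 2), (nat_lit 11), (nat_lit 2), (nat_lit 22), (nat_lit 23)])))) (.node (.node (.leaf .df) (.leaf (.cyc (nat_lit 1) [(nat_lit 8), (nat_lit 19)]))) (.node (.leaf (.pin (nat_lit 3) [] [])) (.leaf .df)))) (.node (.node (.node (.leaf .df) (.leaf (.pin (nat_lit 9) [(nat_lit 0), (nat_lit 4)] [(nat_lit 15), (nat_lit 13)]))) (.node (.leaf (.pin (nat_lit 1) [] [])) (.leaf (.cyc (nat_lit 5) [(nat_lit 6), (nat_lit 24)])))) (.node (.node (.leaf .df) (.leaf (.cyc (nat_lit 1) [(nat_lit 20), (nat_lit 21)]))) (.node (.leaf (.pin (nat_lit 5) [(nat_lit 0)] [])) (.leaf .df))))) (.node (.node (.node (.node (.leaf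 .df) (.leaf (.pin (nat_lit 8) [(nat_lit 3)] []))) (.node (.leaf (.pin (nat_lit 0) [] [])) (.leaf (.cyc (nat_lit 3) [(nat_lit 23), (nat_lit 24)])))) (.node (.node (.leaf .df) (.leaf (.cyc (nat_lit 2) [(nat_lit 5), (nat_lit 14), (nat_lit 16), (nat_lit 20)]))) (.node (.leaf (.pin (nat_lit 4) [] [])) (.leaf .df)))) (.node (.node (.node (.leaf .df) (.leaf (.cyc (nat_lit 0) [(nat_lit 8), (nat_lit 7), (nat_lit 6), (nat_lit 5), (nat_lit 4), (nat_lit 18), (nat_lit 15), (nat_lit 13), (nat_lit 10), (nat_lit 17), (nat_lit 3), (nat_lit 2)]))) (.node (.leaf (.pin (nat_lit 2) [] [])) (.leaf .df))) (.node (.node (.leaf .df) (.leaf (.cyc (nat_lit 3) [(nat_lit 7), (nat_lit 21)]))) (.node (.leaf (.pin (nat_lit 6) [(nat_lit 1)] [])) (.leaf .df))))))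
noncomputable def q_hN_R : BT (List ℕ × ℕ × List ℕ) := (.node (.node (.node (.leaf ([(nat_lit 0), (nat_lit 2), (nat_lit 3), (nat_lit 1), (nat_lit 3), (nat_lit 2), (nat_lit 0), (nat_lit 2), (nat_lit 3), (nat_lit 1), (nat_lit 3), (nat_lit 2)], (nat_lit 9), [(nat_lit 3), (nat_lit 2)])) (.leaf ([(nat_lit 0), (nat_lit 2), (nat_lit 0), (nat_lit 2), (nat_lit 0), (nat_lit 2)], (nat_lit 4), [(nat_lit 0), (nat_lit 2)]))) (.node (.leaf ([(nat_lit 1), (nat_lit 0), (nat_lit 1), (nat_lit 0)], (nat_lit 0), [(nat_lit 1), (nat_lit 0)])) (.leaf ([], (nat_lit 1000000), [])))) (.node (.node (.leaf ([(nat_lit 0), (nat_lit 0)], (nat_lit 1000000), [])) (.leaf ([(nat_lit 3), (nat_lit 3)], (nat_lit 1000000), []))) (.node (.leaf ([(nat_lit 2), (nat_lit 2)], (nat_lit 1000000), [])) (.leaf ([], (nat_lit 1000000), [])))))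
noncomputable def q_hN_Q : BT (ℕ × List ℕ × ℕ) := (.node (.node (.node (.node (.leaf ((nat_lit 2), [(nat_lit 2)], (nat_lit 2))) (.leaf ((nat_lit 1), [(nat_lit 3), (nat_lit 1)], (nat_lit 3)))) (.node (.leaf ((nat_lit 3), [(nat_lit 2)], (nat_lit 3))) (.leaf ((nat_lit 0), [(nat_lit 0)], (nat_lit 0))))) (.node (.node (.leaf ((nat_lit 1), [(nat_lit 0)], (nat_lit 1))) (.leaf ((nat_lit 0), [(nat_lit 0)], (nat_lit 0)))) (.node (.leaf ((nat_lit 0), [(nat_lit 3), (nat_lit 0)], (nat_lit 3))) (.leaf ((nat_lit 0), [(nat_lit 0)], (nat_lit 0)))))) (.node (.node (.node (.leaf ((nat_lit 3), [(nat_lit 3)], (nat_lit 3))) (.leaf ((nat_lit 0), [(nat_lit 2), (nat_lit 3), (nat_lit 2), (nat_lit 0), (nat_lit 2)], (nat_lit 3)))) (.node (.leaf ((nat_lit 0), [(nat_lit 2), (nat_lit 0)], (nat_lit 2))) (.leaf ((nat_lit 0), [(nat_lit 0)], (nat_lit 0))))) (.node (.node (.leaf ((nat_lit 2), [(nat_lit 3)], (nat_lit 2))) (.leaf ((nat_lit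 0), [(nat_lit 0)], (nat_lit 0)))) (.node (.leaf ((nat_lit 1), [(nat_lit 2), (nat_lit 1)], (nat_lit 2))) (.leaf ((nat_lit 0), [(nat_lit 0)], (nat_lit 0)))))))
noncomputable def q_hN_C : Cert := ⟨(nat_lit 4), (nat_lit 27), q_hN_F, q_hN_P, q_hN_R, q_hN_Q⟩
noncomputable def q_hN_h : List (Ex × Ex) := [((.t (.g 0) (.g 1)), (.g 0)), ((.t (.g 1) (.g 0)), (.g 1)), ((.t (.g 2) (.g 3)), (.g 2)), ((.t (.g 3) (.g 2)), (.g 3)), ((.t (.g 0) (.g 2)), (.t (.g 2) (.g 0))), ((.t (.g 0) (.g 3)), (.t (.g 3) (.g 0))), ((.t (.g 1) (.g 2)), (.t (.g 2) (.g 1))), ((.t (.g 1) (.g 3)), (.t (.g 3) (.g 1))), ((.t (.t (.g 0) (.g 2)) (.g 3)), (.t (.g 3) (.t (.g 0) (.g 2)))), ((.t (.g 1) (.t (.t (.g 0) (.g 2)) (.g 3))), (.g 1)), ((.t (.t (.t (.g 0) (.g 2)) (.g 3)) (.g 1)), (.t (.t (.g 0) (.g 2)) (.g 3)))]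
noncomputable def q_hN_g : List (Ex × Ex) := [((.t (.t (.t (.t (.g 2) (.g 0)) (.g 1)) (.t (.t (.g 0) (.g 2)) (.g 3))) (.t (.t (.g 1) (.g 2)) (.g 3))), (.g 2))]
theorem q_hN_k : q_hN_C.full 0 q_hN_h q_hN_g [[(nat_lit 14), (nat_lit 5), (nat_lit 26), (nat_lit 25), (nat_lit 22), (nat_lit 16), (nat_lit 9), (nat_lit 12)]] = true := by decide +kernel
theorem q_hN {G : Type*} [Group G] {a c b d : G} (qa : a * a = 1) (qc : c * c = 1) (qb : b * b = 1) (qd : d * d = 1)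
    (h0 : Commute a c)
    (h1 : Commute b d)
    (h2 : tw a b = tw b a)
    (h3 : tw a d = tw d a)
    (h4 : tw c b = tw b c)
    (h5 : tw c d = tw d c)
    (h6 : tw (tw a b) d = tw d (tw a b))
    (h7 : Commute c (tw (tw a b) d))
    : (tw (tw (tw (tw b a) c) (tw (tw a b) d)) (tw (tw c b) d)) = b := by
  have H := Cert.sound (s := val [a, c, b, d]) q_hN_C _ q_hN_h q_hN_g _ q_hN_k (val_sq (by simp [*]))
    ⟨tw_of_comm qc h0, tw_of_comm qa h0.symm, tw_of_comm qd h1, tw_of_comm qb h1.symm, h2, h3, h4, h5, h6, tw_of_comm (tw_sq (tw_sq qa qb) qd) h7, tw_of_comm qc h7.symm, trivial⟩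
  exact H.1
end CA.QP
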