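import Cfsg.Agent.Th.QP
set_option autoImplicit false
set_option maxRecDepth 100000
namespace CA.QP
open CA.TC
noncomputable def q_f1_Ft : BT Nat := (.node (.node (.node (.leaf (nat_lit 0x180012800038c00090000186000460003c000022000212000108000a00000800007c40003e0003c40001e0001500000e8000e0c000700006c4000360003400001a0001908000c8000c00000600005c40002e0002c3000160001500000a800028c000500004c0000260002440001200011000008800080c000400003c40001e0001c00000e0000d0800068000600000300002c4000160001430000a000090000048000200000200000c00000e0000400000600001)) (.leaf (nat_lit 0x6000050000430000a80004980005800028c0002e000166000310002a3000158001998000c0000acc00066000606000350002f30000e0000818000d0000b400005e0006e00003600036))) (.node (.leaf (nat_lit 0x14000140c0002c000a040001200050100021000282000068000690000300003080004a000166000270000c30000580013100002000028a0004a0002e5000160000828000500011800007800078a0003c000124000230001600000b0000b0800060000604000320003200001b0001b18000e8000e90000880008860002400024000014000140800038000a040004c0009440004800026100024000082000138001380000940009440004a0001010002000020))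 (.leaf (nat_lit 0)))) (.node (.node (.leaf (nat_lit 0x2800090000e900001400014a0000400004500000000151000030000a0c000100001080000400004300002000020800010000110000000002460000000010200000000070800000000310000100001060006e000441000360001f28001a8000d94000d00006820006600034500032000142800188000994000c00004080005e0001e10002e0000f200016800070c000b0000382000560001c10002a0000b2800148000390000a00001c00004e0004c40002600025)) (.leaf (nat_lit 0))) (.node (.leaf (nat_lit 0x2800108001b10000c8000d86000660006a2000340003508000e0001a14000cc00070000062000663000310003208001480019040005c000c46000560005e20002d0002f0800160001790000b8000b060005a0005c00002d0002d0800080001680000b0000b08000560002000002a0002b200009800150c00084000a8800032000324000180001818000c8000c8c00060000600000520005240001f0002918000b8001494000a00007c60001a0001a30000c0000c)) (.leaf (nat_lit 0)))))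
noncomputable def q_f1_F (p : Nat) : Nat := row q_f1_Ft (nat_lit 5) (nat_lit 31) (nat_lit 45) (nat_lit 35184372088831) p
noncomputable def q_f1_P0 : BT Pf := (.node (.node (.node (.node (.node (.node (.node (.leaf .df) (.leaf (.cyc (nat_lit 31) [(nat_lit 48), (nat_lit 26), (nat_lit 64), (nat_lit 26), (nat_lit 48)]))) (.node (.leaf (.pin (nat_lit 14) [(nat_lit 15), (nat_lit 24), (nat_lit 25), (nat_lit 26)] [(nat_lit 26), (nat_lit 25), (nat_lit 24), (nat_lit 15)])) (.leaf .df))) (.node (.node (.leaf .df) (.leaf .df)) (.node (.leaf (.cyc (nat_lit 6) [(nat_lit 6), (nat_lit 94), (nat_lit 95), (nat_lit 94), (nat_lit 6)])) (.leaf .df)))) (.node (.node (.node (.leaf .df) (.leaf .df)) (.node (.leaf (.cyc (nat_lit 12) [(nat_lit 29), (nat_lit 24), (nat_lit 16)])) (.leaf .df))) (.node (.node (.leaf .df) (.leaf .df)) (.node (.leaf (.cyc (nat_lit 25) [(nat_lit 39), (nat_lit 8), (nat_lit 91), (nat_lit 8), (nat_lit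 39)])) (.leaf .df))))) (.node (.node (.node (.node (.leaf .df) (.leaf (.cyc (nat_lit 19) [(nat_lit 121), (nat_lit 135), (nat_lit 108)]))) (.node (.leaf (.cyc (nat_lit 5) [(nat_lit 71), (nat_lit 1), (nat_lit 55), (nat_lit 1), (nat_lit 71)])) (.leaf .df))) (.node (.node (.leaf .df) (.leaf .df)) (.node (.leaf (.cyc (nat_lit 29) [(nat_lit 102), (nat_lit 18), (nat_lit 17), (nat_lit 79), (nat_lit 16), (nat_lit 24), (nat_lit 82), (nat_lit 81), (nat_lit 3), (nat_lit 50), (nat_lit 58), (nat_lit 3), (nat_lit 93), (nat_lit 95), (nat_lit 94), (nat_lit 89), (nat_lit 66), (nat_lit 85), (nat_lit 18)])) (.leaf .df)))) (.node (.node (.node (.leaf .df) (.leaf .df)) (.node (.leaf (.cyc (nat_lit 19) [(nat_lit 33), (nat_lit 87), (nat_lit 6)])) (.leaf .df))) (.node (.node (.leaf (.pin (nat_lit 6) [] [])) (.leaf .df)) (.node (.leaf (.cyc (nat_lit 7) [(nat_lit 43), (nat_lit 14), (nat_lit 44)])) (.leaf .df)))))) (.node (.node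 (.node (.node (.node (.leaf .df) (.leaf (.cyc (nat_lit 40) [(nat_lit 124), (nat_lit 130), (nat_lit 116)]))) (.node (.leaf (.cyc (nat_lit 3) [(nat_lit 30), (nat_lit 51), (nat_lit 53)])) (.leaf .df))) (.node (.node (.leaf .df) (.leaf .df)) (.node (.leaf (.cyc (nat_lit 27) [(nat_lit 98), (nat_lit 34), (nat_lit 35)])) (.leaf .df)))) (.node (.node (.node (.leaf .df) (.leaf .df)) (.node (.leaf (.cyc (nat_lit 15) [(nat_lit 16), (nat_lit 60), (nat_lit 53)])) (.leaf .df))) (.node (.node (.leaf (.pin (nat_lit 2) [(nat_lit 1)] [])) (.leaf .df)) (.node (.leaf (.cyc (nat_lit 23) [(nat_lit 39), (nat_lit 9), (nat_lit 41)])) (.leaf .df))))) (.node (.node (.node (.node (.leaf .df) (.leaf (.cyc (nat_lit 19) [(nat_lit 15), (nat_lit 139), (nat_lit 3)]))) (.node (.leaf (.cyc (nat_lit 8) [(nat_lit 22), (nat_lit 23), (nat_lit 75), (nat_lit 23), (nat_lit 22)])) (.leaf .df))) (.node (.node (.leaf .df) (.leaf .df)) (.node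 (.leaf (.cyc (nat_lit 31) [(nat_lit 36), (nat_lit 6), (nat_lit 7), (nat_lit 8), (nat_lit 37)])) (.leaf .df)))) (.node (.node (.node (.leaf .df) (.leaf .df)) (.node (.leaf (.cyc (nat_lit 22) [(nat_lit 27), (nat_lit 71), (nat_lit 34)])) (.leaf .df))) (.node (.node (.leaf (.pin (nat_lit 10) [(nat_lit 15)] [])) (.leaf .df)) (.node (.leaf (.cyc (nat_lit 36) [(nat_lit 46), (nat_lit 21), (nat_lit 47)])) (.leaf .df))))))) (.node (.node (.node (.node (.node (.node (.leaf .df) (.leaf (.cyc (nat_lit 38) [(nat_lit 46), (nat_lit 20), (nat_lit 105), (nat_lit 103), (nat_lit 20), (nat_lit 45), (nat_lit 121), (nat_lit 120), (nat_lit 126), (nat_lit 128), (nat_lit 127), (nat_lit 28), (nat_lit 74), (nat_lit 49), (nat_lit 129), (nat_lit 115), (nat_lit 110), (nat_lit 38), (nat_lit 39), (nat_lit 112)]))) (.node (.leaf (.cyc (nat_lit 1) [(nat_lit 31), (nat_lit 1), (nat_lit 56), (nat_lit 1), (nat_lit 31)])) (.leaf .df)))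 (.node (.node (.leaf .df) (.leaf .df)) (.node (.leaf (.cyc (nat_lit 16) [(nat_lit 93), (nat_lit 81), (nat_lit 25)])) (.leaf .df)))) (.node (.node (.node (.leaf .df) (.leaf .df)) (.node (.leaf (.cyc (nat_lit 14) [(nat_lit 24), (nat_lit 15), (nat_lit 62), (nat_lit 15), (nat_lit 24)])) (.leaf .df))) (.node (.node (.leaf (.pin (nat_lit 0) [] [])) (.leaf .df)) (.node (.leaf (.cyc (nat_lit 12) [(nat_lit 113), (nat_lit 39), (nat_lit 38)])) (.leaf .df))))) (.node (.node (.node (.node (.leaf .df) (.leaf (.cyc (nat_lit 40) [(nat_lit 17), (nat_lit 137), (nat_lit 5)]))) (.node (.leaf (.cyc (nat_lit 2) [(nat_lit 28), (nat_lit 27), (nat_lit 72), (nat_lit 27), (nat_lit 28)])) (.leaf .df))) (.node (.node (.leaf .df) (.leaf .df)) (.node (.leaf (.cyc (nat_lit 26) [(nat_lit 92), (nat_lit 94), (nat_lit 36)])) (.leaf .df)))) (.node (.node (.node (.leaf .df) (.leaf .df)) (.node (.leaf (.cyc (nat_lit 20) [(nat_lit 88),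 (nat_lit 67), (nat_lit 88)])) (.leaf .df))) (.node (.node (.leaf (.pin (nat_lit 8) [] [])) (.leaf .df)) (.node (.leaf (.cyc (nat_lit 35) [(nat_lit 121), (nat_lit 43), (nat_lit 13), (nat_lit 63), (nat_lit 23)])) (.leaf .df)))))) (.node (.node (.node (.node (.node (.leaf .df) (.leaf (.cyc (nat_lit 42) [(nat_lit 133), (nat_lit 125), (nat_lit 132), (nat_lit 117)]))) (.node (.leaf (.cyc (nat_lit 4) [(nat_lit 69), (nat_lit 68), (nat_lit 65)])) (.leaf .df))) (.node (.node (.leaf .df) (.leaf .df)) (.node (.leaf (.cyc (nat_lit 6) [(nat_lit 18), (nat_lit 99), (nat_lit 101), (nat_lit 99), (nat_lit 18)])) (.leaf .df)))) (.node (.node (.node (.leaf .df) (.leaf .df)) (.node (.leaf (.cyc (nat_lit 17) [(nat_lit 84), (nat_lit 80), (nat_lit 83)])) (.leaf .df))) (.node (.node (.leaf (.pin (nat_lit 4) [(nat_lit 3)] [])) (.leaf .df)) (.node (.leaf (.cyc (nat_lit 34) [(nat_lit 85), (nat_lit 70), (nat_lit 43)])) (.leaf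 .df))))) (.node (.node (.node (.node (.leaf .df) (.leaf .df)) (.node (.leaf (.cyc (nat_lit 10) [(nat_lit 19), (nat_lit 77), (nat_lit 19)])) (.leaf .df))) (.node (.node (.leaf .df) (.leaf .df)) (.node (.leaf (.cyc (nat_lit 33) [(nat_lit 38), (nat_lit 8), (nat_lit 97), (nat_lit 8), (nat_lit 38)])) (.leaf .df)))) (.node (.node (.node (.leaf .df) (.leaf .df)) (.node (.leaf (.cyc (nat_lit 24) [(nat_lit 89), (nat_lit 31), (nat_lit 34)])) (.leaf .df))) (.node (.node (.leaf (.pin (nat_lit 12) [] [])) (.leaf .df)) (.node (.leaf (.cyc (nat_lit 30) [(nat_lit 119), (nat_lit 100), (nat_lit 48)])) (.leaf .df))))))))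
noncomputable def q_f1_P1 : BT Pf := (.node (.node (.node (.node (.node (.node (.node (.leaf .df) (.leaf (.cyc (nat_lit 33) [(nat_lit 117), (nat_lit 108), (nat_lit 106), (nat_lit 28), (nat_lit 49)]))) (.node (.leaf (.cyc (nat_lit 0) [(nat_lit 31), (nat_lit 52), (nat_lit 53)])) (.leaf .df))) (.node (.node (.leaf .df) (.leaf .df)) (.node (.leaf (.cyc (nat_lit 26) [(nat_lit 7), (nat_lit 96), (nat_lit 7)])) (.leaf .df)))) (.node (.node (.node (.leaf .df) (.leaf .df)) (.node (.leaf (.cyc (nat_lit 13) [(nat_lit 24), (nat_lit 60), (nat_lit 54)])) (.leaf .df))) (.node (.node (.leaf .df) (.leaf .df)) (.node (.leaf (.cyc (nat_lit 26) [(nat_lit 111), (nat_lit 10), (nat_lit 40)])) (.leaf .df))))) (.node (.node (.node (.node (.leaf .df) (.leaf (.cyc (nat_lit 39) [(nat_lit 118), (nat_lit 136), (nat_lit 36)]))) (.node (.leaf (.cyc (nat_lit 6) [(nat_lit 13), (nat_lit 14), (nat_lit 72), (nat_lit 14), (nat_lit 13)]))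 (.leaf .df))) (.node (.node (.leaf .df) (.leaf .df)) (.node (.leaf (.cyc (nat_lit 21) [(nat_lit 19), (nat_lit 104), (nat_lit 19)])) (.leaf .df)))) (.node (.node (.node (.leaf .df) (.leaf .df)) (.node (.leaf (.cyc (nat_lit 20) [(nat_lit 32), (nat_lit 87)])) (.leaf .df))) (.node (.node (.leaf (.pin (nat_lit 7) [] [])) (.leaf .df)) (.node (.leaf (.cyc (nat_lit 31) [(nat_lit 118), (nat_lit 18), (nat_lit 19), (nat_lit 20), (nat_lit 45)])) (.leaf .df)))))) (.node (.node (.node (.node (.node (.leaf .df) (.leaf (.cyc (nat_lit 41) [(nat_lit 122), (nat_lit 131), (nat_lit 42)]))) (.node (.leaf (.cyc (nat_lit 0) [(nat_lit 30), (nat_lit 59), (nat_lit 14)])) (.leaf .df))) (.node (.node (.leaf .df) (.leaf .df)) (.node (.leaf (.cyc (nat_lit 28) [(nat_lit 35), (nat_lit 1), (nat_lit 61), (nat_lit 1), (nat_lit 35)])) (.leaf .df)))) (.node (.node (.node (.leaf .df) (.leaf .df)) (.node (.leaf (.cyc (nat_lit 16) [(nat_lit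 65), (nat_lit 84), (nat_lit 17)])) (.leaf .df))) (.node (.node (.leaf (.pin (nat_lit 3) [(nat_lit 2)] [])) (.leaf .df)) (.node (.leaf (.cyc (nat_lit 24) [(nat_lit 109), (nat_lit 10), (nat_lit 41)])) (.leaf .df))))) (.node (.node (.node (.node (.leaf .df) (.leaf .df)) (.node (.leaf (.cyc (nat_lit 9) [(nat_lit 20), (nat_lit 21), (nat_lit 76), (nat_lit 21), (nat_lit 20)])) (.leaf .df))) (.node (.node (.leaf .df) (.leaf .df)) (.node (.leaf (.cyc (nat_lit 32) [(nat_lit 108), (nat_lit 107), (nat_lit 13), (nat_lit 12), (nat_lit 11)])) (.leaf .df)))) (.node (.node (.node (.leaf .df) (.leaf .df)) (.node (.leaf (.cyc (nat_lit 23) [(nat_lit 54), (nat_lit 52), (nat_lit 34)])) (.leaf .df))) (.node (.node (.leaf (.pin (nat_lit 11) [] [])) (.leaf .df)) (.node (.leaf (.cyc (nat_lit 7) [(nat_lit 122), (nat_lit 22), (nat_lit 47)])) (.leaf .df))))))) (.node (.node (.node (.node (.node (.node (.leaf .df) (.leaf (.cyc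 (nat_lit 39) [(nat_lit 123), (nat_lit 130), (nat_lit 111)]))) (.node (.leaf (.cyc (nat_lit 2) [(nat_lit 33), (nat_lit 32), (nat_lit 66), (nat_lit 32), (nat_lit 33)])) (.leaf .df))) (.node (.node (.leaf .df) (.leaf .df)) (.node (.leaf (.cyc (nat_lit 7) [(nat_lit 85), (nat_lit 31), (nat_lit 35)])) (.leaf .df)))) (.node (.node (.node (.leaf .df) (.leaf .df)) (.node (.leaf (.cyc (nat_lit 15) [(nat_lit 4), (nat_lit 81), (nat_lit 29)])) (.leaf .df))) (.node (.node (.leaf (.pin (nat_lit 1) [(nat_lit 0)] [])) (.leaf .df)) (.node (.leaf (.cyc (nat_lit 22) [(nat_lit 114), (nat_lit 40), (nat_lit 41)])) (.leaf .df))))) (.node (.node (.node (.node (.leaf .df) (.leaf (.cyc (nat_lit 42) [(nat_lit 16), (nat_lit 138), (nat_lit 4)]))) (.node (.leaf (.cyc (nat_lit 7) [(nat_lit 63), (nat_lit 73), (nat_lit 63)])) (.leaf .df))) (.node (.node (.leaf .df) (.leaf .df)) (.node (.leaf (.cyc (nat_lit 30) [(nat_lit 70), (nat_lit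 89), (nat_lit 36)])) (.leaf .df)))) (.node (.node (.node (.leaf .df) (.leaf .df)) (.node (.leaf (.cyc (nat_lit 21) [(nat_lit 7), (nat_lit 90), (nat_lit 7)])) (.leaf .df))) (.node (.node (.leaf (.pin (nat_lit 9) [(nat_lit 3), (nat_lit 4), (nat_lit 5), (nat_lit 6), (nat_lit 7), (nat_lit 8), (nat_lit 9), (nat_lit 10), (nat_lit 11), (nat_lit 12), (nat_lit 13), (nat_lit 14)] [(nat_lit 0)])) (.leaf .df)) (.node (.leaf (.cyc (nat_lit 34) [(nat_lit 122), (nat_lit 45), (nat_lit 46)])) (.leaf .df)))))) (.node (.node (.node (.node (.node (.leaf .df) (.leaf (.cyc (nat_lit 43) [(nat_lit 134), (nat_lit 133)]))) (.node (.leaf (.cyc (nat_lit 3) [(nat_lit 31), (nat_lit 70), (nat_lit 14)])) (.leaf .df))) (.node (.node (.leaf .df) (.leaf .df)) (.node (.leaf (.cyc (nat_lit 26) [(nat_lit 19), (nat_lit 102), (nat_lit 19)])) (.leaf .df)))) (.node (.node (.node (.leaf .df) (.leaf .df)) (.node (.leaf (.cyc (nat_lit 18) [(nat_lit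 5), (nat_lit 86), (nat_lit 65), (nat_lit 32)])) (.leaf .df))) (.node (.node (.leaf (.pin (nat_lit 5) [] [])) (.leaf .df)) (.node (.leaf (.cyc (nat_lit 34) [(nat_lit 35), (nat_lit 71), (nat_lit 44)])) (.leaf .df))))) (.node (.node (.node (.node (.leaf .df) (.leaf .df)) (.node (.leaf (.cyc (nat_lit 11) [(nat_lit 17), (nat_lit 18), (nat_lit 78), (nat_lit 18), (nat_lit 17)])) (.leaf .df))) (.node (.node (.leaf .df) (.leaf .df)) (.node (.leaf (.cyc (nat_lit 22) [(nat_lit 109), (nat_lit 37), (nat_lit 39)])) (.leaf .df)))) (.node (.node (.node (.leaf .df) (.leaf .df)) (.node (.leaf (.cyc (nat_lit 25) [(nat_lit 34), (nat_lit 1), (nat_lit 57), (nat_lit 1), (nat_lit 34)])) (.leaf .df))) (.node (.node (.leaf (.pin (nat_lit 13) [(nat_lit 15), (nat_lit 16), (nat_lit 17), (nat_lit 18), (nat_lit 19), (nat_lit 20), (nat_lit 21), (nat_lit 22), (nat_lit 23)] [(nat_lit 13), (nat_lit 14), (nat_lit 59), (nat_lit 0)]))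 (.leaf .df)) (.node (.leaf (.cyc (nat_lit 37) [(nat_lit 92), (nat_lit 98), (nat_lit 48)])) (.leaf .df))))))))
noncomputable def q_f1_P : BT Pf := .node q_f1_P0 q_f1_P1
noncomputable def q_f1_R : BT (List ℕ × ℕ × List ℕ) := (.node (.node (.node (.node (.node (.node (.leaf ([(nat_lit 2), (nat_lit 3), (nat_lit 2), (nat_lit 3)], (nat_lit 8), [(nat_lit 3), (nat_lit 2), (nat_lit 3)])) (.leaf ([(nat_lit 4), (nat_lit 0), (nat_lit 4), (nat_lit 0), (nat_lit 4), (nat_lit 0)], (nat_lit 3), []))) (.node (.leaf ([(nat_lit 5), (nat_lit 2), (nat_lit 5), (nat_lit 2)], (nat_lit 20), [(nat_lit 2), (nat_lit 5), (nat_lit 2)])) (.leaf ([], (nat_lit 1000000), [])))) (.node (.node (.leaf ([(nat_lit 0), (nat_lit 3), (nat_lit 0), (nat_lit 3), (nat_lit 0), (nat_lit 3)], (nat_lit 2), [(nat_lit 3), (nat_lit 0), (nat_lit 3)])) (.leaf ([(nat_lit 2), (nat_lit 2)], (nat_lit 1000000), []))) (.node (.leaf ([(nat_lit 3), (nat_lit 4),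 (nat_lit 3), (nat_lit 4)], (nat_lit 14), [(nat_lit 3), (nat_lit 4)])) (.leaf ([], (nat_lit 1000000), []))))) (.node (.node (.node (.leaf ([(nat_lit 1), (nat_lit 2), (nat_lit 1), (nat_lit 2)], (nat_lit 4), [(nat_lit 2), (nat_lit 1), (nat_lit 2)])) (.leaf ([(nat_lit 2), (nat_lit 5), (nat_lit 2), (nat_lit 5)], (nat_lit 20), [(nat_lit 2), (nat_lit 5)]))) (.node (.leaf ([(nat_lit 4), (nat_lit 4)], (nat_lit 1000000), [])) (.leaf ([], (nat_lit 1000000), [])))) (.node (.node (.leaf ([(nat_lit 4), (nat_lit 3), (nat_lit 4), (nat_lit 3)], (nat_lit 14), [(nat_lit 3), (nat_lit 4), (nat_lit 3)])) (.leaf ([], (nat_lit 1000000), []))) (.node (.leaf ([(nat_lit 0), (nat_lit 5), (nat_lit 0), (nat_lit 5), (nat_lit 0), (nat_lit 5)], (nat_lit 17), [(nat_lit 5)])) (.leaf ([], (nat_lit 1000000), [])))))) (.node (.node (.node (.node (.leaf ([(nat_lit 4), (nat_lit 0), (nat_lit 4), (nat_lit 0), (nat_lit 4), (nat_lit 0)], (nat_lit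 3), [(nat_lit 4), (nat_lit 0), (nat_lit 4), (nat_lit 0)])) (.leaf ([(nat_lit 1), (nat_lit 5), (nat_lit 1), (nat_lit 5)], (nat_lit 18), [(nat_lit 1), (nat_lit 5)]))) (.node (.leaf ([(nat_lit 2), (nat_lit 4), (nat_lit 2), (nat_lit 4)], (nat_lit 12), [])) (.leaf ([], (nat_lit 1000000), [])))) (.node (.node (.leaf ([(nat_lit 2), (nat_lit 1), (nat_lit 2), (nat_lit 1)], (nat_lit 4), [(nat_lit 2), (nat_lit 1)])) (.leaf ([(nat_lit 3), (nat_lit 3)], (nat_lit 1000000), []))) (.node (.leaf ([(nat_lit 3), (nat_lit 1), (nat_lit 3), (nat_lit 1)], (nat_lit 6), [(nat_lit 3), (nat_lit 1)])) (.leaf ([], (nat_lit 1000000), []))))) (.node (.node (.node (.leaf ([(nat_lit 3), (nat_lit 0), (nat_lit 3), (nat_lit 0), (nat_lit 3), (nat_lit 0)], (nat_lit 2), [(nat_lit 3), (nat_lit 0), (nat_lit 3), (nat_lit 0)])) (.leaf ([(nat_lit 5), (nat_lit 0), (nat_lit 4), (nat_lit 3), (nat_lit 0), (nat_lit 1), (nat_lit 0), (nat_lit 3),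 (nat_lit 4), (nat_lit 0), (nat_lit 5), (nat_lit 0), (nat_lit 4), (nat_lit 3), (nat_lit 0), (nat_lit 1), (nat_lit 0), (nat_lit 3), (nat_lit 4), (nat_lit 0)], (nat_lit 29), [(nat_lit 0), (nat_lit 4), (nat_lit 3), (nat_lit 0), (nat_lit 1), (nat_lit 0), (nat_lit 3), (nat_lit 4), (nat_lit 0)]))) (.node (.leaf ([(nat_lit 1), (nat_lit 4), (nat_lit 1), (nat_lit 4)], (nat_lit 10), [(nat_lit 1), (nat_lit 4)])) (.leaf ([], (nat_lit 1000000), [])))) (.node (.node (.leaf ([(nat_lit 0), (nat_lit 4), (nat_lit 0), (nat_lit 4), (nat_lit 0), (nat_lit 4)], (nat_lit 3), [(nat_lit 4), (nat_lit 0), (nat_lit 4), (nat_lit 0), (nat_lit 4)])) (.leaf ([], (nat_lit 1000000), []))) (.node (.leaf ([(nat_lit 4), (nat_lit 1), (nat_lit 4), (nat_lit 1)], (nat_lit 10), [(nat_lit 1)])) (.leaf ([], (nat_lit 1000000), []))))))) (.node (.node (.node (.node (.node (.leaf ([(nat_lit 0), (nat_lit 3), (nat_lit 0), (nat_lit 3), (nat_lit 0),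 (nat_lit 3)], (nat_lit 2), [(nat_lit 3), (nat_lit 0), (nat_lit 3), (nat_lit 0), (nat_lit 3)])) (.leaf ([(nat_lit 0), (nat_lit 3), (nat_lit 0), (nat_lit 3), (nat_lit 0), (nat_lit 3)], (nat_lit 2), [(nat_lit 3)]))) (.node (.leaf ([(nat_lit 4), (nat_lit 5), (nat_lit 4), (nat_lit 5)], (nat_lit 24), [])) (.leaf ([], (nat_lit 1000000), [])))) (.node (.node (.leaf ([(nat_lit 2), (nat_lit 0), (nat_lit 2), (nat_lit 0), (nat_lit 2), (nat_lit 0)], (nat_lit 1), [(nat_lit 2), (nat_lit 0), (nat_lit 2), (nat_lit 0)])) (.leaf ([(nat_lit 5), (nat_lit 5)], (nat_lit 1000000), []))) (.node (.leaf ([(nat_lit 0), (nat_lit 4), (nat_lit 0), (nat_lit 4), (nat_lit 0), (nat_lit 4)], (nat_lit 3), [(nat_lit 4)])) (.leaf ([], (nat_lit 1000000), []))))) (.node (.node (.node (.leaf ([(nat_lit 0), (nat_lit 1), (nat_lit 0), (nat_lit 1), (nat_lit 0), (nat_lit 1)], (nat_lit 0), [(nat_lit 1), (nat_lit 0), (nat_lit 1), (nat_lit 0), (nat_lit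 1)])) (.leaf ([(nat_lit 5), (nat_lit 1), (nat_lit 5), (nat_lit 1)], (nat_lit 18), [(nat_lit 1)]))) (.node (.leaf ([(nat_lit 4), (nat_lit 1), (nat_lit 4), (nat_lit 1)], (nat_lit 10), [(nat_lit 1), (nat_lit 4), (nat_lit 1)])) (.leaf ([], (nat_lit 1000000), [])))) (.node (.node (.leaf ([(nat_lit 5), (nat_lit 4), (nat_lit 5), (nat_lit 4)], (nat_lit 24), [(nat_lit 4), (nat_lit 5), (nat_lit 4)])) (.leaf ([], (nat_lit 1000000), []))) (.node (.leaf ([(nat_lit 4), (nat_lit 3), (nat_lit 0), (nat_lit 2), (nat_lit 0), (nat_lit 3), (nat_lit 4), (nat_lit 0), (nat_lit 5), (nat_lit 0), (nat_lit 4), (nat_lit 3), (nat_lit 0), (nat_lit 2), (nat_lit 0), (nat_lit 3), (nat_lit 4), (nat_lit 0), (nat_lit 5), (nat_lit 0)], (nat_lit 31), [(nat_lit 0)])) (.leaf ([], (nat_lit 1000000), [])))))) (.node (.node (.node (.node (.leaf ([(nat_lit 1), (nat_lit 3), (nat_lit 1), (nat_lit 3)], (nat_lit 6), [(nat_lit 3), (nat_lit 1), (nat_lit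 3)])) (.leaf ([(nat_lit 5), (nat_lit 0), (nat_lit 5), (nat_lit 0), (nat_lit 5), (nat_lit 0)], (nat_lit 17), []))) (.node (.leaf ([(nat_lit 0), (nat_lit 0)], (nat_lit 1000000), [])) (.leaf ([], (nat_lit 1000000), [])))) (.node (.node (.leaf ([(nat_lit 0), (nat_lit 2), (nat_lit 0), (nat_lit 2), (nat_lit 0), (nat_lit 2)], (nat_lit 1), [(nat_lit 2), (nat_lit 0), (nat_lit 2)])) (.leaf ([], (nat_lit 1000000), []))) (.node (.leaf ([(nat_lit 4), (nat_lit 5), (nat_lit 4), (nat_lit 5)], (nat_lit 24), [(nat_lit 4), (nat_lit 5)])) (.leaf ([], (nat_lit 1000000), []))))) (.node (.node (.node (.leaf ([(nat_lit 3), (nat_lit 5), (nat_lit 3), (nat_lit 5)], (nat_lit 22), [(nat_lit 3), (nat_lit 5)])) (.leaf ([(nat_lit 1), (nat_lit 1)], (nat_lit 1000000), []))) (.node (.leaf ([(nat_lit 2), (nat_lit 4), (nat_lit 2), (nat_lit 4)], (nat_lit 12), [(nat_lit 2), (nat_lit 4)])) (.leaf ([], (nat_lit 1000000), [])))) (.node (.node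 (.leaf ([(nat_lit 5), (nat_lit 3), (nat_lit 5), (nat_lit 3)], (nat_lit 22), [(nat_lit 3), (nat_lit 5), (nat_lit 3)])) (.leaf ([], (nat_lit 1000000), []))) (.node (.leaf ([(nat_lit 0), (nat_lit 1), (nat_lit 0), (nat_lit 1), (nat_lit 0), (nat_lit 1)], (nat_lit 0), [(nat_lit 1)])) (.leaf ([], (nat_lit 1000000), []))))))))
noncomputable def q_f1_Q : BT (ℕ × List ℕ × ℕ) := (.node (.node (.node (.node (.leaf ((nat_lit 4), [(nat_lit 4)], (nat_lit 4))) (.leaf ((nat_lit 4), [(nat_lit 3)], (nat_lit 4)))) (.node (.leaf ((nat_lit 4), [(nat_lit 0), (nat_lit 4)], (nat_lit 0))) (.leaf ((nat_lit 5), [(nat_lit 4)], (nat_lit 5))))) (.node (.node (.leaf ((nat_lit 2), [(nat_lit 0), (nat_lit 2)], (nat_lit 0))) (.leaf ((nat_lit 5), [(nat_lit 0), (nat_lit 5)], (nat_lit 0)))) (.node (.leaf ((nat_lit 2), [(nat_lit 3)], (nat_lit 2))) (.leaf ((nat_lit 5), [(nat_lit 0), (nat_lit 4), (nat_lit 2), (nat_lit 0), (nat_lit 1), (nat_lit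 0), (nat_lit 2), (nat_lit 4), (nat_lit 0)], (nat_lit 5)))))) (.node (.node (.node (.leaf ((nat_lit 1), [(nat_lit 0), (nat_lit 1)], (nat_lit 0))) (.leaf ((nat_lit 4), [(nat_lit 0), (nat_lit 3), (nat_lit 2), (nat_lit 0), (nat_lit 1), (nat_lit 0), (nat_lit 2), (nat_lit 3), (nat_lit 0), (nat_lit 4), (nat_lit 0), (nat_lit 3), (nat_lit 2), (nat_lit 0)], (nat_lit 1)))) (.node (.leaf ((nat_lit 2), [(nat_lit 1)], (nat_lit 2))) (.leaf ((nat_lit 5), [(nat_lit 0), (nat_lit 3), (nat_lit 2), (nat_lit 0), (nat_lit 1), (nat_lit 0), (nat_lit 2), (nat_lit 3), (nat_lit 0), (nat_lit 5), (nat_lit 0), (nat_lit 3), (nat_lit 2), (nat_lit 0)], (nat_lit 1))))) (.node (.node (.leaf ((nat_lit 3), [(nat_lit 0), (nat_lit 3)], (nat_lit 0))) (.leaf ((nat_lit 2), [(nat_lit 5)], (nat_lit 2)))) (.node (.leaf ((nat_lit 2), [(nat_lit 4)], (nat_lit 2))) (.leaf ((nat_lit 0), [(nat_lit 0)], (nat_lit 0)))))))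
noncomputable def q_f1_C : Cert := ⟨(nat_lit 6), (nat_lit 141), q_f1_F, q_f1_P, q_f1_R, q_f1_Q⟩
noncomputable def q_f1_h : List (Ex × Ex) := [((.t (.g 1) (.g 0)), (.t (.g 0) (.g 1))), ((.t (.g 2) (.g 0)), (.t (.g 0) (.g 2))), ((.t (.g 3) (.g 0)), (.t (.g 0) (.g 3))), ((.t (.g 4) (.g 0)), (.t (.g 0) (.g 4))), ((.t (.g 1) (.g 2)), (.g 1)), ((.t (.g 2) (.g 1)), (.g 2)), ((.t (.g 1) (.g 3)), (.g 1)), ((.t (.g 3) (.g 1)), (.g 3)), ((.t (.g 2) (.g 3)), (.g 2)), ((.t (.g 3) (.g 2)), (.g 3)), ((.t (.g 4) (.g 1)), (.g 4)), ((.t (.g 1) (.g 4)), (.g 1)), ((.t (.g 4) (.g 2)), (.g 4)), ((.t (.g 2) (.g 4)), (.g 2)), ((.t (.g 4) (.g 3)), (.g 4)), ((.t (.g 3) (.g 4)), (.g 3)), ((.t (.g 4) (.t (.t (.t (.t (.g 1) (.g 0)) (.g 2)) (.g 3)) (.g 0))), (.t (.t (.t (.t (.t (.g 1) (.g 0)) (.g 2)) (.g 3)) (.g 0)) (.g 4))), ((.t (.g 5) (.g 0)), (.t (.g 0) (.g 5))), ((.t (.g 5) (.g 1)), (.g 5)), ((.t (.g 1) (.g 5)), (.g 1)),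 ((.t (.g 5) (.g 2)), (.g 5)), ((.t (.g 2) (.g 5)), (.g 2)), ((.t (.g 5) (.g 3)), (.g 5)), ((.t (.g 3) (.g 5)), (.g 3)), ((.t (.g 5) (.g 4)), (.g 5)), ((.t (.g 4) (.g 5)), (.g 4)), ((.t (.g 5) (.t (.t (.t (.t (.g 1) (.g 0)) (.g 2)) (.g 3)) (.g 0))), (.t (.t (.t (.t (.t (.g 1) (.g 0)) (.g 2)) (.g 3)) (.g 0)) (.g 5))), ((.t (.g 5) (.t (.t (.t (.t (.g 1) (.g 0)) (.g 2)) (.g 4)) (.g 0))), (.g 5)), ((.t (.t (.t (.t (.t (.g 1) (.g 0)) (.g 2)) (.g 4)) (.g 0)) (.g 5)), (.t (.t (.t (.t (.g 1) (.g 0)) (.g 2)) (.g 4)) (.g 0))), ((.t (.g 5) (.t (.t (.t (.t (.g 1) (.g 0)) (.g 3)) (.g 4)) (.g 0))), (.g 5)), ((.t (.t (.t (.t (.t (.g 1) (.g 0)) (.g 3)) (.g 4)) (.g 0)) (.g 5)), (.t (.t (.t (.t (.g 1) (.g 0)) (.g 3)) (.g 4)) (.g 0))), ((.t (.g 5) (.t (.t (.t (.t (.g 2) (.g 0)) (.g 3)) (.g 4)) (.g 0))), (.g 5)), ((.t (.t (.t (.t (.t (.g 2) (.g 0)) (.g 3)) (.g 4)) (.g 0)) (.g 5)), (.t (.t (.t (.t (.g 2) (.g 0)) (.g 3))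 (.g 4)) (.g 0)))]
noncomputable def q_f1_g : List (Ex × Ex) := [((.g 5), (.g 4))]
theorem q_f1_k : q_f1_C.full 2 q_f1_h q_f1_g [[(nat_lit 140)]] = true := by decide +kernel
theorem q_f1 {G : Type*} [Group G] {b p q r f e : G} (qb : b * b = 1) (qp : p * p = 1) (qq : q * q = 1) (qr : r * r = 1) (qf : f * f = 1) (qe : e * e = 1)
    (h0 : tw p b = tw b p)
    (h1 : tw q b = tw b q)
    (h2 : tw r b = tw b r)
    (h3 : tw f b = tw b f)
    (h4 : Commute p q)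
    (h5 : Commute p r)
    (h6 : Commute q r)
    (h7 : Commute f p)
    (h8 : Commute f q)
    (h9 : Commute f r)
    (h10 : tw f (tw (tw (tw (tw p b) q) r) b) = tw (tw (tw (tw (tw p b) q) r) b) f)
    (h11 : tw e b = tw b e)
    (h12 : Commute e p)
    (h13 : Commute e q)
    (h14 : Commute e r)
    (h15 : Commute e f)
    (h16 : tw e (tw (tw (tw (tw p b) q) r) b) = tw (tw (tw (tw (tw p b) q) r) b) e)
    (h17 : Commute e (tw (tw (tw (tw p b) q) f) b))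
    (h18 : Commute e (tw (tw (tw (tw p b) r) f) b))
    (h19 : Commute e (tw (tw (tw (tw q b) r) f) b))
    : e = f := by
  have H := Cert.sound (s := val [b, p, q, r, f, e]) q_f1_C _ q_f1_h q_f1_g _ q_f1_k (val_sq (by simp [*]))
    ⟨h0, h1, h2, h3, tw_of_comm qq h4, tw_of_comm qp h4.symm, tw_of_comm qr h5, tw_of_comm qp h5.symm, tw_of_comm qr h6, tw_of_comm qq h6.symm, tw_of_comm qp h7, tw_of_comm qf h7.symm, tw_of_comm qq h8, tw_of_comm qf h8.symm, tw_of_comm qr h9, tw_of_comm qf h9.symm, h10, h11, tw_of_comm qp h12, tw_of_comm qe h12.symm, tw_of_comm qq h13, tw_of_comm qe h13.symm, tw_of_comm qr h14, tw_of_comm qe h14.symm, tw_of_comm qf h15, tw_of_comm qe h15.symm, h16, tw_of_comm (tw_sq (tw_sq (tw_sq (tw_sq qp qb) qq) qf) qb) h17, tw_of_comm qe h17.symm, tw_of_comm (tw_sq (tw_sq (tw_sq (tw_sq qp qb) qr) qf) qb) h18, tw_of_comm qe h18.symm, tw_of_comm (tw_sq (tw_sq (tw_sq (tw_sq qq qb) qr) qf)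 qb) h19, tw_of_comm qe h19.symm, trivial⟩
  exact H.1
noncomputable def q_nB_Ft : BT Nat := (.node (.leaf (nat_lit 0x18000600003880005400024a0002c000123000020000b18000500005040000c0000c60000000000000003000030800030000484000080001c0000040000c00000100005100001000010c0005c0001840002c0002a0000150000708000a00009800004c00048400024000221000110001000000800007840003c0003840001c0001a00000d0000c08000600005880002c0000c8000140000e0000090000810000400002880001c0000440000c0000010000500000)) (.leaf (nat_lit 0x40003800038a0001e0001c5000100000e28000900006940004c00030a0001600028200017000170000058000b90000380003880001a0001a40000c0000c1000090000814000400004400001c0001c20000c0000c)))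
noncomputable def q_nB_F (p : Nat) : Nat := row q_nB_Ft (nat_lit 5) (nat_lit 31) (nat_lit 45) (nat_lit 35184372088831) p
noncomputable def q_nB_P : BT Pf := (.node (.node (.node (.node (.node (.node (.leaf .df) (.leaf (.cyc (nat_lit 3) [(nat_lit 7), (nat_lit 6), (nat_lit 26), (nat_lit 6), (nat_lit 7)]))) (.node (.leaf .df) (.leaf .df))) (.node (.node (.leaf .df) (.leaf (.cyc (nat_lit 10) [(nat_lit 18), (nat_lit 1), (nat_lit 25), (nat_lit 1), (nat_lit 18)]))) (.node (.leaf (.pin (nat_lit 5) [] [])) (.leaf .df)))) (.node (.node (.node (.leaf .df) (.leaf (.cyc (nat_lit 6) [(nat_lit 31), (nat_lit 5), (nat_lit 27), (nat_lit 5), (nat_lit 31)]))) (.node (.leaf (.pin (nat_lit 1) [(nat_lit 0)] [])) (.leaf .df))) (.node (.node (.leaf .df) (.leaf (.cyc (nat_lit 1) [(nat_lit 35), (nat_lit 43), (nat_lit 9)]))) (.node (.leaf (.pin (nat_lit 9) [(nat_lit 6)] [])) (.leaf .df))))) (.node (.node (.node (.node (.leaf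 .df) (.leaf (.cyc (nat_lit 5) [(nat_lit 11), (nat_lit 10), (nat_lit 33), (nat_lit 10), (nat_lit 11), (nat_lit 12)]))) (.node (.leaf .df) (.leaf .df))) (.node (.node (.leaf .df) (.leaf (.cyc (nat_lit 12) [(nat_lit 15), (nat_lit 41), (nat_lit 7)]))) (.node (.leaf (.pin (nat_lit 7) [] [])) (.leaf .df)))) (.node (.node (.node (.leaf .df) (.leaf (.cyc (nat_lit 8) [(nat_lit 9), (nat_lit 37), (nat_lit 9)]))) (.node (.leaf (.pin (nat_lit 3) [(nat_lit 2)] [])) (.leaf .df))) (.node (.node (.leaf .df) (.leaf (.cyc (nat_lit 12) [(nat_lit 10), (nat_lit 45)]))) (.node (.leaf (.cyc (nat_lit 1) [(nat_lit 17), (nat_lit 29)])) (.leaf .df)))))) (.node (.node (.node (.node (.node (.leaf .df) (.leaf (.cyc (nat_lit 4) [(nat_lit 9), (nat_lit 8), (nat_lit 32), (nat_lit 8), (nat_lit 9)]))) (.node (.leaf .df) (.leaf .df))) (.node (.node (.leaf .df) (.leaf (.cyc (nat_lit 11) [(nat_lit 39), (nat_lit 40), (nat_lit 39), (nat_lit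 7), (nat_lit 8), (nat_lit 9), (nat_lit 33), (nat_lit 10), (nat_lit 11), (nat_lit 35), (nat_lit 14), (nat_lit 15)]))) (.node (.leaf (.pin (nat_lit 6) [] [])) (.leaf .df)))) (.node (.node (.node (.leaf .df) (.leaf (.cyc (nat_lit 7) [(nat_lit 8), (nat_lit 36), (nat_lit 8)]))) (.node (.leaf (.pin (nat_lit 2) [(nat_lit 1)] [])) (.leaf .df))) (.node (.node (.leaf .df) (.leaf (.cyc (nat_lit 13) [(nat_lit 11), (nat_lit 44), (nat_lit 33)]))) (.node (.leaf (.cyc (nat_lit 0) [(nat_lit 17), (nat_lit 16), (nat_lit 2), (nat_lit 20), (nat_lit 3), (nat_lit 4)])) (.leaf .df))))) (.node (.node (.node (.node (.leaf .df) (.leaf (.cyc (nat_lit 1) [(nat_lit 13), (nat_lit 34)]))) (.node (.leaf (.pin (nat_lit 0) [] [])) (.leaf .df))) (.node (.node (.leaf .df) (.leaf (.cyc (nat_lit 13) [(nat_lit 14), (nat_lit 42), (nat_lit 8)]))) (.node (.leaf (.pin (nat_lit 8) [(nat_lit 2), (nat_lit 5)] [(nat_lit 5), (nat_lit 2)])) (.leaf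 .df)))) (.node (.node (.node (.leaf .df) (.leaf (.cyc (nat_lit 9) [(nat_lit 28), (nat_lit 21), (nat_lit 18)]))) (.node (.leaf (.pin (nat_lit 4) [(nat_lit 20), (nat_lit 3), (nat_lit 4)] [(nat_lit 21)])) (.leaf .df))) (.node (.node (.leaf .df) (.leaf .df)) (.node (.leaf (.cyc (nat_lit 2) [(nat_lit 7), (nat_lit 28), (nat_lit 22)])) (.leaf .df)))))))
noncomputable def q_nB_R : BT (List ℕ × ℕ × List ℕ) := (.node (.node (.node (.node (.leaf ([(nat_lit 2), (nat_lit 0), (nat_lit 2), (nat_lit 0), (nat_lit 2), (nat_lit 0)], (nat_lit 1), [(nat_lit 0)])) (.leaf ([(nat_lit 4), (nat_lit 2), (nat_lit 4), (nat_lit 2)], (nat_lit 10), [(nat_lit 2), (nat_lit 4), (nat_lit 2)]))) (.node (.leaf ([(nat_lit 0), (nat_lit 2), (nat_lit 0), (nat_lit 2), (nat_lit 0), (nat_lit 2)], (nat_lit 1), [(nat_lit 0), (nat_lit 2), (nat_lit 0), (nat_lit 2)])) (.leaf ([(nat_lit 1), (nat_lit 1)], (nat_lit 1000000), [])))) (.node (.node (.leaf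 ([(nat_lit 3), (nat_lit 1), (nat_lit 3), (nat_lit 1)], (nat_lit 6), [(nat_lit 1), (nat_lit 3), (nat_lit 1)])) (.leaf ([(nat_lit 2), (nat_lit 3), (nat_lit 2), (nat_lit 3), (nat_lit 2), (nat_lit 3)], (nat_lit 15), [(nat_lit 3)]))) (.node (.leaf ([(nat_lit 4), (nat_lit 3), (nat_lit 4), (nat_lit 3), (nat_lit 4), (nat_lit 3)], (nat_lit 12), [(nat_lit 3)])) (.leaf ([], (nat_lit 1000000), []))))) (.node (.node (.node (.leaf ([(nat_lit 2), (nat_lit 2)], (nat_lit 1000000), [])) (.leaf ([(nat_lit 0), (nat_lit 3), (nat_lit 0), (nat_lit 3)], (nat_lit 4), [(nat_lit 0), (nat_lit 3)]))) (.node (.leaf ([(nat_lit 0), (nat_lit 1), (nat_lit 0), (nat_lit 1), (nat_lit 0), (nat_lit 1)], (nat_lit 0), [(nat_lit 0), (nat_lit 1), (nat_lit 0), (nat_lit 1)])) (.leaf ([(nat_lit 0), (nat_lit 0)], (nat_lit 1000000), [])))) (.node (.node (.leaf ([(nat_lit 2), (nat_lit 1), (nat_lit 2), (nat_lit 1), (nat_lit 2), (nat_lit 1)], (nat_lit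 2), [(nat_lit 1), (nat_lit 2), (nat_lit 1), (nat_lit 2), (nat_lit 1)])) (.leaf ([(nat_lit 0), (nat_lit 2), (nat_lit 0), (nat_lit 1), (nat_lit 0), (nat_lit 2), (nat_lit 0), (nat_lit 1), (nat_lit 0), (nat_lit 2), (nat_lit 0), (nat_lit 1)], (nat_lit 3), [(nat_lit 0), (nat_lit 1)]))) (.node (.leaf ([(nat_lit 4), (nat_lit 0), (nat_lit 4), (nat_lit 0)], (nat_lit 8), [(nat_lit 0), (nat_lit 4), (nat_lit 0)])) (.leaf ([], (nat_lit 1000000), []))))))
noncomputable def q_nB_Q : BT (ℕ × List ℕ × ℕ) := (.node (.node (.node (.node (.leaf ((nat_lit 2), [(nat_lit 2)], (nat_lit 2))) (.leaf ((nat_lit 1), [(nat_lit 2), (nat_lit 4), (nat_lit 3), (nat_lit 4), (nat_lit 2)], (nat_lit 1)))) (.node (.leaf ((nat_lit 1), [(nat_lit 0), (nat_lit 2), (nat_lit 0), (nat_lit 1), (nat_lit 0)], (nat_lit 2))) (.leaf ((nat_lit 0), [(nat_lit 0)], (nat_lit 0))))) (.node (.node (.leaf ((nat_lit 0), [(nat_lit 2), (nat_lit 0)], (nat_lit 2)))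 (.leaf ((nat_lit 0), [(nat_lit 0)], (nat_lit 0)))) (.node (.leaf ((nat_lit 0), [(nat_lit 3)], (nat_lit 0))) (.leaf ((nat_lit 0), [(nat_lit 0)], (nat_lit 0)))))) (.node (.node (.node (.leaf ((nat_lit 0), [(nat_lit 1), (nat_lit 0)], (nat_lit 1))) (.leaf ((nat_lit 3), [(nat_lit 2), (nat_lit 3)], (nat_lit 2)))) (.node (.leaf ((nat_lit 3), [(nat_lit 0)], (nat_lit 3))) (.leaf ((nat_lit 0), [(nat_lit 0)], (nat_lit 0))))) (.node (.node (.leaf ((nat_lit 1), [(nat_lit 2), (nat_lit 1)], (nat_lit 2))) (.leaf ((nat_lit 0), [(nat_lit 0)], (nat_lit 0)))) (.node (.leaf ((nat_lit 3), [(nat_lit 1)], (nat_lit 3))) (.leaf ((nat_lit 0), [(nat_lit 0)], (nat_lit 0)))))))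
noncomputable def q_nB_C : Cert := ⟨(nat_lit 5), (nat_lit 47), q_nB_F, q_nB_P, q_nB_R, q_nB_Q⟩
noncomputable def q_nB_h : List (Ex × Ex) := [((.t (.g 0) (.g 1)), (.t (.g 1) (.g 0))), ((.t (.g 0) (.g 2)), (.t (.g 2) (.g 0))), ((.t (.g 1) (.g 2)), (.t (.g 2) (.g 1))), ((.t (.g 1) (.t (.g 2) (.g 0))), (.t (.t (.g 2) (.g 0)) (.g 1))), ((.t (.g 3) (.g 0)), (.g 3)), ((.t (.g 0) (.g 3)), (.g 0)), ((.t (.g 3) (.g 1)), (.g 3)), ((.t (.g 1) (.g 3)), (.g 1)), ((.t (.g 4) (.g 0)), (.g 4)), ((.t (.g 0) (.g 4)), (.g 0)), ((.t (.g 4) (.g 2)), (.g 4)), ((.t (.g 2) (.g 4)), (.g 2)), ((.t (.g 3) (.g 4)), (.t (.g 4) (.g 3))), ((.t (.t (.g 3) (.g 4)) (.t (.g 1) (.g 2))), (.t (.g 3) (.g 4))), ((.t (.t (.g 1) (.g 2)) (.t (.g 3) (.g 4))), (.t (.g 1) (.g 2))), ((.t (.g 3) (.g 2)), (.t (.g 2) (.g 3)))]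
noncomputable def q_nB_g : List (Ex × Ex) := [((.t (.t (.t (.t (.t (.t (.t (.g 3) (.g 0)) (.g 2)) (.g 1)) (.g 0)) (.g 2)) (.g 1)) (.g 4)), (.t (.t (.t (.t (.t (.t (.g 3) (.g 0)) (.g 2)) (.g 1)) (.g 0)) (.g 2)) (.g 1))), ((.t (.t (.t (.t (.t (.t (.t (.g 3) (.g 0)) (.g 2)) (.g 1)) (.g 0)) (.g 2)) (.g 1)) (.g 0)), (.t (.t (.t (.t (.t (.t (.g 3) (.g 0)) (.g 2)) (.g 1)) (.g 0)) (.g 2)) (.g 1))), ((.t (.t (.t (.t (.t (.t (.t (.g 3) (.g 0)) (.g 2)) (.g 1)) (.g 0)) (.g 2)) (.g 1)) (.g 1)), (.t (.t (.t (.t (.t (.t (.g 3) (.g 0)) (.g 2)) (.g 1)) (.g 0)) (.g 2)) (.g 1))), ((.t (.t (.t (.t (.t (.t (.t (.g 1) (.g 2)) (.g 0)) (.g 2)) (.g 1)) (.g 0)) (.g 2)) (.g 1)), (.t (.g 1) (.g 2)))]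
theorem q_nB_k : q_nB_C.full 0 q_nB_h q_nB_g [[(nat_lit 24), (nat_lit 6), (nat_lit 7), (nat_lit 8), (nat_lit 9), (nat_lit 46), (nat_lit 38), (nat_lit 46), (nat_lit 9), (nat_lit 8), (nat_lit 7), (nat_lit 6), (nat_lit 24)], [(nat_lit 24), (nat_lit 6), (nat_lit 7), (nat_lit 8), (nat_lit 9), (nat_lit 46), (nat_lit 33), (nat_lit 46), (nat_lit 9), (nat_lit 8), (nat_lit 7), (nat_lit 6), (nat_lit 24)], [(nat_lit 24), (nat_lit 6), (nat_lit 7), (nat_lit 8), (nat_lit 9), (nat_lit 46), (nat_lit 9), (nat_lit 8), (nat_lit 7), (nat_lit 6), (nat_lit 24)], [(nat_lit 2), (nat_lit 16), (nat_lit 30), (nat_lit 23), (nat_lit 21), (nat_lit 19), (nat_lit 22), (nat_lit 2)]] = true := by decide +kernel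
theorem q_nB {G : Type*} [Group G] {a b c z e : G} (qa : a * a = 1) (qb : b * b = 1) (qc : c * c = 1) (qz : z * z = 1) (qe : e * e = 1)
    (h0 : tw a b = tw b a)
    (h1 : tw a c = tw c a)
    (h2 : tw b c = tw c b)
    (h3 : tw b (tw c a) = tw (tw c a) b)
    (h4 : Commute z a)
    (h5 : Commute z b)
    (h6 : Commute e a)
    (h7 : Commute e c)
    (h8 : tw z e = tw e z)
    (h9 : Commute (tw z e) (tw b c))
    (h10 : tw z c = tw c z)
    : Commute (tw (tw (tw (tw (tw (tw z a) c) b) a) c) b) e ∧ Commute (tw (tw (tw (tw (tw (tw z a) c) b) a) c) b) a ∧ Commute (tw (tw (tw (tw (tw (tw z a) c) b) a) c) b) b ∧ (tw (tw (tw (tw (tw (tw (tw b c) a) c) b) a) c) b) = (tw b c) := by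
  have H := Cert.sound (s := val [a, b, c, z, e]) q_nB_C _ q_nB_h q_nB_g _ q_nB_k (val_sq (by simp [*]))
    ⟨h0, h1, h2, h3, tw_of_comm qa h4, tw_of_comm qz h4.symm, tw_of_comm qb h5, tw_of_comm qz h5.symm, tw_of_comm qa h6, tw_of_comm qe h6.symm, tw_of_comm qc h7, tw_of_comm qe h7.symm, h8, tw_of_comm (tw_sq qb qc) h9, tw_of_comm (tw_sq qz qe) h9.symm, h10, trivial⟩
  exact ⟨comm_of_tw qe H.1, comm_of_tw qa H.2.1, comm_of_tw qb H.2.2.1, H.2.2.2.1⟩
noncomputable def q_nA_Ft : BT Nat := (.node (.leaf (nat_lit 0x800078000684000500001c80002a0000e3000070000e18000100004800000c0000c60000000000100005000080800010000300000080001400000200008100001000010000000000008000580003020002a0002800001400006080009800090c0004800044200022000202000100000f0000078000508000380003400001a0001810000c0000b0000058000484000280002440001200006000008000071000038000208000180000440000a0000010000400000)) (.leaf (nat_lit 0xc000440004480002400022400010000131800080000b0400058000584000160001630000b00005)))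
noncomputable def q_nA_F (p : Nat) : Nat := row q_nA_Ft (nat_lit 5) (nat_lit 31) (nat_lit 45) (nat_lit 35184372088831) p
noncomputable def q_nA_P : BT Pf := (.node (.node (.node (.node (.node (.node (.leaf .df) (.leaf (.cyc (nat_lit 3) [(nat_lit 7), (nat_lit 27), (nat_lit 22)]))) (.node (.leaf .df) (.leaf .df))) (.node (.node (.leaf .df) (.leaf .df)) (.node (.leaf (.pin (nat_lit 5) [(nat_lit 21), (nat_lit 3), (nat_lit 4)] [(nat_lit 22)])) (.leaf .df)))) (.node (.node (.node (.leaf .df) (.leaf (.cyc (nat_lit 7) [(nat_lit 35), (nat_lit 34), (nat_lit 35), (nat_lit 13), (nat_lit 14), (nat_lit 15)]))) (.node (.leaf (.pin (nat_lit 1) [] [])) (.leaf .df))) (.node (.node (.leaf .df) (.leaf .df)) (.node (.leaf (.pin (nat_lit 9) [(nat_lit 5), (nat_lit 7), (nat_lit 8), (nat_lit 9), (nat_lit 10)] [(nat_lit 3), (nat_lit 21)])) (.leaf .df))))) (.node (.node (.node (.node (.leaf .df) (.leaf (.cyc (nat_lit 5) [(nat_lit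 18), (nat_lit 8), (nat_lit 33), (nat_lit 8), (nat_lit 18)]))) (.node (.leaf .df) (.leaf .df))) (.node (.node (.leaf .df) (.leaf .df)) (.node (.leaf (.pin (nat_lit 7) [] [])) (.leaf .df)))) (.node (.node (.node (.leaf .df) (.leaf (.cyc (nat_lit 8) [(nat_lit 14), (nat_lit 37)]))) (.node (.leaf (.pin (nat_lit 3) [(nat_lit 1)] [])) (.leaf .df))) (.node (.node (.leaf .df) (.leaf .df)) (.node (.leaf (.cyc (nat_lit 1) [(nat_lit 17), (nat_lit 29)])) (.leaf .df)))))) (.node (.node (.node (.node (.node (.leaf .df) (.leaf (.cyc (nat_lit 4) [(nat_lit 7), (nat_lit 5), (nat_lit 26), (nat_lit 5), (nat_lit 7)]))) (.node (.leaf .df) (.leaf .df))) (.node (.node (.leaf .df) (.leaf .df)) (.node (.leaf (.pin (nat_lit 6) [] [])) (.leaf .df)))) (.node (.node (.node (.leaf .df) (.leaf (.cyc (nat_lit 1) [(nat_lit 15), (nat_lit 36), (nat_lit 13)]))) (.node (.leaf (.pin (nat_lit 2) [(nat_lit 0)] [])) (.leaf .df))) (.node (.node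 (.leaf .df) (.leaf .df)) (.node (.leaf (.cyc (nat_lit 0) [(nat_lit 17), (nat_lit 16), (nat_lit 23), (nat_lit 22), (nat_lit 24), (nat_lit 4)])) (.leaf .df))))) (.node (.node (.node (.node (.leaf .df) (.leaf (.cyc (nat_lit 6) [(nat_lit 12), (nat_lit 31), (nat_lit 10), (nat_lit 28), (nat_lit 3), (nat_lit 0), (nat_lit 1), (nat_lit 32), (nat_lit 33), (nat_lit 8), (nat_lit 18)]))) (.node (.leaf (.pin (nat_lit 0) [] [])) (.leaf .df))) (.node (.node (.leaf .df) (.leaf .df)) (.node (.leaf (.pin (nat_lit 8) [(nat_lit 5)] [])) (.leaf .df)))) (.node (.node (.node (.leaf .df) (.leaf .df)) (.node (.leaf (.pin (nat_lit 4) [(nat_lit 2)] [])) (.leaf .df))) (.node (.node (.leaf .df) (.leaf .df)) (.node (.leaf (.cyc (nat_lit 2) [(nat_lit 11), (nat_lit 6), (nat_lit 7), (nat_lit 8), (nat_lit 9)])) (.leaf .df)))))))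
noncomputable def q_nA_R : BT (List ℕ × ℕ × List ℕ) := (.node (.node (.node (.node (.leaf ([(nat_lit 1), (nat_lit 0), (nat_lit 1), (nat_lit 0), (nat_lit 1), (nat_lit 0)], (nat_lit 0), [(nat_lit 0)])) (.leaf ([(nat_lit 3), (nat_lit 3)], (nat_lit 1000000), []))) (.node (.leaf ([(nat_lit 2), (nat_lit 0), (nat_lit 2), (nat_lit 0), (nat_lit 2), (nat_lit 0)], (nat_lit 1), [(nat_lit 0), (nat_lit 2), (nat_lit 0), (nat_lit 2), (nat_lit 0)])) (.leaf ([], (nat_lit 1000000), [])))) (.node (.node (.leaf ([(nat_lit 1), (nat_lit 0), (nat_lit 1), (nat_lit 0), (nat_lit 1), (nat_lit 0)], (nat_lit 0), [(nat_lit 0), (nat_lit 1), (nat_lit 0), (nat_lit 1), (nat_lit 0)])) (.leaf ([], (nat_lit 1000000), []))) (.node (.leaf ([(nat_lit 3), (nat_lit 2), (nat_lit 1), (nat_lit 2), (nat_lit 3), (nat_lit 2), (nat_lit 1), (nat_lit 2), (nat_lit 3), (nat_lit 2), (nat_lit 1), (nat_lit 2)], (nat_lit 8), [(nat_lit 2)])) (.leaf ([], (nat_lit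 1000000), []))))) (.node (.node (.node (.leaf ([(nat_lit 1), (nat_lit 1)], (nat_lit 1000000), [])) (.leaf ([], (nat_lit 1000000), []))) (.node (.leaf ([(nat_lit 1), (nat_lit 2), (nat_lit 1), (nat_lit 2), (nat_lit 1), (nat_lit 2)], (nat_lit 2), [(nat_lit 1), (nat_lit 2)])) (.leaf ([], (nat_lit 1000000), [])))) (.node (.node (.leaf ([(nat_lit 3), (nat_lit 0), (nat_lit 3), (nat_lit 0)], (nat_lit 4), [])) (.leaf ([], (nat_lit 1000000), []))) (.node (.leaf ([(nat_lit 3), (nat_lit 1), (nat_lit 3), (nat_lit 1), (nat_lit 3), (nat_lit 1)], (nat_lit 6), [(nat_lit 3), (nat_lit 1), (nat_lit 3), (nat_lit 1)])) (.leaf ([], (nat_lit 1000000), []))))))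
noncomputable def q_nA_Q : BT (ℕ × List ℕ × ℕ) := (.node (.node (.node (.node (.leaf ((nat_lit 0), [(nat_lit 0)], (nat_lit 0))) (.leaf ((nat_lit 3), [(nat_lit 2), (nat_lit 3)], (nat_lit 2)))) (.node (.leaf ((nat_lit 1), [(nat_lit 2), (nat_lit 1)], (nat_lit 2))) (.leaf ((nat_lit 0), [(nat_lit 0)], (nat_lit 0))))) (.node (.node (.leaf ((nat_lit 0), [(nat_lit 1), (nat_lit 0)], (nat_lit 1))) (.leaf ((nat_lit 0), [(nat_lit 0)], (nat_lit 0)))) (.node (.leaf ((nat_lit 0), [(nat_lit 3)], (nat_lit 0))) (.leaf ((nat_lit 0), [(nat_lit 0)], (nat_lit 0)))))) (.node (.node (.node (.leaf ((nat_lit 1), [(nat_lit 1)], (nat_lit 1))) (.leaf ((nat_lit 3), [(nat_lit 2), (nat_lit 0), (nat_lit 1), (nat_lit 0), (nat_lit 2), (nat_lit 3), (nat_lit 2), (nat_lit 0)], (nat_lit 1)))) (.node (.leaf ((nat_lit 1), [(nat_lit 0), (nat_lit 2), (nat_lit 0), (nat_lit 1), (nat_lit 0)], (nat_lit 2))) (.leaf ((nat_lit 0), [(nat_lit 0)],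 (nat_lit 0))))) (.node (.node (.leaf ((nat_lit 0), [(nat_lit 2), (nat_lit 0)], (nat_lit 2))) (.leaf ((nat_lit 0), [(nat_lit 0)], (nat_lit 0)))) (.node (.leaf ((nat_lit 3), [(nat_lit 0)], (nat_lit 3))) (.leaf ((nat_lit 0), [(nat_lit 0)], (nat_lit 0)))))))
noncomputable def q_nA_C : Cert := ⟨(nat_lit 4), (nat_lit 39), q_nA_F, q_nA_P, q_nA_R, q_nA_Q⟩
noncomputable def q_nA_h : List (Ex × Ex) := [((.t (.g 0) (.g 1)), (.t (.g 1) (.g 0))), ((.t (.g 0) (.g 2)), (.t (.g 2) (.g 0))), ((.t (.g 1) (.g 2)), (.t (.g 2) (.g 1))), ((.t (.g 1) (.t (.g 2) (.g 0))), (.t (.t (.g 2) (.g 0)) (.g 1))), ((.t (.g 0) (.g 3)), (.g 0)), ((.t (.g 3) (.g 0)), (.g 3)), ((.t (.g 3) (.g 1)), (.t (.g 1) (.g 3))), ((.t (.g 3) (.g 2)), (.t (.g 2) (.g 3))), ((.t (.g 3) (.t (.g 1) (.g 2))), (.t (.t (.g 1) (.g 2)) (.g 3))), ((.t (.g 3) (.t (.t (.g 1) (.g 0)) (.g 2))), (.t (.t (.t (.g 1) (.g 0)) (.g 2)) (.g 3)))]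
noncomputable def q_nA_g : List (Ex × Ex) := [((.t (.g 3) (.t (.t (.t (.t (.t (.t (.g 3) (.g 1)) (.g 2)) (.g 0)) (.g 1)) (.g 2)) (.g 0))), (.g 3)), ((.t (.g 0) (.t (.t (.t (.t (.t (.t (.g 3) (.g 1)) (.g 2)) (.g 0)) (.g 1)) (.g 2)) (.g 0))), (.g 0)), ((.t (.t (.t (.t (.t (.t (.g 1) (.g 1)) (.g 2)) (.g 0)) (.g 1)) (.g 2)) (.g 0)), (.g 1)), ((.t (.t (.t (.t (.t (.t (.g 0) (.g 1)) (.g 2)) (.g 0)) (.g 1)) (.g 2)) (.g 0)), (.g 0))]
theorem q_nA_k : q_nA_C.full 0 q_nA_h q_nA_g [[(nat_lit 26), (nat_lit 5), (nat_lit 6), (nat_lit 11), (nat_lit 12), (nat_lit 13), (nat_lit 38), (nat_lit 13), (nat_lit 12), (nat_lit 11), (nat_lit 6), (nat_lit 5), (nat_lit 26)], [(nat_lit 19), (nat_lit 1), (nat_lit 24), (nat_lit 4), (nat_lit 3), (nat_lit 0), (nat_lit 25), (nat_lit 0), (nat_lit 3), (nat_lit 4), (nat_lit 24), (nat_lit 1), (nat_lit 19)], [(nat_lit 20), (nat_lit 2), (nat_lit 16), (nat_lit 30), (nat_lit 3), (nat_lit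 21)], [(nat_lit 0), (nat_lit 3), (nat_lit 4), (nat_lit 24), (nat_lit 1), (nat_lit 19)]] = true := by decide +kernel
theorem q_nA {G : Type*} [Group G] {a b c e : G} (qa : a * a = 1) (qb : b * b = 1) (qc : c * c = 1) (qe : e * e = 1)
    (h0 : tw a b = tw b a)
    (h1 : tw a c = tw c a)
    (h2 : tw b c = tw c b)
    (h3 : tw b (tw c a) = tw (tw c a) b)
    (h4 : Commute a e)
    (h5 : tw e b = tw b e)
    (h6 : tw e c = tw c e)
    (h7 : tw e (tw b c) = tw (tw b c) e)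
    (h8 : tw e (tw (tw b a) c) = tw (tw (tw b a) c) e)
    : Commute e (tw (tw (tw (tw (tw (tw e b) c) a) b) c) a) ∧ Commute a (tw (tw (tw (tw (tw (tw e b) c) a) b) c) a) ∧ (tw (tw (tw (tw (tw (tw b b) c) a) b) c) a) = b ∧ (tw (tw (tw (tw (tw (tw a b) c) a) b) c) a) = a := by
  have H := Cert.sound (s := val [a, b, c, e]) q_nA_C _ q_nA_h q_nA_g _ q_nA_k (val_sq (by simp [*]))
    ⟨h0, h1, h2, h3, tw_of_comm qe h4, tw_of_comm qa h4.symm, h5, h6, h7, h8, trivial⟩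
  exact ⟨comm_of_tw (tw_sq (tw_sq (tw_sq (tw_sq (tw_sq (tw_sq qe qb) qc) qa) qb) qc) qa) H.1, comm_of_tw (tw_sq (tw_sq (tw_sq (tw_sq (tw_sq (tw_sq qe qb) qc) qa) qb) qc) qa) H.2.1, H.2.2.1, H.2.2.2.1⟩
noncomputable def q_nC_Ft : BT Nat := (.leaf (nat_lit 0x400003000002000038000210000180003c80001c0001240000a0000d18000780004840003c000280000120001e3000060000e180002800050c000040001c00000600006000001000041000078000388000380003400001a0001810000c0000b0000058000408000280002420001200010200008000030800038000188000180001040000a0000210000400000))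
noncomputable def q_nC_F (p : Nat) : Nat := row q_nC_Ft (nat_lit 5) (nat_lit 31) (nat_lit 45) (nat_lit 35184372088831) p
noncomputable def q_nC_P : BT Pf := (.node (.node (.node (.node (.node (.leaf .df) (.leaf (.pin (nat_lit 4) [(nat_lit 4), (nat_lit 7), (nat_lit 8), (nat_lit 9), (nat_lit 10)] [(nat_lit 2), (nat_lit 12)]))) (.node (.leaf .df) (.leaf (.cyc (nat_lit 5) [(nat_lit 3), (nat_lit 23), (nat_lit 0)])))) (.node (.node (.leaf .df) (.leaf (.cyc (nat_lit 2) [(nat_lit 18), (nat_lit 17), (nat_lit 5), (nat_lit 7), (nat_lit 8), (nat_lit 9)]))) (.node (.leaf (.pin (nat_lit 0) [(nat_lit 0)] [])) (.leaf .df)))) (.node (.node (.node (.leaf .df) (.leaf (.cyc (nat_lit 0) [(nat_lit 11), (nat_lit 3), (nat_lit 4), (nat_lit 5), (nat_lit 6)]))) (.node (.leaf .df) (.leaf .df))) (.node (.node (.leaf .df) (.leaf (.cyc (nat_lit 4) [(nat_lit 16), (nat_lit 21), (nat_lit 19)]))) (.node (.leaf (.pin (nat_lit 2) [(nat_lit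 3)] [])) (.leaf .df))))) (.node (.node (.node (.node (.leaf .df) (.leaf (.pin (nat_lit 5) [(nat_lit 3), (nat_lit 11)] [(nat_lit 5), (nat_lit 4), (nat_lit 13)]))) (.node (.leaf .df) (.leaf .df))) (.node (.node (.leaf .df) (.leaf (.cyc (nat_lit 3) [(nat_lit 10), (nat_lit 20), (nat_lit 6)]))) (.node (.leaf (.pin (nat_lit 1) [] [])) (.leaf .df)))) (.node (.node (.node (.leaf .df) (.leaf (.cyc (nat_lit 1) [(nat_lit 11), (nat_lit 14), (nat_lit 1), (nat_lit 15), (nat_lit 6)]))) (.node (.leaf .df) (.leaf .df))) (.node (.node (.leaf .df) (.leaf (.cyc (nat_lit 3) [(nat_lit 11), (nat_lit 22), (nat_lit 2)]))) (.node (.leaf (.pin (nat_lit 3) [(nat_lit 4), (nat_lit 5), (nat_lit 6)] [(nat_lit 1)])) (.leaf .df))))))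
noncomputable def q_nC_R : BT (List ℕ × ℕ × List ℕ) := (.node (.node (.node (.leaf ([(nat_lit 1), (nat_lit 2), (nat_lit 1), (nat_lit 2), (nat_lit 1), (nat_lit 2)], (nat_lit 2), [])) (.leaf ([(nat_lit 3), (nat_lit 3)], (nat_lit 1000000), []))) (.node (.leaf ([(nat_lit 1), (nat_lit 0), (nat_lit 1), (nat_lit 0), (nat_lit 1), (nat_lit 0)], (nat_lit 0), [(nat_lit 0)])) (.leaf ([], (nat_lit 1000000), [])))) (.node (.node (.leaf ([(nat_lit 3), (nat_lit 2), (nat_lit 3), (nat_lit 2), (nat_lit 3), (nat_lit 2)], (nat_lit 7), [])) (.leaf ([(nat_lit 1), (nat_lit 1)], (nat_lit 1000000), []))) (.node (.leaf ([(nat_lit 2), (nat_lit 2)], (nat_lit 1000000), [])) (.leaf ([], (nat_lit 1000000), [])))))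
noncomputable def q_nC_Q : BT (ℕ × List ℕ × ℕ) := (.node (.node (.node (.leaf ((nat_lit 0), [(nat_lit 1), (nat_lit 0)], (nat_lit 1))) (.leaf ((nat_lit 3), [(nat_lit 2), (nat_lit 0), (nat_lit 1), (nat_lit 0), (nat_lit 2), (nat_lit 3), (nat_lit 2), (nat_lit 0)], (nat_lit 1)))) (.node (.leaf ((nat_lit 3), [(nat_lit 1), (nat_lit 3)], (nat_lit 1))) (.leaf ((nat_lit 0), [(nat_lit 0)], (nat_lit 0))))) (.node (.node (.leaf ((nat_lit 3), [(nat_lit 0)], (nat_lit 3))) (.leaf ((nat_lit 3), [(nat_lit 1), (nat_lit 2), (nat_lit 0), (nat_lit 1), (nat_lit 2), (nat_lit 0)], (nat_lit 3)))) (.node (.leaf ((nat_lit 3), [(nat_lit 2), (nat_lit 1), (nat_lit 2), (nat_lit 3), (nat_lit 2)], (nat_lit 1))) (.leaf ((nat_lit 0), [(nat_lit 0)], (nat_lit 0))))))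
noncomputable def q_nC_C : Cert := ⟨(nat_lit 4), (nat_lit 25), q_nC_F, q_nC_P, q_nC_R, q_nC_Q⟩
noncomputable def q_nC_h : List (Ex × Ex) := [((.t (.g 0) (.g 1)), (.t (.g 1) (.g 0))), ((.t (.g 0) (.g 2)), (.t (.g 2) (.g 0))), ((.t (.g 1) (.g 2)), (.t (.g 2) (.g 1))), ((.t (.g 1) (.t (.g 2) (.g 0))), (.t (.t (.g 2) (.g 0)) (.g 1))), ((.t (.g 0) (.g 3)), (.g 0)), ((.t (.g 3) (.g 0)), (.g 3)), ((.t (.g 3) (.g 1)), (.t (.g 1) (.g 3))), ((.t (.g 3) (.g 2)), (.t (.g 2) (.g 3))), ((.t (.g 3) (.t (.g 1) (.g 2))), (.t (.t (.g 1) (.g 2)) (.g 3))), ((.t (.g 3) (.t (.t (.g 1) (.g 0)) (.g 2))), (.t (.t (.t (.g 1) (.g 0)) (.g 2)) (.g 3))), ((.t (.t (.t (.t (.t (.t (.g 3) (.g 1)) (.g 2)) (.g 0)) (.g 1)) (.g 2)) (.g 0)), (.g 3))]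
noncomputable def q_nC_g : List (Ex × Ex) := [((.g 0), (.g 3))]
theorem q_nC_k : q_nC_C.full 0 q_nC_h q_nC_g [[(nat_lit 24)]] = true := by decide +kernel
theorem q_nC {G : Type*} [Group G] {a b c e : G} (qa : a * a = 1) (qb : b * b = 1) (qc : c * c = 1) (qe : e * e = 1)
    (h0 : tw a b = tw b a)
    (h1 : tw a c = tw c a)
    (h2 : tw b c = tw c b)
    (h3 : tw b (tw c a) = tw (tw c a) b)
    (h4 : Commute a e)
    (h5 : tw e b = tw b e)
    (h6 : tw e c = tw c e)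
    (h7 : tw e (tw b c) = tw (tw b c) e)
    (h8 : tw e (tw (tw b a) c) = tw (tw (tw b a) c) e)
    (h9 : (tw (tw (tw (tw (tw (tw e b) c) a) b) c) a) = e)
    : a = e := by
  have H := Cert.sound (s := val [a, b, c, e]) q_nC_C _ q_nC_h q_nC_g _ q_nC_k (val_sq (by simp [*]))
    ⟨h0, h1, h2, h3, tw_of_comm qe h4, tw_of_comm qa h4.symm, h5, h6, h7, h8, h9, trivial⟩
  exact H.1
theorem realizeEqns_Hl_Q5 : True := by
  have := @CA.QP.q_f1_R.eq_1
  have := @CA.QP.q_f1_R.eq_def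
  have := @CA.QP.q_f1_R.congr_simp
  have := @CA.QP.q_nB_R.eq_1
  have := @CA.QP.q_nB_R.eq_def
  have := @CA.QP.q_nB_R.congr_simp
  have := @CA.QP.q_nA_h.eq_1
  have := @CA.QP.q_nA_h.eq_def
  have := @CA.QP.q_nA_h.congr_simp
  have := @CA.QP.q_nB_F.eq_1
  have := @CA.QP.q_nB_F.eq_def
  have := @CA.QP.q_nB_F.congr_simp
  have := @CA.QP.q_nB_Q.eq_1
  have := @CA.QP.q_nB_Q.eq_def
  have := @CA.QP.q_nB_Q.congr_simp
  have := @CA.QP.q_nB_h.eq_1
  have := @CA.QP.q_nB_h.eq_def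
  have := @CA.QP.q_nB_h.congr_simp
  have := @CA.QP.q_nC_R.eq_1
  have := @CA.QP.q_nC_R.eq_def
  have := @CA.QP.q_nC_R.congr_simp
  have := @CA.QP.q_nB_Ft.eq_1
  have := @CA.QP.q_nB_Ft.eq_def
  have := @CA.QP.q_nB_Ft.congr_simp
  have := @CA.QP.q_nC_C.eq_1
  have := @CA.QP.q_nC_C.eq_def
  have := @CA.QP.q_nC_C.congr_simp
  have := @CA.QP.q_f1_P1.eq_1
  have := @CA.QP.q_f1_P1.eq_def
  have := @CA.QP.q_f1_P1.congr_simp
  have := @CA.QP.q_f1_F.eq_1
  have := @CA.QP.q_f1_F.eq_def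
  have := @CA.QP.q_f1_F.congr_simp
  have := @CA.QP.q_f1_Q.eq_1
  have := @CA.QP.q_f1_Q.eq_def
  have := @CA.QP.q_f1_Q.congr_simp
  have := @CA.QP.q_nA_P.eq_1
  have := @CA.QP.q_nA_P.eq_def
  have := @CA.QP.q_nA_P.congr_simp
  have := @CA.QP.q_nA_C.eq_1
  have := @CA.QP.q_nA_C.eq_def
  have := @CA.QP.q_nA_C.congr_simp
  have := @CA.QP.q_nA_g.eq_1
  have := @CA.QP.q_nA_g.eq_def
  have := @CA.QP.q_nA_g.congr_simp
  have := @CA.QP.q_f1_P0.eq_1
  have := @CA.QP.q_f1_P0.eq_def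
  have := @CA.QP.q_f1_P0.congr_simp
  have := @CA.QP.q_f1_h.eq_1
  have := @CA.QP.q_f1_h.eq_def
  have := @CA.QP.q_f1_h.congr_simp
  have := @CA.QP.q_nA_Ft.eq_1
  have := @CA.QP.q_nA_Ft.eq_def
  have := @CA.QP.q_nA_Ft.congr_simp
  have := @CA.QP.q_nB_C.eq_1
  have := @CA.QP.q_nB_C.eq_def
  have := @CA.QP.q_nB_C.congr_simp
  have := @CA.QP.q_nC_g.eq_1
  have := @CA.QP.q_nC_g.eq_def
  have := @CA.QP.q_nC_g.congr_simp
  have := @CA.QP.q_f1_g.eq_1
  have := @CA.QP.q_f1_g.eq_def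
  have := @CA.QP.q_f1_g.congr_simp
  have := @CA.QP.q_nC_F.eq_1
  have := @CA.QP.q_nC_F.eq_def
  have := @CA.QP.q_nC_F.congr_simp
  have := @CA.QP.q_nC_Q.eq_1
  have := @CA.QP.q_nC_Q.eq_def
  have := @CA.QP.q_nC_Q.congr_simp
  have := @CA.QP.q_f1_P.eq_1
  have := @CA.QP.q_f1_P.eq_def
  have := @CA.QP.q_f1_P.congr_simp
  have := @CA.QP.q_nA_F.eq_1
  have := @CA.QP.q_nA_F.eq_def
  have := @CA.QP.q_nA_F.congr_simp
  have := @CA.QP.q_nC_Ft.eq_1
  have := @CA.QP.q_nC_Ft.eq_def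
  have := @CA.QP.q_nC_Ft.congr_simp
  have := @CA.QP.q_nC_h.eq_1
  have := @CA.QP.q_nC_h.eq_def
  have := @CA.QP.q_nC_h.congr_simp
  have := @CA.QP.q_nC_P.eq_1
  have := @CA.QP.q_nC_P.eq_def
  have := @CA.QP.q_nC_P.congr_simp
  have := @CA.QP.q_f1_C.eq_1
  have := @CA.QP.q_f1_C.eq_def
  have := @CA.QP.q_f1_C.congr_simp
  have := @CA.QP.q_nB_P.eq_1
  have := @CA.QP.q_nB_P.eq_def
  have := @CA.QP.q_nB_P.congr_simp
  have := @CA.QP.q_nB_g.eq_1
  have := @CA.QP.q_nB_g.eq_def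
  have := @CA.QP.q_nB_g.congr_simp
  have := @CA.QP.q_nA_R.eq_1
  have := @CA.QP.q_nA_R.eq_def
  have := @CA.QP.q_nA_R.congr_simp
  have := @CA.QP.q_f1_Ft.eq_1
  have := @CA.QP.q_f1_Ft.eq_def
  have := @CA.QP.q_f1_Ft.congr_simp
  have := @CA.QP.q_nA_Q.eq_1
  have := @CA.QP.q_nA_Q.eq_def
  have := @CA.QP.q_nA_Q.congr_simp
  trivial

end CA.QP
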