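/-
A table for the forty-five points of `SU₄(2)`.
-/
import Cfsg.Agent.Th.QP
set_option autoImplicit false
set_option maxRecDepth 100000
namespace CA.QP
open CA.TC
noncomputable def u4Ft : BT Nat := (.node (.node (.node (.leaf (nat_lit 0x200012000118c0008c0007c20004400040200021000171000100000b080007c0005020003c0002a30001d0001608000e0000c100006c0003c400034000144000190000c10000c00006040005c0005800002c000203000150001408000a00007040004c00044600024000220000110000f20000800004080003c0002080001c0000c20000d00005080006000058c0002c000282000140000c4000090000318000400000880001c0000460000c0000010000500000)) (.leaf (nat_lit 0x100018800178c000d4000d420006a0006a50003500036180017800178c000b0000b8a000680005e50002e000330800160001614000b0000b480004e00050300036000361800188001884000c4000c4a000620006420002b000261800178001a04000ac000ac00005e0005650002b00030080019000190400098000a4a000520005410002b000301800138001388000a0000a080005600056000025000250000148001480000900009020004a0004220002700027)))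 (.node (.leaf (nat_lit 0xe0000e0c0006c0006c0000240003020000e0000e2000050000a10000340003460001a000303000170001700000a8000a8800024000242000200001200000e000091800098000984000480004820001e0001e30001000010200003800038c0001c0003c00001a0000e00000c0000a1800070000704000340003440000c0000c400005000051800028000600000200002c4000080000810000400004000002000020c00010000244000060000640000200002)) (.leaf (nat_lit 0)))) (.node (.node (.leaf (nat_lit 0x180001000010000008000088000020000210000300008080001000039000000000000000060000c200000000000000008000290000100001060000600006200002000020800008000080000000000020006c0006a0000350002808001a000198c000cc000b060006400062000031000260000180001784000bc000b860005c0005a10002d0002c000016000138c000ac000942000540004c3000290002808001400012040009c0008c60004c0004420002500022)) (.leaf (nat_lit 0x80005c0005c20002e0002e2000178001788000d4000d400005c0005c40002c000351000160001608000a4000a48000520005240003100031))) (.node (.leaf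 (nat_lit 0x1000120000e800008c0008c4000460002a4000260002620000e000128000088000880000420003e3000200002420000980011000007400074000040000361000150001528000a8000f040007c0007c000026000263000210002118000e0000e100006000084400026000384000110002020000a8000e90000480007c8000180002e500019000171000050000914000480006820003a0003a10001b0001b00000b8000a080006c000408000160002c20000b00011)) (.leaf (nat_lit 0)))))
noncomputable def u4F (p : Nat) : Nat := row u4Ft (nat_lit 5) (nat_lit 31) (nat_lit 45) (nat_lit 35184372088831) p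
noncomputable def u4P0 : BT Pf := (.node (.node (.node (.node (.node (.node (.node (.leaf .df) (.leaf (.cyc (nat_lit 23) [(nat_lit 34), (nat_lit 125), (nat_lit 116), (nat_lit 125), (nat_lit 34)]))) (.node (.leaf (.pin (nat_lit 14) [] [])) (.leaf .df))) (.node (.node (.leaf .df) (.leaf (.cyc (nat_lit 18) [(nat_lit 44), (nat_lit 124), (nat_lit 44)]))) (.node (.leaf (.cyc (nat_lit 17) [(nat_lit 70), (nat_lit 10), (nat_lit 12)])) (.leaf .df)))) (.node (.node (.node (.leaf .df) (.leaf (.cyc (nat_lit 1) [(nat_lit 38), (nat_lit 32), (nat_lit 33)]))) (.node (.leaf (.cyc (nat_lit 3) [(nat_lit 11), (nat_lit 3), (nat_lit 61), (nat_lit 3), (nat_lit 11)])) (.leaf .df))) (.node (.node (.leaf .df) (.leaf .df)) (.node (.leaf (.cyc (nat_lit 3) [(nat_lit 110), (nat_lit 89), (nat_lit 90), (nat_lit 89), (nat_lit 110)])) (.leaf .df))))) (.node (.node (.node (.node (.leaf .df) (.leaf (.cyc (nat_lit 27) [(nat_lit 38), (nat_lit 129), (nat_lit 121), (nat_lit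 114), (nat_lit 30), (nat_lit 34), (nat_lit 39), (nat_lit 40), (nat_lit 41), (nat_lit 42), (nat_lit 43)]))) (.node (.leaf (.cyc (nat_lit 0) [(nat_lit 0), (nat_lit 58), (nat_lit 0)])) (.leaf .df))) (.node (.node (.leaf .df) (.leaf (.cyc (nat_lit 1) [(nat_lit 154), (nat_lit 163), (nat_lit 154)]))) (.node (.leaf (.cyc (nat_lit 18) [(nat_lit 20), (nat_lit 76), (nat_lit 91), (nat_lit 99)])) (.leaf .df)))) (.node (.node (.node (.leaf .df) (.leaf (.cyc (nat_lit 31) [(nat_lit 41), (nat_lit 150), (nat_lit 46)]))) (.node (.leaf (.cyc (nat_lit 10) [(nat_lit 18), (nat_lit 17), (nat_lit 85), (nat_lit 66), (nat_lit 68), (nat_lit 67), (nat_lit 68), (nat_lit 66), (nat_lit 85), (nat_lit 17), (nat_lit 18)])) (.leaf .df))) (.node (.node (.leaf (.pin (nat_lit 6) [] [])) (.leaf .df)) (.node (.leaf (.cyc (nat_lit 26) [(nat_lit 108), (nat_lit 13), (nat_lit 106), (nat_lit 30), (nat_lit 31)])) (.leaf .df)))))) (.node (.node (.node (.node (.node (.leaf .df)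 (.leaf (.cyc (nat_lit 11) [(nat_lit 123), (nat_lit 95), (nat_lit 123)]))) (.node (.leaf (.pin (nat_lit 18) [] [])) (.leaf .df))) (.node (.node (.leaf .df) (.leaf (.cyc (nat_lit 18) [(nat_lit 39), (nat_lit 149), (nat_lit 48)]))) (.node (.leaf (.cyc (nat_lit 2) [(nat_lit 98), (nat_lit 85), (nat_lit 86), (nat_lit 85), (nat_lit 98)])) (.leaf .df)))) (.node (.node (.node (.leaf .df) (.leaf (.cyc (nat_lit 10) [(nat_lit 49), (nat_lit 48), (nat_lit 35), (nat_lit 120), (nat_lit 29), (nat_lit 122), (nat_lit 29), (nat_lit 120), (nat_lit 35), (nat_lit 48), (nat_lit 49)]))) (.node (.leaf (.cyc (nat_lit 11) [(nat_lit 9), (nat_lit 57), (nat_lit 4)])) (.leaf .df))) (.node (.node (.leaf (.pin (nat_lit 2) [] [])) (.leaf .df)) (.node (.leaf (.cyc (nat_lit 25) [(nat_lit 25), (nat_lit 115)])) (.leaf .df))))) (.node (.node (.node (.node (.leaf .df) (.leaf (.cyc (nat_lit 24) [(nat_lit 38), (nat_lit 129), (nat_lit 112), (nat_lit 129), (nat_lit 38), (nat_lit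 136)]))) (.node (.leaf (.cyc (nat_lit 4) [(nat_lit 71), (nat_lit 0), (nat_lit 1), (nat_lit 57), (nat_lit 53), (nat_lit 60), (nat_lit 3), (nat_lit 55), (nat_lit 71), (nat_lit 7), (nat_lit 6)])) (.leaf .df))) (.node (.node (.leaf .df) (.leaf .df)) (.node (.leaf (.cyc (nat_lit 7) [(nat_lit 96), (nat_lit 97), (nat_lit 27)])) (.leaf .df)))) (.node (.node (.node (.leaf .df) (.leaf (.cyc (nat_lit 32) [(nat_lit 48), (nat_lit 35), (nat_lit 130), (nat_lit 35), (nat_lit 48), (nat_lit 49)]))) (.node (.leaf (.cyc (nat_lit 13) [(nat_lit 9), (nat_lit 73), (nat_lit 9)])) (.leaf .df))) (.node (.node (.leaf (.pin (nat_lit 10) [(nat_lit 3)] [])) (.leaf .df)) (.node (.leaf (.cyc (nat_lit 22) [(nat_lit 33), (nat_lit 119), (nat_lit 83), (nat_lit 119), (nat_lit 33)])) (.leaf .df))))))) (.node (.node (.node (.node (.node (.node (.leaf .df) (.leaf (.cyc (nat_lit 15) [(nat_lit 120), (nat_lit 117), (nat_lit 94), (nat_lit 117), (nat_lit 120)]))) (.node (.leaf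 (.pin (nat_lit 16) [(nat_lit 4)] [])) (.leaf .df))) (.node (.node (.leaf .df) (.leaf (.cyc (nat_lit 33) [(nat_lit 138), (nat_lit 144), (nat_lit 142), (nat_lit 144), (nat_lit 138)]))) (.node (.leaf (.cyc (nat_lit 13) [(nat_lit 22), (nat_lit 10), (nat_lit 11)])) (.leaf .df)))) (.node (.node (.node (.leaf .df) (.leaf (.cyc (nat_lit 25) [(nat_lit 145), (nat_lit 139), (nat_lit 145)]))) (.node (.leaf (.cyc (nat_lit 9) [(nat_lit 13), (nat_lit 12), (nat_lit 78), (nat_lit 59), (nat_lit 63), (nat_lit 62), (nat_lit 63), (nat_lit 59), (nat_lit 78), (nat_lit 12), (nat_lit 13)])) (.leaf .df))) (.node (.node (.leaf (.pin (nat_lit 0) [] [])) (.leaf .df)) (.node (.leaf (.cyc (nat_lit 2) [(nat_lit 26), (nat_lit 15), (nat_lit 92), (nat_lit 15), (nat_lit 26)])) (.leaf .df))))) (.node (.node (.node (.node (.leaf .df) (.leaf (.cyc (nat_lit 25) [(nat_lit 37), (nat_lit 137)]))) (.node (.leaf (.cyc (nat_lit 2) [(nat_lit 8), (nat_lit 0), (nat_lit 56), (nat_lit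 0), (nat_lit 8)])) (.leaf .df))) (.node (.node (.leaf .df) (.leaf .df)) (.node (.leaf (.cyc (nat_lit 7) [(nat_lit 103), (nat_lit 91), (nat_lit 26)])) (.leaf .df)))) (.node (.node (.node (.leaf .df) (.leaf (.cyc (nat_lit 31) [(nat_lit 46), (nat_lit 152)]))) (.node (.leaf (.cyc (nat_lit 7) [(nat_lit 8), (nat_lit 72), (nat_lit 8)])) (.leaf .df))) (.node (.node (.leaf (.pin (nat_lit 8) [] [])) (.leaf .df)) (.node (.leaf (.cyc (nat_lit 11) [(nat_lit 119), (nat_lit 113), (nat_lit 119)])) (.leaf .df)))))) (.node (.node (.node (.node (.node (.leaf .df) (.leaf (.cyc (nat_lit 23) [(nat_lit 35), (nat_lit 127), (nat_lit 101), (nat_lit 127), (nat_lit 35)]))) (.node (.leaf (.pin (nat_lit 20) [(nat_lit 1), (nat_lit 5), (nat_lit 6)] [(nat_lit 3)])) (.leaf .df))) (.node (.node (.leaf .df) (.leaf (.cyc (nat_lit 17) [(nat_lit 48), (nat_lit 134), (nat_lit 48)]))) (.node (.leaf (.cyc (nat_lit 5) [(nat_lit 93), (nat_lit 19), (nat_lit 76), (nat_lit 21)]))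 (.leaf .df)))) (.node (.node (.node (.leaf .df) (.leaf (.cyc (nat_lit 32) [(nat_lit 39), (nat_lit 34), (nat_lit 126), (nat_lit 34), (nat_lit 39), (nat_lit 40)]))) (.node (.leaf (.cyc (nat_lit 13) [(nat_lit 4), (nat_lit 65), (nat_lit 4)])) (.leaf .df))) (.node (.node (.leaf (.pin (nat_lit 4) [] [])) (.leaf .df)) (.node (.leaf (.cyc (nat_lit 15) [(nat_lit 24), (nat_lit 17), (nat_lit 80), (nat_lit 17), (nat_lit 24)])) (.leaf .df))))) (.node (.node (.node (.node (.leaf .df) (.leaf (.cyc (nat_lit 25) [(nat_lit 136), (nat_lit 140)]))) (.node (.leaf (.cyc (nat_lit 6) [(nat_lit 2), (nat_lit 3), (nat_lit 10)])) (.leaf .df))) (.node (.node (.leaf .df) (.leaf .df)) (.node (.leaf (.cyc (nat_lit 7) [(nat_lit 19), (nat_lit 105), (nat_lit 28)])) (.leaf .df)))) (.node (.node (.node (.leaf .df) (.leaf (.cyc (nat_lit 31) [(nat_lit 156), (nat_lit 148), (nat_lit 156)]))) (.node (.leaf (.cyc (nat_lit 3) [(nat_lit 22), (nat_lit 78), (nat_lit 79), (nat_lit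 78), (nat_lit 22)])) (.leaf .df))) (.node (.node (.leaf (.pin (nat_lit 12) [] [])) (.leaf .df)) (.node (.leaf (.cyc (nat_lit 5) [(nat_lit 125), (nat_lit 87), (nat_lit 125)])) (.leaf .df))))))))
noncomputable def u4P1 : BT Pf := (.node (.node (.node (.node (.node (.node (.node (.leaf .df) (.leaf (.cyc (nat_lit 2) [(nat_lit 32), (nat_lit 29), (nat_lit 27), (nat_lit 18), (nat_lit 28)]))) (.node (.leaf (.pin (nat_lit 15) [] [])) (.leaf .df))) (.node (.node (.leaf .df) (.leaf (.cyc (nat_lit 0) [(nat_lit 138), (nat_lit 124), (nat_lit 138)]))) (.node (.leaf (.cyc (nat_lit 18) [(nat_lit 70), (nat_lit 11), (nat_lit 17)])) (.leaf .df)))) (.node (.node (.node (.leaf .df) (.leaf (.cyc (nat_lit 30) [(nat_lit 44), (nat_lit 33), (nat_lit 122), (nat_lit 33), (nat_lit 44), (nat_lit 45)]))) (.node (.leaf (.cyc (nat_lit 8) [(nat_lit 78), (nat_lit 59), (nat_lit 63), (nat_lit 59), (nat_lit 78)])) (.leaf .df))) (.node (.node (.leaf .df) (.leaf .df))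 (.node (.leaf (.cyc (nat_lit 14) [(nat_lit 83), (nat_lit 14), (nat_lit 13), (nat_lit 93), (nat_lit 89), (nat_lit 74), (nat_lit 89), (nat_lit 93), (nat_lit 13), (nat_lit 14), (nat_lit 83)])) (.leaf .df))))) (.node (.node (.node (.node (.leaf .df) (.leaf (.cyc (nat_lit 24) [(nat_lit 36), (nat_lit 35), (nat_lit 120), (nat_lit 29), (nat_lit 33), (nat_lit 37)]))) (.node (.leaf (.cyc (nat_lit 1) [(nat_lit 1), (nat_lit 56), (nat_lit 1)])) (.leaf .df))) (.node (.node (.leaf .df) (.leaf (.cyc (nat_lit 34) [(nat_lit 154), (nat_lit 164), (nat_lit 158), (nat_lit 164), (nat_lit 154)]))) (.node (.leaf (.cyc (nat_lit 21) [(nat_lit 20), (nat_lit 104)])) (.leaf .df)))) (.node (.node (.node (.leaf .df) (.leaf (.cyc (nat_lit 25) [(nat_lit 47), (nat_lit 152), (nat_lit 42)]))) (.node (.leaf (.cyc (nat_lit 6) [(nat_lit 8), (nat_lit 71), (nat_lit 19)])) (.leaf .df))) (.node (.node (.leaf (.pin (nat_lit 7) [(nat_lit 1)] [])) (.leaf .df)) (.node (.leaf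 (.cyc (nat_lit 11) [(nat_lit 110), (nat_lit 93), (nat_lit 106)])) (.leaf .df)))))) (.node (.node (.node (.node (.node (.leaf .df) (.leaf (.cyc (nat_lit 22) [(nat_lit 38), (nat_lit 123), (nat_lit 111), (nat_lit 123), (nat_lit 38)]))) (.node (.leaf (.pin (nat_lit 19) [] [])) (.leaf .df))) (.node (.node (.leaf .df) (.leaf (.cyc (nat_lit 15) [(nat_lit 154), (nat_lit 39), (nat_lit 135), (nat_lit 39), (nat_lit 154)]))) (.node (.leaf (.cyc (nat_lit 9) [(nat_lit 24), (nat_lit 17), (nat_lit 80), (nat_lit 85), (nat_lit 66), (nat_lit 67), (nat_lit 66), (nat_lit 85), (nat_lit 80), (nat_lit 17), (nat_lit 24)])) (.leaf .df)))) (.node (.node (.node (.leaf .df) (.leaf (.cyc (nat_lit 0) [(nat_lit 34), (nat_lit 31), (nat_lit 35)]))) (.node (.leaf (.cyc (nat_lit 12) [(nat_lit 11), (nat_lit 60), (nat_lit 4)])) (.leaf .df))) (.node (.node (.leaf (.pin (nat_lit 3) [] [])) (.leaf .df)) (.node (.leaf (.cyc (nat_lit 11) [(nat_lit 108), (nat_lit 12), (nat_lit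 22)])) (.leaf .df))))) (.node (.node (.node (.node (.leaf .df) (.leaf (.cyc (nat_lit 28) [(nat_lit 43), (nat_lit 140)]))) (.node (.leaf (.cyc (nat_lit 5) [(nat_lit 8), (nat_lit 55), (nat_lit 2)])) (.leaf .df))) (.node (.node (.leaf .df) (.leaf .df)) (.node (.leaf (.cyc (nat_lit 23) [(nat_lit 14), (nat_lit 96), (nat_lit 7), (nat_lit 19), (nat_lit 23)])) (.leaf .df)))) (.node (.node (.node (.leaf .df) (.leaf (.cyc (nat_lit 25) [(nat_lit 49), (nat_lit 156)]))) (.node (.leaf (.cyc (nat_lit 15) [(nat_lit 13), (nat_lit 12), (nat_lit 78), (nat_lit 77), (nat_lit 89)])) (.leaf .df))) (.node (.node (.leaf (.pin (nat_lit 11) [] [])) (.leaf .df)) (.node (.leaf (.cyc (nat_lit 1) [(nat_lit 30), (nat_lit 26), (nat_lit 16)])) (.leaf .df))))))) (.node (.node (.node (.node (.node (.node (.leaf .df) (.leaf (.cyc (nat_lit 14) [(nat_lit 36), (nat_lit 35), (nat_lit 120), (nat_lit 117), (nat_lit 94), (nat_lit 100), (nat_lit 94), (nat_lit 117), (nat_lit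 120), (nat_lit 35), (nat_lit 36)]))) (.node (.leaf (.pin (nat_lit 17) [] [])) (.leaf .df))) (.node (.node (.leaf .df) (.leaf (.cyc (nat_lit 17) [(nat_lit 39), (nat_lit 128), (nat_lit 39)]))) (.node (.leaf (.cyc (nat_lit 19) [(nat_lit 18), (nat_lit 17), (nat_lit 85), (nat_lit 84), (nat_lit 15)])) (.leaf .df)))) (.node (.node (.node (.leaf .df) (.leaf (.cyc (nat_lit 31) [(nat_lit 45), (nat_lit 145)]))) (.node (.leaf (.cyc (nat_lit 10) [(nat_lit 14), (nat_lit 12), (nat_lit 81), (nat_lit 78), (nat_lit 59), (nat_lit 62), (nat_lit 59), (nat_lit 78), (nat_lit 81), (nat_lit 12), (nat_lit 14)])) (.leaf .df))) (.node (.node (.leaf (.pin (nat_lit 1) [] [])) (.leaf .df)) (.node (.leaf (.cyc (nat_lit 24) [(nat_lit 16), (nat_lit 15), (nat_lit 75), (nat_lit 15), (nat_lit 16), (nat_lit 25)])) (.leaf .df))))) (.node (.node (.node (.node (.leaf .df) (.leaf (.cyc (nat_lit 9) [(nat_lit 45), (nat_lit 44), (nat_lit 33), (nat_lit 29), (nat_lit 120), (nat_lit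 130), (nat_lit 120), (nat_lit 29), (nat_lit 33), (nat_lit 44), (nat_lit 45)]))) (.node (.leaf (.cyc (nat_lit 3) [(nat_lit 9), (nat_lit 1), (nat_lit 58), (nat_lit 1), (nat_lit 9)])) (.leaf .df))) (.node (.node (.leaf .df) (.leaf .df)) (.node (.leaf (.cyc (nat_lit 22) [(nat_lit 16), (nat_lit 91), (nat_lit 6), (nat_lit 97), (nat_lit 24)])) (.leaf .df)))) (.node (.node (.node (.leaf .df) (.leaf (.cyc (nat_lit 31) [(nat_lit 143), (nat_lit 153)]))) (.node (.leaf (.cyc (nat_lit 0) [(nat_lit 5), (nat_lit 9), (nat_lit 15)])) (.leaf .df))) (.node (.node (.leaf (.pin (nat_lit 9) [(nat_lit 2)] [])) (.leaf .df)) (.node (.leaf (.cyc (nat_lit 7) [(nat_lit 109), (nat_lit 119), (nat_lit 32)])) (.leaf .df)))))) (.node (.node (.node (.node (.node (.leaf .df) (.leaf (.cyc (nat_lit 24) [(nat_lit 34), (nat_lit 30), (nat_lit 114), (nat_lit 30), (nat_lit 34)]))) (.node (.leaf (.pin (nat_lit 21) [(nat_lit 60), (nat_lit 70), (nat_lit 7)] [(nat_lit 0)]))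 (.leaf .df))) (.node (.node (.leaf .df) (.leaf (.cyc (nat_lit 18) [(nat_lit 141), (nat_lit 133), (nat_lit 141)]))) (.node (.leaf (.cyc (nat_lit 20) [(nat_lit 21), (nat_lit 102)])) (.leaf .df)))) (.node (.node (.node (.leaf .df) (.leaf (.cyc (nat_lit 25) [(nat_lit 40), (nat_lit 150)]))) (.node (.leaf (.cyc (nat_lit 14) [(nat_lit 16), (nat_lit 15), (nat_lit 75), (nat_lit 84), (nat_lit 66), (nat_lit 68), (nat_lit 66), (nat_lit 84), (nat_lit 75), (nat_lit 15), (nat_lit 16)])) (.leaf .df))) (.node (.node (.leaf (.pin (nat_lit 5) [(nat_lit 0)] [])) (.leaf .df)) (.node (.leaf (.cyc (nat_lit 0) [(nat_lit 14), (nat_lit 108), (nat_lit 29)])) (.leaf .df))))) (.node (.node (.node (.node (.leaf .df) (.leaf (.cyc (nat_lit 29) [(nat_lit 141), (nat_lit 38), (nat_lit 129), (nat_lit 112), (nat_lit 121), (nat_lit 30), (nat_lit 34), (nat_lit 135), (nat_lit 39), (nat_lit 46), (nat_lit 47)]))) (.node (.leaf (.cyc (nat_lit 7) [(nat_lit 2), (nat_lit 61),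 (nat_lit 2)])) (.leaf .df))) (.node (.node (.leaf .df) (.leaf .df)) (.node (.leaf (.cyc (nat_lit 24) [(nat_lit 23), (nat_lit 89), (nat_lit 74), (nat_lit 89), (nat_lit 23)])) (.leaf .df)))) (.node (.node (.node (.leaf .df) (.leaf (.cyc (nat_lit 17) [(nat_lit 44), (nat_lit 144), (nat_lit 141)]))) (.node (.leaf (.cyc (nat_lit 16) [(nat_lit 23), (nat_lit 89), (nat_lit 74), (nat_lit 77), (nat_lit 59), (nat_lit 63), (nat_lit 59), (nat_lit 77), (nat_lit 74), (nat_lit 89), (nat_lit 23)])) (.leaf .df))) (.node (.node (.leaf (.pin (nat_lit 13) [] [])) (.leaf .df)) (.node (.leaf (.cyc (nat_lit 13) [(nat_lit 31), (nat_lit 125), (nat_lit 107)])) (.leaf .df))))))))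
noncomputable def u4P : BT Pf := .node u4P0 u4P1
noncomputable def u4R : BT (List ℕ × ℕ × List ℕ) := (.node (.node (.node (.node (.node (.node (.leaf ([(nat_lit 4), (nat_lit 1), (nat_lit 4), (nat_lit 1)], (nat_lit 6), [(nat_lit 4), (nat_lit 1)])) (.leaf ([(nat_lit 0), (nat_lit 1), (nat_lit 0), (nat_lit 1), (nat_lit 0), (nat_lit 1)], (nat_lit 0), [(nat_lit 0), (nat_lit 1), (nat_lit 0), (nat_lit 1)]))) (.node (.leaf ([(nat_lit 0), (nat_lit 1), (nat_lit 3), (nat_lit 1), (nat_lit 0), (nat_lit 1), (nat_lit 3), (nat_lit 1), (nat_lit 0), (nat_lit 1), (nat_lit 3), (nat_lit 1)], (nat_lit 17), [(nat_lit 1), (nat_lit 3), (nat_lit 1), (nat_lit 0), (nat_lit 1), (nat_lit 3), (nat_lit 1)])) (.leaf ([], (nat_lit 1000000), [])))) (.node (.node (.leaf ([(nat_lit 1), (nat_lit 3), (nat_lit 1), (nat_lit 3), (nat_lit 1), (nat_lit 3)], (nat_lit 5), [(nat_lit 1), (nat_lit 3)])) (.leaf ([], (nat_lit 1000000), []))) (.node (.leaf ([(nat_lit 3), (nat_lit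 1), (nat_lit 3), (nat_lit 1), (nat_lit 3), (nat_lit 1)], (nat_lit 5), [(nat_lit 1), (nat_lit 3), (nat_lit 1)])) (.leaf ([], (nat_lit 1000000), []))))) (.node (.node (.node (.leaf ([(nat_lit 0), (nat_lit 3), (nat_lit 1), (nat_lit 3), (nat_lit 0), (nat_lit 3), (nat_lit 1), (nat_lit 3), (nat_lit 0), (nat_lit 3), (nat_lit 1), (nat_lit 3)], (nat_lit 15), [(nat_lit 3), (nat_lit 0), (nat_lit 3), (nat_lit 1), (nat_lit 3), (nat_lit 0), (nat_lit 3), (nat_lit 1), (nat_lit 3)])) (.leaf ([], (nat_lit 1000000), []))) (.node (.leaf ([(nat_lit 2), (nat_lit 2)], (nat_lit 1000000), [])) (.leaf ([], (nat_lit 1000000), [])))) (.node (.node (.leaf ([(nat_lit 1), (nat_lit 4), (nat_lit 1), (nat_lit 4)], (nat_lit 6), [(nat_lit 4)])) (.leaf ([], (nat_lit 1000000), []))) (.node (.leaf ([(nat_lit 0), (nat_lit 0)], (nat_lit 1000000), [])) (.leaf ([], (nat_lit 1000000), [])))))) (.node (.node (.node (.node (.leaf ([(nat_lit 1), (nat_lit 2), (nat_lit 1), (nat_lit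 2), (nat_lit 1), (nat_lit 2)], (nat_lit 4), [(nat_lit 1), (nat_lit 2)])) (.leaf ([(nat_lit 4), (nat_lit 3), (nat_lit 4), (nat_lit 3), (nat_lit 4), (nat_lit 3)], (nat_lit 11), [(nat_lit 3)]))) (.node (.leaf ([(nat_lit 4), (nat_lit 0), (nat_lit 4), (nat_lit 0)], (nat_lit 3), [(nat_lit 4), (nat_lit 0)])) (.leaf ([], (nat_lit 1000000), [])))) (.node (.node (.leaf ([(nat_lit 3), (nat_lit 1), (nat_lit 0), (nat_lit 1), (nat_lit 3), (nat_lit 1), (nat_lit 0), (nat_lit 1), (nat_lit 3), (nat_lit 1), (nat_lit 0), (nat_lit 1)], (nat_lit 17), [(nat_lit 1), (nat_lit 3), (nat_lit 1), (nat_lit 0), (nat_lit 1)])) (.leaf ([], (nat_lit 1000000), []))) (.node (.leaf ([(nat_lit 3), (nat_lit 4), (nat_lit 3), (nat_lit 4), (nat_lit 3), (nat_lit 4)], (nat_lit 11), [(nat_lit 3), (nat_lit 4), (nat_lit 3), (nat_lit 4)])) (.leaf ([], (nat_lit 1000000), []))))) (.node (.node (.node (.leaf ([(nat_lit 3), (nat_lit 2), (nat_lit 3), (nat_lit 2)], (nat_lit 8), [(nat_lit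 3), (nat_lit 2)])) (.leaf ([], (nat_lit 1000000), []))) (.node (.leaf ([(nat_lit 4), (nat_lit 3), (nat_lit 4), (nat_lit 3), (nat_lit 4), (nat_lit 3)], (nat_lit 11), [(nat_lit 3), (nat_lit 4), (nat_lit 3)])) (.leaf ([], (nat_lit 1000000), [])))) (.node (.node (.leaf ([(nat_lit 0), (nat_lit 3), (nat_lit 1), (nat_lit 3), (nat_lit 0), (nat_lit 3), (nat_lit 1), (nat_lit 3), (nat_lit 0), (nat_lit 3), (nat_lit 1), (nat_lit 3)], (nat_lit 15), [(nat_lit 3), (nat_lit 0), (nat_lit 3), (nat_lit 1), (nat_lit 3)])) (.leaf ([], (nat_lit 1000000), []))) (.node (.leaf ([(nat_lit 0), (nat_lit 3), (nat_lit 0), (nat_lit 3), (nat_lit 0), (nat_lit 3)], (nat_lit 2), [(nat_lit 0), (nat_lit 3), (nat_lit 0), (nat_lit 3)])) (.leaf ([], (nat_lit 1000000), []))))))) (.node (.node (.node (.node (.node (.leaf ([(nat_lit 2), (nat_lit 3), (nat_lit 2), (nat_lit 3)], (nat_lit 8), [(nat_lit 3)])) (.leaf ([(nat_lit 2), (nat_lit 1), (nat_lit 2), (nat_lit 1), (nat_lit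 2), (nat_lit 1)], (nat_lit 4), [(nat_lit 1)]))) (.node (.leaf ([(nat_lit 2), (nat_lit 0), (nat_lit 2), (nat_lit 0)], (nat_lit 1), [(nat_lit 2), (nat_lit 0)])) (.leaf ([], (nat_lit 1000000), [])))) (.node (.node (.leaf ([(nat_lit 1), (nat_lit 3), (nat_lit 0), (nat_lit 3), (nat_lit 1), (nat_lit 3), (nat_lit 0), (nat_lit 3), (nat_lit 1), (nat_lit 3), (nat_lit 0), (nat_lit 3)], (nat_lit 15), [(nat_lit 3), (nat_lit 0), (nat_lit 3), (nat_lit 1), (nat_lit 3), (nat_lit 0), (nat_lit 3)])) (.leaf ([], (nat_lit 1000000), []))) (.node (.leaf ([(nat_lit 1), (nat_lit 1)], (nat_lit 1000000), [])) (.leaf ([], (nat_lit 1000000), []))))) (.node (.node (.node (.leaf ([(nat_lit 0), (nat_lit 2), (nat_lit 0), (nat_lit 2)], (nat_lit 1), [(nat_lit 2)])) (.leaf ([], (nat_lit 1000000), []))) (.node (.leaf ([(nat_lit 4), (nat_lit 4)], (nat_lit 1000000), [])) (.leaf ([], (nat_lit 1000000), [])))) (.node (.node (.leaf ([(nat_lit 2), (nat_lit 4), (nat_lit 2),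 (nat_lit 4)], (nat_lit 9), [(nat_lit 4)])) (.leaf ([], (nat_lit 1000000), []))) (.node (.leaf ([(nat_lit 3), (nat_lit 0), (nat_lit 3), (nat_lit 1), (nat_lit 3), (nat_lit 0), (nat_lit 3), (nat_lit 1), (nat_lit 3), (nat_lit 0), (nat_lit 3), (nat_lit 1)], (nat_lit 15), [(nat_lit 3), (nat_lit 0), (nat_lit 3), (nat_lit 1), (nat_lit 3), (nat_lit 0), (nat_lit 3), (nat_lit 1)])) (.leaf ([], (nat_lit 1000000), [])))))) (.node (.node (.node (.node (.leaf ([(nat_lit 3), (nat_lit 4), (nat_lit 3), (nat_lit 4), (nat_lit 3), (nat_lit 4)], (nat_lit 11), [(nat_lit 3), (nat_lit 4)])) (.leaf ([], (nat_lit 1000000), []))) (.node (.leaf ([(nat_lit 0), (nat_lit 1), (nat_lit 0), (nat_lit 1), (nat_lit 0), (nat_lit 1)], (nat_lit 0), [(nat_lit 0), (nat_lit 1)])) (.leaf ([], (nat_lit 1000000), [])))) (.node (.node (.leaf ([(nat_lit 0), (nat_lit 4), (nat_lit 0), (nat_lit 4)], (nat_lit 3), [(nat_lit 4)])) (.leaf ([], (nat_lit 1000000), []))) (.node (.leaf ([(nat_lit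 1), (nat_lit 3), (nat_lit 1), (nat_lit 0), (nat_lit 1), (nat_lit 3), (nat_lit 1), (nat_lit 0), (nat_lit 1), (nat_lit 3), (nat_lit 1), (nat_lit 0)], (nat_lit 17), [(nat_lit 1), (nat_lit 3), (nat_lit 1), (nat_lit 0), (nat_lit 1), (nat_lit 3), (nat_lit 1), (nat_lit 0)])) (.leaf ([], (nat_lit 1000000), []))))) (.node (.node (.node (.leaf ([(nat_lit 4), (nat_lit 2), (nat_lit 4), (nat_lit 2)], (nat_lit 9), [(nat_lit 4), (nat_lit 2)])) (.leaf ([], (nat_lit 1000000), []))) (.node (.leaf ([(nat_lit 2), (nat_lit 1), (nat_lit 2), (nat_lit 1), (nat_lit 2), (nat_lit 1)], (nat_lit 4), [(nat_lit 1), (nat_lit 2), (nat_lit 1)])) (.leaf ([], (nat_lit 1000000), [])))) (.node (.node (.leaf ([(nat_lit 0), (nat_lit 3), (nat_lit 0), (nat_lit 3), (nat_lit 0), (nat_lit 3)], (nat_lit 2), [(nat_lit 0), (nat_lit 3)])) (.leaf ([], (nat_lit 1000000), []))) (.node (.leaf ([(nat_lit 3), (nat_lit 3)], (nat_lit 1000000), [])) (.leaf ([], (nat_lit 1000000), []))))))))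
noncomputable def u4Q : BT (ℕ × List ℕ × ℕ) := (.node (.node (.node (.node (.node (.leaf ((nat_lit 0), [(nat_lit 0)], (nat_lit 0))) (.leaf ((nat_lit 3), [(nat_lit 4), (nat_lit 3)], (nat_lit 4)))) (.node (.leaf ((nat_lit 0), [(nat_lit 4)], (nat_lit 0))) (.leaf ((nat_lit 0), [(nat_lit 0)], (nat_lit 0))))) (.node (.node (.leaf ((nat_lit 4), [(nat_lit 4)], (nat_lit 4))) (.leaf ((nat_lit 0), [(nat_lit 3), (nat_lit 1), (nat_lit 3), (nat_lit 0), (nat_lit 3)], (nat_lit 1)))) (.node (.leaf ((nat_lit 2), [(nat_lit 0)], (nat_lit 2))) (.leaf ((nat_lit 0), [(nat_lit 0)], (nat_lit 0)))))) (.node (.node (.node (.leaf ((nat_lit 2), [(nat_lit 2)], (nat_lit 2))) (.leaf ((nat_lit 4), [(nat_lit 1)], (nat_lit 4)))) (.node (.leaf ((nat_lit 1), [(nat_lit 3), (nat_lit 1)], (nat_lit 3))) (.leaf ((nat_lit 0), [(nat_lit 0)], (nat_lit 0))))) (.node (.node (.leaf ((nat_lit 0), [(nat_lit 2)], (nat_lit 0))) (.leaf ((nat_lit 0), [(nat_lit 0)], (nat_lit 0)))) (.node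 (.leaf ((nat_lit 2), [(nat_lit 4)], (nat_lit 2))) (.leaf ((nat_lit 0), [(nat_lit 0)], (nat_lit 0))))))) (.node (.node (.node (.node (.leaf ((nat_lit 1), [(nat_lit 1)], (nat_lit 1))) (.leaf ((nat_lit 4), [(nat_lit 0)], (nat_lit 4)))) (.node (.leaf ((nat_lit 1), [(nat_lit 2), (nat_lit 1)], (nat_lit 2))) (.leaf ((nat_lit 0), [(nat_lit 0)], (nat_lit 0))))) (.node (.node (.leaf ((nat_lit 0), [(nat_lit 1), (nat_lit 0)], (nat_lit 1))) (.leaf ((nat_lit 3), [(nat_lit 1), (nat_lit 0), (nat_lit 1), (nat_lit 3), (nat_lit 1)], (nat_lit 0)))) (.node (.leaf ((nat_lit 2), [(nat_lit 3)], (nat_lit 2))) (.leaf ((nat_lit 0), [(nat_lit 0)], (nat_lit 0)))))) (.node (.node (.node (.leaf ((nat_lit 3), [(nat_lit 3)], (nat_lit 3))) (.leaf ((nat_lit 4), [(nat_lit 2)], (nat_lit 4)))) (.node (.leaf ((nat_lit 1), [(nat_lit 4)], (nat_lit 1))) (.leaf ((nat_lit 0), [(nat_lit 0)], (nat_lit 0))))) (.node (.node (.leaf ((nat_lit 0), [(nat_lit 3), (nat_lit 0)], (nat_lit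 3))) (.leaf ((nat_lit 0), [(nat_lit 0)], (nat_lit 0)))) (.node (.leaf ((nat_lit 3), [(nat_lit 2)], (nat_lit 3))) (.leaf ((nat_lit 0), [(nat_lit 0)], (nat_lit 0))))))))
noncomputable def u4C : Cert := ⟨(nat_lit 5), (nat_lit 170), u4F, u4P, u4R, u4Q⟩
noncomputable def u4h : List (Ex × Ex) := [((.t (.g 0) (.g 1)), (.t (.g 1) (.g 0))), ((.t (.g 0) (.g 2)), (.g 0)), ((.t (.g 0) (.g 3)), (.t (.g 3) (.g 0))), ((.t (.g 0) (.g 4)), (.g 0)), ((.t (.g 1) (.g 2)), (.t (.g 2) (.g 1))), ((.t (.g 1) (.g 3)), (.t (.g 3) (.g 1))), ((.t (.g 1) (.g 4)), (.g 1)), ((.t (.g 2) (.g 0)), (.g 2)), ((.t (.g 2) (.g 3)), (.g 2)), ((.t (.g 2) (.g 4)), (.g 2)), ((.t (.g 3) (.g 2)), (.g 3)), ((.t (.g 3) (.g 4)), (.t (.g 4) (.g 3))), ((.t (.g 4) (.g 0)), (.g 4)), ((.t (.g 4) (.g 1)), (.g 4)), ((.t (.g 4) (.g 2)), (.g 4)), ((.t (.g 0) (.t (.g 1) (.g 3))), (.t (.t (.g 1) (.g 3)) (.g 0))), ((.t (.g 1) (.t (.g 0) (.g 3))), (.t (.t (.g 0) (.g 3)) (.g 1))), ((.t (.g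 3) (.t (.g 0) (.g 1))), (.t (.t (.g 0) (.g 1)) (.g 3)))]
theorem u4k : u4C.full 2 u4h [] [] = true := by decide +kernel
noncomputable def u4at : BT Nat := (.node (.leaf (nat_lit 0x589c713afa461e5e2712230acfb291281471e46aad0b6da189a4d868e1eca0cba6de34c6923862ef2ca1c2db757411b6a40aaa70a55c39742fa6d2299a71129260c3a91699e50841925626c8e41e89418e3942491ac0a68e4d71582ca20b1489841150b4863060621281c2d004f0cb1439e08468b38018a0c48a61a002104244104064861903020820870808240e08a000180140)) (.leaf (nat_lit 0xe28b2cb25715d75571b8aaaae99e0d3453552e2ca68a24673c51cf5399a59a3998c934b0d8c65924828671bf3cd5ac6a77de895c0eb72c2ae1715920)))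
noncomputable def u4a (p : Nat) : Nat := row u4at (nat_lit 5) (nat_lit 31) (nat_lit 37) (nat_lit 137438953471) p
noncomputable def u4ft : BT Nat := (.node (.leaf (nat_lit 0x227721201d7a216e701c8179206c781b1d751f6a1e1a72791d6b187f65761c7b6f6d175f1b165e626475186e5913175d1769581c12631661181b1211156b107d7457145b101a0f631377536d0e71126a0d67525d116c0d600e0c100b506255110f164e0a510c0e094b5c0f540d5a59084a4d0c694713074c0b61066007460a5b0667054c090442565554080b030a3c46074f4e023b4d060901490539054847080037043642454443030435413c3902403f343b3e013d03023337003a01380032)) (.leaf (nat_lit 0x35a49ea69d3031a0939f922c2fa79b9f2a8d2ea99aa82aa52ca49aa397272b8526908e8d29a124a28a83289524862330279587802227267c21908a2c257b26208184241f787f2382231f1e7d227e)))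
noncomputable def u4f (p : Nat) : Nat := row u4ft (nat_lit 5) (nat_lit 31) (nat_lit 48) (nat_lit 281474976710655) p
noncomputable def u4vt : BT Nat := (.node (.leaf (nat_lit 0xb5d99dbdd5d0e9c4796d95ed90c184b981f941342431ad21440d115509501405)) (.leaf (nat_lit 0xa96999a5fd7df55d59dde57565)))
noncomputable def u4v (p : Nat) : Nat := row u4vt (nat_lit 5) (nat_lit 31) (nat_lit 8) (nat_lit 255) p
noncomputable def u4it : BT Nat := (.node (.node (.node (.leaf (nat_lit 0xffffcbffffccffffc120a17f0031bf1800ff0c603fffffff)) (.leaf (nat_lit 0x89777f521abf66757fffffd3ffffd8ffffc7ffffd148d3ff))) (.node (.leaf (nat_lit 0xa4e97f26693fb2813fffffc2ffffd1ffffd8ffffc73d237f)) (.leaf (nat_lit 0x8108ff59f7bfadc6ffffffdaffffc7ffffd1ffffd834f4bf)))) (.node (.node (.leaf (nat_lit 0xffffc1ffffcbffffcc1482bfffffccffffc1ffffcb28523f)) (.leaf (nat_lit 0x6eb73f8e043f7967ffffffda9a427fa04b3f3a5a7fffffc2))) (.node (.leaf (nat_lit 0x5599ff7625ffa9487fffffd37de5bf71baff42383fffffda))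 (.leaf (nat_lit 0x12ca3f9693bf9099bfffffc286a53f9d567f5dd8bfffffd3)))))
noncomputable def u4i (p : Nat) : Nat := row u4it (nat_lit 5) (nat_lit 31) (nat_lit 6) (nat_lit 63) p
noncomputable def u4T : Tab := ⟨(nat_lit 45), (nat_lit 5), fun g p => fld (u4a p) (Nat.mul (nat_lit 6) g) (nat_lit 63),
  fun g => g, fun p => fld (u4a p) (nat_lit 30) (nat_lit 7), fun p => fld (u4a p) (nat_lit 33) (nat_lit 15)⟩
noncomputable def u4l (p : ℕ) : ℕ := fld (u4f p) (nat_lit 40) (nat_lit 255)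
noncomputable def u4fi (g p : ℕ) : ℕ := fld (u4f p) (Nat.mul (nat_lit 8) g) (nat_lit 255)
theorem u4t : allLt 45 (fun p => band (u4T.chkA p) (band (u4T.chkP p) (u4C.chkT u4T u4l u4fi p))) = true := by decide +kernel
theorem u4g : band u4T.chkG (allLt 5 fun g => Nat.beq (u4l (u4T.pt g)) g) = true := by decide +kernel

end CA.QP

theorem CA.realizeEqns_Hl_Su4d : True := by
  have := @CA.QP.u4v.eq_1
  have := @CA.QP.u4v.eq_def
  have := @CA.QP.u4v.congr_simp
  have := @CA.QP.u4Ft.eq_1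
  have := @CA.QP.u4Ft.eq_def
  have := @CA.QP.u4Ft.congr_simp
  have := @CA.QP.u4ft.eq_1
  have := @CA.QP.u4ft.eq_def
  have := @CA.QP.u4ft.congr_simp
  have := @CA.QP.u4a.eq_1
  have := @CA.QP.u4a.eq_def
  have := @CA.QP.u4a.congr_simp
  have := @CA.QP.u4l.eq_1
  have := @CA.QP.u4l.eq_def
  have := @CA.QP.u4l.congr_simp
  have := @CA.QP.u4P.eq_1
  have := @CA.QP.u4P.eq_def
  have := @CA.QP.u4P.congr_simp
  have := @CA.QP.u4R.eq_1
  have := @CA.QP.u4R.eq_def
  have := @CA.QP.u4R.congr_simp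
  have := @CA.QP.u4f.eq_1
  have := @CA.QP.u4f.eq_def
  have := @CA.QP.u4f.congr_simp
  have := @CA.QP.u4P1.eq_1
  have := @CA.QP.u4P1.eq_def
  have := @CA.QP.u4P1.congr_simp
  have := @CA.QP.u4h.eq_1
  have := @CA.QP.u4h.eq_def
  have := @CA.QP.u4h.congr_simp
  have := @CA.QP.u4vt.eq_1
  have := @CA.QP.u4vt.eq_def
  have := @CA.QP.u4vt.congr_simp
  have := @CA.QP.u4it.eq_1
  have := @CA.QP.u4it.eq_def
  have := @CA.QP.u4it.congr_simp
  have := @CA.QP.u4Q.eq_1
  have := @CA.QP.u4Q.eq_def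
  have := @CA.QP.u4Q.congr_simp
  have := @CA.QP.u4T.eq_1
  have := @CA.QP.u4T.eq_def
  have := @CA.QP.u4T.congr_simp
  have := @CA.QP.u4at.eq_1
  have := @CA.QP.u4at.eq_def
  have := @CA.QP.u4at.congr_simp
  have := @CA.QP.u4i.eq_1
  have := @CA.QP.u4i.eq_def
  have := @CA.QP.u4i.congr_simp
  have := @CA.QP.u4F.eq_1
  have := @CA.QP.u4F.eq_def
  have := @CA.QP.u4F.congr_simp
  have := @CA.QP.u4C.eq_1
  have := @CA.QP.u4C.eq_def
  have := @CA.QP.u4C.congr_simp
  have := @CA.QP.u4P0.eq_1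
  have := @CA.QP.u4P0.eq_def
  have := @CA.QP.u4P0.congr_simp
  have := @CA.QP.u4fi.eq_1
  have := @CA.QP.u4fi.eq_def
  have := @CA.QP.u4fi.congr_simp
  trivial
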