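import Cfsg.Agent.Th.QP
set_option autoImplicit false
set_option maxRecDepth 100000
namespace CA.QP
open CA.TC
noncomputable def u5Ft00 : BT Nat := (.node (.node (.node (.node (.node (.node (.node (.leaf (nat_lit 0x280012800031000090000186000460000c200022000062800108000710000800003460003e0001a50001e0000818000e800061000070000208000360001650001a0000910000c8000594000600001c00002e0002c4000160001518000a8000a04000500004c600026000123000120001108000880004140004000010a0001e0000640000e0000328000680001100003000008a000160000230000a00001200004800000c000200000040000e0000010000600000)) (.leaf (nat_lit 0x200482004820c01b1402410401208012082006e6009032803d9004818c019240240c000f66012061006af009031804660048114023a4024080011880120440090200902100362004811402404022e0601202012022008b4009010803ca004809402400024008011040120000090000900100480004800801bcc01dc06011fe011fe2008ff006952003b80047f84023fc023fca00ee4011fe5008fe008fe10047f0047f00023f8023f8200c72011fc500639008fd))) (.node (.leaf (nat_lit 0x20011b001939400c940094860049e0064a2003260024f28012a001931000c9800c980003460043c00021d0019c10010f000ce8c006740087480043a0064a1003250032508019200192080084000c90200646006462001e8003232001910019108007c800c88800642006423002590022708019000130800085c00c80a0063a0063a20031e0031e2000cc0018f0800c7000c7000063a0063a40018d0031d18018e8018e840067c00c746003280063620031b0031b))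 (.leaf (nat_lit 0)))) (.node (.node (.leaf (nat_lit 0x4128028a10020900144460104600a2200082200511200410802880c020800143c40103e00a1e10081e0050f18040e8028710020700142c80103600a1030081a0050808040c8028414020600141ca0102e00a0c4008160050600040a8028310020500141420102600a0a400812005040804088028214020400140c00101e00a0600080e005021004068027f8402030013f8801016009fa30080a004fd1004048027e9402020013f000100e009f8400806004fa)) (.leaf (nat_lit 0))) (.node (.leaf (nat_lit 0x802cd003441401a1801a18800d0c00d0c0006860068608020000343040189001a1420098c00d0840039d006830801f0003410c01a0401a042007b800d025003f5006802001cd003400400ff401a00400a5400a544005290052920033c8033c80019e8019e8200cfe00cfe5003c10067f28033f0028c0c00f64019f8400cfc00cfc10067e0067e10033e8033e9401490019f0000a5200cf820055a0067c20033d8033d88011b4019eca00cf400cf42003fd0067a)) (.leaf (nat_lit 0))))) (.node (.node (.node (.leaf (nat_lit 0x180212801190801090008c80008460046450042200231200210801188001080008c460083e0046020041e0023028020e801178401070008bca008360045c30041a0022e00020c801171401060008aca0082e004525004160022818020a801140001050008a04008260044e500412002260002088011314010400089060081e0044630040e00221100206801109001030008802008160044030040a0021f2802048010f040102000878a0080e0043a5004060021c))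 (.leaf (nat_lit 0x280509005090c028480284820142401424500a1100a11180508805088802844028440014220142210085f00a11280508005080c028400284000142001420100a1000a10180507805078c021900283800141c0141c400a0e00a0e1005070050704028340283460141a0141a50084600a0c18050600506000211c0283040141801418500a0a00a0a20044680505840282c0282c4014160134a300a0b00a0b0005050050510028280282840141401414100a0900a09))) (.node (.leaf (nat_lit 0x200284802848400ee80141c40055e00a0c2002b00050518023080282000115c01410800a0600a061002ad0050328018180281100140801408400a0400a042005010050108027f8027f800140001400a00a0000a004002fd005002801810027f94013f800b848009fc009fc2002aa004fe0001558027e90013f0013f04009f8009f85004fb004fb18027d8027d80013ec013ec8009f6009f65004f8004f808027d0027d0000a9c013e8a009f2008ae0002ad004f9)) (.leaf (nat_lit 0)))) (.node (.node (.leaf (nat_lit 0x6f0005c14002d8003786001ba001ba3000dc000dc10006e0006e0c001840036c2001b40015c4000da000da10006d0006d000031c00368a0018e001b24000d9000d910006c8006c840033c00364a000b4001ae5000c5000d60000630006b14001ec0035460012c001a6100078000d320003800069040020c003488001a2001a22000d1000d120004c0006804003400034080019e0019e2000cf000cf100067000628c003380033820019c0019c3000cd00098))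 (.leaf (nat_lit 0))) (.node (.leaf (nat_lit 0x1803ec003ec0c01f1001f5c600f5600cba5007d6007aa2003eb003eb080132001f58600faa00a9c4004ff007d51002a7803ea8401f5401f54a00dc200faa00054f007d42003ea003ea0c01f5001f50800d5e00fa6100643007d3000262803e99401f4801cb0000e5c00fa43007d2007d208030b803e90c01f4401f44400f1400fa21006ce007d1000349003e81001f4001f40a00d1a00f9e4007cf007cf100367803e794013d401868a00d1c00f9c4004f5007ce)) (.leaf (nat_lit 0)))))) (.node (.node (.node (.node (.leaf (nat_lit 0x200112800818c008900040c4004460020600022200103200110800808c008800040420043e0020230021e000ff10010e8007f8c00870003f8400436001fc30021a000fd10010c8007e9400860003f060042e001f8200216000fc20010a8007d0c00850003e8a00426001f2000212000f92001088007b8c00840003dca0041e001ec30020e000f61001068007a9400830003cc400416001e630020a000f2100104800791000820003c420040e001e2400206000f0)) (.leaf (nat_lit 0x3bf004c50401e68026288012620131230098900989100497004c49402164026206013100131020098800988000451804c404026200262080130e0130e500987009870804c38049d800261c0261c400e440130e30098600986080461004c30c0261402614200e400130a200984009651804c2004c2040251002610a0130401304100983009831804bc804c18c01c7c0260800130401304400982009821004c1004c1000260401cc0801302013023008e700981)))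 (.node (.leaf (nat_lit 0x20d001278c0106400f3c8008340083420022f0041a2001ed8020c900106001060000600008303002420041710020b8020b94010540105460082c0082c4004070041610011f8020b0c010500105000082a0082a100415004151001148020a8400c7c0104c80082400824200327004121002088013c1001044010446004ee0082210029b002cb2800d78014f0c0104000a784005960053c0002c50029e3001ac8014f14007e800f34c0079a007a210029a00410)) (.leaf (nat_lit 0)))) (.node (.node (.leaf (nat_lit 0x512804349002890021a0601446010d0400a22008651805108043294028800219000143e010c8400a1e0086208050e804300c028700217c801436010ba000a1a0085a00050c8042c84028600215880142e010a2400a160084c18050a8042388028500211c6014260108c400a12008452005088042210028400210ca0141e01084100a0e0084200050680421040283002104a014160106c100a0a008360005048041b1402820020c400140e01062500a060082e)) (.leaf (nat_lit 0))) (.node (.leaf (nat_lit 0x8035a8039b0401cd401cd4a00e6800e683006c90073400039a0039a040187801cd0800c3c00e6650073300733000399803998801ccc01ccc000c1c00e622007300073008039800398140187401cbc40087600e5e40072e0072e100284003971001cb001cb0a00e5a00e5a00072d0072d180396802cc880166801cb420087000e5a2004ec0072c18039580315080196801cac00088000e561005700072b200395002b80c017fc01ca8a00c0200e540004ac0072a))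 (.leaf (nat_lit 0))))) (.node (.node (.node (.leaf (nat_lit 0x180312801ad140189000d60400c46006b000062200358200310801ab800188000d5c800c3e006aa50061e0035408030e801a9100187000d44200c36006a240061a0035018030c801a8040186000d3c000c2e0069a4006160034c20030a801a5880185000d2c600c26006940006120034a000308801a4800184000d20800c1e0068e20060e00347000306801a3900183000d18600c160068c40060a00344080304801a2140182000d0ca00c0e0068440060600342)) (.leaf (nat_lit 0x80545805458002a2c02a2c4013a601516400a8a00a8a180545005450802a2802a280014de01514500a6f00a89200544805448c02a2402a24401512015125009fd00a88000544004ff1002a2002a2040151001510000a0600a87280502005439002a1c02a1c40150e0150e500a4300a86000543005220c0279402a184013cc0150c100a8600a86280542805429002a1402a1400150a0150a300a8500a85080542805429402a1002a1080150801508000a8400a84))) (.node (.leaf (nat_lit 0x2802ec802ec80017640176480085400bb25005d8005d81802ec002ec000176001760800bb000bb020045b005d81801d4802eb840175c0175c600bac00bac2003b5005d62801a3802ea8c00cd801754800baa00baa2003c6005d5000191002ea0400e200174c0007ea00ba620044f005d31802e9002260000d0801748800ba400ba420044d005d22002e8802e88c00efc01744200ba200ba20003ff005d12802e8002e804017300113460089e00b983004470047c))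 (.leaf (nat_lit 0)))) (.node (.node (.leaf (nat_lit 0x8007d8010a940085000850000428004282002140021408010980109840084800848a00422004220002110021108007c001088400840008402003b60041e0001660020f2801068010680008340083460041a0041a50020b0020b1001060010600003d4008300004160041630020b0020b000104001040c007880081c00040e0040e500205002050001028010288003c40081460033e0040820018100204080102001020c0080c0080c6004040040430014900201)) (.leaf (nat_lit 0))) (.node (.leaf (nat_lit 0x1803e98043a80021d4021d4200d16010ea5008740087400043a0043a0c01c74021d0800d16010e6500873008730004398043990021c8021c8600c5c010e4200872008720804390043900015cc021c8a010e2010e240080800871000438804388c015e0021c4a010e0010e0000870008702003450043814021bc021bc6010de010de00086f0086f200437804378802044021bc2010dc00fd640077d0086e2804370043700021b8021b8400ef6010dc30086d0081f)) (.leaf (nat_lit 0))))))) (.node (.node (.node (.node (.node (.leaf (nat_lit 0x18009280040080049000200200246000fe4001220007e1800908003f0000480001f840023e000fa00011e0007d20008e8003d9000470001e8600236000f420011a0007a08008c8003d1400460001e4a0022e000f03001160007800008a8003c1400450001dc400226000ee000112000771800888003b0800440001d800021e000ec40010e000750800868003a8000430001d4800216000e830010a00074200084800398c00420001cc40020e000e600010600073))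 (.leaf (nat_lit 0x1004a3804a394022f00251c40128c0128c0008bb0094620035d004a2840251402514a00fa20128a200944006ef18035c804a21401bb0025108012860128630081800943100433804a110025080250860104a01284500834009410004a0804709002504025044011e80128230072e009402804a0004a0080206802500001280012801009400094018049f803e30401c04024fc800f560127e2007030093f0003510049f8001e18024f8a00d3e0127c30093e0093e))) (.node (.leaf (nat_lit 0x1801a5801d3840083800e984003cc0074c4003a5003a50801d2801d29400e9000e9060065e007480003a4003a41001d2001d20400e8c00e8c0005a0005a04002ce002ce20009e80149040050400a48c00544005245002930032f2800cb001679800cc400b3c8004a4004501002520034e28012e0012e080094c0094c8004a2004a22002260025218012880113080093400d58a006ac0058a0002c5003591001ac801658000d5400944a004b4006aa2002bd00369)) (.leaf (nat_lit 0)))) (.node (.node (.leaf (nat_lit 0x2804928033b8c02490019dc60124600cec40092200673200490803391402480019c480123e00ce230091e0066f18048e803368802470019b4a0123600cd430091a0066a00048c803350c02460019a0a0122e00cce3009160066718048a8033308024500199460122600cc8500912006632004888033004024400198040121e00cba40090e006591804868032c8c024300195ca0121600ca820090a006532804848032810024200193440120e00c9250090600646))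 (.leaf (nat_lit 0))) (.node (.leaf (nat_lit 0x1801f40036f8801b7c01b7c600992009925004c8004c8200265802659000d90015282007d200a946006320054a2001f30020f8c0121001b70400a2800db82003e5006db28036d0035f0c01ab001b688007ca00db4200511006da20036c8036c8c0101001b64400db200db20004b2006d928036c002591001b6001b60600a3c00db02006d8006d82803178036b80011f401b5c400dae00dae4006d6006d61802f78036b0801b5801b58000bda00dac5006d5005ed)) (.leaf (nat_lit 0))))) (.node (.node (.node (.leaf (nat_lit 0x1802928015e840149000af4a00a4600576300522002bb0002908015d8c0148000ae8000a3e0057400051e002b900028e8015c100147000adc400a360056e00051a002b720028c8015b0c0146000ad8400a2e0056c500516002b518028a8015a900145000ad0600a2600568200512002b40802888015a140144000acca00a1e0056440050e002b218028680158840143000ac4a00a160056030050a002b008028480158140142000ab8800a0e0055c300506002ae)) (.leaf (nat_lit 0x4d0805291002774029484014a4014a4400a510090d1804af8052888029440294420128e014a250090700a5120051e005280c02940029402014a0014a0000a3900a502805278051c90028e00293c60149e0149e100a4f00a4f2805268052690028d80293820149c0149c200a4e00954180527005270c023b80293400149a0149a400a4d00a4d1005268052684029300293060149801498300a4b00a4b0805258052590029280292860149401494200a4a00a4a)))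 (.node (.leaf (nat_lit 0x2b6802b694015b4015b48009da00ada2003030056d2002b6002b60000b88015ac000ad400ad4100569005692802b2002b2100159401594000ad000ad03004da005682802b4002b408015a0015a0600ace00ace2004fb005671801ee802b30801598015980005be00aca400563005631002b2002b2000159001590a00ac60092e0002e30056318024a802b18c0158801588200ac200ac220056000560200170002af840157c0157c60095200abc2004f30055e)) (.leaf (nat_lit 0)))) (.node (.node (.leaf (nat_lit 0x100064000c8140063c0063c00031e0031e4000c70018f100070800c790005e400630a001c800318300177001892000c3800c38c006200062040014a0030e200174001860800c3000c3040029800614a003060030600018300183080052000c18800608006082002e0003045000ca001822800be800be90005f8005f800030200302500181001810800c0800c09000600003aca00300003002000ac001801800bf8005610002bc005fca00148002fe10017f0017f)) (.leaf (nat_lit 0))) (.node (.leaf (nat_lit 0x417804179001d30020bc40105e0105e40082e0082e1004170041708014e8020b4200a460105a40082c005c72804160041604016fc020b00010580105810082b0052a2002940041588020ac020aca00a3e0105600082a0082a280415004150c020a8020a8801054010544006f000828180414004140801900020a0a00ccc010505008260082608041380413880209c0209c000e9e0104e3008260082600041300413100209802098400b160104c40051f00825))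 (.leaf (nat_lit 0)))))) (.node (.node (.node (.node (.leaf (nat_lit 0x100192800c90c00c90006446006460031e5003220018d000190800c68c00c800063040063e0031850031e0018810018e800c40000c7000620a006360030e00031a0018720018c800c30c00c600061860062e003043003160018108018a800bf1400c50005ec200626002f60003120017b180188800bc8800c40005e420061e002f240030e00174180186800ba1400c30005cc600616002e600030a00173280184800b91000c20005c800060e002e430030600171)) (.leaf (nat_lit 0x2004e5804e580020d00272c6011620139610087f009cb1004cf004e50c021c002728800f740139410078e009ca2804ba804e5000264802724a01392013023008c6009c91004e4804e484027240272420139000fbe400874009c80004b4004e40c0271c0259c8010820138e2009a9009c72804d3804e394027180271880118e0138c1009c6009c60004e3004e308027180271860138a0138a4008ea009c51004e2804e2940271002710801388013880009c4009c4))) (.node (.leaf (nat_lit 0x280248002480001240012402006bc0092030048a0048a280244802448801234012346004de009182003f30048c1002458024584012280122860091000910000489004890801f98024488009b0012242009100091040048700487080243802439400b900121ca0090a0090a30043e004851002250024280012140121420090a0090a50048400484000242002420401210012106008520090620033c00483080241802418000d8c0120c600904009042003ba00482))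 (.leaf (nat_lit 0)))) (.node (.node (.leaf (nat_lit 0x148001b8000054000d800006a0006a30003200035100019800198400070000cc8000640006410002600032280018800178c000bc00084800042000624000300002c100016000101400080000c040005e0005e40002d000130000098000e0c00070000b440005a0005a30002c0002c10001580013800009c000a08000500005630002b0002b18001380013900009800098a0004c0004c000026000261000040001310000940009440004a0004a10002500025)) (.leaf (nat_lit 0))) (.node (.leaf (nat_lit 0x200257003c70c012b401e38600f1a00f1a4006840078d1003c6803c68c01e3001d94a00f1800f1820075d0078c0003c6003c60401e3001e3080094200f1650048e0078b0002d7803c58c01e2c01e2c200f1600f1650056c0078a0003c50027f0c01e2801e28200dca00f1410078900620000248803c48801be401e24600df200f10500788007880003c4003c40401e2001e20200f0e00f0e2007860078608031e003c29001e10018f0a00c8800f0830073300784)) (.leaf (nat_lit 0))))) (.node (.node (.node (.leaf (nat_lit 0x392802170c01c90010b4000e460085a3007220042c100390802161001c80010ac200e3e0085630071e0042a20038e802149001c70010a0200e360085030071a0042708038c802130401c600108c800e2e008445007160042110038a802109001c5001080200e260083e0007120041f2003888020f0c01c4001078600e1e0083a40070e0041b0803868020d0401c3001058a00e160082840070a00414280384802099001c200104c000e0e0082610070600412))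 (.leaf (nat_lit 0xa0158401584300aa200ac2000561005611002b0802b0840158401584300aa900ac1280560805608002b0402b0480158201582200ac100ac1280560005601002b0002b0000158001580300ac000ac0080560005601402afc02afc80157e0157e000abf00abf18055f8055f8402afc02afc6015540157c500abe00abe00055f0055f1002af802af840157c0157c500abd00abd20055e8055e8002af402af460157a0157a100abd00abd))) (.node (.leaf (nat_lit 0x8022b8031600010a0018b04006be00c5850062b0062b1801f28031580018ac018ac80073200c5610062a0062a0800ee001cc9800e8000e64800c5400c542005e40062a280293803151000f64018a460073000c525003c400628000314001e28c0189c010e0800c5000c5020035d006280802b0002b00c0156401564a00ab0006f4000558004462002ac002ac00010e401574a00aba0086c4004ce006172001a5802af180185401578200aba00c204006100055c)) (.leaf (nat_lit 0)))) (.node (.node (.leaf (nat_lit 0x200156801569400ab000ab00005580055840026a002ac280154801548800aac00aac80054e0054e4002a5002a5000153001531400a9800a98a00554002dc3002a60016b2000b580155100051800aa440054c0054c1002a6002a608015200152040050400a88a00542005420002a1002a110009d8014d9400a6800a6800053400534500186002990000bf8014c84004e800a64a00276005305002970029700014b8014b8400a5c00a5c80052c004f440027b0027b))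 (.leaf (nat_lit 0))) (.node (.leaf (nat_lit 0x18045d0045d0401710022e880117201172100650008b900045c8045c88022e4022e440116400ea8000755008b820045c0045c0c01d98022e0a0116e0116e3007cf008b700045b8045b8c01e7401ca4a00e5200b825008b6008a018045b0045b0001a08022d880113a0116c1008b5006d820045a8045a8c01bc0022d440116a0116a5008b3008b318045a0045a0401b20022d0800d8c01168400645008b3000459804598801704022cc201164011640005c2008b2)) (.leaf (nat_lit 0)))))))) (.node (.node (.node (.node (.node (.node (.leaf (nat_lit 0x180052800230800290001182001460008c5000a2000450000508002290002800011060013e0008820009e0004408004e8002214002700010ca001360008440009a0004218004c80021000026000108a0012e000822000960004120004a800200c002500010040012600080100092000402800488001f9000240000fc00011e0007e50008e0003e1000468001f1000230000f46001160007a20008a0003d0800448001e9400220000f060010e000785000860003b)) (.leaf (nat_lit 0x49380493840249c0249c80124c0124c3007a80092610049300493140210c0249880124a0124a300925009251003ae0049284019ec0249400105a0124a50092400924200468804920402490024900012480124820067800924000491803d4100248c0248c2011540124620082c009232803aa004910c0248802488000ea40124410067500922280490804908c024840248440124201242000921009210803a280490940247c0247c801240012403007f900920)))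 (.node (.leaf (nat_lit 0x801bb801bb9400dd400dd44006ec006ec0001c4003760001ba801ba8400dd400dd4a005e0005e05002580025820010b8010b840074c0074c6003a2003a2000374003742801ba001ba1000c4800dd0000622006e2300371003121800e1001b79000db400c3460061c006dc1002f50036e1000e0001b684009b400db08006d6006d610036b0036b1001b5801b59400b2800b2860056e0056e2001ba002b908015c8015c9800ae400d94a0057c0057c2002ba002ba)) (.leaf (nat_lit 0)))) (.node (.node (.leaf (nat_lit 0x180452802d58c02290016a040114600b4e4008a2005a6200450802d190022800168840113e00b4410089e005a228044e802d094022700168040113600b4040089a0059f10044c802cf84022600167c40112e00b3c5008960059a00044a802cd14022500166460112600b3020089200598080448802cb08022400165460111e00b2830088e00593180446802c8880223001644a0111600b1e20088a0058f000444802c790022200163480110e00b185008860058b)) (.leaf (nat_lit 0))) (.node (.leaf (nat_lit 0x1003188035a0401acc01acc800a4400d641006b2006b2100359003591401ac401ac4600d6200d622006b1006b1000358803588400f0801ac4800d600099a5005e2006b0080268003580000f9801abc000b3e00d5c300571006ad100356803568400ef801ab4800af600d0a500683005710803560034190019b801ab000077e00d58300698006ab000346803559001aac01aaca00d5200d521006aa006aa100355002f10c0178401aa8600b4600d520006a9006a9))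 (.leaf (nat_lit 0))))) (.node (.node (.node (.leaf (nat_lit 0x1002528013c8001290009e4800946004f01004a2002780002508013c1001280009dc80093e004ec10049e0027618024e8013a8801270009d4200936004ea50049a0027308024c801399001260009c860092e004e45004960027128024a801380401250009c0a00926004de0004920026f180248801370801240009b860091e004da20048e0026d280246801360401230009b0000916004d850048a0026b180244801358001220009ac00090e004d440048600269)) (.leaf (nat_lit 0x1005190051904028c8028c8a0114a01464300a3100a311004cb0051884028c4028c480134601460100a3000a301004468051814028bc028bc80145e0145e000a2f00a2f1005178051794028b8028b880145c0145c000a2e00a2e1005170051714028b4028b480145a0145a000a2d00a2d1005168051694028b0028b080145801458000a2c00a2c1005160051614028ac028ac80145601456000a2b00a2b1005158051594028a8028a880145401454000a2a00a2a))) (.node (.leaf (nat_lit 0x24e0029e14014f0012a4800a7800a781002f80053c1002080029e0c014ec014ec400a7600a765005390053920029d0029d1000b4c00b4c2005c0005c00002d5002d508016b0029d0c014e4014e4400a7200a72000539005390801668029c90014e0014e02009c400a70400536005362002970026888014dc014dc2009a200a6e5005370053700029b8029b8c014d8014d8600a6a00a6a0005340053420029a0029a04014cc014cc60059c00a664004db00532))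 (.leaf (nat_lit 0)))) (.node (.node (.leaf (nat_lit 0x28009b0009b04004d8004d8a0011400268100134001340000430009980004c8004c82002640026400008e0012c180095800958000460004a820025200252100127001271000410009388002140049820024c0024c5001250012520006f800928000494004944001f00024a3000f80012428009200092100049000490000248002484000f6001231000918009184002000048860024000240000121001211000908009094003a40048080023e0023e30011f0011f)) (.leaf (nat_lit 0))) (.node (.leaf (nat_lit 0x200401004010c0200802008a01002010020008010080118040000400140158001ffc800ffe00ffe2004f6007ff2003fe8032a8401ff401ff40009ee00ffa4007fc007fc1803fe003fe10013d801fe8000fac00ff42007fa007fa1003fc803fc84013c801fe4400e2e00ff04007f8007f8180342003fc0401fe001fe0000b0800ff0500584007f72003fb803fb8c01bf001fdc200fee00fee50067d007f620029f803fb0401fd801fd8400a1a00fec3007f5007f5)) (.leaf (nat_lit 0)))))) (.node (.node (.node (.node (.leaf (nat_lit 0x152800a01000a90004fc6005460027e4002a20013d1801508009e0800a80004f080053e0027610029e0013b00014e8009d9000a70004e86005360027430029a0013910014c8009c8c00a60004e040052e002705002960013710014a8009b8800a50004d82005260026a000292001352001488009a0c00a40004d060051e0026610028e00133100146800991400a30004c42005160026230028a00130200144800978400a20004bc00050e0025e4002860012e))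 (.leaf (nat_lit 0x1004d6804d690026b00222420135801358000888009ac1804d5004d500026ac026ac8013560135610081d009ab1004d5804d59402220026a880110a013541009aa009aa18040e004d490026a4026a4001202013521009a8007ca2804d4004d41001f24026a00013500135020098b009a81804d3804c590024e80269c000fb80134e1009a7009a72804d3004d30c026980269800134c0134c4009a6009a62004d2004d2000269402694a0134a0134a3009a5009a5))) (.node (.leaf (nat_lit 0x180163801638c01160011608008ae008ae20040c00457080229001f1000115800f90a007c4008ac40045200452280228802288401154011540007b2008aa4002950045408022a0022a0801150011502008a6008a63004510045110022880228800114401144200498008a220044e0044e280226002260001130011302004900089820044b0044b0801ef80225940094c011282008940089450044900449000224802248000c900112060089000890100446003dd)) (.leaf (nat_lit 0)))) (.node (.node (.leaf (nat_lit 0x100552805039002a900280820154601402100aa2009fc180550804fd8c02a80027e860153e013f2300a9e009f228054e804f88002a70027c4601536013e0400a9a009ef18054c804f79002a60027b860152e013dc300a96009e828054a804f11402a5002784001526013c2400a92009d9200548804ea8c02a400275480151e013a8300a8e009d4280546804e98002a300274c601516013a4500a8a009cf000544804e78c02a20026ec60150e0136e400a86009b4))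 (.leaf (nat_lit 0))) (.node (.leaf (nat_lit 0x1803b1803b18001d8c01d8c800ba600ec6200468007630803b1003b108014b401d88800ccc00ec430052c007622803b0803b08c01d8401d84000ec200ec2400761007611002c6003b08801d8001c80800ec000ec040075f0075f2803af003af0001d7801d78200ebc00ebc5006c50075d000385003ae8401d7401d74600eb800eb810046d0075c0803ad803ad8001c6801d6c800eb400dee5005360075a000257803ad040152401d68400eb200eb210045c00759)) (.leaf (nat_lit 0))))) (.node (.node (.node (.leaf (nat_lit 0x200352801da9401a9000ec4000d46007625006a2003b0080350801d80001a8000ec0800d3e0075e50069e003ae18034e801d70801a7000eb8000d360075c50069a003ad20034c801d68401a6000eb4800d2e00758300696003ac20034a801d58c01a5000eac800d2600754100692003aa280348801d48001a4000ea4800d1e0075040068e003a7080346801d39001a3000e98a00d160074a00068a003a5200344801d11001a2000e7c600d0e0073c2006860039e)) (.leaf (nat_lit 0x100554805548402aa402aa4a0155001550300aa800aa80005540055410028a002aa040148001550400a9500aa7280553805538402a9c02a9c00154e0154e200a6e00aa7280553005531002a9802a9800154c0154c300aa600aa6080553005531402a9402a9480154a0154a000aa500aa5180552805528402a9402a94a0152601548000aa400a9418050a00552080285402a9020154801548000aa300a9a280548805518c0282802a8c80147a01546200aa300aa3)))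 (.node (.leaf (nat_lit 0x2003018022784010240180c4006de00c060003d0006030002a70027904012e8012e8a00970009700004be005082802828025f0c013140131440098a00a164004f00055020028500244000180801424400c04007aa10034000602080300801f688010f00180460087800c0050060000600000300003000400d8c01800a00bfc00bfc500217003fa0002e8801fd1800fe800ffc800bfe00bfe1005ff005ff00020b802ff8c00d60017f8000bfc00bfc1003fa005fe)) (.leaf (nat_lit 0)))) (.node (.node (.leaf (nat_lit 0x130801308c00574009748004b6004b630025c0025c10008d8012d880056800968000336004b210011c0025900012c0012c04004680095c6004ac004ac400256001ad0800ab0012b140070400958a00236004aa1002540025428008d00128800045c00934400498004980002010024c1801218012510007340092c2004960048820014f0024b1000a70012514009240092480048e0048e10024600246000101001230000450009148002560048800024400244)) (.leaf (nat_lit 0))) (.node (.leaf (nat_lit 0x28044c8044c800226402264600e2c01132400898006482803958044c0c0190c02260000e7a011305008970089720044b8044b800225c0225c6011220112e10088f0089710044b0044b0001dec02258a0112a00ef64007e8008951802cd8044a880225402254a0112400ff240085b008940803fd8044a0c0225002250400d6a01128500893007680004498031c100224c0224c200f7a011262006720089318044900339100224802248200b3201124000891005a1))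 (.leaf (nat_lit 0))))))) (.node (.node (.node (.node (.node (.leaf (nat_lit 0x2800d28005c9000690002e4400346001721001a2000b91800d08005c1400680002dc80033e0016e10019e000b70000ce8005b8c00670002d82003360016610019a000b11800cc800581400660002bc00032e0015e300196000ae2000ca800569400650002b000032600158400192000ab0800c8800550400640002a420031e0014e30018e000a61000c6800530000630002988003160014a10018a000a50000c48005290006200029060030e00148000186000a4)) (.leaf (nat_lit 0x1804b4804b49401bcc025a4001196012d2200968009682804b300485080259c02070201216012ce40080500967000378804b38c020bc02598801118012cc200966009662804b2804b28c02594025940012ca012ca400965009652804b1804b1840259002590601016012c82008f700964000377804b20c0258c0258c0012c6012c6400963009631804b100469840216c02588800ff6012c420085c00962000375004b10c02584025844012c2012c21006e800961))) (.node (.leaf (nat_lit 0x200105001f09000de400f7c4007be007be20026500265280131801319400980008d4a006be006be300360003600001b2001b21400f7800d8c600468004d0200235002680801340013400006e0009a0c004d0006c25001b8002673001b1001338000f78009982007bc007bc200267003de2001be801ee8800f7400f744007b6007b63003da002672801ed001ed0000f6800f68800412007b4200206003da1001ec801ec8c00f6000f60a0078c007ae4003d7003d7))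 (.leaf (nat_lit 0)))) (.node (.node (.leaf (nat_lit 0x2004d2803a6800269001d3460134600e985009a2007482804d0803a3840268001d1800133e00e8c10099e007440804ce803a1880267001d04a0133600e7640099a0073b0804cc8039d040266001ce480132e00e70400996007350004ca8039a900265001cc460132600e62500992007301804c8803978c0264001cb080131e00e4e30098e007270004c680393900263001c9820131600e4640098a007222804c480390900262001c8460130e00e425009860071f)) (.leaf (nat_lit 0))) (.node (.leaf (nat_lit 0x18038380383880105001c1c600e0c00e0c0005010070620038300383080176401c1860098000e0a1004fd00705000209003828801c1001c10000aae00e083004b500703200248803819401c080155c800c4400e0430055500702100381003811401c0401c04000e0200e0220040e007012003800038008013e801c00200e0000e0000061e0070020037f8037f8401bfc01bfc00087400dfe3004ba006fe00036f8037f04016a4012d480096800b523006fd004b4)) (.leaf (nat_lit 0))))) (.node (.node (.node (.leaf (nat_lit 0x802d280184940169000c1c400b460060e5005a2003062002d080183000168000c18a00b3e0060840059e003040802ce80182040167000c0c000b360060630059a003021002cc80181040166000c08a00b2e00602300596003010002ca80180900165000c00000b26005fa100592002fc2802c88017d880164000be8800b1e005f230058e002f90002c68017c940163000bd8800b16005ec30058a002f61002c48017a800162000bd4200b0e005e8300586002f2))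 (.leaf (nat_lit 0x80537805378c02920029b82014dc014dc500a6d00a6d200536805368402690029b40014da014da200a6d00a6d2805360053610029b0029b020136c014d8000a6c00a6c1005360053614029ac029ac6014d6014d6000a6b00a6b200535805358802890029aca014d4014d4300a6a00a6a0005350053510029a8029a840143c014d4500a6900a691804ef8053480029a4029a48014d2014d220098c00a692805188053410029a0029a04014d0014d0500a6700a67))) (.node (.leaf (nat_lit 0x1802d8802d88800c44016c020062000b5e1005ae005ae280192002d68c016b4016b4a00b5800b5800040d0048a2802440020694016a0016a0400b5400b540005ab005ab2802d5802d590016ac016ac200aac00b5640047e005aa000186002d500016a4016a4800b5000b500005a8005a8080206802d4140169c0169c00061200b48100506005a31802d1002d10c0168401684400b4200b421005a1005a11802d0002d01401674015c00009c000b3a20059d0059d)) (.leaf (nat_lit 0)))) (.node (.node (.leaf (nat_lit 0x2800b2800e98000704007448003a2001f8500119001d12000e8000e80c007400074080039e0039e3001cf001cf00006a000e704004ac00734400398003980001c900128180094000e510005a800728400224003942001c9001c90800e4000e4080071c0071c6002d00038c2001c6001c60800e2800e2900070800708000386003863001a6001c3080073000e1840070800708a0037e0037e0001bf001bf0800b3800df88006f8006f82001920037c40017b0017b))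 (.leaf (nat_lit 0))) (.node (.leaf (nat_lit 0x428003ff8c01c38021404010a0010a010085000850280427803f80c0213c01c64000a0c00e32600815007191804278040a880213c0213c000e9c0109e4005e80084e08042700427000202c02138600e7000f284006c7007e9180426803d81401e500213440109a0109a00069d0084d28042600426000213002130601098010981005430084c1004258042590020040212c200a88010965007060084b10042500425000150402128a010920109240069c00849)) (.leaf (nat_lit 0)))))) (.node (.node (.node (.node (.leaf (nat_lit 0x1801d2800f18400e9000778000746003bc5003a2001dd0801d0800ee8400e800077040073e003b650039e001d81801ce800ec1000e700075c600736003ac20039a001d40001cc800e99000e600074860072e003a4000396001d21001ca800e88800e5000740200726003a0500392001cf0801c8800e79000e400073860071e0039c20038e001ce0801c6800e71400e30007340007160039a40038a001cc0801c4800e60000e200073080070e00396300386001cb)) (.leaf (nat_lit 0x1804f6804f680027b4027b48013da013da200800009ed2804c2004f60002618027b0801000013d82009ec009ec280451004f58002284027ac6012e4013d61009eb009eb1804f50046e140239c027a84011ba013d40008e5009ea080465004f514027a4027a4801184013d20009e9009e91004f4804f494027a0027a04013d0013d00009e8009e80803f8804f4140279c0279c2013ce013ce0009e7009e71004f0004f39402798027982013cc013cc0009e6009e6)))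 (.node (.leaf (nat_lit 0x100268802689401340013400009a0009a050028f004cf10026600266000132801328400994009943004c6004c6200144001c78400a2400e3cc009880071e0004c8004c820014500264100130001300a0097e0097e2004bf002fc20017e00263900122c01318200512009883004c3004c30801b90026184010b80119c8008860091a0004c1003722801b780260880130400f582007ac00984500419004c2280143802198c0119c010cc0004f800866600433004ab)) (.leaf (nat_lit 0)))) (.node (.node (.leaf (nat_lit 0x1800298005410002a0002a020015000150400052000a728003000053140029400294a000a8001461000a2000a210004c00050840028400284a0012a0014010009b0009b18004d0004d080024000268800132001322000430009908004c0004c14002580025840012e0012e0000880009700004b0004b040010800258a001160012840008f0008f000048000480c002400024060011c0011c3000590008d08001f8004694001f8002248000860010e10007100087)) (.leaf (nat_lit 0))) (.node (.leaf (nat_lit 0x1003da003da0001ed001ed0800e0800f663007b3007b308037f003d98c01ec801ec8200e4400f642007b1007b10803ac003d88001c3401ec4a00e1a00f602007b0007b00803ab803d80c01ebc01ebc000ee000f5c4007ad007ad0003b7803d68c01eb401eb4a00f5800f580007ac007ac200266003d6100129801ea8400f5400f542007a9007080803d4802d890016bc01ea4400f5000f501004a3007a80003d3803b5080129801d7c600ebe0094a00046c004a5))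 (.leaf (nat_lit 0))))) (.node (.node (.node (.leaf (nat_lit 0x2003d28024f0c01e9001278000f460093c4007a20049c2003d08024d0c01e8001260000f3e0093040079e004972003ce8024b0401e7001258800f360092a30079a004932803cc802489001e6001240800f2e0091e1007960048f0003ca802479001e5001238600f260091c0007920048e1803c8802468401e4001234a00f1e0091800078e0048c0803c6802459001e3001228400f160091440078a004891803c4802438801e200121c800f0e0090650078600482)) (.leaf (nat_lit 0))) (.node (.leaf (nat_lit 0x10032c002788c019600196020097600cb00004cc0065810032b802be000195c0195c20070200cae5006560065618032b0032b000195801958800cac00cac100655006550002a28032a9001950019500007ce00ca83006530065328032980329800194c0194c80088c00ca6100652006522801be80329100194001940600ca200ca250065100651000328803288400df001944400ca000ca030064f003c0200327803278800e100193c20070a00c9e50044b0064f)) (.leaf (nat_lit 0)))) (.node (.node (.leaf (nat_lit 0x2800fb80182840088800c144006080060820029f00301180180001801000bf800a6c600538005fe5002ff002ff00017f8017f8400bfc00bfca005fc005fc0002fe002fe1000b68017f0c00bf400bf44005fa005fa4002750027528013a0013a0c00bf000bf00002d6005f83002fb002fb2001608017d8800bec00bec000520003245002f7002f720017c0017c0000be800be880032600520300291002fa28017d0017d0800be400be46005f00053220029a002f8))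 (.leaf (nat_lit 0))) (.node (.leaf (nat_lit 0x100470803751001ba80238c0011c600dea3006bf008e308047180471840238802070800e16011c450074b008e218047080470840238402384a011c0011c01008e0008e0000470004700801b2c02380a011be01004300861008df10030d0046f84018c00237c0011bc00f545007fa008de20046f0046f0c0188c02378200dd8011bc5008dd007ad20042a0046e940231802370801186011b81008dc008dc28046d8046d9001ec00236c0011b6011b62007e5008db)) (.leaf (nat_lit 0)))))))))
noncomputable def u5Ft01 : BT Nat := (.node (.node (.node (.node (.node (.node (.node (.leaf (nat_lit 0x280032800158400190000ac8000c6000541000620002a000030800151000180000a46000be0005220005e0002908002e800149400170000a0a000b60004e30005a0002510002c8001214001600008c8000ae000464000560002218002a800110400150000840000a600042000052000200800288000f90001400007820009e0003c50004e0001c1800268000d88001300006c6000960003420004a0001a2000248000c8c001200006480008e0003050004600017)) (.leaf (nat_lit 0x48c0048c080210c02460a0122c0122c3009170091720048b8048b8801da00245c200eca0122e0006f8009172004860048b04024580245800122c0122c2006710091628048a8048a9001ec40245400122a0122a20074f0091528048a0048a000245002450601228012281006f50091420047000489840244c0244c4010f801226200912009120803788048900019940244840122200e745008cb00911180488804888001bcc024440012140122020091000910)))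 (.node (.leaf (nat_lit 0x1001a5001a51000d2000d208006a4006a4000353003532801a9801a98800d4c00cdc6003da006a6500351003510001a8801a89000d3c00d3ca0069c0069c30034e00333100197001a70000d3800d384003fa0069a50034d001ff1801a6801a68400d2c00d2c000698006983003390034c1001a6001a6140068400d24a0035600690100346003460801a2801a2800068000d10400686006863003420034228019f8019f8400d0400d04000680003f22001fc00340)) (.leaf (nat_lit 0)))) (.node (.node (.leaf (nat_lit 0x280432802b11002190015884010c600ac400086200562100430802b0800218001580a010be00abe30085e0055d18042e802ad04021700155c6010b600aac40085a0055208042c802a894021600153ca010ae00a9c5008560054d18042a802a68c02150015304010a600a981008520054c180428802a590021400151c80109e00a8c50084e00545200426802a188021300150800109600a8450084a00540100424802a01402120014f8a0108e00a760008460053b)) (.leaf (nat_lit 0))) (.node (.leaf (nat_lit 0x2410034f84014ec01a7c600cea00d3820069d0067500029a8034c9001a6c014d440095000d3630069b004a72001d80034e8401a7001a70a00d3200c6030069a003dc2001ef0034d0800ed801a68200d3400d340003af0069a10034c8034c9401a6001a60000d3000d302005dc0069828034b8034b8c01a5c01a5c000d2e00d2e1006970069720034b0034b0401a5801994a007ce00d2c5006950069518034a8034a8001a5401a54200d2a00d2a50069400688))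 (.leaf (nat_lit 0))))) (.node (.node (.node (.leaf (nat_lit 0x1802328012a0001190009506008c6004a600046200253000230801291001180009406008be004a020045e0025000022e8012810011700093c2008b60049e40045a0024e08022c801271001160009346008ae0049a1004560024d28022a801260c0115000930a008a6004965004520024a2002288012510011400092420089e0049240044e002481802268012388011300091c0008960048e40044a002462002248012288011200091420088e0048a50044600243)) (.leaf (nat_lit 0x8050f8050f8c02878028782010ce0143c500a1d00a1d18050e8050e80028740287480143a0143a50094200a1c2004bb0050e04028700287000128601438200a1c00a1c28050d8050d8c0286c0286c00143601436100a1b00a1b2004af8050d0c0243802868401190014345008e300a1a2004ec0050c8c028640286440143201432100a1900a192804518050c94027140286000127201430400a1800a1810050b804ff140285c0285c60142e0142e000a1700a17))) (.node (.leaf (nat_lit 0x180290802909001478014844007c400a4230051f0051f0002900029014014800148080078800a402005200052008028f8028f880147801478a0074600a3c3002b4003e03001f0002898800ad000f840009be007c2600512003e1080270001de1000ef00137c80076800a3a000512004df08028e8026e080137c01474600a3a00a3a5002bd0051d20028d0028d000147001470a00a3800a3820051c0051c08015d0028e100146c0146c600a3600a361002b80051b))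 (.leaf (nat_lit 0)))) (.node (.node (.leaf (nat_lit 0x100080800808c001c8001c8a000e2000e2600102000711000810008100001c80040400020000200300100001000800408008014003fc003fc0001fe001fe1000ff000ff28007f0007f00003f8003f82001fc001fc1000f5000fd28005a8007d8000324003ec4001f4001f44000f9000f91000368007c94002c8003e00001dc001f05000cf000f70000688007b90003b0003d46001e6001e60000f4000f42000730007a040032c003d04001e8001e800007c000f1)) (.leaf (nat_lit 0))) (.node (.leaf (nat_lit 0x1003f6803f684015ec01fb4000c8400fda40059d007ec0802cf003f6000189401fb0a00d1200fd62006eb007eb0002e5003f51001fa801fa8400fc000fd45007e7005c70802e4803f4800139801fa4a00fd000bec0005f8007e81803f4003f400017a401f9c800fce00fce3007e60079e18024c002e11801e8001708800b8400fcc2007e6007e60002f5803f31001f9401f94600c6a00fca5006c3007e52803eb803f20c01ee801f90000e5000fc840057f007e4)) (.leaf (nat_lit 0)))))) (.node (.node (.node (.node (.leaf (nat_lit 0x2801328008e8c00990004744004c60023a0002620011d1801308008e0800980004708004be0023610025e0011b00012e8008d9000970004686004b60023400025a0011a20012c8008c8c00960004644004ae002320002560011918012a8008c0800950004608004a60022e300252001171001288008b84009400045ca0049e0022c00024e001162801268008a9000930004546004960022a10024a001151801248008a08009200045020048e0022850024600113))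 (.leaf (nat_lit 0x1004cd804cd800260c0266c6013340133400099a0099a0804cd004cd00025840266480133201332000747009982004cc004cc0801e9402660a010d40132e30080e009971004a2804cb80020280265c20132e0132e400995009950004cb004cb14026580265860132c0132c100996009961004ca804ca8c026500212ca0132801328200994009940004ca004ca0401cc802650a0132601326100993009930004c9804c9880260c0264c4012d60132440099200992))) (.node (.leaf (nat_lit 0x200120802199400e98010c860086400864400431004311802038021888010c4010c480086000860200430004302002178021784010bc010bc0007380085e4003cc0042e08011c002169400e70010b08008580085810042c0042c100215802158000edc010a840085400854500427003b20801da8021480008d8010a4a005bc00850200428004281002138021390010980109840084c0084c200249003880001f9002128c0108c009d86007100049000021000248)) (.leaf (nat_lit 0)))) (.node (.node (.leaf (nat_lit 0x8053280496040299002498a014c601246100a62009202805308048980029800244c8014be01224400a5e0091008052e804869402970024300014b601218400a5a0090908052c804830c02960023f84014ae011fa100a56008fc18052a8047c8c02950023e06014a6011ec100a52008f60005288047a9402940023b800149e011dc500a4e008eb080526804758002930023ac001496011c8500a4a008da0005248046d10029200236480148e011b0400a46008d2))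 (.leaf (nat_lit 0))) (.node (.leaf (nat_lit 0x3a60029214014a401d30200a4200e982006520074b0803a5803a59401d2401d24800e9400e9420074a006d108031f803a50c01d2401d24400e9200e92000749007492003a4003a40801bec01d20200e0e00e90300747007471003a3803a3840113801d1ca00e6a00e8c400746007461003a3003a30c01cc001d14800c4e00e8a20074500745280231003a29001d1001d10800e8600e86200743007432003a1003a10c01d0801d08a0088800e820006ad00741)) (.leaf (nat_lit 0))))) (.node (.node (.node (.leaf (nat_lit 0x280332801c4900199000e24000cc60071230066200387000330801c3800198000e18800cbe0070830065e0038420032e801c18c0197000e0c400cb60070640065a0038228032c801c0940196000e00800cae007001006560037f18032a801be880195000df4200ca6006fa0006520037c200328801bd8c0194000dec000c9e006f630064e0037a180326801bc880193000de4200c96006f240064a00377200324801bb0c0192000dd8200c8e006ec40064600375)) (.leaf (nat_lit 0x2005260054d9402a6c02a6c20153601536000a9b00a9b1004f88054d9002a6402a6460153401534500a7800a9a08054d0054d1402a6402a6400153201532200a9900a9918054c0054c00029e402a6020153001530400a9700a9708054b805499402a5c02a5c00152e0152e200a9700a9700054b005189002a5802a5840152c0152c200a9500a4118054a8054a8402a5402a540014cc0152a400a9400a9418054a0054a0802a5002a5080152601526300a9300a93)))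 (.node (.leaf (nat_lit 0x2fa002fa0400ce8017d0600be600be65005f1005f10002f8802f88c01060017c4a00bc200be03003bb005f01002f7802f79400ce0017bc200bdc00bdc4005ec0056128029e802f60001758017b0200bd800bd83005eb005eb2802f5002f5100103c017a8200bd400bd40005ea005ea1002f5002f50c017a4017a4400bd200bd2100334005e90802f4002f40001360017a0a00bce00bce0005e7005e7080198002f390017980179840094400bcc3005e6005e6)) (.leaf (nat_lit 0)))) (.node (.node (.leaf (nat_lit 0x80078800eb800075c0075ca00182001e23000e70010d000086800868c00358006c8a001b8001ce600207001d700006e0006a80001d400304c0036c001e2300107000e83000fb000868c0030000160a000b4001806001d9001b2300073800f2180035400788c002180018260022c000671800398003098003a0008a8c0036a000ea6001b3000583000600006b9800754003700000e6000b46001da0004f3000308008418007800041cc003be0006860005a00106)) (.leaf (nat_lit 0))) (.node (.leaf (nat_lit 0x804430044308022140221420110a0110a5008790087918043d0043d040221002210a01108011084006e20088400044200442080221002210600c0a011062006bf0088300035e80441940220801af4400d780110400060b008811804408042508022040220420110201102500880007c80003e580440040191402200400b080110050087f0087f20043f8043f80021fc021fc4010fc010fc4007280087e18043f0043f0401c08021f8a00b3c010fc4007890087d))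 (.leaf (nat_lit 0))))))) (.node (.node (.node (.node (.node (.leaf (nat_lit 0x1800b28004b84005900025c8002c60012c300162000951000b08004a8000580002548002be0012810015e000940000ae8004a10005700024c6002b60012600015a000932000ac800490c00560002484002ae00124000156000922000aa800488c00550002444002a600122100152000912800a88004814005400023c60029e0011e10014e0008f2000a6800470800530002382002960011c50014a0008d2000a48004680005200023460028e001182001460008c)) (.leaf (nat_lit 0x2004ab804ab8c0255c0255c400fde012ae10072c00957000397804ab9402558025584012ac012ac00095600956080369004ab1402554025542012aa012aa00095500955100484804aa900254c0254c0012a8012a8500954009541804aa004aa0402550025504012a6012a65008cc009532804a9004a90c02548025484012a4012a400095200952080387004a9100254402544201170012a22008b7009511004a8004a800024240254060129e0129e00094f0094f))) (.node (.leaf (nat_lit 0x280102001e40800f2000f20000782006fc2003c40037f1801bf001e200007c800f0c400784007841003c1002be20015d801e08000ef800828800770007700003ba003ba1801dd001dd1000ee400ee440077c0077c3002e4003be080157801838000ef400c1060060e0077a3001f3003bc0001d4001dd88007bc00ee4a00750007702001f0003b8280194801db9000edc00edc40066c0076e40023f0023f10011b0011b1400cc800cc800066c0066c10033500335))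 (.leaf (nat_lit 0)))) (.node (.node (.leaf (nat_lit 0x804b280377940259001bb82012c600ddc500962006e92004b080373900258001b98a012be00dca50095e006e21804ae80370080257001b802012b600dc050095a006dc2004ac8036b840256001b5ca012ae00da2400956006d11804aa80368900255001b400012a600da0400952006cf1804a880367940254001b2c80129e00d9630094e006c82004a6803620c0253001b1020129600d7e10094a006bc1004a48035d080252001ae400128e00d6e500946006b6)) (.leaf (nat_lit 0))) (.node (.leaf (nat_lit 0x2802d1803409400ef401204000b3e009026006ae004811802958029584014b4014b4a00a6800a68500580004682802bf8023d0c016c80169ca004bc005da500264003073001768023d8c00c2400978c0060e009000003090026430012f002c1040096000c24c004c800b486003090046e30012c002d2840169c011bc000aaa008de400401006c9280237802a99401a8401a84a007ca00884600442006de0001f280221980110c01b74a00916007f60003fb0048d)) (.leaf (nat_lit 0))))) (.node (.node (.node (.leaf (nat_lit 0x2802b28016e900159000b74400ac6005ba100562002dd2802b08016e0c0158000b70000abe005b850055e002db2002ae8016d840157000b6c000ab6005b650055a002da2002ac8016d0c0156000b68600aae005b2200556002d92802aa8016c040155000b60000aa6005b0500552002d71802a88016b800154000b5c600a9e005aa20054e002d52002a68016a140153000b4c200a96005a650054a002d22802a480168900152000b44600a8e005a2000546002d1))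 (.leaf (nat_lit 0x10053000530080297c02684a014be014be000a5f00a5f0804b48052f880297802664a014bc014bc000a5e00a5e0804888052f0002974028e0a0146e014ba300a5d00a5d2004a38052e8802964029748014b8014b8300a5c00a5c10052e0052e00028c002970a01460014b6100a2a00a5b20052d8052d8c0296c0296c4014b6014b6500a5a00a5a18052d0052d0002968029682014b4014b4500a5900a5918052c8052c8002964029648014b2014b2200a0900a1b))) (.node (.leaf (nat_lit 0x1802c7802c78400be80163ca00b1c00b1c00058e0058e1002c7002c70c016340163440093600b1a10049c0058d2802c5002c50c016300163020095200b1840058a0058a1802c5802c58400bdc0162c000b1400b1420058a0058a1002c4002c4000162401624a00b1200b12400586005891802c4802c49000c0801620800b0e00b0e200527005870802c3001b98800bcc01618a00b0a00b0a00058500585180274002c28401614016142006e800b0850058300583)) (.leaf (nat_lit 0)))) (.node (.node (.leaf (nat_lit 0x1000c9800c994005f0005f00003000030030017e0017e10006e800bf0000374004e4a0037a001ba200167001bd080065000de94006e8006e84001b0001b04000d6000d60000dd800dd94006ec006ec200376003760001ba001ba0800dd000dd10006e0006e0600370003701000c3001b8080079000da14006c8006c8000364003641000f0001b22800d8800d88c003ec006c44001c4003620001b1001b12800d8000d800006c0006c040018e003604001ae001ae))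 (.leaf (nat_lit 0))) (.node (.leaf (nat_lit 0x8029a8041f8c014d0020f8000d020107c20068a0083e20039e8041e8c020f4020f4200f320107a0006ca0083d28041e0041e10015c8020f0200d140107800083c0083c1002980041e10020d401d2c00106a00d8a50070a008352802980038c1401db001db0800d7200ee20006d2007710803b68036a9401dc401cc8800eda00eda00076d00530180399003b694020ec01b4800107600e6440055b0083b08041d8041d94020e8020e86010740107400083a0083a)) (.leaf (nat_lit 0)))))) (.node (.node (.node (.node (.leaf (nat_lit 0x1001b2800dd0c00d90006e44006c600372500362001b80001b0800dc1400d80006dc6006be0036e20035e001b71801ae800da0800d70006d08006b60036440035a001b02801ac800d79000d60006bc2006ae0035e000356001af1801aa800d70c00d50006b48006a600356000352001ab1801a8800d28800d4000694a0069e0034640034e001a32001a6800d08400d30006840006960034240034a001a01801a4800d00800d200068020068e003405003460019f)) (.leaf (nat_lit 0x4ee804ee9402290027706013b8013b82009dc009dc000452804ee040277002770801138013b63009db009db1004ed804ed840276c0276c001386013b630099e009da100438004ed000263c027682010e2013b45007ca009d90004c4804ec840276402764a0131a013b00007de009d81804ce004ec040276002760a00f84013ae3009b9009d71004eb804eb80023700275ca0123a013ac4009d6009d60004a7004eb0c02758027582012e8013ac2009d5009d5)))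 (.node (.leaf (nat_lit 0x1002570025710012a8011204008920095a300467004ab2801438025588009f0012a84008c8009524002c5004a82002538025384009ec0129c600948009480004a6004a628025300253040129401294400946009465004a2004a21802510025100012880128820094200942200461004a1280250002500c0128001280000940009401004a0004a028013c8024f8c0127c0127c40093c0093c30049b0049b08024e8024e94009e001274a004f60093850049b0049b)) (.leaf (nat_lit 0)))) (.node (.node (.leaf (nat_lit 0x280034800360c001a8001a80000d6000d650006b0006b2000358003588000c4001aca000a4000d420006800068080017800341400198001980000cc000cc40004c00066100024800331400190001902000ca000ca00002c00065000032000321000164001904000ac000c850002a0005f28002f0002f000017800178a0005c000ba30005c0005c00002d8002e080016800168200050000b2000034000581800208002b84000d80015c20004e000ac10003500055)) (.leaf (nat_lit 0))) (.node (.leaf (nat_lit 0x1003cf803cf840133001e7ca00f3c00f3c20079e0079e0003cf003cf0401e7801e78a0093000f3a20079d0079d2803ce003ce0001e7001e70400b2600f3820079b005742802df003cd8c01e6c01e6c000af000f3610079b0079b280321003cd0801e6801e6860099600f322004b300798080316803cc1401e5c01e5c600d9400f2e00079700797080343803cb94016a4016a4800f0200f023005aa005aa0002d6002d60401e5401e54a009720097200079600796))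 (.leaf (nat_lit 0))))) (.node (.node (.node (.leaf (nat_lit 0x3b2802348801d900119c200ec6008ca000762004650803b0802321401d800118c000ebe008c620075e004622003ae802309401d7001178600eb6008ba20075a0045d2003ac8022d8001d600116ca00eae008b2400756004591003aa8022c0001d5001160800ea6008ac400752004551803a88022a8801d4001154a00e9e008a840074e004531803a6802290801d3001148000e960089e50074a0044d2003a4802268001d2001134800e8e008983007460044b)) (.leaf (nat_lit 0))) (.node (.leaf (nat_lit 0x18032200322080134001910400ba800c860003ed006430801b88032104019040164c800c8200c823006410064110024b00320800164801904200c8000b2250059200640200320003200c0190001900800c7e00c7e30063f0063f1001ec0031f8000f4c018fca00b9800c7c00063e005cf1802c38031f10016b4018f84006e000c7c5003d30063d20031e8031e8c018f4018f44007a000c7a00063c005b42801b88031e14018ec018ec000c7600c7610048e0063b)) (.leaf (nat_lit 0)))) (.node (.node (.leaf (nat_lit 0x100172801728000b9000af04005c8005c810015f002e4080171801719000b5800b58a005aa005aa1002e2002e2100171000b7100058400b846005c2005c22002a7002df1801330016f1000b7800b784002bc005bc2002dc002dc2001060016c80009b400b6480055e005b0100161002d718016b0016b040057000b546005a6005a65002d4002d400016a0016a0400b50009984002b0005a84002d2002d2080169001690000a2800b48a005a0005a03002d0002d0))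 (.leaf (nat_lit 0))) (.node (.leaf (nat_lit 0x8046800468100233c0233c60119e0119e1005e1008cf28046380467100233802338000dc40119c2008c2008ce180466804611001fc002334a0118a0119a0007eb008cd08046680466840233002330600e40011961008cb008cb280465004650c0232802328001194011944008c9008c90804648044c88022600232480119001190000680008c818035800463840231c0231c40118c0118c0007c2008c618034480441000231401a24800df20118a1005f1008c5)) (.leaf (nat_lit 0)))))))) (.node (.node (.node (.node (.node (.node (.leaf (nat_lit 0x100072800300000390001808001c6000bc4000e20005c0800708002e0c003800016c4001be000b61000de0005b20006e8002d0400370001680001b6000b45000da0005900006c8002c9000360001606001ae000b02000d60005808006a8002c14003500015c4001a6000ae0000d2000572800688002b0c003400015800019e000ac5000ce000552000668002a800033000154600196000a80000ca000542000648002984003200014c20018e000a45000c600051)) (.leaf (nat_lit 0x49b0049b0401a4c024d8a00d260126a3009350093500040d8049a84024d4024d4401268010744006900093418049a0049a04024d0024d0a0102801268500933009331004998049980024cc024cc200d1c012662006a200834200499003510001bc8024c8600d7801264100932009322803ee8049880024c401f7c400d0e01262500930009302004980049800024c0024c0600e28012601008f3009302804978049790024bc024bc00125e0125e3007170092f)))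 (.node (.leaf (nat_lit 0x800e9001ca900077800e50a003a40072830039400394280128001c99000e4c00e4c0003a00072400024a003912001c8801c8940088400e4000042a0072010036a003902001c6801b514009fc00e340005e60071a30038c0038c2000ee801c58c00e2c00e2c40039e0071630038a0038a18019f801c48800e2400e24a005ea0070e200387003872001c30015f940073000e1840057c0070c40035c0020220015e8015e8000af800af860057c0070a40038500385)) (.leaf (nat_lit 0)))) (.node (.node (.leaf (nat_lit 0x200472803040c02390018184011c600c0a0008e200605200470803020c02380018088011be00c002008de005fe18046e802fe8802370017f46011b600bec3008da005f428046c802f98802360017cc8011ae00be04008d6005ef08046a802f78802350017b88011a600bda3008d2005e8180468802f390023400179040119e00bc03008ce005df100466802ef80023300177480119600bb44008ca005d4180464802ea14023200174c40118e00ba24008c6005cf)) (.leaf (nat_lit 0))) (.node (.leaf (nat_lit 0x2002d2002d2040155401554a00aa800aa80004ba006872801f600311000189000fb0a00d0e0096e30057b0057b18025b803428000f3001a14c00d0a00d805003cc00684300361003420001b2401324a0098c00d925006c8006c8000364003641401b1c01b1c000d8e00d8e2003d4006c71802b2803630400f4c01b18400d8a00d8a50050c006c400030c003620001b0c016406007b600d862006c3006c3080361803619401b0400f50000d8200d183003cd006c1))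 (.leaf (nat_lit 0))))) (.node (.node (.node (.leaf (nat_lit 0x1002728014e000139000a70a009c6005360004e20029b2002708014c900138000a602009be005300004de0029820026e8014b8c0137000a5c6009b60052c5004da0029400026c80149940136000a444009ae005225004d60029008026a80148100135000a3c0009a60051e3004d20028e28026880146900134000a3060099e005182004ce0028c08026680146140133000a2ca00996005141004ca0028a280264801448c0132000a2440098e005120004c600289)) (.leaf (nat_lit 0x280521005210c029080290800148401484400a4200a421004c30052114029040290460148201482000a4100a41080520805209402440029006014800148000096600a402005200052014028fc028fc60147e0147e200a3f00a3f00051f8051f8402318028fc20147c012fc500a3e00a3e2004be8051f00028f8028f84013900147c5009d100a3d18051e8051e8002560028f44012c60147a200a3c00a3c08051e0051e1002820028ec40147601476100a3b00a3b))) (.node (.leaf (nat_lit 0x10016c002a88c015400154040091000aa0100550005500802a7802a79000b5c015382005c200a9c2005070054d080241002a68000b58015300005b400a9640054b0054b1801f3002a508015280152800099600a945004ca004ca08026580265940151c0151c600a9200a92400404005491001f2002a494013c4013c42009e6009e650037800548000229802a40c015200106c40090c00a90100547005470002a3802a38800b480151c600a8c00a8c2002d300546))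 (.leaf (nat_lit 0)))) (.node (.node (.leaf (nat_lit 0xb0800b08800580005802002ba002ba40015d0015d0000af800af80004c000560a002b00024640015800145280090800908c004f4004f4600112001126000890013e0800a0000a0040022c0022cc001160028650015e0015e08008f000ac0000578005786002bc0023c4000b40016008005a800b0080057c0057ca00284002ba40015b0015b1800ae000ae08002500056c000244002b210009500159080049800ab900055800480a001e4002ac50013500154)) (.leaf (nat_lit 0))) (.node (.leaf (nat_lit 0x33e8040d0c0206402064a00d56010320007cf0081908040c0040c00018680206080102e0102e2008170081708036b0040b94020580205800102c0102c30080d008161004038040b0c0201002050401028010280007ce008142803e8004098c0204c0204c000cbc0102620050900813280409004090c01da8020484010240102400081200812180408804088001c6c020444010200102020080f0080f2802cd804071401ad402034000a9a00ff80004f500507)) (.leaf (nat_lit 0)))))) (.node (.node (.node (.node (.leaf (nat_lit 0x180172800af9000b90005784005c6002ba5002e20015c100170800ae0000b8000570a005be002b61002de0015b00016e800ad9000b70005686005b6002b41002da0015a28016c800ac8c00b60005644005ae002b25002d60015720016a800ab8c00b500055c0005a6002ae3002d200156100168800ab1000b400055020059e002a80002ce00154200166800a98c00b300054c000596002a63002ca00152100164800a90000b200054880058e002a03002c600150))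 (.leaf (nat_lit 0x280482004de04024c4026f000120a01378200797009bc2804dd804dd88026ec026ec0013760137610076a009bb2804dd004dd0c026e8026e8001374013744009ba009ba1004c2804dd14026e0026e0800fb2013721009b9009b91004dc804dc8001d80026e4601370013700009b8009b82004dc004dc0801ebc026e0a0136e0136e2009b7009b70004db804db8401dc8026dc40136c0136c000845009b61804da804da80026d4026d420136a0136a5009b4009b4))) (.node (.leaf (nat_lit 0x180209802380400980011c060061e008de0002640046e18012f002370c011b0011882004b8008d82002580046b180234802348400b44011a46008d0008d040036f0046828012e802339001190011900008cc008cc50046600466180227002330801198011982008cc008cc4002490040930022800204900119400e204004aa008ca50040f0046420020a80231840118c0118c4008c6008c610046200462080230802309400f3c01184a008c0008c030046000460)) (.leaf (nat_lit 0)))) (.node (.node (.leaf (nat_lit 0xf8000f88000780007800003a0003a20001c0001c00000d8000d84000680006800003200032100018000182000050000b80000280004880000a000203000050000f1800020000708000140003440000800018200003000031800010000104000140002c2000080000840000100001080001800050400008000084000020000200000500005280000000000000010000240000060001000000200007000000800031400014000148000080000830000300003))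 (.leaf (nat_lit 0))) (.node (.leaf (nat_lit 0x3bc803bc8c01de401de42008f000ef220077800778180265003bc10013ac01de02008f400ef040056f0056f2802b7002b70c015b801ddc400eee00eee500737007771003bb003041401dd801dd8600eec00eec000776007760803bb003bb0801dd401440a00eea00eea300775007750003ba803ba8401dd401dd4a00ee800ee8300774007741002b8003ba0001dd001dd0200cb400ee8500773007730003b9803b98c016bc01dcc400ee400ee410077100771)) (.leaf (nat_lit 0))))) (.node (.node (.node (.leaf (nat_lit 0x180372801f88801b9000fc4000dc6007e23006e2003ee100370801f60001b8000fa8200dbe007cc5006de003e500036e801f29001b7000f8c200db6007c61006da003e128036c801f00001b6000f80600dae007be5006d6003dc00036a801ee0401b5000f6c200da6007b24006d2003d8080368801ec0c01b4000f5c000d9e007ae4006ce003d6180366801eb1401b3000f54600d96007aa4006ca003d4080364801ea1001b2000f4c600d8e007a62006c6003d2)) (.leaf (nat_lit 0x55b0055b0c02ad802ad820156c0156c500ab500ab520055a8055a8002ad402ad460156a0156a100ab500ab508055a005251402ad002ad080156801568000ab400ab410055a0055a0402acc02910a0156601566400ab300ab3000559805598802acc02acca0156401564400ab200ab208052c005590002ac802ac840156401564500ab100ab12005588055884029a002ac400156201562200ab100ab1080558005309402ac002ac080156001560000ab000ab0)))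 (.node (.leaf (nat_lit 0x18030c0030c1001860018604006e400c2e5003d80061728030b00307080185800f5c20069a00c2c5006140061400030a0030a0c00d3c01850200c2800c283006120061200030980309940184c0184c80078a00c2620061300613080309003090000cb0010e0c00bc6008704004360061118021800308880184401844a0069600c2230061000610100219003081400d4801840a00c1e00c1e20060f0060f000307803078400d280183c800c1c00c1c30060e0060e)) (.leaf (nat_lit 0)))) (.node (.node (.leaf (nat_lit 0x10009f801420400a1000a10a0035c00508500282002820001410014104004b800a08a0050200502000281002810000da0013f90006dc009fc8004fc004fc50027d0027d00013e8013e94004bc009f0a004f4004f400027a0027a08013c8013c94004b8009dc00035c004ee10027700277000124801248c0091400914a0048800488200276002761800b50013a08009d0009d00004e8004e81002740027420013980139800086c007746002900043620021c00148)) (.leaf (nat_lit 0))) (.node (.leaf (nat_lit 0x1804518045480022a4022a4801152011522005b2008a9080454004540c022a0022a04010f0011505007ee008a82003da804538c0209c0229c40114e0114e0005d7008a7080453003a4940175c0229860114c00c8c00051800646300323004149001730022986010520114c2008a6008a620044f8045288016b00229420114800f8c40089b008a41002d4804521001f200228c200ee6011462008a2007c8180451004510001c5002288200ed801144500714008a1))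 (.leaf (nat_lit 0))))))) (.node (.node (.node (.node (.node (.leaf (nat_lit 0x1000f28006f1400790003708003c6001b80001e2000dc2000f08006d88007800036c2003be001b63001de000da1800ee8006c8c00770003600003b6001b00001da000d71800ec8006b1000760003546003ae001aa2001d6000d50000ea8006a9000750003506003a6001a82001d2000d40800e88006a14007400034c00039e001a65001ce000d21000e6800690c0073000344a00396001a00001ca000d01800e480067900072000338a0038e0019a0001c6000cd)) (.leaf (nat_lit 0x2803ea004bc00025e002160800ebc012f010097800978100479004bc14025dc025dc6012ee012ee2007bb009770004bb804bb840202c025dca012ec012ec00097600976180385804bb04025d8025d88012e8012e8200975009751804ba804ba8401c10025d4a012e8012e8000974009741803e6804ba14025cc025cc8012e6012e6000973009731803e0004b98401cf0025cca012e4012e4400972009720004b9004b90401cfc025c8a012e2012e210097100971))) (.node (.leaf (nat_lit 0x20020000200080100801008a004b20080400033e0040208013280201000100000eb0a00756008002003fe003ab0801ff001ff0000afc00ff82007f8007f8200217003fc2801fc801fc8c00fe400fe40007f2007f21003f9003f92001fc001fc1400fa800fe0400654007f03003f70032a28010c801fb8000fb800fdc2007ee007ee3003f40037c1001be001fa9000fd400fd46007ec007ec5003f6003f60001fb001fb0400fd800fd80005e400426500212002f2))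 (.leaf (nat_lit 0)))) (.node (.node (.leaf (nat_lit 0x1004f2803f3840279001f982013c600fca3009e2007e31804f0803f10c0278001f808013be00fbe2009de007d71804ee803e8100277001f34a013b600f984009da007cb1004ec803e2080276001f0c8013ae00f6e2009d6007b32804ea803d7800275001ebc6013a600f582009d2007ac0804e8803d5140274001ea060139e00f4a3009ce0079f1804e6803ce0c0273001e6040139600f1e0009ca0078d2004e4803c40c0272001e1c00138e00f0e3009c600786)) (.leaf (nat_lit 0))) (.node (.leaf (nat_lit 0x38e0038e140159c01c6c400e3600e3640071a0071a10038d0038d1001c6401c64400e3200e3200046b0071820038c0038c0801c6001c60200e2e00e2e20068b0071628038a802dc10010b401c540008fe00e2a300715007150802120038a88012dc01c50200e2800e2810061c005ac2002d60030d8c0186c01c4c800dbe00e26400712004c51803800038914014c801c48a00e2200e2230071100711100318003888001c4401c44200c3400e2240071000710)) (.leaf (nat_lit 0))))) (.node (.node (.node (.leaf (nat_lit 0x802f280196800179000cb4000bc6006583005e20032b1002f080195840178000cac000bbe006544005de003291802ee80194800177000ca4600bb6006503005da003270802ec80193840176000c98800bae006485005d6003230802ea80191140175000c84600ba6006421005d2003212802e880190100174000c80a00b9e0063e4005ce0031f1802e68018f800173000c7c600b960063c1005ca0031e2802e48018e0c0172000c70200b8e006384005c60031b))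 (.leaf (nat_lit 0x2805330053e900279c029f46014fa014fa100a7d00a7d2004ff0053e14029f0029f02014f8014f8000a7c00a7c1005398053e100292c029eca014f6014f6100a7b00a7b00053d8053d880273c029eca014f4014f4300a7a00a7a00053d0053d10029e8029e8401444014f4200a7900a790804f48053c88029e0029e020137e014f0500a7700a7718053b8053b80029dc029dc2014ee014ee5009f200a25280513005130c0289c0289c00144e013e4400a2700a76))) (.node (.leaf (nat_lit 0x1002e5802e59000cd801728400b9400b9400031e005c91802e3802e38401720017208007f800b900005c8005c81002e4002e4080171c0171ca00b8c00b8c0005c6005c61002e2802e280014a000dcca006e600a5c4005160037308028b002c48800db801458600a2c00b5c2005c4005182802e2002e20c0145c01710000b8800b882005c3005c31802df801fe90016d801704800b5c00b801005c0005c020018e002df8c016f8016d84006e200b7c000385005bd)) (.leaf (nat_lit 0)))) (.node (.node (.leaf (nat_lit 0x800da800fb00007d8007d88003ea003ea5001f5001f50000fa800fa84003a0007d48003e6003e61001f3001f32000f8800f88800398007c4a001de003d82001ed001982000f6800f69000394007b06003d8003d8100180001ec2000f5800f594007a8007a88003d4003d40001ea001ea10007d800f514007a4007a40003d2003d21000e2001e90800f4000f4100079c0079c4001ec003ce5001e5001e50000f2800f2840037c00794a003c6002e00001e300164))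 (.leaf (nat_lit 0))) (.node (.leaf (nat_lit 0x802b200432100218c0218ca010c6010c60008630086318043180431840158c0218ca010c401006200862008620802b3004311402184021840010c2010c210086100861200430004300c0208402180a010a0010c020085f0085f0002b08042f940217802178800ac0010bc10085e0085e00042f0042f08017fc02178a00c9c010ba10085d0085d2803f60042e0c0187002170800c02010b850085b0085b00042d8042d880155c0216c2010b4010b430057500859)) (.leaf (nat_lit 0)))))) (.node (.node (.node (.node (.leaf (nat_lit 0x801f2801051400f90008246007c6004120003e2002091801f0801040800f8000820a007be0040c3003de002060001ee801031000f70008140007b6004081003da002022801ec801008000f60007fc2007ae003fa5003d6001fc0801ea800fe0c00f50007ec4007a6003f61003d2001fb2801e8800fd1400f40007e480079e003f23003ce001f90801e6800fc0c00f30007dc400796003e85003ca001f31001e4800f99000f20007c860078e003e41003c6001f2)) (.leaf (nat_lit 0x80425004ff8c027f8027f82013fc013fc2009fd0091f20043c804fe8c027f4027f42013fa013fa5009fc009fc200496004fe00027f0027f04013f8013f85009fb009fb1004fd804fd80027ec027ec201036013f65009fa009fa1004fd004fd00027e8027e8201028013f42009f9009f9080409004fc94027e0027e0801378013f00009f8009f81804a2804fc0402624027e0a0129e0129e4009500095020048a004fb8c02540027dc4013ee013ee100857009f7)))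 (.node (.leaf (nat_lit 0x1002730026c1001398013986009cc009cc4002a0004e508026a002729001390013906009c8009c84004e3004e3180271802718800e580138c00071c009c650038e004e21001c6002711001388013886009c4009c43004e1004e110026a002708000cd001384200538009c250036b0031200018a001b59000a8400c50a002c40053e3003140029f3001750014f940138000b946009c0009c02002d0004e02801ab8026f8c0137c0137c400724009bc50029d004de)) (.leaf (nat_lit 0)))) (.node (.node (.leaf (nat_lit 0x280028000598000200002d48001660009c4000be000be1800290005f14002f8002f800017c0017c3000bc000bc1800318005d8c001b4002e8600172001724000b8000b810005c0005c04002c0002e040009a0016e4000b6000b610005b0005b0c002d4002d440016a0016a3000b4000b41800360005988002cc002cc800162001623000b2000b21000590005904002c8002c8a00162001620000b1000b11000258005890002c0002c0400160001601000af000af)) (.leaf (nat_lit 0))) (.node (.leaf (nat_lit 0x1803a0803e18401f0c01f0c800cb600f841007c2007c22003df803df8401d5401eac400f5600ea600073a0079828031a003d39401e6001ce4a00f7c00f7c5004a5004b30003b80025998012cc01eb8400cb800f823007c10065b2803e0803e08001f0401f04200b4000f824007c0005a010025a003e00001bd001efc600f7c00f7c20062d007be0003df003df04012cc01ef8a00f7a00de84007bd007bd180344003de880189c01ef4a00f7800e883007bc007bc))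 (.leaf (nat_lit 0))))) (.node (.node (.node (.leaf (nat_lit 0x3f28026e8401f900136c200fc6009b44007e2004d91803f08026c8401f8001360a00fbe009a44007de004d20003ee802690c01f7001334400fb60099a3007da004cc1003ec802658801f6001324200fae009923007d6004c70003ea802638801f5001318a00fa6009862007d2004c32003e8802610401f4001300200f9e0097a2007ce004bc1003e68025d0801f30012e4a00f960096c4007ca004b60803e48025b0001f20012d8a00f8e0096a2007c6004b5)) (.leaf (nat_lit 0))) (.node (.leaf (nat_lit 0x2803108033714019b4019b4000cda00cda10056b0066d2002c90033604019b00131ca00cd800cd800066c0066c1001c78033610019ac0132820099000cd60003ef0066b2002b5803350400e38019a8400cd200cd2000668005362802578033408014e0019a000080a00cce4003a1006671001c880333840199801998800cca00cca30066500665280332003320801990015f8000cc800cc810038a0066420033180331880198c01944600cc600cc61003f500663)) (.leaf (nat_lit 0)))) (.node (.node (.leaf (nat_lit 0x20005c8008184002e4004146001f20031a1000b70018d080052800730c00298001b4c00400003884000a5000cb30007e800d618003b0006a8c0020600348600105001a23000cf000c6840013400298c001cc0031460018e0006d3000c58006598007f8002f08001460009a600225000b9180051800319000c580060c6001d6003066000ba000a63000e18005298006a400150c0009a0030a600063001843000d4000c1980069800118c0017600146600182001a7))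 (.leaf (nat_lit 0))) (.node (.leaf (nat_lit 0x20047a8047a88018ac023d4800ef4011e83008ac008f400042e0047a1402350023cc8011e6011e63008f3008f3200459004790c01ea4023c82011e4011e45008c0008f2280478804789002368023c42011e2011e20008f1008f1100368004788c023c0023c08011e0011e0200819008f0080397004781401cc4023c0a011de0111e0008ef00744180477804778801ba4023bc2011de011de4006b7008ee1004770047714023b4023b4800d54011da0008ed008ed)) (.leaf (nat_lit 0)))))))))
noncomputable def u5Ft0 : BT Nat := .node u5Ft00 u5Ft01
noncomputable def u5Ft10 : BT Nat := (.node (.node (.node (.node (.node (.node (.node (.leaf (nat_lit 0x1000228000b9400110000586000860002c200042000160800208000b14001000005440007e0002a10003e0001528001e8000a10000f0000504000760002800003a0001428001c8000988000e00004ca0006e000244000360001210001a8000914000d00004480006600022200032000111800188000808000c00004080005e0001e10002e0000f0000168000714000b0000300000560001830002a0000b2800148000508000a00002480004e0000e30002600007)) (.leaf (nat_lit 0x2803ec0048780023cc0243c600ea60121e10090f0090f28032d004870001ac00243820121c0121c50090d0090d00048680486880241802434201218012182008790090c1803df8048588023880242c000d2c0121640090a0090a18048500485040195002428600e94012121009090090928046b004840802084024202012100121040090700907180373004838401af40241c80120c0120c3006910090600033f00483100241402414600da40120a20090500905)))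 (.node (.leaf (nat_lit 0x1801a0001a00000cfc00cfc40067e0067e4001a50033e0800dc8019f040085000cf40004520067a20033d0033d08019e0019e0400cec00cec60067400674200339003392800cc8019b9400cd800cd80003300066a20033400334200199801999400c0000ccc0004560066600033200332180198001980000a4400cc040065e0065e10032e00226200111801970c0065c00cb880065a0065a10032c0032c20011980195940065400ca84006520065220032800328)) (.leaf (nat_lit 0)))) (.node (.node (.leaf (nat_lit 0x1804228029d1402110014e060108600a70300842005372804208029a9002100014cc40107e00a6210083e0053028041e802978c020f0014bc60107600a5c40083a0052d20041c8029608020e0014ac00106e00a563008360052a18041a8029410020d00149480106600a46500832005210804188029008020c00147c20105e00a3c30082e0051c2804168028d8c020b00146800105600a3210082a005180004148028c00020a00145ca0104e00a2a10082600515)) (.leaf (nat_lit 0))) (.node (.leaf (nat_lit 0x20034a0034a0401a50017cc000be000d282006930069328032f003490c01a4801a48400c3a00d242006590069108034880348880199801a40200d2000d205003ba003ba2001dd801dd88015f400ea4400d1e00cc200068f0068f280347803478c01a3c01a3c20075200d1e20068e0068e18034680346880186001a34a00d1800c903004c10068c0801f6003460c0167c01a2c400afe00a681005320057f1802bf803450401a2401a24000d1000bc220043800688))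 (.leaf (nat_lit 0))))) (.node (.node (.node (.leaf (nat_lit 0x20022280121040111000908a0088600482000442002412802208012010011000090020087e0047e40043e0023e08021e8011f14010f0008f42008760047a50043a0023c28021c8011d90010e0008ec60086e004760004360023b10021a8011d14010d0008e420086600472000432002392802188011c00010c0008e0a0085e0046e30042e002371002168011b80010b0008dc6008560046c10042a00236280214801198c010a0008cc20084e0046650042600232)) (.leaf (nat_lit 0x8050b8050b9402544028582013360135a50099a0099a2004cd804cd8c028580266c40142c0142c10084d00a1628050a8050a84028540285400142a0142a4008d500a1428050a0050a0002850028502011ac01428200a1000a0d20050680509940284c0284c20142601426000a1300a131004f08050994028380283880141e013cc100a0f00a0f1004da8050794026d4026d480136c0136c300a0800a08280502805028402818028184014240140c000a1200a12))) (.node (.leaf (nat_lit 0x2801640028d100146001460600a3200a325002ba005191001fb0028c840146401464800a2e007e82002ec0038a2801c50028b840145c0145c00056c00a2c4005150051500022a0028a8800bdc01454800a1e00a1e50050e0050e080288002880c01440014400009a200a200002c20050f1002870028700014380143820056600a1c50050a0050a18028580285800143401434a00a1a00a1a40050c0050c000158802858c0142401424200a1400a1400050a0050a))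 (.leaf (nat_lit 0)))) (.node (.node (.leaf (nat_lit 0x280066000780000338003c02001de001de2000af000ef280071000770c003b8003b84001dc001dc1000ee000ee080076800768800340003b42001ca001d60000e900089080075000461000224003a88001d0001d02000e9000e92800740003700001bc003a00000f6001ce3000e3000e30800560007180002c800388a0015c001c20000b0000e1280070000701000380003800001c0001c0200069000e018006f8003494003100037c000150001be1000d1000b6)) (.leaf (nat_lit 0))) (.node (.leaf (nat_lit 0x1003f2003f21401f8c01f8c000fc600fc62007e3007e32803f1003f10001f8801f882009e800fc45007e1007e10003f0803f08801f8401f84a00fc000fc00007e0007e0200280803f00c01f7c01f7c400b3800fbc5007de007271803ef003ef04015b401f78600fba00fba5007dc007872003c3003ee1401f6c01f6c800fa400fb60007db007db080267003ed9401f6801f68000fb400fb42007da007da2803ec803ec8001f6401f64200fb200fb24007d8007d8)) (.leaf (nat_lit 0)))))) (.node (.node (.node (.node (.leaf (nat_lit 0x280122800890c0091000448200486002245002420011108012080088800090000444a0047e0022030023e0011000011e800880c008f00043c4004760021e10023a0010f18011c8008708008e00043880046e0021a5002360010b18011a8008588008d00042c000466002164002320010a0801188008514008c00042460045e0021220022e001090001168008494008b0004208004560020e30022a001071801148008288008a00041400044e0020a40022600104))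 (.leaf (nat_lit 0x1803b8004c9140264402644201322013220009910099110039a804c8900224002640a0132001320100990009900004c8004c80801fc00264060131e0131e20098f0098f0804c7804c790026380263820131c010b050098e0098e0004c7004c70801ca00263880131a0110030098d0098d0804c68045988022d802634a00f1a013183008730098c0004ba804c604023d002630a0116a013160007290098b20048f004c59401e14026286013140131420098a0098a))) (.node (.leaf (nat_lit 0x300124001f814010940092080046a0084a1004250042510012300212880108c0108ca0084800848000424004241802120012308008e400d106006880047040023800424200211802118c010880108840084400844100422004220001cd802110c01084010842004640084250039b0042018021000210080108001080200840008401003500041e20020e8020e8401074010740008200083a50041c0041c1801208020e00010700107080079a0083850024e0041a)) (.leaf (nat_lit 0)))) (.node (.node (.leaf (nat_lit 0x8052280469140291002344001486011a2100a42008ce2005208046604029000232080147e01188300a3e008c308051e8046094028f0022f80014760117c400a3a008bc20051c8045d94028e0022e800146e01174300a36008af18051a8045704028d0022ac2014660114e000a32008a4200518804470c028c00223060145e01116300a2e00889180516804440c028b00221c6014560110c300a2a008852005148043e14028a0021b4a0144e010d2300a2600869))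 (.leaf (nat_lit 0))) (.node (.leaf (nat_lit 0x28034e0039f8800f9401a782007c600d3c6006db0069e180249003a01001cfc01cfc400e8000e800004ad007400802bd003a00001b9001cfc600e7e00e7e50073e0073e00039f0039f0401a6c01cf8a00e7800d5040073c0073c0003550039e0c012c401cf0200e7600e7600071e0073b20039d0039d0c01ce801ce840093e00e724007390073918039c8039c8401ce001ce0000dcc00e70300737007370002270039b84010f801cdca00e6c00e6c00073600736)) (.leaf (nat_lit 0))))) (.node (.node (.node (.leaf (nat_lit 0x180322801b9900191000dc8a00c86006e040064200370280320801b7000190000db8a00c7e006da10063e0036d00031e801b68c018f000db0400c76006d820063a0036a20031c801b484018e000da4a00c6e006d02006360036800031a801b410018d000d9c200c66006ce40063200364080318801b210018c000d8c600c5e006c640062e00360200316801af0c018b000d78200c56006ba00062a0035d280314801ae0c018a000d70000c4e006b80006260035b)) (.leaf (nat_lit 0x10054980549940276802a4860152401524200a9200a920004ef805490402a4802a4860152201522000a7800a91080548805489002a4002a4020152001514500a9000a90000548005480802a4002a40a014f20151e300a8f00a8f080547805479002a3802a3820151c01518500a8e00a8e000547005470802a3802a3880151a0151a300a8d00a8d1005468054680029cc02a34a014e601518400a8c00a8c180546005460802a3002a3080141201516500a8b00a8b)))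 (.node (.leaf (nat_lit 0x80208802f3140136401798200bc800bc80005e5005e52802f2802f28c0179401794800bca00bca1005e2005e22002f0802f08c0178001780a00bc000bc00005e0005e0200213802f010016540177c200bbe00bbe50032b005df2002ee802ee8c0177801778a00bbc00bbc0005de005de080195002ef080177401774800bb800bb8100418005dc280215002ee100176c0176c200b1c00bb62005db005db1802ec802ec840176801768a008ca00bb4200475005da)) (.leaf (nat_lit 0)))) (.node (.node (.leaf (nat_lit 0x30006d8003998004240078420045a002784001390022d1800db001160c008ac008ac20021600456400229002290800c600113940043c0089c00030a0044a1001050022508011200112140088c004fc0002680044610010400223200111000c10800888004cca0035a004445002200022000011000110080088000880a0025a0043e20021f0021f20010f0010f0400874008748004380043810021b0021b08010d0010d0400834008640001fa0043010021700217)) (.leaf (nat_lit 0))) (.node (.leaf (nat_lit 0x18043e8043e8401c3c021f4a00b66010fa50087c0087c08043e0043e00021f0021f0a010f6010f64006e40087b08043d8043d80021ec021ec400bae010f640087a0059810043d0043d0401620021e8000b22010f41008790087900043c8043c9001948021e06010f0010f0100878008780002df0043c1001e4c020386010ee00c764008770087710031e0043b80015d8021dca010ec010ec3008760076710041d8043b00021d8021d82010ec010ec50087500875))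 (.leaf (nat_lit 0))))))) (.node (.node (.node (.node (.node (.leaf (nat_lit 0xa28004610005100022c200286001160001420008b2000a0800450c005000022800027e0011430013e0008910009e8004490004f0002206002760011020013a0008808009c8004414004e00021c00026e0010e4001360008618009a8004308004d000218a002660010a400132000851800988004290004c00021060025e0010820012e000840800968004214004b00020c4002560010650012a000822800948004090004a00020460024e0010200012600081)) (.leaf (nat_lit 0x804a7804a7940253801d088012920129c10094e0094e10039c004a70c0253402364a0129a0129a20094d0094d0004a6804a68401b1402534a012980129810094c0094c0004a6004a6080233002530a012960129630094b0094b0004a5804a5900252c0252c4011760129650094a0094a1804a5004a5000252802528801294012942008bc0094a2804a4804a4800252402524600fd20129210094900949280379004a41001e4802520600dde0129010094800948))) (.node (.leaf (nat_lit 0x28011a0011a0400ed800ed8a004060076c3002c8002c8000165001650c00b2400ec8a00768007681003b4002cc100167801da0800b2800ec84003d60075e6003b3003af1801da801da80007b400ed400076800768000328003b22001d9001d91000ec400ec440042a007621003af002ca180167801d78400eb800eb86006700075a1003ac003ac0801d5801d58800ea800d4860068200754000350003aa1800f3801d4080083800ea040074e0069e500350003a7))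 (.leaf (nat_lit 0)))) (.node (.node (.leaf (nat_lit 0x4a28035a800251001ad0a0128600d64000942006b21804a080352900250001a8ca0127e00d4040093e0069e28049e8034e84024f001a7400127600d3850093a0069b20049c8034c0c024e001a4c00126e00d264009360069220049a8034880024d001a3880126600d1a200932006891804988034308024c001a1440125e00d0850092e00682180496803410c024b0019fc60125600cf830092a0067b2804948033c8c024a0019e480124e00cf000092600678)) (.leaf (nat_lit 0))) (.node (.leaf (nat_lit 0x803650020080012b801910a0080200dda4003fb006ed08026f003768001b6801bb4400ce600dda300673006ec200376003761401b8001bac600dd400dd41006ea006ea200279803748c01ba401ba4200dd200dd22006e8006e8000316803741401b9c01b9c6008e200dce0006e7006e71002ac003738c01b3801b90400dca00d9c4003f3006e5080372003720401b8801b884007de00dc40006e10065d200330803708c0140c01b84200d9a00dc24006e0006e0)) (.leaf (nat_lit 0))))) (.node (.node (.node (.leaf (nat_lit 0x2002a280167800151000b3c400a860059c100542002ce2802a080166800150000b34a00a7e0059800053e002cc20029e801658c014f000b2c800a760059450053a002c920029c8016480014e000b24800a6e00590200536002c810029a8016384014d000b18000a660058c300532002c5200298801620c014c000b10400a5e0058800052e002c41802968016188014b000b0c200a560058640052a002c21002948016104014a000b08000a4e00580300526002bf))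 (.leaf (nat_lit 0x2805048052c00029600282c8014b0014b0200a5800a5828052b8052b90025740295c0014ae014ae300a5700a5708052b8052b9402958029586014ac014ac000a5600a5620052b0052b08029140295880142a0140c400a0c00a5528052a8052a840271c029540014aa014aa2009d000a550005078052a1402834029508014a8014a8100a2d00a5410052a0052a140294c0294c8012c8014a6100a5300a5300052980529880294c0294c6014a4014a450099800a52))) (.node (.leaf (nat_lit 0x2002c1802c1800160c0160c2005e400b0630030900582180178002c0080160001600a005fa00afc40057e0057e000176002be8000bec015f0800af800af830057a0057a1002bd002bd1001434015d8600aec00aec000575005752002ba802ba8800ba4015d4200ae800ae830057400574180174002b91000ba4015c4400ae200ae2300570005701802b7802508801410015bc00092e00ade20056e0056e0002b7002b704015b8015b8a00ad400ad430056b0056b)) (.leaf (nat_lit 0)))) (.node (.node (.leaf (nat_lit 0x8005f000d70400480006b4600356003565001a8001a81000d4800d480006a0006a06001d6003501000bb001a600005e000d28c0068c0068c400342003423000f90019e10005d000cf08006700067080017a0033620019b0019b1800cd000cd10006680066840016800334200199001991000cb000cb04006540065440032800328100192001922800c8800c88000644006448001bc003222000f7001910000c8000b614005d0006406003200032040019000190))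 (.leaf (nat_lit 0))) (.node (.leaf (nat_lit 0x8041d0041d0c020e401ec4401072010720006e50083928041c0041c00020e0020e06010700107010052c0083810041b8041b9001e70020dc200f3a0106e5007a30083720041b0041b08020d8020d820106a0106a3008340083408041a0041a0c0205c020cc00106600fec50081a00833100419804198c020c801f64400f32010640005230083220035b0041888020c4020c4a01060010604006a800830000418004180c020c0020c02010600106050082f0082f)) (.leaf (nat_lit 0)))))) (.node (.node (.node (.node (.leaf (nat_lit 0x1a2800cf9400d10006748006860033a1003420019d2801a0800ce1000d000067020067e0033850033e0019b18019e800cd9400cf0006680006760033440033a0019908019c800cc8000ce00066460066e003301003360019828019a800cb9000cd00065c4006660032e10033200197280198800cb1000cc00065820065e0032c00032e00196180196800ca8800cb0006540006560032a40032a00194080194800ca0400ca00064ca0064e0032430032600192)) (.leaf (nat_lit 0x804ea804ea800261402754a0130a013a82009d4009d40804ea004ea10024ac0274c2013a6013a6500961009d20004e9004e0100274802748200f5a013a44007af009d11004e8804e8900274002740601088013a01009a9009d02004b8804e7840273c0273ca013900139c4009ce009ce0803fa004e700026f40273840139c0139c400991009cd0804e6804e6880223802734a013980139840090f009cc0804e6004e6000273002730400f84013985008e1009cb)))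 (.node (.leaf (nat_lit 0x24d8024d900126c0126ca009320093210049a0049a10020e8024d00009d401268600932009320004990049920024c8024c88011640126420090c00930100497004971001aa0024b8c0125801258a0092800928100495004950001bc8024a8c01250012500009280092840037a004941001458024a100124c0124c40092600926100493004930001ad002499400d68012488009240092420049200492080249002490400d58012444008ac0092230045600490)) (.leaf (nat_lit 0)))) (.node (.node (.leaf (nat_lit 0x1000118002a880015000150a0005a000a64000510005110001700028880013c0013c0000720009c1000300004c0800250002504000800012440005400090100047000470000220002310001140011460008a0008a10001d000450000218002180000f00010480007c0008230003b0003f1800120001f08000f0000f020005a0007840003b0003b08001c0001d94000e0000e0400072000724000380003800001c0001c0c000a0000e0a0006a0006a20003700037)) (.leaf (nat_lit 0))) (.node (.leaf (nat_lit 0x20025d0025d1001e5801a1ca00f2c00f2c300785007962003ca803ca8c01c1001e54400f2a00f2a50067000795100364003ca1401e4c01e4c000f2600f2620048f007931803c9003c90801a9001e48200f2400f245005af00792280247803c89001e4401e44200f2200f22000670007911003c8803c88001e4001678600f2000f20500581007902003a0803c80801e4001e40a00f1c00e060007030078f1803c7803210401e3c01604800b0000f1e20078e00744))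 (.leaf (nat_lit 0))))) (.node (.node (.node (.leaf (nat_lit 0x3a2802250c01d1001124600e860088c200742004430803a0802219001d0001108400e7e0088420073e0044128039e802200801cf001100600e760087e50073a0043e00039c8021f1401ce0010f4800e6e0087a4007360043c18039a8021d9001cd0010e8200e6600874400732004390803988021c9001cc0010dc200e5e0086c50072e004352003968021a8001cb0010d4800e560086410072a00432080394802180c01ca0010bc400e4e0085e5007260042e)) (.leaf (nat_lit 0))) (.node (.leaf (nat_lit 0x28031d0031d00018e8018e8400c7200c725004710063818031c0031c0801490018e0400bd000c6e1006370063710031a802fb00016e8018d8a00c6c00b721005eb0063608031a8031a88018d0018d0600c6600c6600045e00633100257803198400fa4018c8a00c62007de400631003e91801f68031890018bc018bc600c6000c6000042b0062f1001b2003179400da8018b8400c5c00c5c00036c0062e0802d5003170c018b4018b4800c5800c585005660062c)) (.leaf (nat_lit 0)))) (.node (.node (.leaf (nat_lit 0x280149001670800b3400b344002a80059850015a002cb0800a9801649400b1c00b1c00058e0058e4002c3002c300014600161840072800b0400058200582200243002c1200160001600400b0000b002004160057e50026a002bc20015e0015e0400af000af0200298005765001de002b92800a60015c140054800adc20056c0056c1002b5002b50000a50015a0800acc00acc6005640056400014e002b2200158801589400abc00abc00055e0055e1001ee002ae))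 (.leaf (nat_lit 0))) (.node (.leaf (nat_lit 0x1002f8004628c0231001770400d5601188200787008c30804618046180022d00230c600e96011822006ee008c110042d0033f9401bd4021688010ae00dea3008c0008661003648046000017b802300200d8e011804006f4008bf28045f8045f80022fc022fc60117e0117e3008be008be0802e30045f10022f4022f4601178011780008bd008bd28045e8045e8401774022f440117a0117a100882008bc28045c8045c8c022ec022ec201106011762008ba0082a)) (.leaf (nat_lit 0)))))))) (.node (.node (.node (.node (.node (.node (.leaf (nat_lit 0x62800288c0031000140400186000a04000c20004f1800608002780003000013c60017e0009c2000be0004e08005e8002714002f0001348001760009a1000ba0004d00005c8002694002e00013060016e000980000b60004c20005a8002584002d00012c000166000964000b20004a1800588002514002c00012460015e000920000ae000492800568002410002b000120000156000905000aa000471800548002388002a00011c00014e0008e4000a600046)) (.leaf (nat_lit 0x803ea004978c024b8024b820101c0125c0008a00092e2804968049690024b4024b42010460125a00092d0092d100341804969401ad0024b0000dd80125850092b0092b0804958049580024ac024ac4010ba012564006a40092a2804950049504024a8024a8001254012542007710092a200494804048c024a4024a440107a012521008320092900033d8049494024a0024a080115001250100928009280004940049408020d4024a0a0124e0124e30092700927)))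 (.node (.leaf (nat_lit 0x100101001ad9400d6c00e14a007080070800038400384180161001611400b0400b04200706007060001cb0038300013b001c10000a3400acc80056a0051a200271002b5100175801c08c00e0400e040004e20070200028b003801001c0001c01000dfc00dfc800572006fc10037e0037e2800e4001be140091c00dec4006f6006f60002430037a1001bd001bd100086c00de0000496006f030024e003780801bc001bc1400ddc00ddc0006ee006ee3001ff00377)) (.leaf (nat_lit 0)))) (.node (.node (.leaf (nat_lit 0x180462802e784023100173ca0118600b9c5008c2005cd000460802e690023000172440117e00b924008be005c518045e802e280022f001714a0117600b864008ba005c318045c802e188022e00170820116e00b841008b6005c100045a802e094022d00170060116600b805008b2005bf200458802de88022c0016f020115e00b741008ae005b9200456802dc04022b0016d0a0115600b620008aa005b1080454802d800022a0016c0a0114e00b5c0008a6005ae)) (.leaf (nat_lit 0))) (.node (.leaf (nat_lit 0x200233803608801b0401b0460096e00d804006bf006bf2802f20035f800100401af8800d7a00d7a5006bb006bb20035e0035e000149801af0600d3e00d762006bb006bb00035d8035d8401aec01aec200d7400d745003db006ba08035c8035c94010e001ae4a00d7000d703006b8006b810035c0035c0001ae001ae020079000d705005c5006b718035b8035b880179401adc600d6c00d6c0005c3006b610032b0035b0c01ad401ad4800d6800d6810062f006b4))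 (.leaf (nat_lit 0))))) (.node (.node (.node (.leaf (nat_lit 0x28026280144100131000a20000986005102004c20028708026080143940130000a1480097e0050a1004be0028500025e8014290012f000a10600976005085004ba0028320025c8014184012e000a0c00096e005063004b60028220025a8014084012d000a04800966005003004b2002801002588013f8c012c0009f820095e004fc3004ae0027d2002568013e04012b0009f0000956004f83004aa0027b0002548013d8c012a0009e840094e004f43004a600279)) (.leaf (nat_lit 0x5040051d14028e80281c4014740147410090000a3a10051c8051c84024e0028e440147001470100a3800a382005038051b88028dc028dc20146e0146e500a3600a3608051b0051b00028d8028d84011b40146c20092700a042005020051a94028d4028d420146a0146a000a3500a351004688051a8c023a4028d000142c01468400a3400a341004750051a14028cc028cc60146601466000a3300a332004748051988028cc028cc8013d601464300a3200a32))) (.node (.leaf (nat_lit 0x1802a2801e48800ef0015142005a000a8a5004f6004f618027b8027b9001510013dc400a8800a8850032e00544280250802a180012740150ca00a0200a84300542005422002a1002a10c0139401504400a82005fe4002e2005410802a0802a08c0150000da080064600a801005400054018016f8029f8801358014fc200a7e00a7e20053e0049d2001d18029f0c01270014f8200a7c00a7c200418003ad10029e801800000c8c014f4600a7a00a7a1002fe0053d))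 (.leaf (nat_lit 0)))) (.node (.node (.leaf (nat_lit 0x280049800a980002440054060026400264400131001310800a78009410004000053c0002620029e40014e0014e0000a68007b04003cc00534600298002980000f20014b2000a58007994002480052c200120002921000e400145100045800a004004fc004fca0027a0027a00013d0013d0800450009e9400230004f0a002740027400013a0013a2800640009c84004e0004e080026e0026e3000d20013708009b8009b94004c8004c88002660026600013600136)) (.leaf (nat_lit 0))) (.node (.leaf (nat_lit 0x300283803ff0c01acc0141c80101a00d660007d10080d080406804068c01b3002030801018010182005000080c1004058039e94019540202ca00ad20101450080900809000404804048c02020015a4400ad4010101007cb00808200403802a88c013fc0201c200fba0100e500806008061004030040300020180201820100c0100c500762008050002ed004028801c4802014a010080100820080400804000402004020c0200c0200c2009f2010060006dc00802)) (.leaf (nat_lit 0)))))) (.node (.node (.node (.node (.leaf (nat_lit 0x100162800a80400b1000540a005860029e5002c20014e180160800a70c00b000053440057e0029a4002be0014c00015e800a60c00af00052c400576002964002ba0014a18015c800a50800ae00052820056e002945002b60014900015a800a49400ad000520800566002901002b200148280158800a30000ac00051860055e0028a2002ae00145100156800a10400ab000508a00556002823002aa00141100154800a08000aa000504a0054e002804002a600140))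 (.leaf (nat_lit 0x804da004da00026d0026d0400eb6013685009b2009b21804d9804d9900222c026cc20136601366000887009b32004d9004d90402390026c8001364013642009b2009b21804d8804d894026c40221c80110c013621009b1009b11004d3004d800026c00221880135e0135e3009b0009b0280442804d80402454026c0a0135e0135e0009af009af1004d7804d780026b80222c80135a0135a3009ae009ae280444804d7040236c026b8a0135a0135a0009ad009ad))) (.node (.leaf (nat_lit 0x100230002300001180011802004a6008c050045f0032800022f80213900117c0117c200666008be2003320045f18022f001991001178011782004a2008bc40045d0045d0801f20022e90009840105c8004bc008884002420011b30008d8022298009080097c8004aa0086850045c0045c1801a18022e0801170011700008b8008b85002f90045b18022d8022d940116801168600566008b420045a0045a00022d0022d0c01164011640005ec008b24002c6002c6)) (.leaf (nat_lit 0)))) (.node (.node (.leaf (nat_lit 0x1000010000104000040000400000000000100ac200aa10805608054e0802b0002a6840157e01530100abe00a9410055e805488802af002a3c601576014f2300aba00a7818055c8053b0c02ae0029d040156e014b4200ab600a5010055a805278c02ad0028f060156601476300ab200a3a1805588051c8c02ac0028e060155e0146e200aae00a27100556805128802ab0028804015560143e500aaa00a1e0005548050f0402aa00286860154e01430200aa600a08))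 (.leaf (nat_lit 0))) (.node (.leaf (nat_lit 0x803b8003b80c011a801d74c00eba00ed23007180070a200238003b78c01d7801dbc2008ec00ede30075f0076e1003b6803b68c01d5001db0000ed800ed81006f40076b1003b58036500011b401dac400ed400ed430076800768000238803b41001d9c01d9c400a5c00ece100536007672003b2803b29401d9801d98000ecc00ecc200498007660802a4003b308011a801d94a00a6600ec840076400764000296803b20c0182401d90200e4800ec850076300763)) (.leaf (nat_lit 0))))) (.node (.node (.node (.leaf (nat_lit 0x200362801e80401b1000f40800d860079c5006c2003cc080360801e60001b0000f30000d7e007963006be003ca10035e801e51401af000f24800d76007920006ba003c800035c801e39001ae000f18200d6e0078a1006b6003c420035a801e18c01ad000f0ca00d66007843006b2003c2200358801e00801ac000efca00d5e0077c5006ae003bd200356801de9401ab000ef0200d56007765006aa003b9080354801dc8001aa000ee4800d4e0076c3006a6003b6)) (.leaf (nat_lit 0x100558005580402abc02970a0155e0155e400aaf00aaf000557805578802abc02abca0155c0155c400aae00aae000557005570c02ab802ab820155c0155c500aad00aad200556805568002ab402ab460155a0155a100aad00aad280556005561002ab002ab000155801558300aac00aac080556005561402aac02aac80155601556000aab00aab180555805558402aac02aac80144a01554200aaa00aaa08055500555000289002aa8a0144801552400a1f00aa9)))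 (.node (.leaf (nat_lit 0x801a40030710018340183420099e00c1a50034a0060c180306003060800fe401830200c1800c1840060b0060b1002e3003058c011280182840087c00c14300500006070803038026980018240133ca009a600c122004330060920030380303940181801818200c1000c103006080060800026d00304080181801818000c0c00c0c1003430060628022780302840181401814a00c0800c08000604006041801a900302040181001810600c06006ea50060200408)) (.leaf (nat_lit 0)))) (.node (.node (.leaf (nat_lit 0x958010e0c00714009cc40049c004e6100269002721000d68013900004a4009c82004e2004e20001c500270200138000e308004c4009c08003ca004de2002110026f2000960013704006dc009b8a00260004dc4001fb0026d200135801358400490009ac600246004d420026a0026a2801348013480009a4009a46004d2004d24002640026408013200132100098c0098c20023e004c640012d00262080098001311000968009680004b8004b850026100261)) (.leaf (nat_lit 0))) (.node (.leaf (nat_lit 0x180450804508801f740228420102c0114220061b008a008030c8045014016980227c000e2c0113e30089f0089f0802f68044f900186402278400bda0113c3005ec0089e28044f0044f00022780227860113a010fe2005b50089d0802db0044e8c0227001e00400f020113810089c0089c0002d10044e14020f80226c000b460113630089b0089b08032e0044d8c01de80191c60113400e4c00089a007d720044c8044c880226802268a00e50011341006480089a))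 (.leaf (nat_lit 0))))))) (.node (.node (.node (.node (.node (.leaf (nat_lit 0x2000e28006614007100032c800386001960001c2000cb2000e0800650c007000032840037e001944001be000c80000de800640c006f00031c8003760018c4001ba000c52800dc8006108006e00030800036e001845001b6000c10000da8006090006d000300600366001802001b2000c02000d88005f84006c0002fc60035e0017a2001ae000bd0000d68005e90006b0002f0400356001781001aa000bc2800d48005d88006a0002ec00034e001764001a6000ba)) (.leaf (nat_lit 0x4b8804b88c025c002440a012e0012e0200970009700004b8004b8040213c025c0a012de012de10096f0096f0004b7804b78802144025bca012dc012b60008cf0096e08044a804b708025b8025b880112c012da30096d0096d10042b004b68002420025b4a012d8012d84008100096c0004b6004b6080250c025b0a012d6012d640080f0096b0004b5804b58c025a80203ca00f52012d420096a0096a0003d5804b50c02558024488012d0012d010096800905))) (.node (.leaf (nat_lit 0x28015f801fa000085800fd02007e8007e8300382003f20801f8801f88c00e2000fc08007de007de1003ef003ef0801cf801f70800f0c00fb4600558007d8300322003ea1001e3801f50400cdc00fa8a007d2007d20003e9003e91001f4801f49400bb800fa000073c007d040030c003e81001f4001f40c00f9c00ee0400782007ce100386003e71001f3001f31400f8c00f8c6007c8007c84003e4003e41801f1001f10000f8c00f8c400414007c64003e2003e2))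 (.leaf (nat_lit 0)))) (.node (.node (.leaf (nat_lit 0x804e2803c3080271001e14a0138600f045009c20077e1004e0803bf040270001ddc60137e00ee45009be0076f1004de803b60c026f001dac80137600ed01009ba007602804dc803af84026e001d7c80136e00eb85009b60075b2004da803ad8c026d001d68a0136600eb23009b2007590004d8803ac90026c001d6060135e00eb04009ae007571804d6803ab94026b001d5860135600eac0009aa007562804d4803aa8c026a001d4840134e00ea41009a60074f)) (.leaf (nat_lit 0))) (.node (.leaf (nat_lit 0x280216802ce0401408010c4600df400a025004730071000023a80388080107c01c40a00be400c9a3005f20049a100387802f9100188001c3ca0083e00e1e0005320070f000387003599401a9c01c38400e1c00e1c0003f10043d30021e803718c010f401c34800e1a00e1a20041c0070d28030c00386000143001c30800df400e1820043f0070c08028580385800105801c2c000e1000e1040070700707100385003850c01c2401c2440087200e121005ce00708)) (.leaf (nat_lit 0))))) (.node (.node (.node (.leaf (nat_lit 0x802e28018d900171000c68200b86006345005c2003191802e08018c880170000c64000b7e006324005be003180802de8018c14016f000c5c200b760062e5005ba003160002dc8018b0c016e000c54200b6e006282005b6003120802da8018914016d000c44800b66006221005b2003112002d8801880c016c000c40400b5e0061e2005ae0030e0802d6801868c016b000c30400b56006185005aa0030a1802d48018508016a000c28800b4e006122005a600309))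 (.leaf (nat_lit 0x10053b0053b04029d8029d8001444014ec500a7500a7520053a8053a80029d4029d46014ea014ea10098100a7528050f804fc88029d0029d0a014e8014440009f900a202005100053a04029d0029d06014bc014e6100a7300a73280539005390c029c8029c80014e4014e4400a7200a7210053280539100298c029c4a014e2014e2000a7100a71180538805388402570029c40013de014e0500a70009ee1005380050e8c029c0029c02012b2014e0300a5f00a6f))) (.node (.leaf (nat_lit 0x1802de802de88016b4016f4800b7800b78300372005bc0802de002de0000f34016f0a00b7600b7630059d005bb0002dd802dd9001040016ec400b7600b764005ba005ba1802dd002dd10016e4016e4600b7200b72200330005b90802dc002dc0800e94016e0600b6e00b3c5005b7005b70002db802db90013bc016dca00b6c00b6c0005b6005b61802da802c094016d4016d4000b6a00b6a400584005b51802b9802da08016cc016cc0008d000b664005b0005b0)) (.leaf (nat_lit 0)))) (.node (.node (.leaf (nat_lit 0x8006e800f184006cc007886001d0003c00001df001b31800da800ef8800778007784003ba003ba3001db001db0000ee000ee1400770007704003b8003b840010f001db28007d000ed8c0043000768a001b6003b40001d9001d910006b800ec8800760007602001b0003b05001d7001d72000eb000eb1400758007580003ac003ac1000d6001d61000ea800ea840041800754a001ce003aa0001d4000fa2000e9800e98c0075000750a001b0003a81000fc001d4))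 (.leaf (nat_lit 0))) (.node (.leaf (nat_lit 0x2003ee8042c8801550021648010b0010b0300858008581003110042c0c01fec017b8400ff600e6c3008100085710042b8042b8001fec0215c8010ac010ac3008560085600041f8042b140215402154800a9e010aa1008550085500042a8042a8801acc02154200dcc010a85008540085400042a0042a0801abc021506010a400d7a2006be0085218042980357840214c01af8a00f12010a64005b4008530003cc804299001758021482010a2010a200074300851)) (.leaf (nat_lit 0)))))) (.node (.node (.node (.node (.leaf (nat_lit 0x2801e2800f88000f10007c4a00786003e04003c2001f01801e0800f80400f00007c0a0077e003de4003be001ef0801de800f78000ef0007bca00776003dc4003ba001ee1801dc800f70000ee0007b820076e003da0003b6001ec2801da800f58c00ed0007ac400766003d61003b2001eb0801d8800f50c00ec0007a4a0075e003d04003ae001e80001d6800f41400eb00079c000756003ce5003aa001e62001d4800f30400ea00079800074e003cc3003a6001e5)) (.leaf (nat_lit 0x20041c004fb04026bc0265460132a013ec2009f6009f608041c804fb14021b0027d4001128013ea4009f5009f5100405004fa90027d0027d060112c013e82009f4009f4080482004fa0002020027d0a013e6013e63009f3009f30004f9804f9900242c027cc4012f8013e62009f2009f2080402004f9100264c027c42013e2013e20009f0009c528049c804f810027c0027c0201004013e02009ef009ef0804f7804f788027b8027b82013dc013dc5009ed009ed)))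 (.node (.leaf (nat_lit 0x1801668026e8801374013742009ba009ba4002cc004dc2801cb0026e000137000e50400530009b850038f004db10026d8026d8801368013684009b2009b21002a8004d92001558026c0c01360013608005280068a2002910034530026b801a28000d0c00a50800528009ae3002a7004d608026b0026b0000c9c01358a009aa009aa3004d5004d500026a8026a9000ca001354400526009aa3004d4004d400026a0026a100134c0134c600524009a6200419004d3)) (.leaf (nat_lit 0)))) (.node (.node (.leaf (nat_lit 0x2000570005708002b8002b860015a0015a1000ad000ad00003a0005684001800018c2000bc0009030007b0007b08003e0003e0c0014400178a000ce000c250002a0002e1800148001704000a8000a4c0005c000be600029000623000150002e88002ac001bca000e8001561000ab000ab1800558005588002a8001a88000b6001543000aa000aa00002500055080029c00170a000940014e3000a7000a70000548005494002a4002a480015200152200053000a9)) (.leaf (nat_lit 0))) (.node (.leaf (nat_lit 0x100350003de0401ef001ef00009d400f3440079a007b22003cc803dd8c01eec01eec200e7a00f76000784007bb2803dd0037e8001a0c01ee8400f7400f744004c9007b91003dc803dc8c01bfc01ee0400e1600f701004c5007b8000300803dc080130001edc000d8c00f6e50070800708100399003991001c2401c24a00e0e00f6c0007b60070918039f003db10017e401ed840095800f6c5007b5006c6180267003da880133c01ed4a00f6800f6830068e007b4))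 (.leaf (nat_lit 0))))) (.node (.node (.node (.leaf (nat_lit 0x3e28025a9401f10012d0000f86009683007c2004b32003e0802590401f00012c8a00f7e009624007be004b10003de802589001ef0012c0a00f760095c1007ba004ae2803dc802569401ee0012b0a00f6e009541007b6004aa0003da802551001ed0012a4a00f66009500007b2004a82803d8802538001ec00129c200f5e0094c5007ae004a51003d6802520401eb001290a00f56009463007aa004a30003d4802519001ea001288400f4e009400007a60049f)) (.leaf (nat_lit 0))) (.node (.leaf (nat_lit 0x18033080330800198801988a00cc400cc44005260066208033100331080198801988200afa00cc25005880066118021300330080198001980a0071000cc05005930065f00032f802bf0c0197c0197c400cbe00cbe1003870065f20032f0032f0400ee00197840078000cbc5004c70065d08032e8032e800197001098a0084600cb85004480065b0002d68032d840196c0196c000bc400cb430065a005e408032c8032c800125801964a00cae00cae40065800658)) (.leaf (nat_lit 0)))) (.node (.node (.leaf (nat_lit 0x180111001169000a6800c5c40062e0062e50018b002001800fa000d614006b0006386003520031640018e001a92000d40018b080067c00c58a0062a0062a0003150031520018a8018a880078c00c546005d4006285003100031000018800188140085400c3c0004420061e4002270030f280187001870000c3800c3820061c0061c50030d0030d000186801868400b6400c302006140044240021f0030a0801830018308005c800c1840051c0060a0003050021f))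 (.leaf (nat_lit 0))) (.node (.leaf (nat_lit 0x1804768047684023b4023b4a011d8011d8300837008ec000476004761001cbc023b04011d8011d84008eb008eb1004758047594023a8023a8200fb8011d40008ea008ea0803da8047494023a0023a06011d0011d00008e8008e82004740047408022f8023a0800c24011ce2007a6008e7080473804739402398023986011cc011cc200737008e6000473004730401828023986011ca00ec050060a008e5100465804728402394023948011c8011c82008e4008e4)) (.leaf (nat_lit 0)))))))))
noncomputable def u5Ft11 : BT Nat := (.node (.node (.node (.node (.node (.node (.node (.leaf (nat_lit 0x428001d9400210000e8800106000743000820003a1000408001d1000200000e46000fe0007210007e0003920003e8001b8c001f0000dc2000f60006e50007a0003618003c8001b08001e0000d88000ee0006a4000760003418003a8001a08001d0000d02000e600068500072000331800388001980001c0000cca000de0006400006e000320800368001880001b0000c46000d60006000006a000300000348001790001a0000b80000ce0005c1000660002c)) (.leaf (nat_lit 0x1004900049000021740248060123e0123e00091f0091f08048f8048f840247801f30a0123c0123c00091e0091e1003380048f000247401d08800ea00123a10091d0091d28041c8048e10019bc024702010d80123840085f0091b1804710048d8801efc0246c201088012360008520091b28048d00460900246802468200fac012340008c20091a1003358048d14024640214860123200fd640084a0091910040f0048c840207c02464a012300123010091800918)))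 (.node (.leaf (nat_lit 0x20015c0015c0c006e800ae0c00570006cc400366003660801b2801b29400d9000d9000046a006bc2003610023518011a001b08400d8400d84000372006c000035f0035f280160001ae900077000d74200412006b830035b0035b080103001ad88007a400d68200362006b43001b0003571000de001ab84006f000d5440035e006aa400354003540801aa001aa1000cdc00864a006980069830034700347200196001a48400d2400d24400692003763001bb00348)) (.leaf (nat_lit 0)))) (.node (.node (.leaf (nat_lit 0x442802c58c0221001620a0110600b0e00088200587200440802c28c022000160c4010fe00b0200087e0058100043e802c00c021f0015f86010f600afa50087a0057c18043c802be14021e0015e0a010ee00ae84008760057420043a802b988021d0015cc2010e600ae650087200572100438802b904021c0015c82010de00ade30086e0056c080436802b608021b0015ac2010d600ad400086a00569200434802b380021a00159c8010ce00acc10086600565)) (.leaf (nat_lit 0))) (.node (.leaf (nat_lit 0x200354803548800ef401aa4200d5000d50300654006a810032a8035410017c401018600a2800d4e200484006a70001e1003538401a9c01a9c8007c000d4c5006a6006a6000353003530800f7001a98a00d4a00d4a0006a5006a508035200352000155801a90a00d4600aac3006a3006a31002a9003518401a8c01a8c600d4400d443003b1006a1000350803508800fec01a8480093a00d401006a0006a01803500035010015a8014c0600a6200abe20069f0069f))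 (.leaf (nat_lit 0))))) (.node (.node (.node (.leaf (nat_lit 0x2002428013410012100099ca00906004cc40048200266180240801329401200009906008fe004c650047e0026218023e8013000011f000980a008f6004bc00047a0025e20023c8012e88011e0009742008ee004ba2004760025c28023a8012d84011d00096c0008e6004b63004720025a0802388012d08011c0009648008de004b010046e002582802368012b90011b00095c6008d6004ae00046a002571002348012b04011a0009540008ce004aa40046600254)) (.leaf (nat_lit 0x1005150051514028a4023906014520145220094f00a29080514805148c02690028a04014500145010095f00a2800044900514040289c0289c60144a0144a000a2600a262005130051304027880289840144c0144c100a2500a251805120051204025b00289080144601446500a2300a230804a800511800288c0288c40144601446400a2100a211805110051104025ac02888a0144201442000a2100a21100510805108c028800288020144001440300a1f00a1f))) (.node (.leaf (nat_lit 0x100163002990400b1c014c4000a5e009ce1002c50052f080164002971400b18014b4000a58009e65004f00052c28024f0029590014ac014aca00a5400a5400052a0052a180294802949400b10014a08005e000a4e100527002f11801b8002939400dfc01498200a4c00a4c2002c00052618029200292040149401494a00a4a00a4a000525005251001d100292900149001490600a4600a462002d60052328029100291040148801488000a4400a442002bc00522))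 (.leaf (nat_lit 0)))) (.node (.node (.leaf (nat_lit 0x8e0005a14002d0004788001c80023c10007d0011d28003e8008e10004600046080022c0022c1000990011610003c8008b080023c0045480022800228000113000ed20003c000898c0044c0044c8002240022450010e0010e28008680086940042800428000214002142000750010a08003b00084800041c0041c40020c0020c5001070010708003a00083940030000418a000ec0020a50010400104000082000820c0041000410a0017a0020650010000100)) (.leaf (nat_lit 0))) (.node (.leaf (nat_lit 0x280306803fa800175401fd4800fc600fea20050c007f52003ed0033e04019f401f68600cfa00fe84007f4007f41003fa003fa0001f2401fd0800fc200cd0100669007e10803f98027e1401fcc01f24000fe000cd2300669007f32003f9803f98801fcc01fcc400fa600fe41005d4007f2000277003f91401fc401848400fe200fe200060c007f10803f8003f80c01fbc01fbca00fde00ba4000607007ef2003f7003f70c018e801fb8600fda00f8a400624007ed)) (.leaf (nat_lit 0)))))) (.node (.node (.node (.node (.leaf (nat_lit 0x180142800970000a10004b86005060025a2002820012d180140800960800a00004b02004fe0025850027e0012b20013e800950c009f0004a84004f60025410027a0012a20013c800948c009e0004a44004ee002525002760012828013a8009390009d00049c0004e60024e50027200126200138800930c009c0004982004de0024a00026e00123280136800910c009b0004884004d60024410026a001211001348009014009a00047c0004ce0023e2002660011e))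 (.leaf (nat_lit 0x804d2804d2880269002690a010a2013485009a3009a30804d1804d1800268c0268c400e9a013462007d0009a20803db804d10001d2802688801342013425009a0009a01804ac004d0000268002680801340013402009a0009a00804cf804cf880267c025c4600e900133e5009950099f2804cf004cf00026780267880133c0133c50099d0099d180431004ce80026740267480133a0133a20099d0099d2804ce004ce100267002670001338013381007420099c))) (.node (.leaf (nat_lit 0x223801ef9400f740111c40088c0088c20044400444180221802218c01108011080004840088230027f004400001e30021f90010fc010fc4004820087a50043b003c00801e18021e00008fc010f0800876008763004390043928021b8021b88010e8010e8600804008741004370043700021b8021b88008f0010dc60086c0086c20023d0043618021a8021a84008ec010d400041c006e0600370003eb08021a001b78c010d0010d0400812008680003a600434)) (.leaf (nat_lit 0)))) (.node (.node (.leaf (nat_lit 0x100542804d98802a10026c440150601358200a82009aa200540804d10c02a00026886014fe01342400a7e0099f10053e804cd0c029f0026646014f601330100a7a0099220053c804c310029e0026108014ee01306500a760098010053a804c000029d0026008014e6012de100a720095e100538804ad90029c0025608014de012aa400a6e0094c180536804a38c029b0025182014d601286100a6a00942080534804a08c029a0024d84014ce0126a300a6600933))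 (.leaf (nat_lit 0))) (.node (.leaf (nat_lit 0x1003ac003ac140163401d60400eae00eae00058c007571003ab003ab040116801d58800e0200eaa30075500755200231003aa0401d5001d50a00ea600ea60007530075308022c003a9940116001d48200ea400ea430074f006900003a8803489401a4001d44200ea20097e4004be007511002c9003a88c0164801d40a00ea000ea0000750007500803a8003a81001d3c01d3c600e9c00a0a5006690074e100285003a70401d3801d38a00e8600e9a10074d0074d)) (.leaf (nat_lit 0))))) (.node (.node (.node (.leaf (nat_lit 0x280342801ce8001a1000e74600d06007382006820039c200340801cd8801a0000e60000cfe0073040067e0039720033e801cb04019f000e58a00cf60072a40067a0039500033c801ca8c019e000e4c400cee007260006760039320033a801c90c019d000e48200ce60072450067200391180338801c88c019c000e40400cde0072000066e0038f200336801c70c019b000e38600cd60071a20066a0038d200334801c604019a000e30200cce007160006660038a)) (.leaf (nat_lit 0x551005479402a6002a888014ca01544200aa200aa2280526005508002a840293880154201542200aa100aa1280525805500002a80028a480154001540100a9e00aa0100550005501402a7c02a7c80153e0153e100a8800a9f00054f8054f8802a7c02a7ca0153c0153c400a9e00a9e00054f0054f0802a7802a782015320153a500a6e00a9c00054e805371002a7402a7460153a0153a200a9d00a9d20054e0054e0c02a7002a7040153801538200a7700a4c)))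 (.node (.leaf (nat_lit 0x2802fd002fd10017ec017ec000bfa00bfa5005fd005fd0802fe802fe90017f001530200bac00bf85005fc005fc0002fe002fe08010a4017f0600bf600bf6200360005fb00019e002fd80017e8017e8200bf400bf45005f9005f90802fc8022400017e4017e440088e00bf23005f8005c61002fc001a30800ce8016e8c00bee00b744003f7005f80802fc002fc04017d8017d8a00be800be84005f5005f51002fa802ef0c017d4017d42007f000bea4005f3005f3)) (.leaf (nat_lit 0)))) (.node (.node (.leaf (nat_lit 0x10009400122100090c0090c60047e0047e50023e0023e1001210012108009000090060047a0047a00023e0023e1000888011f10008f4008f46004740047410023c0023c20011e0011e1400514008e80002780047440020f0023a2000888011c8400438008dc20046a0046a2002330023300011a0011a1000440008d0200406004683001f5002311000868011890006e4008c08003f00045e20022b00203200101801170400440008b800021c0021c50020800208)) (.leaf (nat_lit 0))) (.node (.leaf (nat_lit 0x2002ce0044888016dc02244a00b60011200007ee008901804480044804022400224000111e00f7840088f0088f1003f60044794022380223820111c0111c00088e0088e2804468044684022340223400111a0111a50088c0088c0004460044604020a0022304011160111610088b0088b280445004450802224022240011140111440088a0088a1804450044504016400222820111201112200888008880803d100444080221c0221c200f680110e20088600886))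 (.leaf (nat_lit 0))))))) (.node (.node (.node (.node (.node (.leaf (nat_lit 0x2000c2800518c006100028c40030600146000182000a32000c0800510c00600002884002fe0014450017e000a12000be800508c005f0002846002f60014020017a000a00000bc8005010005e00027c0002ee0013e4001760009e1800ba8004f00005d0002788002e60013a3001720009d1000b88004e80005c0002746002de0013840016e0009b1800b68004d88005b00026ca002d60013400016a0009a2800b48004c80005a000264a002ce0013040016600097)) (.leaf (nat_lit 0x47b004b01401ba0025806012c0012c02008ca0096008046e804b0080257c0257c001238012be40095e0095e18042d004af08024b00257800118e012bc30095b0095b0804ae804ae940208c02574001192012ba20084e0095d2004ae0049e8c0257002138a01264012b80009480095c00046a804ad900256c0256c8012b4012b430095a0095a10046b004ad040211c025680011be012b4200860009592804ac804ac8c02420025640012b2012b220095800958))) (.node (.leaf (nat_lit 0xfe801eb0000f0000f548007aa007aa50022d003d2000118001e91000db000f486007a0007a05003ce003ce1001e8801e89000ac000ac0400550005500002a9002a9100149001e78000c9400f3c2005520079e1003ce003ce0001e7001e708007e800f3840079a0079a2003cc003cc280196801e58c0086400f2c200796007960001f4003ca0001bf801e48400f2400f2460076e0078c2003c50032d180196001e29400f1c00cb020078e006a64001ff003c7))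 (.leaf (nat_lit 0)))) (.node (.node (.leaf (nat_lit 0x2004c28038f800261001c7ca0130600e3c1009820071e1004c08038e100260001c6c2012fe00e3440097e007160804be8038b04025f001c482012f600e2030097a0070c0804bc803848c025e001c208012ee00e0a200976006ff2004ba8037f08025d001bf84012e600dfa200972006fc1804b88037d90025c001be06012de00df030096e006f72804b68037b0c025b001bd86012d600de640096a006f22004b4803788c025a001bc4a012ce00de0100966006f0)) (.leaf (nat_lit 0))) (.node (.leaf (nat_lit 0x2b88037e840110001bf4800df800af45006fc006df0802210037e040105001beca00a1200df65006fa006fa00037d0037d0801be801be8000df200a92500546006f90802a30037c0801be00152ca00dee00dee0006f7006f710037b8037b8401bd801bd8400d2c00dea200401006f4080379803798801a5001bc8400de200de22006f0006f0200377803779001bb801bb8600ca400ddc3006a4006a408035100351000108401698200b4c008d6300474005a6)) (.leaf (nat_lit 0))))) (.node (.node (.node (.leaf (nat_lit 0x1002c2801778c0161000bb8400b06005dc500582002ed2002c080176840160000bb4000afe005da10057e002ec2802be8017584015f000baca00af6005d200057a002e92002bc8017408015e000ba0200aee005d0500576002e70802ba8017380015d000b9ca00ae6005cc000572002e60802b88017280015c000b94a00ade005c640056e002e31802b68017100015b000b84a00ad6005c030056a002e01002b48017010015a000b7c200ace005be000566002de))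 (.leaf (nat_lit 0x20050000533800299c0299c6014ce014ce100a6700a672005330053304028b0029984014cc014cc50095800a6518053280532800274402994a014c8014c83009d100a64000532005321002990029904014c8014c83009b600a631005318053184024f40298c0013a0014c6500a6200a621804f6005310002988029888014c4014c4200a6200a62200530805308c02984029844014c2014c20009cd00a612804e68053004028ac029808014c0014c0300a6000a60))) (.node (.leaf (nat_lit 0x1802ce002ce100166c0166c400b3600b364003ee0059a2002cc802cc940166001660000b3000b3030050c0050c1002bd802bd94015d4015d4200a1a00a1a1005760057620026b002cb8c0165c0165c400aec00b2e100597005972802cb002cb0c0165401654000b2c00b2c4003030059610018a002cb040165401654a00b2800b282004ea005940002ca002ca0400c0401650800b2600b264005910059128026e802c810016400164060068a00b2040058e0058e)) (.leaf (nat_lit 0)))) (.node (.node (.leaf (nat_lit 0x800b9000b910005c4005c4a002c2002c220017b0017b1000b9800b99000548005488001220012260009100155280048000481800240005444002d6002d60001940016d2800b6800c98c0064c005a4800270002702001690016908008c0008c140010c0010c4001400014040009e0009e30004e000219800280005e8c0013c002ec30009e0009e0000528005298005bc00058c002f000140300044000443000ba8004f180062400294c0013e0008860004600177))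 (.leaf (nat_lit 0))) (.node (.leaf (nat_lit 0x424804248c018d8021242010920109210080900848200419004240c01edc02120400e0a0109000053f0084820042380423880211801f8880108c0108c1007fc0084628038d00422840211402114000a7401088100843008430002ed8042190021080210840108401084300841008061004208042080018c002104a010800108030084000840000420004200402100021008008f800ad26005690077f1002fd002af8c020fc017e8a00ff80107e40073e0083f)) (.leaf (nat_lit 0)))))) (.node (.node (.node (.node (.leaf (nat_lit 0x1001c2800e58400e100072ca0070600394500382001c92001c0800e48400e00007246006fe0039020037e001c80001be800e41000df00071c2006f60038e10037a001c62801bc800e28800de0007144006ee00388500376001c21001ba800e10c00dd0007044006e600382500372001c02001b8800e00400dc0007000006de0038040036e001bf1801b6800df9400db0006f86006d60037c00036a001be2801b4800de1000da0006f00006ce00378300366001ba)) (.leaf (nat_lit 0x2004b7004f29402794027940013ca013ca1007e8009e52803f5004f20c027900279000115e013c84008b7009e41004f2004f214026ac026ac601358013585009e3009e31804f1804f1800278c0278c8013c6013c62009ae009e32004f1004f1080278802788801230013c21009e1009e12004bd004f0040278002780a0131e013be200873009df08043a004ef9402778027788013bc013bc0009de009de1804ec804ef0401f6002778a013ba013ba10080a009dd)))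 (.node (.leaf (nat_lit 0x20d802610c00ab4013088009180098200041e004c018025f8025f80012fc012fc4005100097c1003820047210025e8020d9401078012f480097a0097a0004bb004861802430025e90012ec012ec600978009785004bc004bc00025e0025e04012f0012f0a008e4009762002a3004bb08025b8025b80012e0012e060051000970200283004b6100140802590400a00012c460095e0095e1004b0004b02802580025800012c0012c0400746009604004af004af)) (.leaf (nat_lit 0)))) (.node (.node (.leaf (nat_lit 0x1000438004384002180021820010a0010a00003d000841800418004180000f80020c800104001041000820008200003c80041140012c001fc4000fe000fe20007e0007e20003e0003e0c001f4001f4a000ea000f820007c0007c10003d8003d8000100001e88000e2000f21000430007918003b8003b940013c001cc6000e0000e0000071000711000388003884000e8001c06000de000de10006f0006f1800370003704001b8001b88000a8000da20006c0006c)) (.leaf (nat_lit 0))) (.node (.leaf (nat_lit 0x3003b700252900129401e9c600f4e00f4e1007a7007a71803d30038e100178801e98200f4c00f4c5004a4007a62803d2803d28001e9401e9420093e00f4a4006fb007a42803d2003d20401c2801e90000f4800f482007a4007a42003d1803d18c01e8c01e8c400c9600f4610064c007a32803d1003d10c018d001e88400f4400f440007a2007a22803d0803d08c01a6401e84400f4200f420007a1007a10803d0803d08001e7401334a0099a00f3e4004a40079f))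 (.leaf (nat_lit 0))))) (.node (.node (.node (.leaf (nat_lit 0x2003c2802408401e1001204a00f06008fe4007820047f1803c08023f0801e00011f8800efe008f840077e0047a1003be8023c9401df0011e0800ef6008f050077a004771003bc8023b8001de0011dc000eee008ec400776004752003ba802399001dd0011c8400ee6008de4007720046d1803b8802369401dc0011b0400ede008d800076e0046c2803b6802359001db0011aca00ed6008d440076a0046a1803b4802350401da0011a8a00ece008d240076600469)) (.leaf (nat_lit 0))) (.node (.leaf (nat_lit 0x20032700327040162801938400c9c00c9c30064b0064b0803268032680011e0019344008e600c9a30064c00473280243003261001930019300008e400c9850064b0064b00032580325900112c0192ca00c9400c163003c80064a10032500325040192801928a00c9200c92000649006490801e5003248000f5001920400c9000c904003ca0064728032380323800191c0191c400c8e00c8e20064600646080323003230800dd00191480077e00986100644003bf)) (.leaf (nat_lit 0)))) (.node (.node (.leaf (nat_lit 0xb48017c0c009c400bdc0005ee005ee2002f6002f618017a8017a9000bd000bd04005e2005e84002ef002ef000178801789400bcc006d06005e20037a1002f3001c12000de801799000bc800bc8a005e2005e20002f0002f0100178001780400bbc00bbc60053a005de0001d8002ee0800b3001770800bb400bb48005d8005d83002ec002ec200175801758c00bac00bac8005ce005ce200162002e7200173001730400b9800b984005cc005cc400162002e5))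 (.leaf (nat_lit 0))) (.node (.leaf (nat_lit 0x8046d0046d1402360023604011b2011b2100896008d90002fa8046c8002360023606011b0011b01006f2008d828046b8046b8c0235c0235c4010fa011ae0008d7008d70802f90046b8c0235802358000dec011ac5008cf008d510046a8046a900218402350000fb0011a8300736008d408046a0046a140234c0234c400c38011a60008d3008d3080452804699402348023480011a4011a41008d1008d1280468004680c01ba0023404011a0011a00008d0008d0)) (.leaf (nat_lit 0)))))))) (.node (.node (.node (.node (.node (.node (.leaf (nat_lit 0x200082800390800410001c8200206000e450010200071280080800380800400001c08001fe000de4000fe0006e28007e8003680003f0001b48001f6000d81000fa0006c08007c8003590003e0001a82001ee000d41000f60006928007a800340c003d0001a00001e6000d04000f2000671800788003388003c00019c6001de000cc4000ee000651800768003214003b00018c4001d6000c60000ea000632000748003088003a0001842001ce000c23000e600060)) (.leaf (nat_lit 0x1004120049f0401b70024f840127a0127a0007940093d28049e0045500022ac024f0601278012784006a10093c1004910049e10024ec024ec601276012762007b20093b2803720049d88024e8024746012380127410093a0093a00034f0049d0c024e4024e4401272012721006990093928049c0049c100220c024e0001270012702009380093810037b0040c08024dc01a5c60126e0126e4008180093708049b8049b940206c024dca0126c0126c20093600936)))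 (.node (.leaf (nat_lit 0x1001b38013f0000da400a00a00500006ce300367003a32801d0801d08400e8800e886006d200744300380003a10001d0801d08800e8400e84a0073e0073e00039f0039f1801cf801cf900099400e782004300073c20039d0039d080104001ce040081400e6c4003ae0073650039a0039a0001cd001cd0c00e6800e6820042c0073420039900399280177801cc9400df800e6060072c0072c000397003972801cb801cb8400e5c00e5c4003a60072e30039500395)) (.leaf (nat_lit 0)))) (.node (.node (.leaf (nat_lit 0x2804828032280024100191480120600c861009020063d2004808031d8c02400018e40011fe00c724008fe0063820047e8031b8c023f0018dca011f600c6a0008fa0063428047c8031990023e0018cc0011ee00c625008f60062d08047a8031414023d0018944011e600c480008f2006231804788030b00023c0018588011de00c281008ee006131004768030904023b0018446011d600c1e3008ea0060d1004748030684023a00182c0011ce00c144008e600609)) (.leaf (nat_lit 0))) (.node (.leaf (nat_lit 0x20036a8036a8c0151001b54400daa00daa5006d4006d418036a0036a0001b5001b50800d9800da82006d4006d4280369803698c01b4c01b4c000da600da6400676006d3100369803698801b4801b48000c3a00da25005dd006d008036800368040106c01b3ca0087e00d9e5006ce006ce0003670036710015f401b34a00d9a00d9a0006cd006cd10034600366880181c01b3020083200d9800043b006cc08036580365800194001b2ca008f200d940005a7005a7))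 (.leaf (nat_lit 0))))) (.node (.node (.node (.leaf (nat_lit 0x28280157140141000ab4400a0600558300502002ab08028080155840140000aa80009fe005543004fe002a928027e801540c013f000aa02009f60054e5004fa002a510027c8015284013e000a94a009ee005483004f6002a410027a8015200013d000a90a009e6005464004f2002a30802788015180013c000a8c2009de005425004ee002a01802768015000013b000a800009d60053e4004ea0029e2002748014e88013a000a742009ce0053a5004e60029c)) (.leaf (nat_lit 0x4f00052514027800292420145e01492400a4900a491805248052488029240292440149001430500a4800a480005240052404025b402920a014680148e10095300a21180523804a9800291c0254440148e0148e10096a00a47000523004839402918023d460127a0148c200a4600a460804a30052310029140251800148a01478500a3b00a451805228052290029100291060148801488200a4400a4408051700521900290c0290c60148601486200a4300a43))) (.node (.leaf (nat_lit 0x802af002af000133801578a00ab800ab800055c0055c1001c1002ae080156c01254a0099c00ab610055b0055b18016e802ad940156401564800ab400ab41004e30055a1002ac802ac8001564015642005b800ab24003ed005572002ab002ab0c0154801548a00aa200aa2200555005552002aa802aa8c00ba401550000aa800aa84003070055420025b8025b80012e4012e4200aa600aa640055300553180245802a9880154c0154c200aa400aa400055100551))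 (.leaf (nat_lit 0)))) (.node (.node (.leaf (nat_lit 0x51000bf0c0058c005f40002fa002fa10017d0017d200069800be04005f00044c0002f8002f82000cd0017c2800b0000bc88005e0005e08002ea002ea3001760017610004f800ba84005d0005d0200140002e6200170001700000b8800b894005c4005c420013c002e250009f0016f0800b7000b71400278005b02002d8002d820016a0016a1000b4000b4000026c0059ca0029a002cc2001650016528004e800b2080059000590400292002c610009a00163)) (.leaf (nat_lit 0))) (.node (.leaf (nat_lit 0x1003fe80412840209402094a00a620104a5008240082418041200412000209002090200a2801048400823008231003560041190020880208860104400d002006290082208028d00411140161802088a00a280104200053100821080410804109402080020800010400104050054b0081f0002ad0040f8c0207801baca00a220103c0005860081e20040f0040f10020740207440103a0103a50081c0081c00040e0040e080206c0206c80103400cfe10081a0081a)) (.leaf (nat_lit 0)))))) (.node (.node (.node (.node (.leaf (nat_lit 0x200182800b80c00c10005c0600606002dc0003020016e200180800b68400c00005b48005fe002d83002fe0016c08017e800b59400bf0005a82005f6002d44002fa0016908017c800b49400be0005a08005ee002d01002f60016820017a800b38c00bd00059c6005e6002cc2002f200166200178800b28400bc0005940005de002ca4002ee00164180176800b21400bb00058c0005d6002c65002ea00162080174800b10000ba0005886005ce002c23002e600160))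 (.leaf (nat_lit 0x1804e1804e204021dc02710400f2c01386100793009c3200497004e19001f5c02708601384013842009c2009c20803dc804e10001e1402708a01382013824009c1009c10004e0804e08c01f3002704200fdc01382500999009c01804e0004e0100208002700401380013805009bf009bf2004a2004df80026fc026fc40137e0137e4009be009be1804df004df08025a4026f82013420137c0008dd009be2804b4004de9001dcc026f46011640137a1007c8009bd))) (.node (.leaf (nat_lit 0x1002408024084011fc011fc4004c8008fe1003600047e0001328023f14010ac011f48008fa008fa2002610047d10019d8023e04011f0011f0a006bc008f81004750047528023a0023a08011ec011ec2008e6008e60004740047410023d0023d0c00988011e86008f2008f23002e30047818023b8023b94011d8011388004c0008ec300476004761802090023a90011d0011d04004bc008e82002db00472200238802388800b68011c4a008e0008e000047000470)) (.leaf (nat_lit 0)))) (.node (.node (.leaf (nat_lit 0x58001294000900009000004800048100009000240800090001180000440008ca00044000440000220002208000380011080002800028200018000183000170001708000b800070c0006000060400030000300000180000d28000c8000c8400064000348000340003400001a0001028000d8000d840006c00040a0003a0003a40001d0001d10000e800070c000780007800003c0001e50001f0001f10000f80007900007c0007c4000420004230002000020))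 (.leaf (nat_lit 0))) (.node (.leaf (nat_lit 0x1003c2003c21001a0801e0c200f0600d4c30078300783100340803c180016e001e0c600f0400f04200782007820803c1003c11401a2801e04200f0200f0200068b007812803c0003c01001e0001e00000f0000f001005fb0078018025c803bf04013ac01df8a00eca00efa0007670077d1803be803be84013a001df4200ef600dd64006eb007792003be002fb0c0150c01df0400a6600ef810077c0077c0002f9003be1401de401de4400ef400ef41007260077a)) (.leaf (nat_lit 0))))) (.node (.node (.node (.leaf (nat_lit 0x280382802089401c1001038200e060081c0007020040e180380802069401c0001030a00dfe008165006fe0040a20037e802050001bf001028000df6008101006fa0040708037c802031401be001014200dee008084006f60040318037a802018c01bd001000800de6007fc3006f2003fe280378801fe8001bc000ff4a00dde007f80006ee003fc180376801fd0801bb000fe8000dd6007f05006ea003f3000374801f99001ba000fc8200dce007e45006e6003f1)) (.leaf (nat_lit 0x28055e0055e1002af002af000157801578300abc00abc08055e0055e1402aec02aec80157601576100a9600abb00055d8055d8802aec02aeca0157401574400aba00aba0805438055d0002ae802ae840157401574100ab900a8d28055c8055c9002ae402ae400157201572200ab900ab908055c005449402ae002ae080157001570000ab800ab810055c0055c0002adc029a0a0152c0156e400a7f00ab718055b8055b8402adc02adca0156c0156c400ab600ab6)))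 (.node (.leaf (nat_lit 0x80313002ac0c0157001898800c4c00c4c2003f2006262802de803131001378018942007f600c4a2003b00062518031200312140188c017b8800bd600c463006220062200026d803108c01884013782006b000c4230062000620100203003101400f8401880400c3e00bd650061f0061f18030f8030f800187c0187c2006d000c3e300564004d11801e90030f080159401878600c3a00c3a40061d0061d1802b08030d14010c00186400086200c3220035100619)) (.leaf (nat_lit 0)))) (.node (.node (.leaf (nat_lit 0x28014a8014a88009f4009f440052c0052c10027d0029600009c0014b0000a5400a5460039a0052a1002950029518014a0014a0400a5000a5060052600526400293002930801488014888004d400a40a0051c0051c00028e0028e200147001470c00a3400a3420051a0051a30028b0028b200145801458800a2800a2880050e004d810026700267000131801319000a0800a0880025c0025c60012e002861001310013108004c0004c06002840050e20012f00285)) (.leaf (nat_lit 0))) (.node (.leaf (nat_lit 0x280458804588801908022c4001162011621005be008b12004138045814022c0022c000116001160300617008b0080458004581401728022bc80115e0115e2005f4008af2802f480457000171c022b880115c0115c2005e7008ae0004568044e9402244022b460115a0115a2008ad008ad0804568045680022b001ee4a00e80011584006be008ac100352804560c01f6c022ac40115600fb84008ab008ab18033d0045510022a8022a8400b7e011545008a9008a9))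 (.leaf (nat_lit 0))))))) (.node (.node (.node (.node (.node (.leaf (nat_lit 0x180102800781000810003bc000406001de500202000ed200100800768c00800003b04003fe001d81001fe000ec2800fe8007580007f0003aca003f6001d43001fa000ea1000fc800750c007e0003a48003ee001ce3001f6000e71000fa8007394007d0003980003e6001cc5001f2000e51800f88007280007c0003946003de001c82001ee000e42800f68007188007b00038c0003d6001c63001ea000e22000f4800708c007a0003842003ce001c03001e6000de)) (.leaf (nat_lit 0x1804c0004c00401c7002600a012fe012fe30071b0097f0004bf804bf90025fc025fc4012fe012fe20097e007df0004bf003e69401c5c025f86012fc012fc5007190097d1803f9004be800205c025f44010ea012fa5007780097c1804be004be0001de8025f0800f70012f850097b0097b180450004bd80025ec025ec8012f6012f62007130097b2804bd004bd04025e8025e80012f4012f420073b0097a280462004bc80023a4025e48012f2012f220073100979))) (.node (.leaf (nat_lit 0x1801ac80208040103c0103c00064c0081e2002240040f2001af80205840103000d7c0006a80081830040c003562001ab002071001034010342008140048000040b0023c18012000205880102c0102c40081400814300409004090001a7802048c01020010208008100081020034200408100203802038000d040101c60080c0080c00027e00406180202802029001014010144005640080a200404004040001d1002020800eb00100c200806008065003ee00403))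 (.leaf (nat_lit 0)))) (.node (.node (.leaf (nat_lit 0x80502804170002810020b88014060105a300a020082d1805008041580028000208c8013fe0103e5009fe0081d0004fe8040e8c027f00206c8013f6010324009fa008132004fc8040888027e002038a013ee010180009f60080c1804fa8040494027d00201c2013e60100a4009f2008031804f88040088027c002004a013de010000009ee008000804f6803ff84027b001fe84013d600fee4009ea007f21804f4803f890027a001fbc6013ce00fd43009e6007e7)) (.leaf (nat_lit 0))) (.node (.leaf (nat_lit 0x1002ae803951001ca401ca4400e5200e5210072800622080393803938801c9801c98000e2600e4c50072500713000391002220c0111001c94800b6400e4a200725007250802d9803928c01c8c01c8c000e4800e48500724007242003920039208010b801c90a00d5a00e4410072100721280390003900001c8001c80400e3e00e3e40071e0071e10038f0038f00016c8015eca00af400b642005b40071d2802ca8038e800165c01c74200d4a00e3a50071c0071c)) (.leaf (nat_lit 0))))) (.node (.node (.node (.leaf (nat_lit 0x200302801a0880181000d04a00c06006804006020033f1803008019f080180000cf8a00bfe0067a4005fe0033d2002fe8019e0c017f000cf0a00bf6006764005fa0033b1802fc8019d94017e000ce8400bee006740005f60033a2802fa8019c90017d000ce4000be6006724005f2003381002f88019c04017c000ce0000bde0066e4005ee003351802f68019a88017b000cd4a00bd6006683005ea003342002f48019914017a000cc0800bce0065e0005e60032f))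 (.leaf (nat_lit 0x180542005420402a1002a10a0150601506400a8300a83000541805418c02a0c02a0c20150601506500a8200a82200541005410002a0802a0860150401504100a8200a82280540805408c02a0402a0440150201502000a8100a810804eb805409002a0002a00a013ec015001009f500a800004fb80540080277402a00a014fe014fe100a7f00a7f00053f8053f88029bc029fca014fc014fc300a7e00a7e1005258053f00029f8029f82014fc014fc000a7d009e2))) (.node (.leaf (nat_lit 0x2002bc002238401124015e02005d00095a6004ad005772001740025618012b0015e4200950008824004410052f20014e8023b98011dc013a420053a008f200052f0047930023c802738c01104012b0600b6600ba02005d0005d00002e8002e8040105c0174040077600b9e3005ce005ce1002d8802e71001734017342008fa00b9a200320005cd100190802e60c0172801728200b9600b965005c8005c81802e4802e4800172c0172ca00b9600b964003cb005cb)) (.leaf (nat_lit 0)))) (.node (.node (.leaf (nat_lit 0x1000be8010084008040080480040000400500185001fe20007e800ff10007d0007d0200388003885000f4000f418007a8007a90007f4007f46003fa003fa4001fc001fc1800fe000fe00003b0007ec8002420028450015f0015f20009a8009a8c004d8004d88001160011660008b001441800a3000a30c0023000230c001180028e1001fa001fa2000fd000fd0400518007e4a003f0003f00001f8001f81000fc000fc00007dc004b44003ee003ee1000e9001f7))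 (.leaf (nat_lit 0))) (.node (.leaf (nat_lit 0x3fc8043690021b4021b4401040010da40063a0086c0002cc804360c021b0021b0a010d600f9a00086b007171804358043590020f8021ac400f96010d61008200086a0002e0002e70c021a801dec800eee010d420056c0086a1004348043484015a0021a44010d0010d01008100086828040880434140219c0219c600ffa010ce0008670086700043300408140203c021988010cc010cc2007340086608043280407880219402194001006010ca20086400864)) (.leaf (nat_lit 0)))))) (.node (.node (.node (.node (.leaf (nat_lit 0x802028010e14010100086c00080600432400402002181802008010c080100000860a007fe0042e5003fe002162001fe8010b0c00ff0008586007f60042a4003fa002142001fc801098c00fe00084c4007ee004264003f6002121801fa801090800fd0008486007e6004225003f2002102001f8801080000fc0008406007de0041e2003ee0020f2801f6801071000fb0008380007d60041c4003ea0020d1801f4801060400fa0008308007ce004165003e60020a)) (.leaf (nat_lit 0x1805048050484028200282060140e0140e100a0700a07180503005030c020c40281400140a0140a400a0500a051005028050284028100281060140801408300a03008d528050180501880280c0280c0014060140610083300a03280501005010402808028080014040140420084500a022805008050090023040280400140201402200a0100a0118046400500080243802800201400014005008c900a002804ff804ff8c027fc027fc4013fe013fe0009ff009ff)))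 (.node (.leaf (nat_lit 0x1802298027c8c013e0013e00009f0009f04004f8004f818027a0027a00013d8013d82009ea009ea4002a8004f41802320027988013c8013c86009e2009e20004f1004f108027800278080114c013c060054a009e0300305004ef100269002779001368013b8400562009dc1004d2004ed100150802768c00da8013aca005d0009d610029f004ea2801c5802740000e30013a06009ce009ce3004d0004d0200267802679401350013500009ca0068c500345004e5)) (.leaf (nat_lit 0)))) (.node (.node (.leaf (nat_lit 0x8003b800668c00330003304000dc001981000cc000cc10006580065940020000324600192001922000c9000c9180064000640c003180031840015a0018c1000c6000c618006280062840031400314800182001823000c2000c20800620006210003100031000017e00188200065000c418003280061940030c0030c800186001860000c3000c30800280006104003040030440018200182100067000c02800540005f8800148002fc8000d2000fe00007f00050)) (.leaf (nat_lit 0))) (.node (.leaf (nat_lit 0x1803e7003e70401f3801f38200f9a00f9a1006d90059b0003e500390800167001f00a00f8000e462007ca007230003e6003c11001c8c01f30600f9600f963007ca007ca18025f003e488012e001f24600f9000f904007c7007c71803dc803e38801f1c01f1c200f8e00f8e00061c007c72803e3003e3100197001f18000f8c00f8c2007c5007c528030e003e29001f1401f14200f8a00f8a4007c4007c40803e2003e2000186c01f10a00f8600c364007c3007c3))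 (.leaf (nat_lit 0))))) (.node (.node (.node (.leaf (nat_lit 0x1804028027d1002010013e4401006009f0200802004f70804008027b8402000013d8600ffe009ea0007fe004f52803fe8027a0801ff0013d0a00ff6009e43007fa004f22003fc802789401fe0013bc000fee009de3007f6004ee0803fa802771401fd0013b4000fe6009da5007f2004ec2003f8802760c01fc0013b0200fde009d82007ee004eb2803f6802750c01fb0013a8800fd6009d01007ea004e62803f4802720801fa001390200fce009c85007e6004e1)) (.leaf (nat_lit 0))) (.node (.leaf (nat_lit 0x801cc0033d04019e4014a4400a5000cf25005db0067808033c0033c1000e90019dc400a3400cec0006770051b0801ca0033b84018a4019d8a008ba00cec5006750067500033a8033a84019d00188c800c6c00ce85006740067400033a0033a0801884019d0000ce600c5250062700673080339003138001148019c8200ce200ce200064e006710803380025c90012e0019c0000cde00aa45005500066f08031d0033784019b800e7460073200cdc20066e0066e)) (.leaf (nat_lit 0)))) (.node (.node (.leaf (nat_lit 0x17a0018d9400c6800bd060038e0063420031a0031a08018c8018c8000c600071ca0038c0063020030d003180801478015000008bc0089040045a0051e100188003160000fd0018b90005c8005c8c002e400610300173001733000b98018584005ec005ecc002f6006261001f1001870801148011484008a00068c2004600034a400224002240800ff800d58c003f4007d02003e8003e84001c4001c4180076000e210002f0003f4c003e8004341000bc000ec))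 (.leaf (nat_lit 0))) (.node (.leaf (nat_lit 0x18047e8047e8001dc8023f42011fa011fa4008fc008fc2804408047e0001928023f04011a4011f81008bf008fb2003b58047d8c01ae8023ec400fd2011f6000637008fb10047d0042010018d4023e86011f4011f41008fa008fa2803b50047d10023e4023e4401088011f21007bf008f90003ae0047c94023e0023e04011f0011f00008f8008f808031a0047c10023dc023dc600e7a011ee1008f7008f72803358047b9002028023d84011ec011ec30069e008f5)) (.leaf (nat_lit 0)))))))))
noncomputable def u5Ft1 : BT Nat := .node u5Ft10 u5Ft11
noncomputable def u5Ft : BT Nat := .node u5Ft0 u5Ft1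
noncomputable def u5F (p : Nat) : Nat := row u5Ft (nat_lit 5) (nat_lit 31) (nat_lit 45) (nat_lit 35184372088831) p
noncomputable def u5P0000000 : BT Pf := (.node (.node (.node (.node (.node (.node (.node (.leaf .df) (.leaf (.cyc (nat_lit 62) [(nat_lit 1587), (nat_lit 867), (nat_lit 866), (nat_lit 1585), (nat_lit 2295)]))) (.node (.leaf (.cyc (nat_lit 25) [(nat_lit 789), (nat_lit 3349), (nat_lit 2970), (nat_lit 3349), (nat_lit 789)])) (.leaf .df))) (.node (.node (.leaf .df) (.leaf .df)) (.node (.leaf (.cyc (nat_lit 37) [(nat_lit 1015), (nat_lit 528), (nat_lit 3485), (nat_lit 911), (nat_lit 1652)])) (.leaf .df)))) (.node (.node (.node (.leaf .df) (.leaf (.cyc (nat_lit 69) [(nat_lit 9215), (nat_lit 2563), (nat_lit 2096), (nat_lit 7444), (nat_lit 2555), (nat_lit 9193), (nat_lit 2555), (nat_lit 7444), (nat_lit 2096), (nat_lit 2563), (nat_lit 9215)]))) (.node (.leaf (.cyc (nat_lit 16) [(nat_lit 679), (nat_lit 316), (nat_lit 3247), (nat_lit 671), (nat_lit 1267)])) (.leaf .df))) (.node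 (.node (.leaf (.cyc (nat_lit 81) [(nat_lit 199), (nat_lit 2879), (nat_lit 81), (nat_lit 2883), (nat_lit 2862), (nat_lit 129), (nat_lit 2945), (nat_lit 2960), (nat_lit 2961), (nat_lit 147), (nat_lit 146)])) (.leaf .df)) (.node (.leaf (.cyc (nat_lit 44) [(nat_lit 1263), (nat_lit 670), (nat_lit 3807), (nat_lit 1206), (nat_lit 1992)])) (.leaf .df))))) (.node (.node (.node (.node (.leaf .df) (.leaf (.cyc (nat_lit 41) [(nat_lit 8108), (nat_lit 7035), (nat_lit 2427)]))) (.node (.leaf (.cyc (nat_lit 51) [(nat_lit 3850), (nat_lit 3968), (nat_lit 3967), (nat_lit 3440), (nat_lit 355), (nat_lit 3192), (nat_lit 585), (nat_lit 4124), (nat_lit 4605), (nat_lit 4604), (nat_lit 1034)])) (.leaf .df))) (.node (.node (.leaf .df) (.leaf .df)) (.node (.leaf (.cyc (nat_lit 47) [(nat_lit 1190), (nat_lit 4993), (nat_lit 1069), (nat_lit 1068), (nat_lit 1828)])) (.leaf .df)))) (.node (.node (.node (.leaf .df) (.leaf (.cyc (nat_lit 16) [(nat_lit 2686), (nat_lit 2475), (nat_lit 6785), (nat_lit 2475), (nat_lit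 2686)]))) (.node (.leaf (.cyc (nat_lit 81) [(nat_lit 5631), (nat_lit 1394), (nat_lit 5627), (nat_lit 5618), (nat_lit 4729), (nat_lit 4632), (nat_lit 4786), (nat_lit 4856), (nat_lit 4857), (nat_lit 1143), (nat_lit 1142)])) (.leaf .df))) (.node (.node (.leaf (.cyc (nat_lit 30) [(nat_lit 323), (nat_lit 2948), (nat_lit 2894), (nat_lit 231), (nat_lit 507)])) (.leaf .df)) (.node (.leaf (.cyc (nat_lit 110) [(nat_lit 7677), (nat_lit 2074), (nat_lit 2073)])) (.leaf .df)))))) (.node (.node (.node (.node (.node (.leaf .df) (.leaf (.cyc (nat_lit 30) [(nat_lit 2360), (nat_lit 8160), (nat_lit 8159), (nat_lit 8160), (nat_lit 2360)]))) (.node (.leaf (.cyc (nat_lit 35) [(nat_lit 695), (nat_lit 326), (nat_lit 3224), (nat_lit 634), (nat_lit 4350)])) (.leaf .df))) (.node (.node (.leaf .df) (.leaf .df)) (.node (.leaf (.cyc (nat_lit 2) [(nat_lit 6398), (nat_lit 5304), (nat_lit 4134), (nat_lit 815), (nat_lit 1511)])) (.leaf .df)))) (.node (.node (.node (.leaf .df) (.leaf (.cyc (nat_lit 25) [(nat_lit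 2628), (nat_lit 9393), (nat_lit 9396), (nat_lit 9393), (nat_lit 2628)]))) (.node (.leaf (.cyc (nat_lit 25) [(nat_lit 1261), (nat_lit 4972), (nat_lit 4973), (nat_lit 4836), (nat_lit 1368)])) (.leaf .df))) (.node (.node (.leaf (.cyc (nat_lit 15) [(nat_lit 377), (nat_lit 2968), (nat_lit 377)])) (.leaf .df)) (.node (.leaf (.cyc (nat_lit 63) [(nat_lit 1305), (nat_lit 692), (nat_lit 3879), (nat_lit 1294), (nat_lit 2079)])) (.leaf .df))))) (.node (.node (.node (.node (.leaf .df) (.leaf (.cyc (nat_lit 16) [(nat_lit 2494), (nat_lit 8950), (nat_lit 8952), (nat_lit 8950), (nat_lit 2494)]))) (.node (.leaf (.cyc (nat_lit 37) [(nat_lit 948), (nat_lit 488), (nat_lit 3197), (nat_lit 608), (nat_lit 1148)])) (.leaf .df))) (.node (.node (.leaf (.cyc (nat_lit 24) [(nat_lit 31), (nat_lit 0), (nat_lit 2759), (nat_lit 0), (nat_lit 31)])) (.leaf .df)) (.node (.leaf (.cyc (nat_lit 45) [(nat_lit 1837), (nat_lit 4717), (nat_lit 4571), (nat_lit 1147), (nat_lit 1918)])) (.leaf .df)))) (.node (.node (.node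 (.leaf .df) (.leaf (.cyc (nat_lit 15) [(nat_lit 2743), (nat_lit 9783), (nat_lit 2743)]))) (.node (.leaf (.cyc (nat_lit 39) [(nat_lit 5830), (nat_lit 4390), (nat_lit 932), (nat_lit 931), (nat_lit 5655), (nat_lit 1489), (nat_lit 5531), (nat_lit 5566), (nat_lit 5883), (nat_lit 5885), (nat_lit 5886)])) (.leaf .df))) (.node (.node (.leaf (.cyc (nat_lit 88) [(nat_lit 629), (nat_lit 631), (nat_lit 3838), (nat_lit 631), (nat_lit 629)])) (.leaf .df)) (.node (.leaf (.cyc (nat_lit 23) [(nat_lit 1468), (nat_lit 1465), (nat_lit 2220)])) (.leaf .df))))))) (.node (.node (.node (.node (.node (.node (.leaf .df) (.leaf (.cyc (nat_lit 34) [(nat_lit 7821), (nat_lit 7811), (nat_lit 1644), (nat_lit 1643), (nat_lit 2330)]))) (.node (.leaf (.cyc (nat_lit 109) [(nat_lit 692), (nat_lit 690), (nat_lit 4223), (nat_lit 690), (nat_lit 692)])) (.leaf .df))) (.node (.node (.leaf .df) (.leaf .df)) (.node (.leaf (.cyc (nat_lit 47) [(nat_lit 1699), (nat_lit 1698), (nat_lit 6269), (nat_lit 1698), (nat_lit 1699)]))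 (.leaf .df)))) (.node (.node (.node (.leaf .df) (.leaf (.cyc (nat_lit 18) [(nat_lit 2596), (nat_lit 2175), (nat_lit 5459), (nat_lit 2175), (nat_lit 2596)]))) (.node (.leaf (.cyc (nat_lit 53) [(nat_lit 1237), (nat_lit 3841), (nat_lit 1186), (nat_lit 4952), (nat_lit 1324)])) (.leaf .df))) (.node (.node (.leaf (.cyc (nat_lit 41) [(nat_lit 281), (nat_lit 2930), (nat_lit 281)])) (.leaf .df)) (.node (.leaf (.cyc (nat_lit 130) [(nat_lit 7294), (nat_lit 5650), (nat_lit 4417), (nat_lit 5650), (nat_lit 7294)])) (.leaf .df))))) (.node (.node (.node (.node (.leaf .df) (.leaf (.cyc (nat_lit 30) [(nat_lit 2463), (nat_lit 1863), (nat_lit 4760), (nat_lit 1863), (nat_lit 2463)]))) (.node (.leaf (.cyc (nat_lit 24) [(nat_lit 1088), (nat_lit 573), (nat_lit 575), (nat_lit 1089), (nat_lit 4734)])) (.leaf .df))) (.node (.node (.leaf .df) (.leaf .df)) (.node (.leaf (.cyc (nat_lit 20) [(nat_lit 1110), (nat_lit 1109), (nat_lit 1875)])) (.leaf .df)))) (.node (.node (.node (.leaf .df) (.leaf (.cyc (nat_lit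 48) [(nat_lit 2717), (nat_lit 9192), (nat_lit 2717)]))) (.node (.leaf (.cyc (nat_lit 20) [(nat_lit 1012), (nat_lit 4154), (nat_lit 1528)])) (.leaf .df))) (.node (.node (.leaf (.cyc (nat_lit 18) [(nat_lit 574), (nat_lit 268), (nat_lit 2923), (nat_lit 268), (nat_lit 574)])) (.leaf .df)) (.node (.leaf (.cyc (nat_lit 124) [(nat_lit 7807), (nat_lit 7162), (nat_lit 7116), (nat_lit 1434), (nat_lit 1435)])) (.leaf .df)))))) (.node (.node (.node (.node (.node (.leaf .df) (.leaf (.cyc (nat_lit 20) [(nat_lit 1762), (nat_lit 1761), (nat_lit 2395)]))) (.node (.leaf (.cyc (nat_lit 46) [(nat_lit 977), (nat_lit 3574), (nat_lit 977)])) (.leaf .df))) (.node (.node (.leaf .df) (.leaf .df)) (.node (.leaf (.cyc (nat_lit 134) [(nat_lit 6527), (nat_lit 6288), (nat_lit 6286), (nat_lit 4432), (nat_lit 3934), (nat_lit 694), (nat_lit 325), (nat_lit 2949), (nat_lit 3224), (nat_lit 635), (nat_lit 1198)])) (.leaf .df)))) (.node (.node (.node (.leaf .df) (.leaf (.cyc (nat_lit 6) [(nat_lit 2657), (nat_lit 8413),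 (nat_lit 6204), (nat_lit 8413), (nat_lit 2657)]))) (.node (.leaf (.cyc (nat_lit 48) [(nat_lit 1431), (nat_lit 3997), (nat_lit 1431)])) (.leaf .df))) (.node (.node (.leaf (.cyc (nat_lit 0) [(nat_lit 373), (nat_lit 154), (nat_lit 3428), (nat_lit 154), (nat_lit 373)])) (.leaf .df)) (.node (.leaf (.cyc (nat_lit 44) [(nat_lit 1686), (nat_lit 936), (nat_lit 4112), (nat_lit 5293), (nat_lit 2115)])) (.leaf .df))))) (.node (.node (.node (.node (.leaf .df) (.leaf (.cyc (nat_lit 18) [(nat_lit 2528), (nat_lit 7246), (nat_lit 5706), (nat_lit 7246), (nat_lit 2528)]))) (.node (.leaf (.cyc (nat_lit 51) [(nat_lit 1069), (nat_lit 1070), (nat_lit 4705), (nat_lit 4591), (nat_lit 4385), (nat_lit 4384), (nat_lit 4648), (nat_lit 4982), (nat_lit 4983), (nat_lit 4991), (nat_lit 1212), (nat_lit 4955)])) (.leaf .df))) (.node (.node (.leaf (.cyc (nat_lit 19) [(nat_lit 107), (nat_lit 2842), (nat_lit 2830), (nat_lit 2857), (nat_lit 129)])) (.leaf .df)) (.node (.leaf (.cyc (nat_lit 112) [(nat_lit 1896), (nat_lit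 7039)])) (.leaf .df)))) (.node (.node (.node (.leaf .df) (.leaf .df)) (.node (.leaf (.cyc (nat_lit 49) [(nat_lit 1093), (nat_lit 4266), (nat_lit 1609)])) (.leaf .df))) (.node (.node (.leaf (.cyc (nat_lit 42) [(nat_lit 3850), (nat_lit 660), (nat_lit 3418), (nat_lit 3101), (nat_lit 3417), (nat_lit 3416), (nat_lit 353), (nat_lit 3072), (nat_lit 448), (nat_lit 3469), (nat_lit 754)])) (.leaf .df)) (.node (.leaf (.cyc (nat_lit 27) [(nat_lit 7237), (nat_lit 5943), (nat_lit 2261)])) (.leaf .df))))))))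
noncomputable def u5P0000001 : BT Pf := (.node (.node (.node (.node (.node (.node (.node (.leaf .df) (.leaf (.cyc (nat_lit 48) [(nat_lit 2314), (nat_lit 6070), (nat_lit 2314)]))) (.node (.leaf (.cyc (nat_lit 87) [(nat_lit 3572), (nat_lit 3571), (nat_lit 502), (nat_lit 4041), (nat_lit 4042), (nat_lit 4022), (nat_lit 409), (nat_lit 177), (nat_lit 176), (nat_lit 406), (nat_lit 826)])) (.leaf .df))) (.node (.node (.leaf .df) (.leaf .df)) (.node (.leaf (.cyc (nat_lit 86) [(nat_lit 6205), (nat_lit 5721), (nat_lit 6177)])) (.leaf .df)))) (.node (.node (.node (.leaf .df) (.leaf (.cyc (nat_lit 21) [(nat_lit 2577), (nat_lit 7584), (nat_lit 6725), (nat_lit 7584), (nat_lit 2577)]))) (.node (.leaf (.cyc (nat_lit 15) [(nat_lit 690), (nat_lit 689), (nat_lit 1301)])) (.leaf .df))) (.node (.node (.leaf (.cyc (nat_lit 18) [(nat_lit 118), (nat_lit 2847), (nat_lit 2995), (nat_lit 97), (nat_lit 235)])) (.leaf .df)) (.node (.leaf (.cyc (nat_lit 46) [(nat_lit 6180), (nat_lit 5248), (nat_lit 2014)]))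 (.leaf .df))))) (.node (.node (.node (.node (.leaf .df) (.leaf (.cyc (nat_lit 26) [(nat_lit 2444), (nat_lit 1834), (nat_lit 4719), (nat_lit 1834), (nat_lit 2444)]))) (.node (.leaf (.cyc (nat_lit 112) [(nat_lit 1002), (nat_lit 4671)])) (.leaf .df))) (.node (.node (.leaf .df) (.leaf .df)) (.node (.leaf (.cyc (nat_lit 47) [(nat_lit 6286), (nat_lit 4438), (nat_lit 991), (nat_lit 6467), (nat_lit 1851)])) (.leaf .df)))) (.node (.node (.node (.leaf .df) (.leaf (.cyc (nat_lit 31) [(nat_lit 2701), (nat_lit 2523), (nat_lit 7226), (nat_lit 2523), (nat_lit 2701)]))) (.node (.leaf (.cyc (nat_lit 31) [(nat_lit 1504), (nat_lit 4377), (nat_lit 4376), (nat_lit 4377), (nat_lit 1504)])) (.leaf .df))) (.node (.node (.leaf (.cyc (nat_lit 112) [(nat_lit 213), (nat_lit 3647), (nat_lit 256)])) (.leaf .df)) (.node (.leaf (.cyc (nat_lit 63) [(nat_lit 6923), (nat_lit 6547), (nat_lit 6948), (nat_lit 6945), (nat_lit 2167)])) (.leaf .df)))))) (.node (.node (.node (.node (.node (.leaf .df) (.leaf (.cyc (nat_lit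 21) [(nat_lit 2377), (nat_lit 6370), (nat_lit 6026), (nat_lit 6370), (nat_lit 2377)]))) (.node (.leaf (.cyc (nat_lit 136) [(nat_lit 815), (nat_lit 813), (nat_lit 4141), (nat_lit 3684), (nat_lit 4413), (nat_lit 4414), (nat_lit 4413), (nat_lit 3684), (nat_lit 4141), (nat_lit 813), (nat_lit 815)])) (.leaf .df))) (.node (.node (.leaf .df) (.leaf .df)) (.node (.leaf (.cyc (nat_lit 93) [(nat_lit 6460), (nat_lit 6461), (nat_lit 6463), (nat_lit 6369), (nat_lit 1139), (nat_lit 599), (nat_lit 4784), (nat_lit 572), (nat_lit 571), (nat_lit 1085), (nat_lit 5001)])) (.leaf .df)))) (.node (.node (.node (.leaf .df) (.leaf (.cyc (nat_lit 61) [(nat_lit 9535), (nat_lit 9533), (nat_lit 2642), (nat_lit 2296), (nat_lit 5948), (nat_lit 4834), (nat_lit 1364), (nat_lit 5365), (nat_lit 2135), (nat_lit 2581), (nat_lit 9299)]))) (.node (.leaf (.cyc (nat_lit 6) [(nat_lit 1405), (nat_lit 4526), (nat_lit 4523), (nat_lit 4526), (nat_lit 1405)])) (.leaf .df))) (.node (.node (.leaf (.cyc (nat_lit 44) [(nat_lit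 424), (nat_lit 3377), (nat_lit 3376), (nat_lit 3377), (nat_lit 424)])) (.leaf .df)) (.node (.leaf (.cyc (nat_lit 21) [(nat_lit 2100), (nat_lit 6819), (nat_lit 6820), (nat_lit 6819), (nat_lit 2100)])) (.leaf .df))))) (.node (.node (.node (.node (.leaf .df) (.leaf (.cyc (nat_lit 25) [(nat_lit 2511), (nat_lit 8906), (nat_lit 8914), (nat_lit 8906), (nat_lit 2511)]))) (.node (.leaf (.cyc (nat_lit 50) [(nat_lit 1173), (nat_lit 623), (nat_lit 3220), (nat_lit 623), (nat_lit 1173)])) (.leaf .df))) (.node (.node (.leaf (.cyc (nat_lit 19) [(nat_lit 2844), (nat_lit 2840), (nat_lit 32), (nat_lit 2807), (nat_lit 79)])) (.leaf .df)) (.node (.leaf (.cyc (nat_lit 80) [(nat_lit 6974), (nat_lit 6364), (nat_lit 6975), (nat_lit 6364), (nat_lit 6974)])) (.leaf .df)))) (.node (.node (.node (.leaf .df) (.leaf .df)) (.node (.leaf (.cyc (nat_lit 15) [(nat_lit 1160), (nat_lit 4234), (nat_lit 1589)])) (.leaf .df))) (.node (.node (.leaf (.cyc (nat_lit 30) [(nat_lit 714), (nat_lit 334), (nat_lit 3449), (nat_lit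 334), (nat_lit 714)])) (.leaf .df)) (.node (.leaf (.cyc (nat_lit 19) [(nat_lit 5722), (nat_lit 5672), (nat_lit 7998), (nat_lit 2238), (nat_lit 2239)])) (.leaf .df))))))) (.node (.node (.node (.node (.node (.node (.leaf .df) (.leaf (.cyc (nat_lit 41) [(nat_lit 7309), (nat_lit 7307), (nat_lit 2345)]))) (.node (.leaf (.cyc (nat_lit 9) [(nat_lit 4286), (nat_lit 853), (nat_lit 3402), (nat_lit 853), (nat_lit 4286)])) (.leaf .df))) (.node (.node (.leaf .df) (.leaf .df)) (.node (.leaf (.cyc (nat_lit 45) [(nat_lit 967), (nat_lit 498), (nat_lit 3552), (nat_lit 966), (nat_lit 1723)])) (.leaf .df)))) (.node (.node (.node (.leaf .df) (.leaf (.cyc (nat_lit 56) [(nat_lit 2613), (nat_lit 7979), (nat_lit 5588), (nat_lit 7979), (nat_lit 2613)]))) (.node (.leaf (.cyc (nat_lit 35) [(nat_lit 717), (nat_lit 337), (nat_lit 336), (nat_lit 715), (nat_lit 1344)])) (.leaf .df))) (.node (.node (.leaf (.cyc (nat_lit 28) [(nat_lit 303), (nat_lit 128), (nat_lit 2860), (nat_lit 139), (nat_lit 334)])) (.leaf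 .df)) (.node (.leaf (.cyc (nat_lit 112) [(nat_lit 2040), (nat_lit 7359)])) (.leaf .df))))) (.node (.node (.node (.node (.leaf .df) (.leaf (.cyc (nat_lit 28) [(nat_lit 2478), (nat_lit 6788), (nat_lit 5254), (nat_lit 6788), (nat_lit 2478)]))) (.node (.leaf (.cyc (nat_lit 30) [(nat_lit 1114), (nat_lit 1113), (nat_lit 4794), (nat_lit 1113), (nat_lit 1114)])) (.leaf .df))) (.node (.node (.leaf (.pin (nat_lit 3) [] [])) (.leaf .df)) (.node (.leaf (.cyc (nat_lit 19) [(nat_lit 1899), (nat_lit 6792), (nat_lit 6793), (nat_lit 6792), (nat_lit 1899)])) (.leaf .df)))) (.node (.node (.node (.leaf .df) (.leaf (.cyc (nat_lit 18) [(nat_lit 2730), (nat_lit 9558), (nat_lit 9556), (nat_lit 9558), (nat_lit 2730)]))) (.node (.leaf (.cyc (nat_lit 41) [(nat_lit 1544), (nat_lit 4196), (nat_lit 1544)])) (.leaf .df))) (.node (.node (.leaf (.cyc (nat_lit 68) [(nat_lit 3775), (nat_lit 293), (nat_lit 2938), (nat_lit 135), (nat_lit 322)])) (.leaf .df)) (.node (.leaf (.cyc (nat_lit 62) [(nat_lit 1806), (nat_lit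 4652), (nat_lit 1659), (nat_lit 6495), (nat_lit 2203)])) (.leaf .df)))))) (.node (.node (.node (.node (.node (.leaf .df) (.leaf (.cyc (nat_lit 19) [(nat_lit 2411), (nat_lit 6522), (nat_lit 4626), (nat_lit 6522), (nat_lit 2411)]))) (.node (.leaf (.cyc (nat_lit 11) [(nat_lit 1006), (nat_lit 4543), (nat_lit 697), (nat_lit 3301), (nat_lit 748)])) (.leaf .df))) (.node (.node (.leaf .df) (.leaf .df)) (.node (.leaf (.cyc (nat_lit 29) [(nat_lit 6586), (nat_lit 6423), (nat_lit 4519), (nat_lit 6423), (nat_lit 6586)])) (.leaf .df)))) (.node (.node (.node (.leaf .df) (.leaf (.cyc (nat_lit 26) [(nat_lit 2593), (nat_lit 2147), (nat_lit 6622), (nat_lit 2426), (nat_lit 2672)]))) (.node (.leaf (.cyc (nat_lit 149) [(nat_lit 4289), (nat_lit 4440), (nat_lit 955), (nat_lit 490), (nat_lit 491), (nat_lit 4076), (nat_lit 385), (nat_lit 384), (nat_lit 786), (nat_lit 1463), (nat_lit 5567)])) (.leaf .df))) (.node (.node (.leaf (.cyc (nat_lit 96) [(nat_lit 3519), (nat_lit 3418), (nat_lit 307), (nat_lit 2956),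 (nat_lit 350)])) (.leaf .df)) (.node (.leaf (.cyc (nat_lit 45) [(nat_lit 1391), (nat_lit 737), (nat_lit 3916), (nat_lit 1355), (nat_lit 2131)])) (.leaf .df))))) (.node (.node (.node (.node (.leaf .df) (.leaf (.cyc (nat_lit 24) [(nat_lit 2129), (nat_lit 5337), (nat_lit 5134), (nat_lit 2054), (nat_lit 2545)]))) (.node (.leaf (.cyc (nat_lit 49) [(nat_lit 663), (nat_lit 3845), (nat_lit 1240)])) (.leaf .df))) (.node (.node (.leaf (.cyc (nat_lit 19) [(nat_lit 169), (nat_lit 2870), (nat_lit 2784), (nat_lit 2870), (nat_lit 169)])) (.leaf .df)) (.node (.leaf (.cyc (nat_lit 30) [(nat_lit 1974), (nat_lit 1194), (nat_lit 3797), (nat_lit 1194), (nat_lit 1974)])) (.leaf .df)))) (.node (.node (.node (.leaf .df) (.leaf .df)) (.node (.leaf (.cyc (nat_lit 56) [(nat_lit 5645), (nat_lit 5646), (nat_lit 898), (nat_lit 899), (nat_lit 1629)])) (.leaf .df))) (.node (.node (.leaf (.cyc (nat_lit 81) [(nat_lit 785), (nat_lit 4030), (nat_lit 3968), (nat_lit 3975), (nat_lit 3969), (nat_lit 3847), (nat_lit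 3331), (nat_lit 166), (nat_lit 2869), (nat_lit 93), (nat_lit 3031), (nat_lit 417)])) (.leaf .df)) (.node (.leaf (.cyc (nat_lit 16) [(nat_lit 2279), (nat_lit 1548), (nat_lit 4191), (nat_lit 1548), (nat_lit 2279)])) (.leaf .df))))))))
noncomputable def u5P000000 : BT Pf := .node u5P0000000 u5P0000001
noncomputable def u5P0000010 : BT Pf := (.node (.node (.node (.node (.node (.node (.node (.leaf .df) (.leaf (.cyc (nat_lit 25) [(nat_lit 2303), (nat_lit 5986), (nat_lit 4243), (nat_lit 5986), (nat_lit 2303)]))) (.node (.leaf (.cyc (nat_lit 48) [(nat_lit 802), (nat_lit 3423), (nat_lit 802)])) (.leaf .df))) (.node (.node (.leaf .df) (.leaf .df)) (.node (.leaf (.cyc (nat_lit 37) [(nat_lit 1074), (nat_lit 565), (nat_lit 3508), (nat_lit 921), (nat_lit 1666)])) (.leaf .df)))) (.node (.node (.node (.leaf .df) (.leaf (.cyc (nat_lit 93) [(nat_lit 2572), (nat_lit 7539), (nat_lit 2425), (nat_lit 8701), (nat_lit 8698), (nat_lit 8699), (nat_lit 8698), (nat_lit 8701), (nat_lit 2425), (nat_lit 7539),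 (nat_lit 2572)]))) (.node (.leaf (.cyc (nat_lit 18) [(nat_lit 1284), (nat_lit 682), (nat_lit 3563), (nat_lit 682), (nat_lit 1284)])) (.leaf .df))) (.node (.node (.leaf (.cyc (nat_lit 24) [(nat_lit 203), (nat_lit 2881), (nat_lit 85), (nat_lit 216), (nat_lit 3102)])) (.leaf .df)) (.node (.leaf (.cyc (nat_lit 44) [(nat_lit 2002), (nat_lit 7092), (nat_lit 7091), (nat_lit 7092), (nat_lit 2002)])) (.leaf .df))))) (.node (.node (.node (.node (.leaf .df) (.leaf (.cyc (nat_lit 37) [(nat_lit 2436), (nat_lit 8721), (nat_lit 8725), (nat_lit 8721), (nat_lit 2436)]))) (.node (.leaf (.cyc (nat_lit 49) [(nat_lit 584), (nat_lit 585), (nat_lit 4639)])) (.leaf .df))) (.node (.node (.leaf .df) (.leaf .df)) (.node (.leaf (.cyc (nat_lit 21) [(nat_lit 1840), (nat_lit 4722), (nat_lit 4420), (nat_lit 4722), (nat_lit 1840)])) (.leaf .df)))) (.node (.node (.node (.leaf .df) (.leaf (.cyc (nat_lit 28) [(nat_lit 2693), (nat_lit 9016), (nat_lit 8578), (nat_lit 9016), (nat_lit 2693)]))) (.node (.leaf (.cyc (nat_lit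 27) [(nat_lit 4839), (nat_lit 4620), (nat_lit 1492)])) (.leaf .df))) (.node (.node (.leaf (.cyc (nat_lit 19) [(nat_lit 529), (nat_lit 3488), (nat_lit 3490), (nat_lit 3488), (nat_lit 529)])) (.leaf .df)) (.node (.leaf (.cyc (nat_lit 62) [(nat_lit 2159), (nat_lit 1389), (nat_lit 3939), (nat_lit 1389), (nat_lit 2159)])) (.leaf .df)))))) (.node (.node (.node (.node (.node (.leaf .df) (.leaf (.cyc (nat_lit 15) [(nat_lit 2370), (nat_lit 6319), (nat_lit 2370)]))) (.node (.leaf (.cyc (nat_lit 67) [(nat_lit 842), (nat_lit 415), (nat_lit 3029), (nat_lit 179), (nat_lit 71), (nat_lit 2795), (nat_lit 70), (nat_lit 178), (nat_lit 411), (nat_lit 837), (nat_lit 4383)])) (.leaf .df))) (.node (.node (.leaf .df) (.leaf .df)) (.node (.leaf (.cyc (nat_lit 63) [(nat_lit 1754), (nat_lit 996), (nat_lit 3602), (nat_lit 996), (nat_lit 1754)])) (.leaf .df)))) (.node (.node (.node (.leaf .df) (.leaf (.cyc (nat_lit 50) [(nat_lit 2450), (nat_lit 7126), (nat_lit 6987), (nat_lit 2288), (nat_lit 2636)]))) (.node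 (.leaf (.cyc (nat_lit 55) [(nat_lit 5402), (nat_lit 1383), (nat_lit 5407), (nat_lit 1383), (nat_lit 5402)])) (.leaf .df))) (.node (.node (.leaf (.cyc (nat_lit 46) [(nat_lit 394), (nat_lit 2977), (nat_lit 394)])) (.leaf .df)) (.node (.leaf (.cyc (nat_lit 50) [(nat_lit 2089), (nat_lit 5205), (nat_lit 4374), (nat_lit 5205), (nat_lit 2089)])) (.leaf .df))))) (.node (.node (.node (.node (.leaf .df) (.leaf (.cyc (nat_lit 6) [(nat_lit 8095), (nat_lit 1764), (nat_lit 4888), (nat_lit 1929), (nat_lit 2501)]))) (.node (.leaf (.cyc (nat_lit 77) [(nat_lit 4762), (nat_lit 4517), (nat_lit 990), (nat_lit 515), (nat_lit 3265), (nat_lit 716), (nat_lit 3906), (nat_lit 644), (nat_lit 3761), (nat_lit 1162), (nat_lit 4895)])) (.leaf .df))) (.node (.node (.leaf (.cyc (nat_lit 42) [(nat_lit 49), (nat_lit 12), (nat_lit 2810), (nat_lit 29), (nat_lit 31), (nat_lit 2817), (nat_lit 31), (nat_lit 29), (nat_lit 2810), (nat_lit 12), (nat_lit 49)])) (.leaf .df)) (.node (.leaf (.cyc (nat_lit 1) [(nat_lit 6942),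 (nat_lit 4957), (nat_lit 1854)])) (.leaf .df)))) (.node (.node (.node (.leaf .df) (.leaf .df)) (.node (.leaf (.cyc (nat_lit 28) [(nat_lit 5391), (nat_lit 4734), (nat_lit 5632), (nat_lit 4853), (nat_lit 1574)])) (.leaf .df))) (.node (.node (.leaf (.cyc (nat_lit 15) [(nat_lit 488), (nat_lit 3248), (nat_lit 680)])) (.leaf .df)) (.node (.leaf (.cyc (nat_lit 105) [(nat_lit 7966), (nat_lit 5580), (nat_lit 2084)])) (.leaf .df))))))) (.node (.node (.node (.node (.node (.node (.leaf .df) (.leaf (.cyc (nat_lit 30) [(nat_lit 2337), (nat_lit 1650), (nat_lit 4314), (nat_lit 1650), (nat_lit 2337)]))) (.node (.leaf (.cyc (nat_lit 41) [(nat_lit 505), (nat_lit 4067), (nat_lit 881)])) (.leaf .df))) (.node (.node (.leaf .df) (.leaf .df)) (.node (.leaf (.cyc (nat_lit 19) [(nat_lit 1577), (nat_lit 5770), (nat_lit 5773), (nat_lit 4723), (nat_lit 1710)])) (.leaf .df)))) (.node (.node (.node (.leaf .df) (.leaf (.cyc (nat_lit 31) [(nat_lit 2604), (nat_lit 2206), (nat_lit 5516), (nat_lit 2206), (nat_lit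 2604)]))) (.node (.leaf (.cyc (nat_lit 20) [(nat_lit 3994), (nat_lit 4616), (nat_lit 1335)])) (.leaf .df))) (.node (.node (.leaf (.cyc (nat_lit 93) [(nat_lit 304), (nat_lit 128), (nat_lit 2855), (nat_lit 2854), (nat_lit 2852), (nat_lit 2851), (nat_lit 2852), (nat_lit 2854), (nat_lit 2855), (nat_lit 128), (nat_lit 304)])) (.leaf .df)) (.node (.leaf (.cyc (nat_lit 126) [(nat_lit 6422), (nat_lit 1150), (nat_lit 4492), (nat_lit 6227), (nat_lit 6228), (nat_lit 1743), (nat_lit 6398), (nat_lit 5306), (nat_lit 2044), (nat_lit 7327), (nat_lit 7326)])) (.leaf .df))))) (.node (.node (.node (.node (.leaf .df) (.leaf (.cyc (nat_lit 18) [(nat_lit 2471), (nat_lit 6780), (nat_lit 5462), (nat_lit 6780), (nat_lit 2471)]))) (.node (.leaf (.cyc (nat_lit 0) [(nat_lit 704), (nat_lit 705), (nat_lit 4767), (nat_lit 705), (nat_lit 704)])) (.leaf .df))) (.node (.node (.leaf .df) (.leaf .df)) (.node (.leaf (.cyc (nat_lit 50) [(nat_lit 1885), (nat_lit 5665), (nat_lit 5666), (nat_lit 5665), (nat_lit 1885)]))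 (.leaf .df)))) (.node (.node (.node (.leaf .df) (.leaf (.cyc (nat_lit 63) [(nat_lit 2585), (nat_lit 2142), (nat_lit 2140), (nat_lit 2584), (nat_lit 2723)]))) (.node (.leaf (.cyc (nat_lit 52) [(nat_lit 5776), (nat_lit 1533), (nat_lit 5790), (nat_lit 1027), (nat_lit 1026)])) (.leaf .df))) (.node (.node (.leaf (.cyc (nat_lit 28) [(nat_lit 603), (nat_lit 3195), (nat_lit 2930), (nat_lit 3195), (nat_lit 603)])) (.leaf .df)) (.node (.leaf (.cyc (nat_lit 20) [(nat_lit 7836), (nat_lit 2194), (nat_lit 2196)])) (.leaf .df)))))) (.node (.node (.node (.node (.node (.leaf .df) (.leaf (.cyc (nat_lit 125) [(nat_lit 2402), (nat_lit 2403), (nat_lit 8605), (nat_lit 2245), (nat_lit 1492), (nat_lit 1491), (nat_lit 5667), (nat_lit 5661), (nat_lit 4686), (nat_lit 4422), (nat_lit 4453), (nat_lit 960), (nat_lit 961), (nat_lit 4448), (nat_lit 978), (nat_lit 1740), (nat_lit 8225)]))) (.node (.leaf (.cyc (nat_lit 63) [(nat_lit 988), (nat_lit 4485), (nat_lit 4486), (nat_lit 4485), (nat_lit 988)])) (.leaf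 .df))) (.node (.node (.leaf .df) (.leaf .df)) (.node (.leaf (.cyc (nat_lit 20) [(nat_lit 1480), (nat_lit 4622), (nat_lit 1794)])) (.leaf .df)))) (.node (.node (.node (.leaf .df) (.leaf (.cyc (nat_lit 30) [(nat_lit 2649), (nat_lit 8610), (nat_lit 2384), (nat_lit 2383), (nat_lit 2665)]))) (.node (.leaf (.cyc (nat_lit 0) [(nat_lit 1450), (nat_lit 1451), (nat_lit 5535), (nat_lit 1451), (nat_lit 1450)])) (.leaf .df))) (.node (.node (.leaf (.cyc (nat_lit 20) [(nat_lit 3485), (nat_lit 459), (nat_lit 462)])) (.leaf .df)) (.node (.leaf (.cyc (nat_lit 18) [(nat_lit 1853), (nat_lit 5896), (nat_lit 1362), (nat_lit 5333), (nat_lit 2123)])) (.leaf .df))))) (.node (.node (.node (.node (.leaf .df) (.leaf (.cyc (nat_lit 50) [(nat_lit 2535), (nat_lit 7322), (nat_lit 5899), (nat_lit 7322), (nat_lit 2535)]))) (.node (.leaf (.cyc (nat_lit 35) [(nat_lit 1043), (nat_lit 552), (nat_lit 551), (nat_lit 4085), (nat_lit 1229)])) (.leaf .df))) (.node (.node (.leaf (.cyc (nat_lit 27) [(nat_lit 2975), (nat_lit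 162), (nat_lit 163)])) (.leaf .df)) (.node (.leaf (.cyc (nat_lit 30) [(nat_lit 1672), (nat_lit 4383), (nat_lit 5891), (nat_lit 5377), (nat_lit 1966)])) (.leaf .df)))) (.node (.node (.node (.leaf .df) (.leaf .df)) (.node (.leaf (.cyc (nat_lit 40) [(nat_lit 6045), (nat_lit 4978), (nat_lit 6045)])) (.leaf .df))) (.node (.node (.leaf (.cyc (nat_lit 3) [(nat_lit 3999), (nat_lit 3554), (nat_lit 3625)])) (.leaf .df)) (.node (.leaf (.cyc (nat_lit 27) [(nat_lit 2270), (nat_lit 5802), (nat_lit 2270)])) (.leaf .df))))))))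
noncomputable def u5P0000011 : BT Pf := (.node (.node (.node (.node (.node (.node (.node (.leaf .df) (.leaf (.cyc (nat_lit 19) [(nat_lit 2322), (nat_lit 1634), (nat_lit 4304), (nat_lit 1634), (nat_lit 2322)]))) (.node (.leaf (.cyc (nat_lit 58) [(nat_lit 437), (nat_lit 192), (nat_lit 2875), (nat_lit 2996), (nat_lit 93), (nat_lit 4043), (nat_lit 4045), (nat_lit 182), (nat_lit 421), (nat_lit 4169), (nat_lit 4190)])) (.leaf .df))) (.node (.node (.leaf .df) (.leaf .df)) (.node (.leaf (.cyc (nat_lit 37) [(nat_lit 1689), (nat_lit 4405), (nat_lit 3535), (nat_lit 4405), (nat_lit 1689)])) (.leaf .df)))) (.node (.node (.node (.leaf .df) (.leaf (.cyc (nat_lit 31) [(nat_lit 2585), (nat_lit 9234), (nat_lit 9233), (nat_lit 9234), (nat_lit 2585)]))) (.node (.leaf (.cyc (nat_lit 27) [(nat_lit 694), (nat_lit 693), (nat_lit 1308)])) (.leaf .df))) (.node (.node (.leaf (.cyc (nat_lit 43) [(nat_lit 250), (nat_lit 251), (nat_lit 3167), (nat_lit 251), (nat_lit 250)])) (.leaf .df)) (.node (.leaf (.cyc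 (nat_lit 26) [(nat_lit 1566), (nat_lit 850), (nat_lit 4615), (nat_lit 1252), (nat_lit 2023)])) (.leaf .df))))) (.node (.node (.node (.node (.leaf .df) (.leaf (.cyc (nat_lit 15) [(nat_lit 1852), (nat_lit 1851), (nat_lit 2454)]))) (.node (.leaf (.cyc (nat_lit 23) [(nat_lit 4702), (nat_lit 1068), (nat_lit 1070)])) (.leaf .df))) (.node (.node (.leaf .df) (.leaf .df)) (.node (.leaf (.cyc (nat_lit 19) [(nat_lit 1863), (nat_lit 4763), (nat_lit 4515), (nat_lit 4763), (nat_lit 1863)])) (.leaf .df)))) (.node (.node (.node (.leaf .df) (.leaf (.cyc (nat_lit 37) [(nat_lit 2673), (nat_lit 8770), (nat_lit 9130), (nat_lit 9819), (nat_lit 9823)]))) (.node (.leaf (.cyc (nat_lit 60) [(nat_lit 1517), (nat_lit 1518), (nat_lit 5727), (nat_lit 1518), (nat_lit 1517)])) (.leaf .df))) (.node (.node (.leaf (.cyc (nat_lit 8) [(nat_lit 514), (nat_lit 3677), (nat_lit 3057), (nat_lit 3677), (nat_lit 514)])) (.leaf .df)) (.node (.leaf (.cyc (nat_lit 25) [(nat_lit 2176), (nat_lit 7425), (nat_lit 7432), (nat_lit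 7425), (nat_lit 2176)])) (.leaf .df)))))) (.node (.node (.node (.node (.node (.leaf .df) (.leaf (.cyc (nat_lit 48) [(nat_lit 2386), (nat_lit 6405), (nat_lit 2386)]))) (.node (.leaf (.cyc (nat_lit 39) [(nat_lit 4176), (nat_lit 4177), (nat_lit 503), (nat_lit 3334), (nat_lit 378), (nat_lit 379), (nat_lit 3336), (nat_lit 3588), (nat_lit 4447), (nat_lit 962), (nat_lit 961)])) (.leaf .df))) (.node (.node (.leaf .df) (.leaf .df)) (.node (.leaf (.cyc (nat_lit 41) [(nat_lit 4837), (nat_lit 6482), (nat_lit 1440)])) (.leaf .df)))) (.node (.node (.node (.leaf .df) (.leaf (.cyc (nat_lit 31) [(nat_lit 2650), (nat_lit 2317), (nat_lit 6085), (nat_lit 2317), (nat_lit 2650)]))) (.node (.leaf (.cyc (nat_lit 0) [(nat_lit 1416), (nat_lit 1417), (nat_lit 5471), (nat_lit 1417), (nat_lit 1416)])) (.leaf .df))) (.node (.node (.leaf (.cyc (nat_lit 67) [(nat_lit 64), (nat_lit 63), (nat_lit 156), (nat_lit 378), (nat_lit 3421), (nat_lit 378), (nat_lit 156), (nat_lit 63), (nat_lit 64), (nat_lit 159), (nat_lit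 387), (nat_lit 3352)])) (.leaf .df)) (.node (.leaf (.cyc (nat_lit 44) [(nat_lit 1848), (nat_lit 5624), (nat_lit 1321), (nat_lit 1323), (nat_lit 2105)])) (.leaf .df))))) (.node (.node (.node (.node (.leaf .df) (.leaf (.cyc (nat_lit 19) [(nat_lit 2052), (nat_lit 6552), (nat_lit 6553), (nat_lit 1994), (nat_lit 2519)]))) (.node (.leaf (.cyc (nat_lit 46) [(nat_lit 1193), (nat_lit 3797), (nat_lit 1193)])) (.leaf .df))) (.node (.node (.leaf (.cyc (nat_lit 35) [(nat_lit 102), (nat_lit 2906), (nat_lit 2909), (nat_lit 2906), (nat_lit 102)])) (.leaf .df)) (.node (.leaf (.cyc (nat_lit 63) [(nat_lit 1182), (nat_lit 627), (nat_lit 3770), (nat_lit 1170), (nat_lit 1945)])) (.leaf .df)))) (.node (.node (.node (.leaf .df) (.leaf .df)) (.node (.leaf (.cyc (nat_lit 125) [(nat_lit 5983), (nat_lit 1598), (nat_lit 5000), (nat_lit 4989), (nat_lit 4889), (nat_lit 617), (nat_lit 287), (nat_lit 122), (nat_lit 2873), (nat_lit 3037), (nat_lit 3019), (nat_lit 244), (nat_lit 526), (nat_lit 1012), (nat_lit 5767),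 (nat_lit 5639), (nat_lit 5638)])) (.leaf .df))) (.node (.node (.leaf (.cyc (nat_lit 53) [(nat_lit 348), (nat_lit 143), (nat_lit 142), (nat_lit 345), (nat_lit 735)])) (.leaf .df)) (.node (.leaf (.cyc (nat_lit 21) [(nat_lit 2250), (nat_lit 1502), (nat_lit 4133), (nat_lit 1502), (nat_lit 2250)])) (.leaf .df))))))) (.node (.node (.node (.node (.node (.node (.leaf .df) (.leaf (.cyc (nat_lit 37) [(nat_lit 2352), (nat_lit 6201), (nat_lit 5860), (nat_lit 6201), (nat_lit 2352)]))) (.node (.leaf (.cyc (nat_lit 41) [(nat_lit 911), (nat_lit 4245), (nat_lit 911)])) (.leaf .df))) (.node (.node (.leaf .df) (.leaf .df)) (.node (.leaf (.cyc (nat_lit 80) [(nat_lit 1441), (nat_lit 5513), (nat_lit 6367), (nat_lit 5513), (nat_lit 1441)])) (.leaf .df)))) (.node (.node (.node (.leaf .df) (.leaf (.cyc (nat_lit 35) [(nat_lit 2621), (nat_lit 9387), (nat_lit 9388), (nat_lit 9387), (nat_lit 2621)]))) (.node (.leaf (.cyc (nat_lit 18) [(nat_lit 1355), (nat_lit 1354), (nat_lit 5342), (nat_lit 1354), (nat_lit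 1355)])) (.leaf .df))) (.node (.node (.leaf (.cyc (nat_lit 20) [(nat_lit 148), (nat_lit 2954), (nat_lit 349)])) (.leaf .df)) (.node (.leaf (.cyc (nat_lit 19) [(nat_lit 2068), (nat_lit 2067), (nat_lit 7390), (nat_lit 2067), (nat_lit 2068)])) (.leaf .df))))) (.node (.node (.node (.node (.leaf .df) (.leaf (.cyc (nat_lit 15) [(nat_lit 7876), (nat_lit 7873), (nat_lit 2487)]))) (.node (.leaf (.cyc (nat_lit 16) [(nat_lit 1130), (nat_lit 3737), (nat_lit 3376), (nat_lit 3737), (nat_lit 1130)])) (.leaf .df))) (.node (.node (.leaf (.pin (nat_lit 35) [(nat_lit 7), (nat_lit 26)] [(nat_lit 26), (nat_lit 7)])) (.leaf .df)) (.node (.leaf (.cyc (nat_lit 24) [(nat_lit 1824), (nat_lit 5002), (nat_lit 4819), (nat_lit 1137), (nat_lit 1908)])) (.leaf .df)))) (.node (.node (.node (.leaf .df) (.leaf (.cyc (nat_lit 44) [(nat_lit 2736), (nat_lit 9495), (nat_lit 9412), (nat_lit 9495), (nat_lit 2736)]))) (.node (.leaf (.cyc (nat_lit 27) [(nat_lit 843), (nat_lit 842), (nat_lit 1555)])) (.leaf .df))) (.node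 (.node (.leaf (.cyc (nat_lit 27) [(nat_lit 297), (nat_lit 296), (nat_lit 639)])) (.leaf .df)) (.node (.leaf (.cyc (nat_lit 50) [(nat_lit 2211), (nat_lit 7805), (nat_lit 7802), (nat_lit 7805), (nat_lit 2211)])) (.leaf .df)))))) (.node (.node (.node (.node (.node (.leaf .df) (.leaf (.cyc (nat_lit 48) [(nat_lit 1835), (nat_lit 6561), (nat_lit 2419)]))) (.node (.leaf (.cyc (nat_lit 49) [(nat_lit 4554), (nat_lit 4555), (nat_lit 1021)])) (.leaf .df))) (.node (.node (.leaf .df) (.leaf .df)) (.node (.leaf (.cyc (nat_lit 62) [(nat_lit 1814), (nat_lit 4681), (nat_lit 3922), (nat_lit 4681), (nat_lit 1814)])) (.leaf .df)))) (.node (.node (.node (.leaf .df) (.leaf (.cyc (nat_lit 54) [(nat_lit 9693), (nat_lit 9694), (nat_lit 9091), (nat_lit 9067), (nat_lit 2420), (nat_lit 6570), (nat_lit 5496), (nat_lit 5156), (nat_lit 7292), (nat_lit 7293), (nat_lit 2524)]))) (.node (.leaf (.cyc (nat_lit 53) [(nat_lit 4458), (nat_lit 4198), (nat_lit 817), (nat_lit 4103), (nat_lit 1477)])) (.leaf .df))) (.node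 (.node (.leaf (.cyc (nat_lit 20) [(nat_lit 227), (nat_lit 225), (nat_lit 497)])) (.leaf .df)) (.node (.leaf (.cyc (nat_lit 37) [(nat_lit 2142), (nat_lit 2141), (nat_lit 7646), (nat_lit 2141), (nat_lit 2142)])) (.leaf .df))))) (.node (.node (.node (.node (.leaf .df) (.leaf (.cyc (nat_lit 21) [(nat_lit 2553), (nat_lit 7403), (nat_lit 5365), (nat_lit 7403), (nat_lit 2553)]))) (.node (.leaf (.cyc (nat_lit 43) [(nat_lit 5040), (nat_lit 1234), (nat_lit 5087), (nat_lit 1248), (nat_lit 1247)])) (.leaf .df))) (.node (.node (.leaf (.cyc (nat_lit 23) [(nat_lit 2934), (nat_lit 173), (nat_lit 3039)])) (.leaf .df)) (.node (.leaf (.cyc (nat_lit 63) [(nat_lit 1981), (nat_lit 6529), (nat_lit 5518), (nat_lit 6529), (nat_lit 1981)])) (.leaf .df)))) (.node (.node (.node (.leaf .df) (.leaf .df)) (.node (.leaf (.cyc (nat_lit 35) [(nat_lit 1640), (nat_lit 6103), (nat_lit 6104), (nat_lit 6103), (nat_lit 1640)])) (.leaf .df))) (.node (.node (.leaf (.cyc (nat_lit 72) [(nat_lit 420), (nat_lit 4054)])) (.leaf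 .df)) (.node (.leaf (.cyc (nat_lit 45) [(nat_lit 6717), (nat_lit 989), (nat_lit 4209), (nat_lit 1570), (nat_lit 2287)])) (.leaf .df))))))))
noncomputable def u5P000001 : BT Pf := .node u5P0000010 u5P0000011
noncomputable def u5P00000 : BT Pf := .node u5P000000 u5P000001
noncomputable def u5P0000100 : BT Pf := (.node (.node (.node (.node (.node (.node (.node (.leaf .df) (.leaf (.cyc (nat_lit 37) [(nat_lit 7941), (nat_lit 1728), (nat_lit 4474), (nat_lit 1589), (nat_lit 2299)]))) (.node (.leaf (.cyc (nat_lit 27) [(nat_lit 482), (nat_lit 3355), (nat_lit 797)])) (.leaf .df))) (.node (.node (.leaf .df) (.leaf .df)) (.node (.leaf (.cyc (nat_lit 46) [(nat_lit 6142), (nat_lit 6159), (nat_lit 6142)])) (.leaf .df)))) (.node (.node (.node (.leaf .df) (.leaf (.cyc (nat_lit 46) [(nat_lit 2568), (nat_lit 7534), (nat_lit 2568)]))) (.node (.leaf (.cyc (nat_lit 46) [(nat_lit 759), (nat_lit 3859), (nat_lit 1274)])) (.leaf .df))) (.node (.node (.leaf (.cyc (nat_lit 6) [(nat_lit 3075), (nat_lit 200),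 (nat_lit 2879), (nat_lit 82), (nat_lit 208)])) (.leaf .df)) (.node (.leaf (.cyc (nat_lit 24) [(nat_lit 1597), (nat_lit 874), (nat_lit 876), (nat_lit 5003), (nat_lit 1997)])) (.leaf .df))))) (.node (.node (.node (.node (.leaf .df) (.leaf (.cyc (nat_lit 34) [(nat_lit 2432), (nat_lit 8710), (nat_lit 8713), (nat_lit 8710), (nat_lit 2432)]))) (.node (.leaf (.cyc (nat_lit 19) [(nat_lit 1039), (nat_lit 4074), (nat_lit 3382), (nat_lit 4074), (nat_lit 1039)])) (.leaf .df))) (.node (.node (.leaf .df) (.leaf .df)) (.node (.leaf (.cyc (nat_lit 26) [(nat_lit 1832), (nat_lit 1831), (nat_lit 6669), (nat_lit 1831), (nat_lit 1832)])) (.leaf .df)))) (.node (.node (.node (.leaf .df) (.leaf (.cyc (nat_lit 118) [(nat_lit 9521), (nat_lit 2575), (nat_lit 8550), (nat_lit 8552), (nat_lit 8553), (nat_lit 8549), (nat_lit 2265), (nat_lit 5773), (nat_lit 4723), (nat_lit 1710), (nat_lit 6305), (nat_lit 2366), (nat_lit 8939), (nat_lit 2489), (nat_lit 8902), (nat_lit 2689), (nat_lit 9742)]))) (.node (.leaf (.cyc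 (nat_lit 48) [(nat_lit 960), (nat_lit 4110), (nat_lit 1487)])) (.leaf .df))) (.node (.node (.leaf (.cyc (nat_lit 43) [(nat_lit 517), (nat_lit 518), (nat_lit 3599), (nat_lit 518), (nat_lit 517)])) (.leaf .df)) (.node (.leaf (.cyc (nat_lit 44) [(nat_lit 7345), (nat_lit 6242), (nat_lit 7507), (nat_lit 7510), (nat_lit 2155)])) (.leaf .df)))))) (.node (.node (.node (.node (.node (.leaf .df) (.leaf (.cyc (nat_lit 65) [(nat_lit 8400), (nat_lit 1692), (nat_lit 6231), (nat_lit 1687), (nat_lit 936), (nat_lit 937), (nat_lit 4405), (nat_lit 943), (nat_lit 1695), (nat_lit 2363), (nat_lit 8462)]))) (.node (.leaf (.cyc (nat_lit 52) [(nat_lit 653), (nat_lit 3264), (nat_lit 713), (nat_lit 4367), (nat_lit 809)])) (.leaf .df))) (.node (.node (.leaf .df) (.leaf .df)) (.node (.leaf (.cyc (nat_lit 48) [(nat_lit 1291), (nat_lit 5202), (nat_lit 1748)])) (.leaf .df)))) (.node (.node (.node (.leaf .df) (.leaf (.cyc (nat_lit 56) [(nat_lit 2633), (nat_lit 2280), (nat_lit 5843), (nat_lit 2280), (nat_lit 2633)])))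 (.node (.leaf (.cyc (nat_lit 48) [(nat_lit 1269), (nat_lit 3924), (nat_lit 1377)])) (.leaf .df))) (.node (.node (.leaf (.cyc (nat_lit 16) [(nat_lit 381), (nat_lit 380), (nat_lit 3342), (nat_lit 380), (nat_lit 381)])) (.leaf .df)) (.node (.leaf (.cyc (nat_lit 149) [(nat_lit 7438), (nat_lit 2084), (nat_lit 1298), (nat_lit 5173), (nat_lit 5581), (nat_lit 5532), (nat_lit 5581), (nat_lit 5173), (nat_lit 1298), (nat_lit 2084), (nat_lit 7438)])) (.leaf .df))))) (.node (.node (.node (.node (.leaf .df) (.leaf (.cyc (nat_lit 53) [(nat_lit 7706), (nat_lit 1815), (nat_lit 4869), (nat_lit 1921), (nat_lit 2498)]))) (.node (.leaf (.cyc (nat_lit 63) [(nat_lit 1153), (nat_lit 3868), (nat_lit 3869), (nat_lit 3868), (nat_lit 1153)])) (.leaf .df))) (.node (.node (.leaf (.cyc (nat_lit 5) [(nat_lit 2830), (nat_lit 22), (nat_lit 2), (nat_lit 3), (nat_lit 13)])) (.leaf .df)) (.node (.leaf (.cyc (nat_lit 49) [(nat_lit 1382), (nat_lit 5134), (nat_lit 6927)])) (.leaf .df)))) (.node (.node (.node (.leaf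 .df) (.leaf (.cyc (nat_lit 41) [(nat_lit 2746), (nat_lit 9817), (nat_lit 2746)]))) (.node (.leaf (.cyc (nat_lit 49) [(nat_lit 958), (nat_lit 959), (nat_lit 5903)])) (.leaf .df))) (.node (.node (.leaf (.cyc (nat_lit 20) [(nat_lit 672), (nat_lit 3283), (nat_lit 672)])) (.leaf .df)) (.node (.leaf (.cyc (nat_lit 8) [(nat_lit 7949), (nat_lit 2199), (nat_lit 1435), (nat_lit 1436), (nat_lit 2202)])) (.leaf .df))))))) (.node (.node (.node (.node (.node (.node (.leaf .df) (.leaf (.cyc (nat_lit 27) [(nat_lit 1650), (nat_lit 1649), (nat_lit 2334)]))) (.node (.leaf (.cyc (nat_lit 81) [(nat_lit 875), (nat_lit 4235), (nat_lit 4238), (nat_lit 775), (nat_lit 366), (nat_lit 3432), (nat_lit 3436), (nat_lit 152), (nat_lit 154), (nat_lit 373), (nat_lit 780)])) (.leaf .df))) (.node (.node (.leaf .df) (.leaf .df)) (.node (.leaf (.cyc (nat_lit 30) [(nat_lit 5418), (nat_lit 5354), (nat_lit 5352), (nat_lit 4429), (nat_lit 1703)])) (.leaf .df)))) (.node (.node (.node (.leaf .df) (.leaf (.cyc (nat_lit 18)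 [(nat_lit 2600), (nat_lit 2179), (nat_lit 5471), (nat_lit 2179), (nat_lit 2600)]))) (.node (.leaf (.cyc (nat_lit 21) [(nat_lit 1331), (nat_lit 1330), (nat_lit 5262), (nat_lit 1330), (nat_lit 1331)])) (.leaf .df))) (.node (.node (.leaf (.cyc (nat_lit 28) [(nat_lit 287), (nat_lit 3066), (nat_lit 3065), (nat_lit 3066), (nat_lit 287)])) (.leaf .df)) (.node (.leaf (.cyc (nat_lit 27) [(nat_lit 2036), (nat_lit 5110), (nat_lit 2036)])) (.leaf .df))))) (.node (.node (.node (.node (.leaf .df) (.leaf (.cyc (nat_lit 107) [(nat_lit 2466), (nat_lit 8329), (nat_lit 8330), (nat_lit 8328), (nat_lit 6237), (nat_lit 2357), (nat_lit 8437), (nat_lit 8723), (nat_lit 2433), (nat_lit 7163), (nat_lit 7156)]))) (.node (.leaf (.cyc (nat_lit 30) [(nat_lit 1099), (nat_lit 3723), (nat_lit 3710), (nat_lit 3723), (nat_lit 1099)])) (.leaf .df))) (.node (.node (.leaf .df) (.leaf .df)) (.node (.leaf (.cyc (nat_lit 63) [(nat_lit 1881), (nat_lit 4807), (nat_lit 4625), (nat_lit 4807), (nat_lit 1881)])) (.leaf .df))))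 (.node (.node (.node (.leaf .df) (.leaf (.cyc (nat_lit 41) [(nat_lit 2720), (nat_lit 9252), (nat_lit 2720)]))) (.node (.leaf (.cyc (nat_lit 20) [(nat_lit 826), (nat_lit 825), (nat_lit 1532)])) (.leaf .df))) (.node (.node (.leaf (.cyc (nat_lit 15) [(nat_lit 590), (nat_lit 3439), (nat_lit 590)])) (.leaf .df)) (.node (.leaf (.cyc (nat_lit 63) [(nat_lit 7248), (nat_lit 5736), (nat_lit 4554), (nat_lit 5500), (nat_lit 2191)])) (.leaf .df)))))) (.node (.node (.node (.node (.node (.leaf .df) (.leaf (.cyc (nat_lit 46) [(nat_lit 2399), (nat_lit 6503), (nat_lit 2399)]))) (.node (.leaf (.cyc (nat_lit 73) [(nat_lit 860), (nat_lit 4495)])) (.leaf .df))) (.node (.node (.leaf .df) (.leaf .df)) (.node (.leaf (.cyc (nat_lit 31) [(nat_lit 6473), (nat_lit 4829), (nat_lit 4013), (nat_lit 1032), (nat_lit 1788)])) (.leaf .df)))) (.node (.node (.node (.leaf .df) (.leaf (.cyc (nat_lit 47) [(nat_lit 2661), (nat_lit 9301), (nat_lit 9302), (nat_lit 9301), (nat_lit 2661)]))) (.node (.leaf (.cyc (nat_lit 26)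 [(nat_lit 1144), (nat_lit 3748), (nat_lit 3625), (nat_lit 4004), (nat_lit 1444)])) (.leaf .df))) (.node (.node (.leaf (.cyc (nat_lit 27) [(nat_lit 451), (nat_lit 3076), (nat_lit 451)])) (.leaf .df)) (.node (.leaf (.cyc (nat_lit 78) [(nat_lit 1729), (nat_lit 1730), (nat_lit 6352), (nat_lit 6967), (nat_lit 7566), (nat_lit 2119), (nat_lit 6886), (nat_lit 6887), (nat_lit 7249), (nat_lit 2018), (nat_lit 2019)])) (.leaf .df))))) (.node (.node (.node (.node (.leaf .df) (.leaf (.cyc (nat_lit 21) [(nat_lit 2271), (nat_lit 5803), (nat_lit 5102), (nat_lit 7275), (nat_lit 2532)]))) (.node (.leaf (.cyc (nat_lit 37) [(nat_lit 1209), (nat_lit 3808), (nat_lit 643), (nat_lit 1217), (nat_lit 5007)])) (.leaf .df))) (.node (.node (.leaf (.cyc (nat_lit 27) [(nat_lit 61), (nat_lit 60), (nat_lit 147)])) (.leaf .df)) (.node (.leaf (.cyc (nat_lit 44) [(nat_lit 1959), (nat_lit 7008), (nat_lit 7007), (nat_lit 7008), (nat_lit 1959)])) (.leaf .df)))) (.node (.node (.node (.leaf .df) (.leaf .df)) (.node (.leaf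 (.cyc (nat_lit 58) [(nat_lit 6029), (nat_lit 1088), (nat_lit 3892), (nat_lit 4282), (nat_lit 3979), (nat_lit 3980), (nat_lit 3979), (nat_lit 4282), (nat_lit 3892), (nat_lit 1088), (nat_lit 6029)])) (.leaf .df))) (.node (.node (.leaf (.cyc (nat_lit 117) [(nat_lit 623), (nat_lit 622), (nat_lit 3983), (nat_lit 622), (nat_lit 623)])) (.leaf .df)) (.node (.leaf (.cyc (nat_lit 30) [(nat_lit 8046), (nat_lit 8044), (nat_lit 1840), (nat_lit 5773), (nat_lit 2265)])) (.leaf .df))))))))
noncomputable def u5P0000101 : BT Pf := (.node (.node (.node (.node (.node (.node (.node (.leaf .df) (.leaf (.cyc (nat_lit 27) [(nat_lit 6768), (nat_lit 6198), (nat_lit 2319)]))) (.node (.leaf (.cyc (nat_lit 133) [(nat_lit 839), (nat_lit 411), (nat_lit 3028), (nat_lit 178), (nat_lit 70), (nat_lit 2795), (nat_lit 21), (nat_lit 36), (nat_lit 93), (nat_lit 230), (nat_lit 505)])) (.leaf .df))) (.node (.node (.leaf .df) (.leaf .df)) (.node (.leaf (.cyc (nat_lit 23) [(nat_lit 937), (nat_lit 935), (nat_lit 1684)]))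 (.leaf .df)))) (.node (.node (.node (.leaf .df) (.leaf (.cyc (nat_lit 20) [(nat_lit 2581), (nat_lit 7624), (nat_lit 2581)]))) (.node (.leaf (.cyc (nat_lit 124) [(nat_lit 5196), (nat_lit 5198), (nat_lit 950), (nat_lit 952), (nat_lit 4438), (nat_lit 4511)])) (.leaf .df))) (.node (.node (.leaf (.cyc (nat_lit 24) [(nat_lit 239), (nat_lit 2903), (nat_lit 2839), (nat_lit 103), (nat_lit 247)])) (.leaf .df)) (.node (.leaf (.cyc (nat_lit 16) [(nat_lit 5739), (nat_lit 5089), (nat_lit 1247), (nat_lit 1246), (nat_lit 2018)])) (.leaf .df))))) (.node (.node (.node (.node (.leaf .df) (.leaf (.cyc (nat_lit 60) [(nat_lit 2447), (nat_lit 2448), (nat_lit 8783), (nat_lit 2448), (nat_lit 2447)]))) (.node (.leaf (.cyc (nat_lit 56) [(nat_lit 1062), (nat_lit 3694), (nat_lit 3681), (nat_lit 3694), (nat_lit 1062)])) (.leaf .df))) (.node (.node (.leaf .df) (.leaf .df)) (.node (.leaf (.cyc (nat_lit 30) [(nat_lit 1857), (nat_lit 5643), (nat_lit 5641), (nat_lit 5643), (nat_lit 1857)])) (.leaf .df)))) (.node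 (.node (.node (.leaf .df) (.leaf (.cyc (nat_lit 46) [(nat_lit 9807), (nat_lit 9793), (nat_lit 9807)]))) (.node (.leaf (.cyc (nat_lit 34) [(nat_lit 1509), (nat_lit 1508), (nat_lit 5711), (nat_lit 1508), (nat_lit 1509)])) (.leaf .df))) (.node (.node (.leaf (.cyc (nat_lit 113) [(nat_lit 3503), (nat_lit 3655), (nat_lit 428)])) (.leaf .df)) (.node (.leaf (.cyc (nat_lit 18) [(nat_lit 1541), (nat_lit 5089), (nat_lit 5298), (nat_lit 7554), (nat_lit 7759)])) (.leaf .df)))))) (.node (.node (.node (.node (.node (.leaf .df) (.leaf (.cyc (nat_lit 62) [(nat_lit 2382), (nat_lit 6384), (nat_lit 5679), (nat_lit 6384), (nat_lit 2382)]))) (.node (.leaf (.cyc (nat_lit 30) [(nat_lit 734), (nat_lit 3277), (nat_lit 3197), (nat_lit 489), (nat_lit 952)])) (.leaf .df))) (.node (.node (.leaf .df) (.leaf .df)) (.node (.leaf (.cyc (nat_lit 112) [(nat_lit 5513), (nat_lit 6477)])) (.leaf .df)))) (.node (.node (.node (.leaf .df) (.leaf (.cyc (nat_lit 34) [(nat_lit 2646), (nat_lit 2310), (nat_lit 6049), (nat_lit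 2310), (nat_lit 2646)]))) (.node (.leaf (.cyc (nat_lit 27) [(nat_lit 1412), (nat_lit 3964), (nat_lit 1412)])) (.leaf .df))) (.node (.node (.leaf (.cyc (nat_lit 21) [(nat_lit 436), (nat_lit 191), (nat_lit 2876), (nat_lit 191), (nat_lit 436)])) (.leaf .df)) (.node (.leaf (.cyc (nat_lit 2) [(nat_lit 6844), (nat_lit 7503), (nat_lit 1322), (nat_lit 5234), (nat_lit 2095)])) (.leaf .df))))) (.node (.node (.node (.node (.leaf .df) (.leaf (.cyc (nat_lit 6) [(nat_lit 7160), (nat_lit 7161), (nat_lit 7115), (nat_lit 1982), (nat_lit 2515)]))) (.node (.leaf (.cyc (nat_lit 50) [(nat_lit 1180), (nat_lit 4930), (nat_lit 4931), (nat_lit 4930), (nat_lit 1180)])) (.leaf .df))) (.node (.node (.leaf (.cyc (nat_lit 23) [(nat_lit 38), (nat_lit 37), (nat_lit 95)])) (.leaf .df)) (.node (.leaf (.cyc (nat_lit 20) [(nat_lit 1941), (nat_lit 4912), (nat_lit 1941)])) (.leaf .df)))) (.node (.node (.node (.leaf .df) (.leaf .df)) (.node (.leaf (.cyc (nat_lit 34) [(nat_lit 1593), (nat_lit 871), (nat_lit 3461), (nat_lit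 871), (nat_lit 1593)])) (.leaf .df))) (.node (.node (.leaf (.cyc (nat_lit 37) [(nat_lit 726), (nat_lit 3738), (nat_lit 3746), (nat_lit 3738), (nat_lit 726)])) (.leaf .df)) (.node (.leaf (.cyc (nat_lit 20) [(nat_lit 2245), (nat_lit 5666), (nat_lit 2245)])) (.leaf .df))))))) (.node (.node (.node (.node (.node (.node (.leaf .df) (.leaf (.cyc (nat_lit 33) [(nat_lit 8399), (nat_lit 2348), (nat_lit 1667), (nat_lit 5223), (nat_lit 2094)]))) (.node (.leaf (.cyc (nat_lit 34) [(nat_lit 902), (nat_lit 3833), (nat_lit 3839), (nat_lit 3833), (nat_lit 902)])) (.leaf .df))) (.node (.node (.leaf .df) (.leaf .df)) (.node (.leaf (.cyc (nat_lit 62) [(nat_lit 1730), (nat_lit 5960), (nat_lit 5959), (nat_lit 5960), (nat_lit 1730)])) (.leaf .df)))) (.node (.node (.node (.leaf .df) (.leaf (.cyc (nat_lit 37) [(nat_lit 2617), (nat_lit 7997), (nat_lit 6278), (nat_lit 7997), (nat_lit 2617)]))) (.node (.leaf (.cyc (nat_lit 52) [(nat_lit 1220), (nat_lit 1221), (nat_lit 5327), (nat_lit 1221), (nat_lit 1220)]))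 (.leaf .df))) (.node (.node (.leaf (.cyc (nat_lit 28) [(nat_lit 3277), (nat_lit 3198), (nat_lit 3020), (nat_lit 3198), (nat_lit 3277)])) (.leaf .df)) (.node (.leaf (.cyc (nat_lit 21) [(nat_lit 7168), (nat_lit 7360), (nat_lit 1281), (nat_lit 1279), (nat_lit 2062)])) (.leaf .df))))) (.node (.node (.node (.node (.leaf .df) (.leaf (.cyc (nat_lit 128) [(nat_lit 2483), (nat_lit 6800), (nat_lit 1881), (nat_lit 4807), (nat_lit 4630), (nat_lit 4624), (nat_lit 4630), (nat_lit 4807), (nat_lit 1881), (nat_lit 6800), (nat_lit 2483)]))) (.node (.leaf (.cyc (nat_lit 62) [(nat_lit 1120), (nat_lit 4123), (nat_lit 4122), (nat_lit 4123), (nat_lit 1120)])) (.leaf .df))) (.node (.node (.leaf (.pin (nat_lit 19) [] [])) (.leaf .df)) (.node (.leaf (.cyc (nat_lit 21) [(nat_lit 1904), (nat_lit 6587), (nat_lit 6592), (nat_lit 6587), (nat_lit 1904)])) (.leaf .df)))) (.node (.node (.node (.leaf .df) (.leaf (.cyc (nat_lit 53) [(nat_lit 2733), (nat_lit 9410), (nat_lit 9252), (nat_lit 9410), (nat_lit 2733)])))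 (.node (.leaf (.cyc (nat_lit 27) [(nat_lit 1549), (nat_lit 4191), (nat_lit 1549)])) (.leaf .df))) (.node (.node (.leaf (.cyc (nat_lit 47) [(nat_lit 628), (nat_lit 3222), (nat_lit 3439), (nat_lit 3222), (nat_lit 628)])) (.leaf .df)) (.node (.leaf (.cyc (nat_lit 112) [(nat_lit 2083), (nat_lit 7887)])) (.leaf .df)))))) (.node (.node (.node (.node (.node (.leaf .df) (.leaf (.cyc (nat_lit 87) [(nat_lit 2415), (nat_lit 6532), (nat_lit 6364), (nat_lit 1665), (nat_lit 4338), (nat_lit 4508), (nat_lit 4338), (nat_lit 1665), (nat_lit 6364), (nat_lit 6532), (nat_lit 2415)]))) (.node (.leaf (.cyc (nat_lit 20) [(nat_lit 1011), (nat_lit 3611), (nat_lit 1011)])) (.leaf .df))) (.node (.node (.leaf .df) (.leaf .df)) (.node (.leaf (.cyc (nat_lit 41) [(nat_lit 1807), (nat_lit 4654), (nat_lit 1807)])) (.leaf .df)))) (.node (.node (.node (.leaf .df) (.leaf (.cyc (nat_lit 45) [(nat_lit 2676), (nat_lit 8767), (nat_lit 6847), (nat_lit 8767), (nat_lit 2676)]))) (.node (.leaf (.cyc (nat_lit 29) [(nat_lit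 5582), (nat_lit 872), (nat_lit 441), (nat_lit 443), (nat_lit 877)])) (.leaf .df))) (.node (.node (.leaf (.cyc (nat_lit 15) [(nat_lit 3332), (nat_lit 3115), (nat_lit 486)])) (.leaf .df)) (.node (.leaf (.cyc (nat_lit 25) [(nat_lit 2137), (nat_lit 7523), (nat_lit 5759), (nat_lit 7523), (nat_lit 2137)])) (.leaf .df))))) (.node (.node (.node (.node (.leaf .df) (.leaf (.cyc (nat_lit 62) [(nat_lit 2548), (nat_lit 7375), (nat_lit 7174), (nat_lit 7375), (nat_lit 2548)]))) (.node (.leaf (.cyc (nat_lit 30) [(nat_lit 1243), (nat_lit 3969), (nat_lit 3975), (nat_lit 3969), (nat_lit 1243)])) (.leaf .df))) (.node (.node (.leaf (.cyc (nat_lit 63) [(nat_lit 176), (nat_lit 2900), (nat_lit 2901), (nat_lit 2900), (nat_lit 176)])) (.leaf .df)) (.node (.leaf (.cyc (nat_lit 81) [(nat_lit 1979), (nat_lit 4967), (nat_lit 1199), (nat_lit 6548), (nat_lit 6948), (nat_lit 6947), (nat_lit 1596), (nat_lit 5961), (nat_lit 5962), (nat_lit 5530), (nat_lit 6055)])) (.leaf .df)))) (.node (.node (.node (.leaf .df)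 (.leaf .df)) (.node (.leaf (.cyc (nat_lit 66) [(nat_lit 6094), (nat_lit 1330), (nat_lit 707), (nat_lit 706), (nat_lit 1328)])) (.leaf .df))) (.node (.node (.leaf (.cyc (nat_lit 114) [(nat_lit 4024), (nat_lit 4038), (nat_lit 2913)])) (.leaf .df)) (.node (.leaf (.cyc (nat_lit 18) [(nat_lit 2283), (nat_lit 2282), (nat_lit 8142), (nat_lit 2282), (nat_lit 2283)])) (.leaf .df))))))))
noncomputable def u5P000010 : BT Pf := .node u5P0000100 u5P0000101
noncomputable def u5P0000110 : BT Pf := (.node (.node (.node (.node (.node (.node (.node (.leaf .df) (.leaf (.cyc (nat_lit 44) [(nat_lit 2308), (nat_lit 6029), (nat_lit 4733), (nat_lit 6029), (nat_lit 2308)]))) (.node (.leaf (.cyc (nat_lit 37) [(nat_lit 814), (nat_lit 813), (nat_lit 4143), (nat_lit 813), (nat_lit 814)])) (.leaf .df))) (.node (.node (.leaf .df) (.leaf .df)) (.node (.leaf (.cyc (nat_lit 54) [(nat_lit 6190), (nat_lit 1673), (nat_lit 4386), (nat_lit 998), (nat_lit 4533), (nat_lit 3869), (nat_lit 4533), (nat_lit 998), (nat_lit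 4386), (nat_lit 1673), (nat_lit 6190)])) (.leaf .df)))) (.node (.node (.node (.leaf .df) (.leaf (.cyc (nat_lit 37) [(nat_lit 2570), (nat_lit 8286), (nat_lit 9069), (nat_lit 9259), (nat_lit 9263)]))) (.node (.leaf (.cyc (nat_lit 52) [(nat_lit 5161), (nat_lit 1290), (nat_lit 5167), (nat_lit 1290), (nat_lit 5161)])) (.leaf .df))) (.node (.node (.leaf (.cyc (nat_lit 87) [(nat_lit 227), (nat_lit 3098), (nat_lit 213), (nat_lit 84), (nat_lit 2818), (nat_lit 2817), (nat_lit 2818), (nat_lit 84), (nat_lit 213), (nat_lit 3098), (nat_lit 227)])) (.leaf .df)) (.node (.leaf (.cyc (nat_lit 133) [(nat_lit 2008), (nat_lit 1228), (nat_lit 3823), (nat_lit 3825), (nat_lit 4001), (nat_lit 3999), (nat_lit 497), (nat_lit 3676), (nat_lit 561), (nat_lit 1065), (nat_lit 1825)])) (.leaf .df))))) (.node (.node (.node (.node (.leaf .df) (.leaf (.cyc (nat_lit 28) [(nat_lit 2440), (nat_lit 7216), (nat_lit 7215), (nat_lit 7216), (nat_lit 2440)]))) (.node (.leaf (.cyc (nat_lit 24) [(nat_lit 1052), (nat_lit 555),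 (nat_lit 3182), (nat_lit 555), (nat_lit 1052)])) (.leaf .df))) (.node (.node (.leaf .df) (.leaf .df)) (.node (.leaf (.cyc (nat_lit 44) [(nat_lit 1846), (nat_lit 1082), (nat_lit 3706), (nat_lit 1082), (nat_lit 1846)])) (.leaf .df)))) (.node (.node (.node (.leaf .df) (.leaf (.cyc (nat_lit 30) [(nat_lit 2697), (nat_lit 2696), (nat_lit 9774), (nat_lit 2696), (nat_lit 2697)]))) (.node (.leaf (.cyc (nat_lit 49) [(nat_lit 805), (nat_lit 4130), (nat_lit 1497)])) (.leaf .df))) (.node (.node (.leaf (.cyc (nat_lit 15) [(nat_lit 254), (nat_lit 253), (nat_lit 541)])) (.leaf .df)) (.node (.leaf (.cyc (nat_lit 19) [(nat_lit 2163), (nat_lit 1398), (nat_lit 3942), (nat_lit 1398), (nat_lit 2163)])) (.leaf .df)))))) (.node (.node (.node (.node (.node (.leaf .df) (.leaf (.cyc (nat_lit 45) [(nat_lit 2373), (nat_lit 8092), (nat_lit 8091), (nat_lit 8092), (nat_lit 2373)]))) (.node (.leaf (.cyc (nat_lit 47) [(nat_lit 802), (nat_lit 397), (nat_lit 3115), (nat_lit 485), (nat_lit 940)])) (.leaf .df))) (.node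 (.node (.leaf .df) (.leaf .df)) (.node (.leaf (.cyc (nat_lit 37) [(nat_lit 1762), (nat_lit 5884), (nat_lit 5885), (nat_lit 5884), (nat_lit 1762)])) (.leaf .df)))) (.node (.node (.node (.leaf .df) (.leaf (.cyc (nat_lit 39) [(nat_lit 9228), (nat_lit 7542), (nat_lit 7227), (nat_lit 2012), (nat_lit 2011), (nat_lit 7285), (nat_lit 6095), (nat_lit 5935), (nat_lit 2291), (nat_lit 8174), (nat_lit 2639)]))) (.node (.leaf (.cyc (nat_lit 47) [(nat_lit 1391), (nat_lit 1390), (nat_lit 5421), (nat_lit 1390), (nat_lit 1391)])) (.leaf .df))) (.node (.node (.leaf (.cyc (nat_lit 48) [(nat_lit 405), (nat_lit 3018), (nat_lit 405)])) (.leaf .df)) (.node (.leaf (.cyc (nat_lit 30) [(nat_lit 2094), (nat_lit 1311), (nat_lit 4291), (nat_lit 1311), (nat_lit 2094)])) (.leaf .df))))) (.node (.node (.node (.node (.leaf .df) (.leaf (.cyc (nat_lit 24) [(nat_lit 2467), (nat_lit 7130), (nat_lit 1957), (nat_lit 7044), (nat_lit 2506)]))) (.node (.leaf (.cyc (nat_lit 51) [(nat_lit 1167), (nat_lit 3766), (nat_lit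 3257), (nat_lit 3720), (nat_lit 1101), (nat_lit 4753), (nat_lit 1101), (nat_lit 3720), (nat_lit 3257), (nat_lit 3766), (nat_lit 1167)])) (.leaf .df))) (.node (.node (.leaf (.cyc (nat_lit 15) [(nat_lit 2791), (nat_lit 2803), (nat_lit 63)])) (.leaf .df)) (.node (.leaf (.cyc (nat_lit 49) [(nat_lit 6931), (nat_lit 6932), (nat_lit 1932)])) (.leaf .df)))) (.node (.node (.node (.leaf .df) (.leaf .df)) (.node (.leaf (.cyc (nat_lit 47) [(nat_lit 4789), (nat_lit 4354), (nat_lit 4202), (nat_lit 865), (nat_lit 1581)])) (.leaf .df))) (.node (.node (.leaf (.cyc (nat_lit 28) [(nat_lit 3757), (nat_lit 3289), (nat_lit 338), (nat_lit 3250), (nat_lit 694)])) (.leaf .df)) (.node (.leaf (.cyc (nat_lit 78) [(nat_lit 1774), (nat_lit 4575), (nat_lit 4569), (nat_lit 4568), (nat_lit 1016), (nat_lit 1015), (nat_lit 5575), (nat_lit 5571), (nat_lit 1475), (nat_lit 2233), (nat_lit 7983)])) (.leaf .df))))))) (.node (.node (.node (.node (.node (.node (.leaf .df) (.leaf (.cyc (nat_lit 39) [(nat_lit 1694), (nat_lit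 4397), (nat_lit 4014), (nat_lit 4012), (nat_lit 4108), (nat_lit 595), (nat_lit 3484), (nat_lit 911), (nat_lit 1653), (nat_lit 6147), (nat_lit 2340)]))) (.node (.leaf (.cyc (nat_lit 47) [(nat_lit 645), (nat_lit 3257), (nat_lit 3259), (nat_lit 3476), (nat_lit 890)])) (.leaf .df))) (.node (.node (.leaf .df) (.leaf .df)) (.node (.leaf (.cyc (nat_lit 49) [(nat_lit 981), (nat_lit 4447), (nat_lit 1716)])) (.leaf .df)))) (.node (.node (.node (.leaf .df) (.leaf (.cyc (nat_lit 37) [(nat_lit 2337), (nat_lit 8336), (nat_lit 8339), (nat_lit 9387), (nat_lit 9391)]))) (.node (.leaf (.cyc (nat_lit 26) [(nat_lit 732), (nat_lit 342), (nat_lit 3263), (nat_lit 711), (nat_lit 1339)])) (.leaf .df))) (.node (.node (.leaf (.cyc (nat_lit 56) [(nat_lit 222), (nat_lit 3002), (nat_lit 228), (nat_lit 3123), (nat_lit 319)])) (.leaf .df)) (.node (.leaf (.cyc (nat_lit 24) [(nat_lit 1989), (nat_lit 1987), (nat_lit 7282), (nat_lit 7283), (nat_lit 2050)])) (.leaf .df))))) (.node (.node (.node (.node (.leaf .df)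 (.leaf (.cyc (nat_lit 56) [(nat_lit 2475), (nat_lit 6784), (nat_lit 4777), (nat_lit 6784), (nat_lit 2475)]))) (.node (.leaf (.cyc (nat_lit 114) [(nat_lit 1087), (nat_lit 4783)])) (.leaf .df))) (.node (.node (.leaf .df) (.leaf .df)) (.node (.leaf (.cyc (nat_lit 130) [(nat_lit 6831), (nat_lit 6445), (nat_lit 6444), (nat_lit 6445), (nat_lit 6831)])) (.leaf .df)))) (.node (.node (.node (.leaf .df) (.leaf (.cyc (nat_lit 15) [(nat_lit 2727), (nat_lit 9328), (nat_lit 2727)]))) (.node (.leaf (.cyc (nat_lit 48) [(nat_lit 1069), (nat_lit 4662), (nat_lit 1539)])) (.leaf .df))) (.node (.node (.leaf (.cyc (nat_lit 26) [(nat_lit 501), (nat_lit 3122), (nat_lit 2946), (nat_lit 284), (nat_lit 615)])) (.leaf .df)) (.node (.leaf (.cyc (nat_lit 42) [(nat_lit 5542), (nat_lit 5543), (nat_lit 2168), (nat_lit 7747), (nat_lit 7745), (nat_lit 2193), (nat_lit 7832), (nat_lit 7829), (nat_lit 7808), (nat_lit 5510), (nat_lit 2199)])) (.leaf .df)))))) (.node (.node (.node (.node (.node (.leaf .df) (.leaf (.cyc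 (nat_lit 34) [(nat_lit 2407), (nat_lit 2406), (nat_lit 8621), (nat_lit 2406), (nat_lit 2407)]))) (.node (.leaf (.cyc (nat_lit 18) [(nat_lit 995), (nat_lit 3598), (nat_lit 3575), (nat_lit 3598), (nat_lit 995)])) (.leaf .df))) (.node (.node (.leaf .df) (.leaf .df)) (.node (.leaf (.cyc (nat_lit 112) [(nat_lit 1757), (nat_lit 6575)])) (.leaf .df)))) (.node (.node (.node (.leaf .df) (.leaf (.cyc (nat_lit 20) [(nat_lit 2669), (nat_lit 8632), (nat_lit 2669)]))) (.node (.leaf (.cyc (nat_lit 35) [(nat_lit 4138), (nat_lit 5040), (nat_lit 831), (nat_lit 4022), (nat_lit 1459)])) (.leaf .df))) (.node (.node (.leaf (.cyc (nat_lit 18) [(nat_lit 467), (nat_lit 3087), (nat_lit 3062), (nat_lit 3087), (nat_lit 467)])) (.leaf .df)) (.node (.leaf (.cyc (nat_lit 19) [(nat_lit 2127), (nat_lit 5335), (nat_lit 4865), (nat_lit 5335), (nat_lit 2127)])) (.leaf .df))))) (.node (.node (.node (.node (.leaf .df) (.leaf (.cyc (nat_lit 45) [(nat_lit 2541), (nat_lit 2047), (nat_lit 5123), (nat_lit 2047), (nat_lit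 2541)]))) (.node (.leaf (.cyc (nat_lit 113) [(nat_lit 1233), (nat_lit 5039)])) (.leaf .df))) (.node (.node (.leaf (.cyc (nat_lit 72) [(nat_lit 87), (nat_lit 2991), (nat_lit 92)])) (.leaf .df)) (.node (.leaf (.cyc (nat_lit 24) [(nat_lit 1215), (nat_lit 642), (nat_lit 3794), (nat_lit 1190), (nat_lit 1970)])) (.leaf .df)))) (.node (.node (.node (.leaf .df) (.leaf .df)) (.node (.leaf (.cyc (nat_lit 20) [(nat_lit 897), (nat_lit 894), (nat_lit 1625)])) (.leaf .df))) (.node (.node (.leaf (.cyc (nat_lit 6) [(nat_lit 778), (nat_lit 3319), (nat_lit 3294), (nat_lit 3319), (nat_lit 778)])) (.leaf .df)) (.node (.leaf (.cyc (nat_lit 47) [(nat_lit 2274), (nat_lit 7760), (nat_lit 7757), (nat_lit 7760), (nat_lit 2274)])) (.leaf .df))))))))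
noncomputable def u5P0000111 : BT Pf := (.node (.node (.node (.node (.node (.node (.node (.leaf .df) (.leaf (.cyc (nat_lit 26) [(nat_lit 2137), (nat_lit 5379), (nat_lit 1381), (nat_lit 6099), (nat_lit 2325)]))) (.node (.leaf (.cyc (nat_lit 30) [(nat_lit 853), (nat_lit 3674), (nat_lit 3412), (nat_lit 3674), (nat_lit 853)])) (.leaf .df))) (.node (.node (.leaf .df) (.leaf .df)) (.node (.leaf (.cyc (nat_lit 21) [(nat_lit 1695), (nat_lit 4402), (nat_lit 3539), (nat_lit 4402), (nat_lit 1695)])) (.leaf .df)))) (.node (.node (.node (.leaf .df) (.leaf (.cyc (nat_lit 56) [(nat_lit 2591), (nat_lit 7662), (nat_lit 5397), (nat_lit 7662), (nat_lit 2591)]))) (.node (.leaf (.cyc (nat_lit 76) [(nat_lit 5231), (nat_lit 874), (nat_lit 442), (nat_lit 3415), (nat_lit 3957)])) (.leaf .df))) (.node (.node (.leaf (.cyc (nat_lit 62) [(nat_lit 264), (nat_lit 2929), (nat_lit 2931), (nat_lit 2929), (nat_lit 264)])) (.leaf .df)) (.node (.leaf (.cyc (nat_lit 36) [(nat_lit 1635), (nat_lit 5075), (nat_lit 5074),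 (nat_lit 5073), (nat_lit 1244), (nat_lit 661), (nat_lit 662), (nat_lit 1247), (nat_lit 5084), (nat_lit 1255), (nat_lit 2029)])) (.leaf .df))))) (.node (.node (.node (.node (.leaf .df) (.leaf (.cyc (nat_lit 48) [(nat_lit 2458), (nat_lit 6731), (nat_lit 2458)]))) (.node (.leaf (.cyc (nat_lit 90) [(nat_lit 1075), (nat_lit 1073), (nat_lit 4719), (nat_lit 1073), (nat_lit 1075)])) (.leaf .df))) (.node (.node (.leaf .df) (.leaf .df)) (.node (.leaf (.cyc (nat_lit 34) [(nat_lit 1865), (nat_lit 1102), (nat_lit 1103), (nat_lit 1867), (nat_lit 6766)])) (.leaf .df)))) (.node (.node (.node (.leaf .df) (.leaf (.cyc (nat_lit 19) [(nat_lit 2690), (nat_lit 8920), (nat_lit 7370), (nat_lit 9163), (nat_lit 2713)]))) (.node (.leaf (.cyc (nat_lit 67) [(nat_lit 5741), (nat_lit 4734), (nat_lit 5391), (nat_lit 1376), (nat_lit 3923), (nat_lit 1149), (nat_lit 4868), (nat_lit 822), (nat_lit 3375), (nat_lit 821), (nat_lit 1523)])) (.leaf .df))) (.node (.node (.leaf (.cyc (nat_lit 46) [(nat_lit 3605), (nat_lit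 3508), (nat_lit 564)])) (.leaf .df)) (.node (.leaf (.cyc (nat_lit 6) [(nat_lit 2182), (nat_lit 1419), (nat_lit 3978), (nat_lit 1419), (nat_lit 2182)])) (.leaf .df)))))) (.node (.node (.node (.node (.node (.leaf .df) (.leaf (.cyc (nat_lit 27) [(nat_lit 8558), (nat_lit 2390), (nat_lit 2391)]))) (.node (.leaf (.cyc (nat_lit 19) [(nat_lit 968), (nat_lit 3558), (nat_lit 3563), (nat_lit 3558), (nat_lit 968)])) (.leaf .df))) (.node (.node (.leaf .df) (.leaf .df)) (.node (.leaf (.cyc (nat_lit 47) [(nat_lit 1777), (nat_lit 4579), (nat_lit 4346), (nat_lit 4579), (nat_lit 1777)])) (.leaf .df)))) (.node (.node (.node (.leaf .df) (.leaf (.cyc (nat_lit 34) [(nat_lit 2480), (nat_lit 1877), (nat_lit 6133), (nat_lit 2333), (nat_lit 2653)]))) (.node (.leaf (.cyc (nat_lit 24) [(nat_lit 1425), (nat_lit 5478), (nat_lit 5481), (nat_lit 5478), (nat_lit 1425)])) (.leaf .df))) (.node (.node (.leaf (.cyc (nat_lit 116) [(nat_lit 355), (nat_lit 2960), (nat_lit 3438), (nat_lit 2960), (nat_lit 355)])) (.leaf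 .df)) (.node (.leaf (.cyc (nat_lit 19) [(nat_lit 2109), (nat_lit 5261), (nat_lit 5073), (nat_lit 5261), (nat_lit 2109)])) (.leaf .df))))) (.node (.node (.node (.node (.leaf .df) (.leaf (.cyc (nat_lit 48) [(nat_lit 8866), (nat_lit 8064), (nat_lit 2525)]))) (.node (.leaf (.cyc (nat_lit 62) [(nat_lit 1206), (nat_lit 3805), (nat_lit 3392), (nat_lit 3805), (nat_lit 1206)])) (.leaf .df))) (.node (.node (.leaf (.cyc (nat_lit 27) [(nat_lit 118), (nat_lit 2848), (nat_lit 118)])) (.leaf .df)) (.node (.leaf (.cyc (nat_lit 27) [(nat_lit 1950), (nat_lit 4933), (nat_lit 1950)])) (.leaf .df)))) (.node (.node (.node (.leaf .df) (.leaf .df)) (.node (.leaf (.cyc (nat_lit 30) [(nat_lit 962), (nat_lit 961), (nat_lit 4448), (nat_lit 4256), (nat_lit 1604)])) (.leaf .df))) (.node (.node (.leaf (.cyc (nat_lit 47) [(nat_lit 746), (nat_lit 745), (nat_lit 3950), (nat_lit 745), (nat_lit 746)])) (.leaf .df)) (.node (.leaf (.cyc (nat_lit 50) [(nat_lit 8028), (nat_lit 5721), (nat_lit 1514), (nat_lit 5718),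 (nat_lit 2255)])) (.leaf .df))))))) (.node (.node (.node (.node (.node (.node (.leaf .df) (.leaf (.cyc (nat_lit 24) [(nat_lit 2356), (nat_lit 6706), (nat_lit 6708), (nat_lit 6706), (nat_lit 2356)]))) (.node (.leaf (.cyc (nat_lit 27) [(nat_lit 919), (nat_lit 3502), (nat_lit 919)])) (.leaf .df))) (.node (.node (.leaf .df) (.leaf .df)) (.node (.leaf (.cyc (nat_lit 28) [(nat_lit 1495), (nat_lit 4423), (nat_lit 4453), (nat_lit 4481), (nat_lit 1738)])) (.leaf .df)))) (.node (.node (.node (.leaf .df) (.leaf (.cyc (nat_lit 20) [(nat_lit 2404), (nat_lit 8056), (nat_lit 2625)]))) (.node (.leaf (.cyc (nat_lit 39) [(nat_lit 999), (nat_lit 4386), (nat_lit 4425), (nat_lit 4437), (nat_lit 4522), (nat_lit 993), (nat_lit 3600), (nat_lit 517), (nat_lit 518), (nat_lit 3919), (nat_lit 1361)])) (.leaf .df))) (.node (.node (.leaf (.cyc (nat_lit 106) [(nat_lit 362), (nat_lit 363), (nat_lit 3311), (nat_lit 363), (nat_lit 362)])) (.leaf .df)) (.node (.leaf (.cyc (nat_lit 21) [(nat_lit 1323), (nat_lit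 1320), (nat_lit 5259), (nat_lit 5165), (nat_lit 2075)])) (.leaf .df))))) (.node (.node (.node (.node (.leaf .df) (.leaf (.cyc (nat_lit 50) [(nat_lit 2451), (nat_lit 1844), (nat_lit 6690), (nat_lit 6868), (nat_lit 2490)]))) (.node (.leaf (.cyc (nat_lit 127) [(nat_lit 4837), (nat_lit 1140), (nat_lit 4847), (nat_lit 1140), (nat_lit 4837)])) (.leaf .df))) (.node (.node (.leaf (.cyc (nat_lit 3) [(nat_lit 18), (nat_lit 2756), (nat_lit 7)])) (.leaf .df)) (.node (.leaf (.cyc (nat_lit 15) [(nat_lit 5748), (nat_lit 4860), (nat_lit 1914)])) (.leaf .df)))) (.node (.node (.node (.leaf .df) (.leaf (.cyc (nat_lit 107) [(nat_lit 2739), (nat_lit 9661), (nat_lit 9319), (nat_lit 9318), (nat_lit 2405), (nat_lit 8258), (nat_lit 8259), (nat_lit 9559), (nat_lit 9649), (nat_lit 9766), (nat_lit 9768)]))) (.node (.leaf (.cyc (nat_lit 31) [(nat_lit 1562), (nat_lit 4204), (nat_lit 3394), (nat_lit 4204), (nat_lit 1562)])) (.leaf .df))) (.node (.node (.leaf (.cyc (nat_lit 47) [(nat_lit 648), (nat_lit 3227),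 (nat_lit 2942), (nat_lit 3227), (nat_lit 648)])) (.leaf .df)) (.node (.leaf (.cyc (nat_lit 48) [(nat_lit 5699), (nat_lit 5552), (nat_lit 2216)])) (.leaf .df)))))) (.node (.node (.node (.node (.node (.leaf .df) (.leaf (.cyc (nat_lit 50) [(nat_lit 6873), (nat_lit 6487), (nat_lit 6180), (nat_lit 6598), (nat_lit 2422)]))) (.node (.leaf (.cyc (nat_lit 34) [(nat_lit 1027), (nat_lit 536), (nat_lit 3158), (nat_lit 536), (nat_lit 1027)])) (.leaf .df))) (.node (.node (.leaf .df) (.leaf .df)) (.node (.leaf (.cyc (nat_lit 28) [(nat_lit 1822), (nat_lit 6591), (nat_lit 5503), (nat_lit 6591), (nat_lit 1822)])) (.leaf .df)))) (.node (.node (.node (.leaf .df) (.leaf (.cyc (nat_lit 21) [(nat_lit 2683), (nat_lit 8822), (nat_lit 6745), (nat_lit 8822), (nat_lit 2683)]))) (.node (.leaf (.cyc (nat_lit 37) [(nat_lit 1482), (nat_lit 5608), (nat_lit 5610), (nat_lit 5608), (nat_lit 1482)])) (.leaf .df))) (.node (.node (.leaf (.cyc (nat_lit 94) [(nat_lit 345), (nat_lit 2953), (nat_lit 3565), (nat_lit 2953),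 (nat_lit 345)])) (.leaf .df)) (.node (.leaf (.cyc (nat_lit 35) [(nat_lit 1382), (nat_lit 731), (nat_lit 730), (nat_lit 1379), (nat_lit 2148)])) (.leaf .df))))) (.node (.node (.node (.node (.leaf .df) (.leaf (.cyc (nat_lit 20) [(nat_lit 2093), (nat_lit 7449), (nat_lit 2557)]))) (.node (.leaf (.cyc (nat_lit 45) [(nat_lit 3998), (nat_lit 4031), (nat_lit 3645), (nat_lit 667), (nat_lit 1257)])) (.leaf .df))) (.node (.node (.leaf (.cyc (nat_lit 75) [(nat_lit 3047), (nat_lit 190), (nat_lit 3055), (nat_lit 190), (nat_lit 3047)])) (.leaf .df)) (.node (.leaf (.cyc (nat_lit 26) [(nat_lit 1985), (nat_lit 1199), (nat_lit 3801), (nat_lit 1199), (nat_lit 1985)])) (.leaf .df)))) (.node (.node (.node (.leaf .df) (.leaf .df)) (.node (.leaf (.cyc (nat_lit 28) [(nat_lit 1646), (nat_lit 908), (nat_lit 3480), (nat_lit 908), (nat_lit 1646)])) (.leaf .df))) (.node (.node (.leaf (.cyc (nat_lit 74) [(nat_lit 773), (nat_lit 4079)])) (.leaf .df)) (.node (.leaf (.cyc (nat_lit 56) [(nat_lit 2292), (nat_lit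 8167), (nat_lit 8168), (nat_lit 8167), (nat_lit 2292)])) (.leaf .df))))))))
noncomputable def u5P000011 : BT Pf := .node u5P0000110 u5P0000111
noncomputable def u5P00001 : BT Pf := .node u5P000010 u5P000011
noncomputable def u5P0000 : BT Pf := .node u5P00000 u5P00001
noncomputable def u5P0001000 : BT Pf := (.node (.node (.node (.node (.node (.node (.node (.leaf .df) (.leaf (.cyc (nat_lit 61) [(nat_lit 8197), (nat_lit 1900), (nat_lit 1899), (nat_lit 7501), (nat_lit 6318), (nat_lit 6176), (nat_lit 6208), (nat_lit 6207), (nat_lit 1678), (nat_lit 1679), (nat_lit 6212)]))) (.node (.leaf (.cyc (nat_lit 61) [(nat_lit 792), (nat_lit 386), (nat_lit 385), (nat_lit 3351), (nat_lit 789), (nat_lit 4096), (nat_lit 789), (nat_lit 3351), (nat_lit 385), (nat_lit 386), (nat_lit 792)])) (.leaf .df))) (.node (.node (.leaf .df) (.leaf .df)) (.node (.leaf (.cyc (nat_lit 20) [(nat_lit 1656), (nat_lit 4322), (nat_lit 1656)])) (.leaf .df)))) (.node (.node (.node (.leaf .df) (.leaf (.cyc (nat_lit 52) [(nat_lit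 2564), (nat_lit 2565), (nat_lit 9222), (nat_lit 2565), (nat_lit 2564)]))) (.node (.leaf (.cyc (nat_lit 50) [(nat_lit 1269), (nat_lit 673), (nat_lit 3283), (nat_lit 673), (nat_lit 1269)])) (.leaf .df))) (.node (.node (.leaf (.cyc (nat_lit 25) [(nat_lit 203), (nat_lit 2893), (nat_lit 2898), (nat_lit 2893), (nat_lit 203)])) (.leaf .df)) (.node (.leaf (.cyc (nat_lit 20) [(nat_lit 1736), (nat_lit 4997), (nat_lit 1995)])) (.leaf .df))))) (.node (.node (.node (.node (.leaf .df) (.leaf (.cyc (nat_lit 51) [(nat_lit 2429), (nat_lit 6631), (nat_lit 6700), (nat_lit 8676), (nat_lit 8679), (nat_lit 8678), (nat_lit 8679), (nat_lit 8676), (nat_lit 6700), (nat_lit 6631), (nat_lit 2429)]))) (.node (.leaf (.cyc (nat_lit 15) [(nat_lit 3851), (nat_lit 664), (nat_lit 4613)])) (.leaf .df))) (.node (.node (.leaf .df) (.leaf .df)) (.node (.leaf (.cyc (nat_lit 35) [(nat_lit 1254), (nat_lit 666), (nat_lit 3697), (nat_lit 1071), (nat_lit 1830)])) (.leaf .df)))) (.node (.node (.node (.leaf .df) (.leaf (.cyc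 (nat_lit 20) [(nat_lit 2688), (nat_lit 8895), (nat_lit 2688)]))) (.node (.leaf (.cyc (nat_lit 48) [(nat_lit 5634), (nat_lit 5607), (nat_lit 1484)])) (.leaf .df))) (.node (.node (.leaf (.cyc (nat_lit 28) [(nat_lit 511), (nat_lit 3135), (nat_lit 3070), (nat_lit 3135), (nat_lit 511)])) (.leaf .df)) (.node (.leaf (.cyc (nat_lit 47) [(nat_lit 2153), (nat_lit 5413), (nat_lit 4916), (nat_lit 5413), (nat_lit 2153)])) (.leaf .df)))))) (.node (.node (.node (.node (.node (.leaf .df) (.leaf (.cyc (nat_lit 20) [(nat_lit 2362), (nat_lit 6250), (nat_lit 2362)]))) (.node (.leaf (.cyc (nat_lit 1) [(nat_lit 4359), (nat_lit 587), (nat_lit 588)])) (.leaf .df))) (.node (.node (.leaf .df) (.leaf .df)) (.node (.leaf (.cyc (nat_lit 35) [(nat_lit 1746), (nat_lit 986), (nat_lit 3595), (nat_lit 986), (nat_lit 1746)])) (.leaf .df)))) (.node (.node (.node (.leaf .df) (.leaf (.cyc (nat_lit 46) [(nat_lit 2631), (nat_lit 8120), (nat_lit 2631)]))) (.node (.leaf (.cyc (nat_lit 16) [(nat_lit 733), (nat_lit 343),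 (nat_lit 3270), (nat_lit 727), (nat_lit 1373)])) (.leaf .df))) (.node (.node (.leaf (.cyc (nat_lit 62) [(nat_lit 379), (nat_lit 156), (nat_lit 2866), (nat_lit 156), (nat_lit 379)])) (.leaf .df)) (.node (.leaf (.cyc (nat_lit 52) [(nat_lit 2080), (nat_lit 2081), (nat_lit 7431), (nat_lit 2081), (nat_lit 2080)])) (.leaf .df))))) (.node (.node (.node (.node (.leaf .df) (.leaf (.cyc (nat_lit 19) [(nat_lit 2496), (nat_lit 2495), (nat_lit 8965), (nat_lit 2495), (nat_lit 2496)]))) (.node (.leaf (.cyc (nat_lit 62) [(nat_lit 1150), (nat_lit 4496), (nat_lit 3406), (nat_lit 4496), (nat_lit 1150)])) (.leaf .df))) (.node (.node (.leaf (.cyc (nat_lit 31) [(nat_lit 37), (nat_lit 23), (nat_lit 2781), (nat_lit 23), (nat_lit 37)])) (.leaf .df)) (.node (.leaf (.cyc (nat_lit 6) [(nat_lit 1922), (nat_lit 4878), (nat_lit 3933), (nat_lit 4878), (nat_lit 1922)])) (.leaf .df)))) (.node (.node (.node (.leaf .df) (.leaf (.cyc (nat_lit 50) [(nat_lit 2744), (nat_lit 2702), (nat_lit 9068), (nat_lit 2702), (nat_lit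 2744)]))) (.node (.leaf (.cyc (nat_lit 96) [(nat_lit 5887), (nat_lit 1568), (nat_lit 4207), (nat_lit 983), (nat_lit 4736)])) (.leaf .df))) (.node (.node (.leaf (.cyc (nat_lit 6) [(nat_lit 3348), (nat_lit 3362), (nat_lit 3359), (nat_lit 3239), (nat_lit 659)])) (.leaf .df)) (.node (.leaf (.cyc (nat_lit 102) [(nat_lit 2221), (nat_lit 2222), (nat_lit 7943), (nat_lit 2222), (nat_lit 2221)])) (.leaf .df))))))) (.node (.node (.node (.node (.node (.node (.leaf .df) (.leaf (.cyc (nat_lit 20) [(nat_lit 1647), (nat_lit 1645), (nat_lit 2332)]))) (.node (.leaf (.cyc (nat_lit 19) [(nat_lit 869), (nat_lit 3457), (nat_lit 3065), (nat_lit 3457), (nat_lit 869)])) (.leaf .df))) (.node (.node (.leaf .df) (.leaf .df)) (.node (.leaf (.cyc (nat_lit 45) [(nat_lit 1682), (nat_lit 4393), (nat_lit 1514), (nat_lit 5720), (nat_lit 1701)])) (.leaf .df)))) (.node (.node (.node (.leaf .df) (.leaf (.cyc (nat_lit 18) [(nat_lit 2598), (nat_lit 8888), (nat_lit 8891), (nat_lit 8888), (nat_lit 2598)]))) (.node (.leaf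 (.cyc (nat_lit 62) [(nat_lit 1329), (nat_lit 5183), (nat_lit 5191), (nat_lit 5183), (nat_lit 1329)])) (.leaf .df))) (.node (.node (.leaf (.cyc (nat_lit 46) [(nat_lit 240), (nat_lit 3041), (nat_lit 285)])) (.leaf .df)) (.node (.leaf (.cyc (nat_lit 143) [(nat_lit 5441), (nat_lit 4243), (nat_lit 4242), (nat_lit 780), (nat_lit 3456), (nat_lit 782), (nat_lit 1457), (nat_lit 5548), (nat_lit 5546), (nat_lit 2033), (nat_lit 7303)])) (.leaf .df))))) (.node (.node (.node (.node (.leaf .df) (.leaf (.cyc (nat_lit 15) [(nat_lit 2465), (nat_lit 6769), (nat_lit 2465)]))) (.node (.leaf (.cyc (nat_lit 105) [(nat_lit 4743), (nat_lit 4509), (nat_lit 4743)])) (.leaf .df))) (.node (.node (.leaf .df) (.leaf .df)) (.node (.leaf (.cyc (nat_lit 24) [(nat_lit 1127), (nat_lit 3734), (nat_lit 3727), (nat_lit 4789), (nat_lit 1878)])) (.leaf .df)))) (.node (.node (.node (.leaf .df) (.leaf (.cyc (nat_lit 129) [(nat_lit 9863), (nat_lit 9267), (nat_lit 2574), (nat_lit 2113), (nat_lit 5274), (nat_lit 2112), (nat_lit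 2573), (nat_lit 9262), (nat_lit 9259), (nat_lit 2702), (nat_lit 9795)]))) (.node (.leaf (.cyc (nat_lit 73) [(nat_lit 1017), (nat_lit 5766)])) (.leaf .df))) (.node (.node (.leaf (.cyc (nat_lit 27) [(nat_lit 329), (nat_lit 3190), (nat_lit 581)])) (.leaf .df)) (.node (.leaf (.cyc (nat_lit 100) [(nat_lit 7813), (nat_lit 7109), (nat_lit 6836), (nat_lit 1893), (nat_lit 1890)])) (.leaf .df)))))) (.node (.node (.node (.node (.node (.leaf .df) (.leaf (.cyc (nat_lit 46) [(nat_lit 2397), (nat_lit 6502), (nat_lit 2397)]))) (.node (.leaf (.cyc (nat_lit 81) [(nat_lit 4485), (nat_lit 515), (nat_lit 236), (nat_lit 235), (nat_lit 3136), (nat_lit 118), (nat_lit 119), (nat_lit 281), (nat_lit 3201), (nat_lit 3200), (nat_lit 609)])) (.leaf .df))) (.node (.node (.leaf .df) (.leaf .df)) (.node (.leaf (.cyc (nat_lit 23) [(nat_lit 1560), (nat_lit 4601), (nat_lit 1786)])) (.leaf .df)))) (.node (.node (.node (.leaf .df) (.leaf (.cyc (nat_lit 50) [(nat_lit 2659), (nat_lit 8464), (nat_lit 7471), (nat_lit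 8464), (nat_lit 2659)]))) (.node (.leaf (.cyc (nat_lit 15) [(nat_lit 5149), (nat_lit 4431), (nat_lit 1437)])) (.leaf .df))) (.node (.node (.leaf (.cyc (nat_lit 30) [(nat_lit 416), (nat_lit 3030), (nat_lit 2913), (nat_lit 197), (nat_lit 445)])) (.leaf .df)) (.node (.leaf (.cyc (nat_lit 15) [(nat_lit 1341), (nat_lit 1340), (nat_lit 2118)])) (.leaf .df))))) (.node (.node (.node (.node (.leaf .df) (.leaf (.cyc (nat_lit 21) [(nat_lit 2530), (nat_lit 7268), (nat_lit 5807), (nat_lit 7268), (nat_lit 2530)]))) (.node (.leaf (.cyc (nat_lit 3) [(nat_lit 4999), (nat_lit 873), (nat_lit 876)])) (.leaf .df))) (.node (.node (.leaf (.cyc (nat_lit 60) [(nat_lit 137), (nat_lit 138), (nat_lit 2951), (nat_lit 138), (nat_lit 137)])) (.leaf .df)) (.node (.leaf (.cyc (nat_lit 33) [(nat_lit 7046), (nat_lit 1449), (nat_lit 4012), (nat_lit 1037), (nat_lit 1794)])) (.leaf .df)))) (.node (.node (.node (.leaf .df) (.leaf .df)) (.node (.leaf (.cyc (nat_lit 62) [(nat_lit 1611), (nat_lit 4266), (nat_lit 3717),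 (nat_lit 4266), (nat_lit 1611)])) (.leaf .df))) (.node (.node (.leaf (.cyc (nat_lit 94) [(nat_lit 753), (nat_lit 754), (nat_lit 3975), (nat_lit 754), (nat_lit 753)])) (.leaf .df)) (.node (.leaf (.cyc (nat_lit 133) [(nat_lit 8071), (nat_lit 2126), (nat_lit 5754), (nat_lit 5752), (nat_lit 5750), (nat_lit 1059), (nat_lit 4131), (nat_lit 1500), (nat_lit 7034), (nat_lit 7032), (nat_lit 1959)])) (.leaf .df))))))))
noncomputable def u5P0001001 : BT Pf := (.node (.node (.node (.node (.node (.node (.node (.leaf .df) (.leaf (.cyc (nat_lit 25) [(nat_lit 2316), (nat_lit 6082), (nat_lit 6024), (nat_lit 6082), (nat_lit 2316)]))) (.node (.leaf (.cyc (nat_lit 24) [(nat_lit 832), (nat_lit 4098), (nat_lit 4105), (nat_lit 4098), (nat_lit 832)])) (.leaf .df))) (.node (.node (.leaf .df) (.leaf .df)) (.node (.leaf (.cyc (nat_lit 20) [(nat_lit 1681), (nat_lit 4392), (nat_lit 1681)])) (.leaf .df)))) (.node (.node (.node (.leaf .df) (.leaf (.cyc (nat_lit 56) [(nat_lit 2579), (nat_lit 2131), (nat_lit 5344),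 (nat_lit 2131), (nat_lit 2579)]))) (.node (.leaf (.cyc (nat_lit 49) [(nat_lit 695), (nat_lit 3883), (nat_lit 1303)])) (.leaf .df))) (.node (.node (.leaf (.cyc (nat_lit 50) [(nat_lit 3090), (nat_lit 3093), (nat_lit 193), (nat_lit 2905), (nat_lit 241)])) (.leaf .df)) (.node (.leaf (.cyc (nat_lit 25) [(nat_lit 2016), (nat_lit 5071), (nat_lit 5090), (nat_lit 5071), (nat_lit 2016)])) (.leaf .df))))) (.node (.node (.node (.node (.leaf .df) (.leaf (.cyc (nat_lit 37) [(nat_lit 2446), (nat_lit 8672), (nat_lit 8673), (nat_lit 8672), (nat_lit 2446)]))) (.node (.leaf (.cyc (nat_lit 27) [(nat_lit 1058), (nat_lit 3692), (nat_lit 1058)])) (.leaf .df))) (.node (.node (.leaf .df) (.leaf .df)) (.node (.leaf (.cyc (nat_lit 35) [(nat_lit 1855), (nat_lit 4875), (nat_lit 4874), (nat_lit 4875), (nat_lit 1855)])) (.leaf .df)))) (.node (.node (.node (.leaf .df) (.leaf (.cyc (nat_lit 61) [(nat_lit 2703), (nat_lit 9071), (nat_lit 2524), (nat_lit 7293), (nat_lit 7295), (nat_lit 2275), (nat_lit 8214), (nat_lit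 8212), (nat_lit 8215), (nat_lit 2619), (nat_lit 9434)]))) (.node (.leaf (.cyc (nat_lit 20) [(nat_lit 814), (nat_lit 812), (nat_lit 1507)])) (.leaf .df))) (.node (.node (.leaf (.cyc (nat_lit 112) [(nat_lit 3516), (nat_lit 3649), (nat_lit 2884)])) (.leaf .df)) (.node (.leaf (.cyc (nat_lit 6) [(nat_lit 2169), (nat_lit 6952), (nat_lit 6950), (nat_lit 6952), (nat_lit 2169)])) (.leaf .df)))))) (.node (.node (.node (.node (.node (.leaf .df) (.leaf (.cyc (nat_lit 21) [(nat_lit 2380), (nat_lit 1737), (nat_lit 4480), (nat_lit 1737), (nat_lit 2380)]))) (.node (.leaf (.cyc (nat_lit 35) [(nat_lit 490), (nat_lit 223), (nat_lit 222), (nat_lit 488), (nat_lit 946)])) (.leaf .df))) (.node (.node (.leaf .df) (.leaf .df)) (.node (.leaf (.cyc (nat_lit 117) [(nat_lit 6461), (nat_lit 6460), (nat_lit 6465), (nat_lit 5006), (nat_lit 6353)])) (.leaf .df)))) (.node (.node (.node (.leaf .df) (.leaf (.cyc (nat_lit 62) [(nat_lit 2644), (nat_lit 2307), (nat_lit 6026), (nat_lit 2307), (nat_lit 2644)]))) (.node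 (.leaf (.cyc (nat_lit 48) [(nat_lit 5232), (nat_lit 3961), (nat_lit 1409)])) (.leaf .df))) (.node (.node (.leaf (.cyc (nat_lit 15) [(nat_lit 234), (nat_lit 3044), (nat_lit 428)])) (.leaf .df)) (.node (.leaf (.cyc (nat_lit 121) [(nat_lit 7495), (nat_lit 7493), (nat_lit 2101), (nat_lit 1320), (nat_lit 1322)])) (.leaf .df))))) (.node (.node (.node (.node (.leaf .df) (.leaf (.cyc (nat_lit 30) [(nat_lit 8913), (nat_lit 7466), (nat_lit 7547), (nat_lit 7546), (nat_lit 2513)]))) (.node (.leaf (.cyc (nat_lit 20) [(nat_lit 1178), (nat_lit 3788), (nat_lit 1178)])) (.leaf .df))) (.node (.node (.leaf (.cyc (nat_lit 34) [(nat_lit 86), (nat_lit 2850), (nat_lit 2854), (nat_lit 2850), (nat_lit 86)])) (.leaf .df)) (.node (.leaf (.cyc (nat_lit 21) [(nat_lit 1937), (nat_lit 1935), (nat_lit 6971), (nat_lit 1935), (nat_lit 1937)])) (.leaf .df)))) (.node (.node (.node (.leaf .df) (.leaf .df)) (.node (.leaf (.cyc (nat_lit 70) [(nat_lit 973), (nat_lit 501), (nat_lit 500), (nat_lit 4083), (nat_lit 785),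 (nat_lit 3340), (nat_lit 441), (nat_lit 3461), (nat_lit 871), (nat_lit 1591), (nat_lit 5958)])) (.leaf .df))) (.node (.node (.leaf (.cyc (nat_lit 11) [(nat_lit 3909), (nat_lit 3289), (nat_lit 3207), (nat_lit 3289), (nat_lit 3909)])) (.leaf .df)) (.node (.leaf (.cyc (nat_lit 23) [(nat_lit 6164), (nat_lit 5645), (nat_lit 2242)])) (.leaf .df))))))) (.node (.node (.node (.node (.node (.node (.leaf .df) (.leaf (.cyc (nat_lit 6) [(nat_lit 2346), (nat_lit 1663), (nat_lit 4336), (nat_lit 1663), (nat_lit 2346)]))) (.node (.leaf (.cyc (nat_lit 37) [(nat_lit 897), (nat_lit 895), (nat_lit 4288), (nat_lit 895), (nat_lit 897)])) (.leaf .df))) (.node (.node (.leaf .df) (.leaf .df)) (.node (.leaf (.cyc (nat_lit 50) [(nat_lit 1286), (nat_lit 683), (nat_lit 3558), (nat_lit 970), (nat_lit 1726)])) (.leaf .df)))) (.node (.node (.node (.leaf .df) (.leaf (.cyc (nat_lit 50) [(nat_lit 2507), (nat_lit 7196), (nat_lit 8297), (nat_lit 8299), (nat_lit 2615)]))) (.node (.leaf (.cyc (nat_lit 28) [(nat_lit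 4260), (nat_lit 4640), (nat_lit 1044), (nat_lit 1045), (nat_lit 5318)])) (.leaf .df))) (.node (.node (.leaf (.cyc (nat_lit 0) [(nat_lit 341), (nat_lit 342), (nat_lit 3271), (nat_lit 342), (nat_lit 341)])) (.leaf .df)) (.node (.leaf (.cyc (nat_lit 21) [(nat_lit 2060), (nat_lit 5146), (nat_lit 4765), (nat_lit 5146), (nat_lit 2060)])) (.leaf .df))))) (.node (.node (.node (.node (.leaf .df) (.leaf (.cyc (nat_lit 37) [(nat_lit 2481), (nat_lit 8343), (nat_lit 8345), (nat_lit 8343), (nat_lit 2481)]))) (.node (.leaf (.cyc (nat_lit 49) [(nat_lit 4605), (nat_lit 4123), (nat_lit 1118)])) (.leaf .df))) (.node (.node (.leaf (.pin (nat_lit 11) [] [])) (.leaf .df)) (.node (.leaf (.cyc (nat_lit 30) [(nat_lit 1902), (nat_lit 1132), (nat_lit 3746), (nat_lit 1132), (nat_lit 1902)])) (.leaf .df)))) (.node (.node (.node (.leaf .df) (.leaf (.cyc (nat_lit 28) [(nat_lit 2731), (nat_lit 9491), (nat_lit 9489), (nat_lit 9491), (nat_lit 2731)]))) (.node (.leaf (.cyc (nat_lit 31) [(nat_lit 1546), (nat_lit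 4192), (nat_lit 3411), (nat_lit 4192), (nat_lit 1546)])) (.leaf .df))) (.node (.node (.leaf (.cyc (nat_lit 42) [(nat_lit 624), (nat_lit 3475), (nat_lit 452), (nat_lit 202), (nat_lit 203), (nat_lit 3080), (nat_lit 203), (nat_lit 202), (nat_lit 452), (nat_lit 3475), (nat_lit 624)])) (.leaf .df)) (.node (.leaf (.cyc (nat_lit 39) [(nat_lit 7850), (nat_lit 7516), (nat_lit 6902), (nat_lit 6981), (nat_lit 1915), (nat_lit 5520), (nat_lit 1444), (nat_lit 1442), (nat_lit 5526), (nat_lit 5517), (nat_lit 2206)])) (.leaf .df)))))) (.node (.node (.node (.node (.node (.leaf .df) (.leaf (.cyc (nat_lit 16) [(nat_lit 2413), (nat_lit 6527), (nat_lit 5417), (nat_lit 6527), (nat_lit 2413)]))) (.node (.leaf (.cyc (nat_lit 41) [(nat_lit 1006), (nat_lit 1007), (nat_lit 4551)])) (.leaf .df))) (.node (.node (.leaf .df) (.leaf .df)) (.node (.leaf (.cyc (nat_lit 9) [(nat_lit 6598), (nat_lit 5248), (nat_lit 5048), (nat_lit 5015), (nat_lit 1215)])) (.leaf .df)))) (.node (.node (.node (.leaf .df) (.leaf (.cyc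 (nat_lit 62) [(nat_lit 2673), (nat_lit 2429), (nat_lit 6632), (nat_lit 2429), (nat_lit 2673)]))) (.node (.leaf (.cyc (nat_lit 48) [(nat_lit 1469), (nat_lit 4092), (nat_lit 1469)])) (.leaf .df))) (.node (.node (.leaf (.cyc (nat_lit 20) [(nat_lit 220), (nat_lit 219), (nat_lit 483)])) (.leaf .df)) (.node (.leaf (.cyc (nat_lit 19) [(nat_lit 2135), (nat_lit 5364), (nat_lit 5079), (nat_lit 5364), (nat_lit 2135)])) (.leaf .df))))) (.node (.node (.node (.node (.leaf .df) (.leaf (.cyc (nat_lit 16) [(nat_lit 2546), (nat_lit 2056), (nat_lit 5141), (nat_lit 2056), (nat_lit 2546)]))) (.node (.leaf (.cyc (nat_lit 74) [(nat_lit 4017), (nat_lit 5063)])) (.leaf .df))) (.node (.node (.leaf (.cyc (nat_lit 58) [(nat_lit 172), (nat_lit 2981), (nat_lit 2982), (nat_lit 86), (nat_lit 2825), (nat_lit 2824), (nat_lit 2825), (nat_lit 86), (nat_lit 2982), (nat_lit 2981), (nat_lit 172)])) (.leaf .df)) (.node (.leaf (.cyc (nat_lit 37) [(nat_lit 1575), (nat_lit 856), (nat_lit 3798), (nat_lit 1195), (nat_lit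 1976)])) (.leaf .df)))) (.node (.node (.node (.leaf .df) (.leaf .df)) (.node (.leaf (.cyc (nat_lit 34) [(nat_lit 1631), (nat_lit 4299), (nat_lit 4163), (nat_lit 4299), (nat_lit 1631)])) (.leaf .df))) (.node (.node (.leaf (.cyc (nat_lit 114) [(nat_lit 416), (nat_lit 4034), (nat_lit 160)])) (.leaf .df)) (.node (.leaf (.cyc (nat_lit 54) [(nat_lit 8135), (nat_lit 2281), (nat_lit 1550), (nat_lit 5891), (nat_lit 5377), (nat_lit 1187), (nat_lit 1188), (nat_lit 4958), (nat_lit 1090), (nat_lit 1091), (nat_lit 1854)])) (.leaf .df))))))))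
noncomputable def u5P000100 : BT Pf := .node u5P0001000 u5P0001001
noncomputable def u5P0001010 : BT Pf := (.node (.node (.node (.node (.node (.node (.node (.leaf .df) (.leaf (.cyc (nat_lit 44) [(nat_lit 2305), (nat_lit 1603), (nat_lit 4253), (nat_lit 1603), (nat_lit 2305)]))) (.node (.leaf (.cyc (nat_lit 7) [(nat_lit 4135), (nat_lit 3632), (nat_lit 544)])) (.leaf .df))) (.node (.node (.leaf .df) (.leaf .df)) (.node (.leaf (.cyc (nat_lit 30) [(nat_lit 4989), (nat_lit 4889), (nat_lit 3765), (nat_lit 928), (nat_lit 1670)])) (.leaf .df)))) (.node (.node (.node (.leaf .df) (.leaf (.cyc (nat_lit 10) [(nat_lit 9255), (nat_lit 8897), (nat_lit 9255)]))) (.node (.leaf (.cyc (nat_lit 102) [(nat_lit 1284), (nat_lit 1285), (nat_lit 5159), (nat_lit 1285), (nat_lit 1284)])) (.leaf .df))) (.node (.node (.leaf (.cyc (nat_lit 47) [(nat_lit 3026), (nat_lit 3103), (nat_lit 216), (nat_lit 2887), (nat_lit 219)])) (.leaf .df)) (.node (.leaf (.cyc (nat_lit 16) [(nat_lit 2005), (nat_lit 7010), (nat_lit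 7000), (nat_lit 7010), (nat_lit 2005)])) (.leaf .df))))) (.node (.node (.node (.node (.leaf .df) (.leaf (.cyc (nat_lit 30) [(nat_lit 7705), (nat_lit 6182), (nat_lit 2196), (nat_lit 7845), (nat_lit 2438)]))) (.node (.leaf (.cyc (nat_lit 15) [(nat_lit 842), (nat_lit 4073), (nat_lit 1048)])) (.leaf .df))) (.node (.node (.leaf .df) (.leaf .df)) (.node (.leaf (.cyc (nat_lit 63) [(nat_lit 1843), (nat_lit 1080), (nat_lit 3704), (nat_lit 1080), (nat_lit 1843)])) (.leaf .df)))) (.node (.node (.node (.leaf .df) (.leaf (.cyc (nat_lit 34) [(nat_lit 2695), (nat_lit 2509), (nat_lit 7053), (nat_lit 2509), (nat_lit 2695)]))) (.node (.leaf (.cyc (nat_lit 56) [(nat_lit 4633), (nat_lit 762), (nat_lit 3444), (nat_lit 803), (nat_lit 1494)])) (.leaf .df))) (.node (.node (.leaf (.cyc (nat_lit 48) [(nat_lit 537), (nat_lit 3167), (nat_lit 537)])) (.leaf .df)) (.node (.leaf (.cyc (nat_lit 26) [(nat_lit 2161), (nat_lit 2160), (nat_lit 7717), (nat_lit 2160), (nat_lit 2161)])) (.leaf .df)))))) (.node (.node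 (.node (.node (.node (.leaf .df) (.leaf (.cyc (nat_lit 48) [(nat_lit 7972), (nat_lit 7761), (nat_lit 2372)]))) (.node (.leaf (.cyc (nat_lit 24) [(nat_lit 934), (nat_lit 481), (nat_lit 3111), (nat_lit 481), (nat_lit 934)])) (.leaf .df))) (.node (.node (.leaf .df) (.leaf .df)) (.node (.leaf (.cyc (nat_lit 53) [(nat_lit 1005), (nat_lit 523), (nat_lit 522), (nat_lit 1003), (nat_lit 1759)])) (.leaf .df)))) (.node (.node (.node (.leaf .df) (.leaf (.cyc (nat_lit 19) [(nat_lit 2599), (nat_lit 7779), (nat_lit 7018), (nat_lit 8167), (nat_lit 2638)]))) (.node (.leaf (.cyc (nat_lit 31) [(nat_lit 1386), (nat_lit 735), (nat_lit 3291), (nat_lit 735), (nat_lit 1386)])) (.leaf .df))) (.node (.node (.leaf (.cyc (nat_lit 20) [(nat_lit 396), (nat_lit 2988), (nat_lit 396)])) (.leaf .df)) (.node (.leaf (.cyc (nat_lit 23) [(nat_lit 1309), (nat_lit 1307), (nat_lit 2092)])) (.leaf .df))))) (.node (.node (.node (.node (.leaf .df) (.leaf (.cyc (nat_lit 53) [(nat_lit 2443), (nat_lit 8122), (nat_lit 8124),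 (nat_lit 7478), (nat_lit 2503)]))) (.node (.leaf (.cyc (nat_lit 24) [(nat_lit 1165), (nat_lit 617), (nat_lit 3216), (nat_lit 617), (nat_lit 1165)])) (.leaf .df))) (.node (.node (.leaf (.cyc (nat_lit 40) [(nat_lit 2855), (nat_lit 2852), (nat_lit 2855)])) (.leaf .df)) (.node (.leaf (.cyc (nat_lit 50) [(nat_lit 6946), (nat_lit 1929), (nat_lit 1158), (nat_lit 1159), (nat_lit 1930)])) (.leaf .df)))) (.node (.node (.node (.leaf .df) (.leaf .df)) (.node (.leaf (.cyc (nat_lit 18) [(nat_lit 1061), (nat_lit 4682), (nat_lit 4869), (nat_lit 4866), (nat_lit 1577)])) (.leaf .df))) (.node (.node (.leaf (.cyc (nat_lit 56) [(nat_lit 687), (nat_lit 3249), (nat_lit 2951), (nat_lit 3249), (nat_lit 687)])) (.leaf .df)) (.node (.leaf (.cyc (nat_lit 57) [(nat_lit 2231), (nat_lit 1471), (nat_lit 4097), (nat_lit 3444), (nat_lit 359), (nat_lit 2964), (nat_lit 359), (nat_lit 3444), (nat_lit 4097), (nat_lit 1471), (nat_lit 2231)])) (.leaf .df))))))) (.node (.node (.node (.node (.node (.node (.leaf .df) (.leaf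 (.cyc (nat_lit 24) [(nat_lit 2092), (nat_lit 6749), (nat_lit 6750), (nat_lit 6142), (nat_lit 2339)]))) (.node (.leaf (.cyc (nat_lit 47) [(nat_lit 573), (nat_lit 268), (nat_lit 3071), (nat_lit 448), (nat_lit 884)])) (.leaf .df))) (.node (.node (.leaf .df) (.leaf .df)) (.node (.leaf (.cyc (nat_lit 50) [(nat_lit 1471), (nat_lit 789), (nat_lit 4076), (nat_lit 959), (nat_lit 1713)])) (.leaf .df)))) (.node (.node (.node (.leaf .df) (.leaf (.cyc (nat_lit 46) [(nat_lit 2606), (nat_lit 7908), (nat_lit 2606)]))) (.node (.leaf (.cyc (nat_lit 1) [(nat_lit 5286), (nat_lit 1174), (nat_lit 1175)])) (.leaf .df))) (.node (.node (.leaf (.cyc (nat_lit 16) [(nat_lit 308), (nat_lit 2956), (nat_lit 2957), (nat_lit 2956), (nat_lit 308)])) (.leaf .df)) (.node (.leaf (.cyc (nat_lit 28) [(nat_lit 6808), (nat_lit 5240), (nat_lit 5105), (nat_lit 1268), (nat_lit 2047)])) (.leaf .df))))) (.node (.node (.node (.node (.leaf .df) (.leaf (.cyc (nat_lit 18) [(nat_lit 2473), (nat_lit 1874), (nat_lit 4775), (nat_lit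 1874), (nat_lit 2473)]))) (.node (.leaf (.cyc (nat_lit 50) [(nat_lit 755), (nat_lit 355), (nat_lit 3192), (nat_lit 585), (nat_lit 1109)])) (.leaf .df))) (.node (.node (.leaf .df) (.leaf .df)) (.node (.leaf (.cyc (nat_lit 37) [(nat_lit 1170), (nat_lit 3771), (nat_lit 3732), (nat_lit 1123), (nat_lit 1888)])) (.leaf .df)))) (.node (.node (.node (.leaf .df) (.leaf (.cyc (nat_lit 16) [(nat_lit 2725), (nat_lit 2585), (nat_lit 7648), (nat_lit 2585), (nat_lit 2725)]))) (.node (.leaf (.cyc (nat_lit 20) [(nat_lit 829), (nat_lit 828), (nat_lit 1536)])) (.leaf .df))) (.node (.node (.leaf (.cyc (nat_lit 53) [(nat_lit 606), (nat_lit 279), (nat_lit 3000), (nat_lit 279), (nat_lit 606)])) (.leaf .df)) (.node (.leaf (.cyc (nat_lit 41) [(nat_lit 2197), (nat_lit 5507), (nat_lit 2197)])) (.leaf .df)))))) (.node (.node (.node (.node (.node (.leaf .df) (.leaf (.cyc (nat_lit 53) [(nat_lit 8614), (nat_lit 2404), (nat_lit 1772), (nat_lit 1773), (nat_lit 2405)]))) (.node (.leaf (.cyc (nat_lit 20) [(nat_lit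 4295), (nat_lit 3889), (nat_lit 993)])) (.leaf .df))) (.node (.node (.leaf .df) (.leaf .df)) (.node (.leaf (.cyc (nat_lit 48) [(nat_lit 1081), (nat_lit 4627), (nat_lit 1798)])) (.leaf .df)))) (.node (.node (.node (.leaf .df) (.leaf (.cyc (nat_lit 16) [(nat_lit 2667), (nat_lit 8555), (nat_lit 8047), (nat_lit 8555), (nat_lit 2667)]))) (.node (.leaf (.cyc (nat_lit 16) [(nat_lit 1456), (nat_lit 780), (nat_lit 3452), (nat_lit 780), (nat_lit 1456)])) (.leaf .df))) (.node (.node (.leaf (.cyc (nat_lit 15) [(nat_lit 208), (nat_lit 207), (nat_lit 464)])) (.leaf .df)) (.node (.leaf (.cyc (nat_lit 105) [(nat_lit 7590), (nat_lit 2125), (nat_lit 2124)])) (.leaf .df))))) (.node (.node (.node (.node (.leaf .df) (.leaf (.cyc (nat_lit 93) [(nat_lit 9126), (nat_lit 9127), (nat_lit 8428), (nat_lit 6229), (nat_lit 1578), (nat_lit 4866), (nat_lit 1921), (nat_lit 7212), (nat_lit 8117), (nat_lit 8118), (nat_lit 8964)]))) (.node (.leaf (.cyc (nat_lit 45) [(nat_lit 1231), (nat_lit 650), (nat_lit 3228),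 (nat_lit 650), (nat_lit 1231)])) (.leaf .df))) (.node (.node (.leaf (.cyc (nat_lit 34) [(nat_lit 164), (nat_lit 163), (nat_lit 2978), (nat_lit 163), (nat_lit 164)])) (.leaf .df)) (.node (.leaf (.cyc (nat_lit 129) [(nat_lit 7079), (nat_lit 6708), (nat_lit 1848), (nat_lit 1083), (nat_lit 4595), (nat_lit 4596), (nat_lit 566), (nat_lit 3638), (nat_lit 1037), (nat_lit 1795), (nat_lit 6562)])) (.leaf .df)))) (.node (.node (.node (.leaf .df) (.leaf .df)) (.node (.leaf (.cyc (nat_lit 6) [(nat_lit 1090), (nat_lit 575), (nat_lit 3473), (nat_lit 893), (nat_lit 1621)])) (.leaf .df))) (.node (.node (.leaf (.cyc (nat_lit 28) [(nat_lit 775), (nat_lit 3362), (nat_lit 3361), (nat_lit 3362), (nat_lit 775)])) (.leaf .df)) (.node (.leaf (.cyc (nat_lit 37) [(nat_lit 1841), (nat_lit 4725), (nat_lit 4703), (nat_lit 5808), (nat_lit 2272)])) (.leaf .df))))))))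
noncomputable def u5P0001011 : BT Pf := (.node (.node (.node (.node (.node (.node (.node (.leaf .df) (.leaf (.cyc (nat_lit 18) [(nat_lit 8023), (nat_lit 8020), (nat_lit 8293), (nat_lit 2323), (nat_lit 2324)]))) (.node (.leaf (.cyc (nat_lit 53) [(nat_lit 846), (nat_lit 3732), (nat_lit 3733), (nat_lit 3732), (nat_lit 846)])) (.leaf .df))) (.node (.node (.leaf .df) (.leaf .df)) (.node (.leaf (.cyc (nat_lit 45) [(nat_lit 939), (nat_lit 484), (nat_lit 3528), (nat_lit 938), (nat_lit 1691)])) (.leaf .df)))) (.node (.node (.node (.leaf .df) (.leaf (.cyc (nat_lit 0) [(nat_lit 2587), (nat_lit 2588), (nat_lit 9319), (nat_lit 2588), (nat_lit 2587)]))) (.node (.leaf (.cyc (nat_lit 18) [(nat_lit 1311), (nat_lit 695), (nat_lit 3253), (nat_lit 695), (nat_lit 1311)])) (.leaf .df))) (.node (.node (.leaf (.cyc (nat_lit 6) [(nat_lit 257), (nat_lit 2922), (nat_lit 2874), (nat_lit 2922), (nat_lit 257)])) (.leaf .df)) (.node (.leaf (.cyc (nat_lit 21) [(nat_lit 1542), (nat_lit 5089), (nat_lit 5084),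 (nat_lit 1254), (nat_lit 2027)])) (.leaf .df))))) (.node (.node (.node (.node (.leaf .df) (.leaf (.cyc (nat_lit 50) [(nat_lit 2455), (nat_lit 6753), (nat_lit 6752), (nat_lit 6753), (nat_lit 2455)]))) (.node (.leaf (.cyc (nat_lit 35) [(nat_lit 567), (nat_lit 266), (nat_lit 265), (nat_lit 565), (nat_lit 1072)])) (.leaf .df))) (.node (.node (.leaf .df) (.leaf .df)) (.node (.leaf (.cyc (nat_lit 16) [(nat_lit 1866), (nat_lit 4757), (nat_lit 4483), (nat_lit 4757), (nat_lit 1866)])) (.leaf .df)))) (.node (.node (.node (.leaf .df) (.leaf (.cyc (nat_lit 86) [(nat_lit 9831), (nat_lit 2711), (nat_lit 2710)]))) (.node (.leaf (.cyc (nat_lit 26) [(nat_lit 4555), (nat_lit 4198), (nat_lit 4147), (nat_lit 820), (nat_lit 1522)])) (.leaf .df))) (.node (.node (.leaf (.cyc (nat_lit 45) [(nat_lit 3546), (nat_lit 3668), (nat_lit 3175), (nat_lit 260), (nat_lit 555)])) (.leaf .df)) (.node (.leaf (.cyc (nat_lit 44) [(nat_lit 2180), (nat_lit 1417), (nat_lit 3970), (nat_lit 1417), (nat_lit 2180)])) (.leaf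 .df)))))) (.node (.node (.node (.node (.node (.leaf .df) (.leaf (.cyc (nat_lit 34) [(nat_lit 2388), (nat_lit 6422), (nat_lit 4872), (nat_lit 6422), (nat_lit 2388)]))) (.node (.leaf (.cyc (nat_lit 23) [(nat_lit 494), (nat_lit 493), (nat_lit 964)])) (.leaf .df))) (.node (.node (.leaf .df) (.leaf .df)) (.node (.leaf (.cyc (nat_lit 35) [(nat_lit 1770), (nat_lit 6144), (nat_lit 6158), (nat_lit 6144), (nat_lit 1770)])) (.leaf .df)))) (.node (.node (.node (.leaf .df) (.leaf (.cyc (nat_lit 48) [(nat_lit 2652), (nat_lit 8319), (nat_lit 2652)]))) (.node (.leaf (.cyc (nat_lit 37) [(nat_lit 1252), (nat_lit 4613), (nat_lit 1335), (nat_lit 5283), (nat_lit 1422)])) (.leaf .df))) (.node (.node (.leaf (.cyc (nat_lit 74) [(nat_lit 367), (nat_lit 3427)])) (.leaf .df)) (.node (.leaf (.cyc (nat_lit 30) [(nat_lit 2106), (nat_lit 5249), (nat_lit 4372), (nat_lit 5249), (nat_lit 2106)])) (.leaf .df))))) (.node (.node (.node (.node (.leaf .df) (.leaf (.cyc (nat_lit 37) [(nat_lit 7705), (nat_lit 6612),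 (nat_lit 2424), (nat_lit 8696), (nat_lit 2521)]))) (.node (.leaf (.cyc (nat_lit 27) [(nat_lit 637), (nat_lit 636), (nat_lit 1200)])) (.leaf .df))) (.node (.node (.leaf (.cyc (nat_lit 57) [(nat_lit 107), (nat_lit 2842), (nat_lit 2830), (nat_lit 39), (nat_lit 2771), (nat_lit 2765), (nat_lit 2771), (nat_lit 39), (nat_lit 2830), (nat_lit 2842), (nat_lit 107)])) (.leaf .df)) (.node (.leaf (.cyc (nat_lit 21) [(nat_lit 1948), (nat_lit 5279), (nat_lit 5277), (nat_lit 5279), (nat_lit 1948)])) (.leaf .df)))) (.node (.node (.node (.leaf .df) (.leaf .df)) (.node (.leaf (.cyc (nat_lit 156) [(nat_lit 4456), (nat_lit 3578), (nat_lit 494), (nat_lit 4059), (nat_lit 2970), (nat_lit 4056), (nat_lit 444), (nat_lit 3466), (nat_lit 880), (nat_lit 1601), (nat_lit 5991)])) (.leaf .df))) (.node (.node (.leaf (.cyc (nat_lit 34) [(nat_lit 742), (nat_lit 3326), (nat_lit 3339), (nat_lit 3326), (nat_lit 742)])) (.leaf .df)) (.node (.leaf (.cyc (nat_lit 21) [(nat_lit 2253), (nat_lit 6401), (nat_lit 6404), (nat_lit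 6401), (nat_lit 2253)])) (.leaf .df))))))) (.node (.node (.node (.node (.node (.node (.leaf .df) (.leaf (.cyc (nat_lit 27) [(nat_lit 2354), (nat_lit 6204), (nat_lit 2354)]))) (.node (.leaf (.cyc (nat_lit 35) [(nat_lit 915), (nat_lit 4321), (nat_lit 4324), (nat_lit 4321), (nat_lit 915)])) (.leaf .df))) (.node (.node (.leaf .df) (.leaf .df)) (.node (.leaf (.cyc (nat_lit 18) [(nat_lit 1735), (nat_lit 4479), (nat_lit 3573), (nat_lit 4479), (nat_lit 1735)])) (.leaf .df)))) (.node (.node (.node (.leaf .df) (.leaf (.cyc (nat_lit 85) [(nat_lit 9409), (nat_lit 2613), (nat_lit 8110), (nat_lit 8114), (nat_lit 2274), (nat_lit 6001), (nat_lit 5999), (nat_lit 8186), (nat_lit 8185), (nat_lit 8038), (nat_lit 2623)]))) (.node (.leaf (.cyc (nat_lit 46) [(nat_lit 4431), (nat_lit 3917), (nat_lit 1358)])) (.leaf .df))) (.node (.node (.leaf (.cyc (nat_lit 35) [(nat_lit 356), (nat_lit 2962), (nat_lit 2951), (nat_lit 2962), (nat_lit 356)])) (.leaf .df)) (.node (.leaf (.cyc (nat_lit 47) [(nat_lit 5447),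 (nat_lit 5586), (nat_lit 1314), (nat_lit 5164), (nat_lit 2072)])) (.leaf .df))))) (.node (.node (.node (.node (.leaf .df) (.leaf (.cyc (nat_lit 26) [(nat_lit 2488), (nat_lit 6843), (nat_lit 4833), (nat_lit 6843), (nat_lit 2488)]))) (.node (.leaf (.cyc (nat_lit 41) [(nat_lit 1136), (nat_lit 3740), (nat_lit 1136)])) (.leaf .df))) (.node (.node (.leaf (.cyc (nat_lit 5) [(nat_lit 23), (nat_lit 6), (nat_lit 2767), (nat_lit 6), (nat_lit 23)])) (.leaf .df)) (.node (.leaf (.cyc (nat_lit 156) [(nat_lit 1765), (nat_lit 4559), (nat_lit 4558), (nat_lit 4530), (nat_lit 4147), (nat_lit 820), (nat_lit 1520), (nat_lit 6887), (nat_lit 1910), (nat_lit 6877), (nat_lit 6882)])) (.leaf .df)))) (.node (.node (.node (.leaf .df) (.leaf (.cyc (nat_lit 18) [(nat_lit 2738), (nat_lit 2670), (nat_lit 8703), (nat_lit 2670), (nat_lit 2738)]))) (.node (.leaf (.cyc (nat_lit 122) [(nat_lit 1374), (nat_lit 1375), (nat_lit 5862), (nat_lit 1560), (nat_lit 4200), (nat_lit 846), (nat_lit 3732), (nat_lit 3730), (nat_lit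 877), (nat_lit 5585), (nat_lit 5259)])) (.leaf .df))) (.node (.node (.leaf (.cyc (nat_lit 104) [(nat_lit 609), (nat_lit 3749), (nat_lit 3815), (nat_lit 3749), (nat_lit 609)])) (.leaf .df)) (.node (.leaf (.cyc (nat_lit 46) [(nat_lit 7590), (nat_lit 7588), (nat_lit 2214)])) (.leaf .df)))))) (.node (.node (.node (.node (.node (.leaf .df) (.leaf (.cyc (nat_lit 48) [(nat_lit 1805), (nat_lit 6586), (nat_lit 2421)]))) (.node (.leaf (.cyc (nat_lit 23) [(nat_lit 632), (nat_lit 3775), (nat_lit 1024)])) (.leaf .df))) (.node (.node (.leaf .df) (.leaf .df)) (.node (.leaf (.cyc (nat_lit 53) [(nat_lit 1816), (nat_lit 5661), (nat_lit 5667), (nat_lit 5661), (nat_lit 1816)])) (.leaf .df)))) (.node (.node (.node (.leaf .df) (.leaf (.cyc (nat_lit 19) [(nat_lit 2681), (nat_lit 8933), (nat_lit 8935), (nat_lit 8933), (nat_lit 2681)]))) (.node (.leaf (.cyc (nat_lit 27) [(nat_lit 794), (nat_lit 793), (nat_lit 1479)])) (.leaf .df))) (.node (.node (.leaf (.cyc (nat_lit 107) [(nat_lit 500), (nat_lit 228),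 (nat_lit 3031), (nat_lit 3384), (nat_lit 3464), (nat_lit 3465), (nat_lit 3464), (nat_lit 3384), (nat_lit 3031), (nat_lit 228), (nat_lit 500)])) (.leaf .df)) (.node (.leaf (.cyc (nat_lit 21) [(nat_lit 2145), (nat_lit 1376), (nat_lit 3922), (nat_lit 1376), (nat_lit 2145)])) (.leaf .df))))) (.node (.node (.node (.node (.leaf .df) (.leaf (.cyc (nat_lit 27) [(nat_lit 2555), (nat_lit 7442), (nat_lit 2555)]))) (.node (.leaf (.cyc (nat_lit 20) [(nat_lit 665), (nat_lit 664), (nat_lit 1252)])) (.leaf .df))) (.node (.node (.leaf (.cyc (nat_lit 16) [(nat_lit 189), (nat_lit 3040), (nat_lit 2933), (nat_lit 3040), (nat_lit 189)])) (.leaf .df)) (.node (.leaf (.cyc (nat_lit 61) [(nat_lit 7143), (nat_lit 1558), (nat_lit 843), (nat_lit 4156), (nat_lit 824), (nat_lit 3376), (nat_lit 824), (nat_lit 4156), (nat_lit 843), (nat_lit 1558), (nat_lit 7143)])) (.leaf .df)))) (.node (.node (.node (.leaf .df) (.leaf .df)) (.node (.leaf (.cyc (nat_lit 18) [(nat_lit 1608), (nat_lit 4264), (nat_lit 3723), (nat_lit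 4312), (nat_lit 1643)])) (.leaf .df))) (.node (.node (.leaf (.cyc (nat_lit 5) [(nat_lit 542), (nat_lit 4063), (nat_lit 3029), (nat_lit 4063), (nat_lit 542)])) (.leaf .df)) (.node (.leaf (.cyc (nat_lit 21) [(nat_lit 2290), (nat_lit 5936), (nat_lit 4790), (nat_lit 5936), (nat_lit 2290)])) (.leaf .df))))))))
noncomputable def u5P000101 : BT Pf := .node u5P0001010 u5P0001011
noncomputable def u5P00010 : BT Pf := .node u5P000100 u5P000101
noncomputable def u5P0001100 : BT Pf := (.node (.node (.node (.node (.node (.node (.node (.leaf .df) (.leaf (.cyc (nat_lit 20) [(nat_lit 7185), (nat_lit 7184), (nat_lit 2301)]))) (.node (.leaf (.cyc (nat_lit 121) [(nat_lit 4118), (nat_lit 407), (nat_lit 177), (nat_lit 176), (nat_lit 406)])) (.leaf .df))) (.node (.node (.leaf .df) (.leaf .df)) (.node (.leaf (.cyc (nat_lit 53) [(nat_lit 919), (nat_lit 466), (nat_lit 465), (nat_lit 918), (nat_lit 1661)])) (.leaf .df)))) (.node (.node (.node (.leaf .df) (.leaf (.cyc (nat_lit 20) [(nat_lit 8304), (nat_lit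 8301), (nat_lit 2571)]))) (.node (.leaf (.cyc (nat_lit 15) [(nat_lit 679), (nat_lit 678), (nat_lit 1277)])) (.leaf .df))) (.node (.node (.leaf (.cyc (nat_lit 26) [(nat_lit 212), (nat_lit 2894), (nat_lit 2898), (nat_lit 2894), (nat_lit 212)])) (.leaf .df)) (.node (.leaf (.cyc (nat_lit 63) [(nat_lit 1273), (nat_lit 3859), (nat_lit 3981), (nat_lit 5007), (nat_lit 1999)])) (.leaf .df))))) (.node (.node (.node (.node (.leaf .df) (.leaf (.cyc (nat_lit 37) [(nat_lit 2434), (nat_lit 1819), (nat_lit 4689), (nat_lit 1819), (nat_lit 2434)]))) (.node (.leaf (.cyc (nat_lit 34) [(nat_lit 572), (nat_lit 267), (nat_lit 3173), (nat_lit 547), (nat_lit 1041)])) (.leaf .df))) (.node (.node (.leaf .df) (.leaf .df)) (.node (.leaf (.cyc (nat_lit 50) [(nat_lit 1837), (nat_lit 1076), (nat_lit 3700), (nat_lit 1076), (nat_lit 1837)])) (.leaf .df)))) (.node (.node (.node (.leaf .df) (.leaf (.cyc (nat_lit 70) [(nat_lit 9702), (nat_lit 9705), (nat_lit 2681), (nat_lit 9503), (nat_lit 9505), (nat_lit 9504),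 (nat_lit 8790), (nat_lit 7031), (nat_lit 2505), (nat_lit 2691), (nat_lit 9750)]))) (.node (.leaf (.cyc (nat_lit 48) [(nat_lit 1109), (nat_lit 4124), (nat_lit 1490)])) (.leaf .df))) (.node (.node (.leaf (.cyc (nat_lit 21) [(nat_lit 523), (nat_lit 3143), (nat_lit 3081), (nat_lit 3143), (nat_lit 523)])) (.leaf .df)) (.node (.leaf (.cyc (nat_lit 50) [(nat_lit 2157), (nat_lit 1389), (nat_lit 3938), (nat_lit 1389), (nat_lit 2157)])) (.leaf .df)))))) (.node (.node (.node (.node (.node (.leaf .df) (.leaf (.cyc (nat_lit 12) [(nat_lit 8470), (nat_lit 1766), (nat_lit 5768), (nat_lit 4564), (nat_lit 1769)]))) (.node (.leaf (.cyc (nat_lit 47) [(nat_lit 926), (nat_lit 925), (nat_lit 4374), (nat_lit 925), (nat_lit 926)])) (.leaf .df))) (.node (.node (.leaf .df) (.leaf .df)) (.node (.leaf (.cyc (nat_lit 0) [(nat_lit 1580), (nat_lit 862), (nat_lit 3686), (nat_lit 1049), (nat_lit 6423), (nat_lit 5331)])) (.leaf .df)))) (.node (.node (.node (.leaf .df) (.leaf (.cyc (nat_lit 49) [(nat_lit 9455),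 (nat_lit 9454), (nat_lit 2635)]))) (.node (.leaf (.cyc (nat_lit 15) [(nat_lit 1379), (nat_lit 5269), (nat_lit 1379)])) (.leaf .df))) (.node (.node (.leaf (.cyc (nat_lit 31) [(nat_lit 369), (nat_lit 153), (nat_lit 2867), (nat_lit 159), (nat_lit 387)])) (.leaf .df)) (.node (.leaf (.cyc (nat_lit 40) [(nat_lit 7446), (nat_lit 5571), (nat_lit 1473)])) (.leaf .df))))) (.node (.node (.node (.node (.leaf .df) (.leaf (.cyc (nat_lit 56) [(nat_lit 1928), (nat_lit 1158), (nat_lit 1157), (nat_lit 1927), (nat_lit 2500)]))) (.node (.leaf (.cyc (nat_lit 48) [(nat_lit 4883), (nat_lit 4882), (nat_lit 1158)])) (.leaf .df))) (.node (.node (.leaf (.cyc (nat_lit 15) [(nat_lit 2819), (nat_lit 11), (nat_lit 44)])) (.leaf .df)) (.node (.leaf (.cyc (nat_lit 37) [(nat_lit 1879), (nat_lit 4940), (nat_lit 6933), (nat_lit 1925), (nat_lit 1926)])) (.leaf .df)))) (.node (.node (.node (.leaf .df) (.leaf (.cyc (nat_lit 120) [(nat_lit 2723), (nat_lit 9310), (nat_lit 9309), (nat_lit 7657), (nat_lit 7317), (nat_lit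 5307), (nat_lit 2043), (nat_lit 2539), (nat_lit 2710), (nat_lit 9826), (nat_lit 2747)]))) (.node (.leaf (.cyc (nat_lit 10) [(nat_lit 5908), (nat_lit 5693), (nat_lit 5908)])) (.leaf .df))) (.node (.node (.leaf (.cyc (nat_lit 60) [(nat_lit 671), (nat_lit 672), (nat_lit 3863), (nat_lit 672), (nat_lit 671)])) (.leaf .df)) (.node (.leaf (.cyc (nat_lit 118) [(nat_lit 6777), (nat_lit 1787), (nat_lit 5515), (nat_lit 2206), (nat_lit 7880), (nat_lit 7849), (nat_lit 2203), (nat_lit 7871), (nat_lit 7869), (nat_lit 7380), (nat_lit 7357), (nat_lit 6579), (nat_lit 1800), (nat_lit 5318), (nat_lit 6823), (nat_lit 7958), (nat_lit 7959)])) (.leaf .df))))))) (.node (.node (.node (.node (.node (.node (.leaf .df) (.leaf (.cyc (nat_lit 34) [(nat_lit 2335), (nat_lit 2334), (nat_lit 8340), (nat_lit 2334), (nat_lit 2335)]))) (.node (.leaf (.cyc (nat_lit 102) [(nat_lit 594), (nat_lit 3484), (nat_lit 4245), (nat_lit 3484), (nat_lit 594)])) (.leaf .df))) (.node (.node (.leaf .df) (.leaf .df)) (.node (.leaf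 (.cyc (nat_lit 37) [(nat_lit 1707), (nat_lit 6061), (nat_lit 6063), (nat_lit 6061), (nat_lit 1707)])) (.leaf .df)))) (.node (.node (.node (.leaf .df) (.leaf (.cyc (nat_lit 19) [(nat_lit 2602), (nat_lit 7790), (nat_lit 7435), (nat_lit 7790), (nat_lit 2602)]))) (.node (.leaf (.cyc (nat_lit 94) [(nat_lit 1331), (nat_lit 1332), (nat_lit 5271), (nat_lit 1332), (nat_lit 1331)])) (.leaf .df))) (.node (.node (.leaf (.cyc (nat_lit 23) [(nat_lit 136), (nat_lit 2938), (nat_lit 294)])) (.leaf .df)) (.node (.leaf (.cyc (nat_lit 27) [(nat_lit 1264), (nat_lit 1263), (nat_lit 2041)])) (.leaf .df))))) (.node (.node (.node (.node (.leaf .df) (.leaf (.cyc (nat_lit 19) [(nat_lit 2071), (nat_lit 5161), (nat_lit 4773), (nat_lit 6778), (nat_lit 2469)]))) (.node (.leaf (.cyc (nat_lit 117) [(nat_lit 1100), (nat_lit 1099), (nat_lit 4759), (nat_lit 1099), (nat_lit 1100)])) (.leaf .df))) (.node (.node (.leaf .df) (.leaf .df)) (.node (.leaf (.cyc (nat_lit 31) [(nat_lit 5241), (nat_lit 5111), (nat_lit 1118),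 (nat_lit 1119), (nat_lit 1884)])) (.leaf .df)))) (.node (.node (.node (.leaf .df) (.leaf (.cyc (nat_lit 97) [(nat_lit 9800), (nat_lit 2619), (nat_lit 8215), (nat_lit 8213), (nat_lit 7998), (nat_lit 5673), (nat_lit 6220), (nat_lit 2355), (nat_lit 8430), (nat_lit 9285), (nat_lit 2721)]))) (.node (.leaf (.cyc (nat_lit 3) [(nat_lit 5783), (nat_lit 1279), (nat_lit 1282)])) (.leaf .df))) (.node (.node (.leaf (.cyc (nat_lit 20) [(nat_lit 278), (nat_lit 275), (nat_lit 595)])) (.leaf .df)) (.node (.leaf (.cyc (nat_lit 6) [(nat_lit 2193), (nat_lit 7745), (nat_lit 7749), (nat_lit 7745), (nat_lit 2193)])) (.leaf .df)))))) (.node (.node (.node (.node (.node (.leaf .df) (.leaf (.cyc (nat_lit 26) [(nat_lit 7336), (nat_lit 6809), (nat_lit 7433), (nat_lit 7436), (nat_lit 2401)]))) (.node (.leaf (.cyc (nat_lit 55) [(nat_lit 4213), (nat_lit 862), (nat_lit 4503), (nat_lit 862), (nat_lit 4213)])) (.leaf .df))) (.node (.node (.leaf .df) (.leaf .df)) (.node (.leaf (.cyc (nat_lit 24) [(nat_lit 1271),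 (nat_lit 5044), (nat_lit 5694), (nat_lit 5695), (nat_lit 1791)])) (.leaf .df)))) (.node (.node (.node (.leaf .df) (.leaf (.cyc (nat_lit 27) [(nat_lit 2663), (nat_lit 8479), (nat_lit 2663)]))) (.node (.leaf (.cyc (nat_lit 3) [(nat_lit 5527), (nat_lit 1154), (nat_lit 1156)])) (.leaf .df))) (.node (.node (.leaf (.cyc (nat_lit 31) [(nat_lit 457), (nat_lit 3085), (nat_lit 2955), (nat_lit 3085), (nat_lit 457)])) (.leaf .df)) (.node (.leaf (.cyc (nat_lit 134) [(nat_lit 7575), (nat_lit 7573), (nat_lit 6757), (nat_lit 2061), (nat_lit 7374), (nat_lit 7373), (nat_lit 1624), (nat_lit 894), (nat_lit 896), (nat_lit 1626), (nat_lit 6071), (nat_lit 1811)])) (.leaf .df))))) (.node (.node (.node (.node (.leaf .df) (.leaf (.cyc (nat_lit 48) [(nat_lit 2534), (nat_lit 7312), (nat_lit 2534)]))) (.node (.leaf (.cyc (nat_lit 55) [(nat_lit 1216), (nat_lit 1218), (nat_lit 5012), (nat_lit 1218), (nat_lit 1216)])) (.leaf .df))) (.node (.node (.leaf (.cyc (nat_lit 24) [(nat_lit 156), (nat_lit 2864), (nat_lit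 2793), (nat_lit 2864), (nat_lit 156)])) (.leaf .df)) (.node (.leaf (.cyc (nat_lit 25) [(nat_lit 1963), (nat_lit 1185), (nat_lit 3793), (nat_lit 1185), (nat_lit 1963)])) (.leaf .df)))) (.node (.node (.node (.leaf .df) (.leaf .df)) (.node (.leaf (.cyc (nat_lit 50) [(nat_lit 1616), (nat_lit 5230), (nat_lit 5229), (nat_lit 5230), (nat_lit 1616)])) (.leaf .df))) (.node (.node (.leaf (.cyc (nat_lit 62) [(nat_lit 761), (nat_lit 3306), (nat_lit 3436), (nat_lit 3306), (nat_lit 761)])) (.leaf .df)) (.node (.leaf (.cyc (nat_lit 49) [(nat_lit 1861), (nat_lit 5799), (nat_lit 2268)])) (.leaf .df))))))))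
noncomputable def u5P0001101 : BT Pf := (.node (.node (.node (.node (.node (.node (.node (.leaf .df) (.leaf (.cyc (nat_lit 23) [(nat_lit 1778), (nat_lit 6093), (nat_lit 2321)]))) (.node (.leaf (.cyc (nat_lit 28) [(nat_lit 843), (nat_lit 415), (nat_lit 3029), (nat_lit 415), (nat_lit 843)])) (.leaf .df))) (.node (.node (.leaf .df) (.leaf .df)) (.node (.leaf (.cyc (nat_lit 141) [(nat_lit 1685), (nat_lit 1687), (nat_lit 6231), (nat_lit 5880), (nat_lit 5882), (nat_lit 5874), (nat_lit 5875), (nat_lit 1237), (nat_lit 3841), (nat_lit 1185), (nat_lit 4951)])) (.leaf .df)))) (.node (.node (.node (.leaf .df) (.leaf (.cyc (nat_lit 28) [(nat_lit 8465), (nat_lit 7421), (nat_lit 6241), (nat_lit 2137), (nat_lit 2582)]))) (.node (.leaf (.cyc (nat_lit 27) [(nat_lit 1306), (nat_lit 4224), (nat_lit 1306)])) (.leaf .df))) (.node (.node (.leaf (.cyc (nat_lit 41) [(nat_lit 250), (nat_lit 2921), (nat_lit 250)])) (.leaf .df)) (.node (.leaf (.cyc (nat_lit 37) [(nat_lit 6888), (nat_lit 1907), (nat_lit 5623),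 (nat_lit 1250), (nat_lit 2021)])) (.leaf .df))))) (.node (.node (.node (.node (.leaf .df) (.leaf (.cyc (nat_lit 47) [(nat_lit 6734), (nat_lit 6691), (nat_lit 6690), (nat_lit 1843), (nat_lit 2450)]))) (.node (.leaf (.cyc (nat_lit 35) [(nat_lit 1066), (nat_lit 562), (nat_lit 3681), (nat_lit 562), (nat_lit 1066)])) (.leaf .df))) (.node (.node (.leaf .df) (.leaf .df)) (.node (.leaf (.cyc (nat_lit 82) [(nat_lit 1860), (nat_lit 5634), (nat_lit 5965), (nat_lit 5961), (nat_lit 4709), (nat_lit 4386), (nat_lit 4425), (nat_lit 6062), (nat_lit 6203), (nat_lit 6201), (nat_lit 6385)])) (.leaf .df)))) (.node (.node (.node (.leaf .df) (.leaf (.cyc (nat_lit 62) [(nat_lit 2674), (nat_lit 9115), (nat_lit 9113), (nat_lit 2537), (nat_lit 2708)]))) (.node (.leaf (.cyc (nat_lit 120) [(nat_lit 4427), (nat_lit 4387), (nat_lit 481), (nat_lit 218), (nat_lit 2887), (nat_lit 2888), (nat_lit 219), (nat_lit 482), (nat_lit 935), (nat_lit 4393), (nat_lit 1514)])) (.leaf .df))) (.node (.node (.leaf (.cyc (nat_lit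 74) [(nat_lit 3594), (nat_lit 3662), (nat_lit 465)])) (.leaf .df)) (.node (.leaf (.cyc (nat_lit 53) [(nat_lit 1756), (nat_lit 5500), (nat_lit 1428), (nat_lit 5450), (nat_lit 2174)])) (.leaf .df)))))) (.node (.node (.node (.node (.node (.leaf .df) (.leaf (.cyc (nat_lit 21) [(nat_lit 2384), (nat_lit 6385), (nat_lit 5860), (nat_lit 6385), (nat_lit 2384)]))) (.node (.leaf (.cyc (nat_lit 7) [(nat_lit 4439), (nat_lit 3885), (nat_lit 696)])) (.leaf .df))) (.node (.node (.leaf .df) (.leaf .df)) (.node (.leaf (.cyc (nat_lit 100) [(nat_lit 1402), (nat_lit 6485), (nat_lit 600), (nat_lit 3729), (nat_lit 1122)])) (.leaf .df)))) (.node (.node (.node (.leaf .df) (.leaf (.cyc (nat_lit 21) [(nat_lit 2648), (nat_lit 8257), (nat_lit 8240), (nat_lit 8257), (nat_lit 2648)]))) (.node (.leaf (.cyc (nat_lit 56) [(nat_lit 5279), (nat_lit 5276), (nat_lit 3967), (nat_lit 755), (nat_lit 1415)])) (.leaf .df))) (.node (.node (.leaf (.cyc (nat_lit 35) [(nat_lit 3302), (nat_lit 358), (nat_lit 3363), (nat_lit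 3359), (nat_lit 439)])) (.leaf .df)) (.node (.leaf (.cyc (nat_lit 23) [(nat_lit 6369), (nat_lit 5620), (nat_lit 2103)])) (.leaf .df))))) (.node (.node (.node (.node (.leaf .df) (.leaf (.cyc (nat_lit 34) [(nat_lit 2517), (nat_lit 8946), (nat_lit 8949), (nat_lit 8946), (nat_lit 2517)]))) (.node (.leaf (.cyc (nat_lit 39) [(nat_lit 4357), (nat_lit 4358), (nat_lit 583), (nat_lit 582), (nat_lit 1102), (nat_lit 4756), (nat_lit 3839), (nat_lit 655), (nat_lit 656), (nat_lit 3841), (nat_lit 1186)])) (.leaf .df))) (.node (.node (.leaf (.cyc (nat_lit 37) [(nat_lit 98), (nat_lit 2875), (nat_lit 2876), (nat_lit 2875), (nat_lit 98)])) (.leaf .df)) (.node (.leaf (.cyc (nat_lit 37) [(nat_lit 1943), (nat_lit 5975), (nat_lit 5977), (nat_lit 5975), (nat_lit 1943)])) (.leaf .df)))) (.node (.node (.node (.leaf .df) (.leaf .df)) (.node (.leaf (.cyc (nat_lit 34) [(nat_lit 1595), (nat_lit 4237), (nat_lit 4011), (nat_lit 4237), (nat_lit 1595)])) (.leaf .df))) (.node (.node (.leaf (.cyc (nat_lit 15) [(nat_lit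 3927), (nat_lit 3307), (nat_lit 3927)])) (.leaf .df)) (.node (.leaf (.cyc (nat_lit 27) [(nat_lit 8023), (nat_lit 2247), (nat_lit 2248)])) (.leaf .df))))))) (.node (.node (.node (.node (.node (.node (.leaf .df) (.leaf (.cyc (nat_lit 63) [(nat_lit 1674), (nat_lit 931), (nat_lit 929), (nat_lit 1672), (nat_lit 2350)]))) (.node (.leaf (.cyc (nat_lit 47) [(nat_lit 580), (nat_lit 271), (nat_lit 3084), (nat_lit 457), (nat_lit 907)])) (.leaf .df))) (.node (.node (.leaf .df) (.leaf .df)) (.node (.leaf (.cyc (nat_lit 98) [(nat_lit 6285), (nat_lit 6359), (nat_lit 5351), (nat_lit 6359), (nat_lit 6285)])) (.leaf .df)))) (.node (.node (.node (.leaf .df) (.leaf (.cyc (nat_lit 21) [(nat_lit 2619), (nat_lit 2246), (nat_lit 5679), (nat_lit 2246), (nat_lit 2619)]))) (.node (.leaf (.cyc (nat_lit 37) [(nat_lit 1281), (nat_lit 680), (nat_lit 3288), (nat_lit 3909), (nat_lit 1351)])) (.leaf .df))) (.node (.node (.leaf (.cyc (nat_lit 40) [(nat_lit 3279), (nat_lit 3197), (nat_lit 3248)])) (.leaf .df)) (.node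 (.leaf (.cyc (nat_lit 25) [(nat_lit 2065), (nat_lit 5149), (nat_lit 3874), (nat_lit 5149), (nat_lit 2065)])) (.leaf .df))))) (.node (.node (.node (.node (.leaf .df) (.leaf (.cyc (nat_lit 20) [(nat_lit 1892), (nat_lit 1890), (nat_lit 2485)]))) (.node (.leaf (.cyc (nat_lit 27) [(nat_lit 594), (nat_lit 593), (nat_lit 1125)])) (.leaf .df))) (.node (.node (.leaf (.pin (nat_lit 27) [(nat_lit 1), (nat_lit 18)] [(nat_lit 18), (nat_lit 1)])) (.leaf .df)) (.node (.leaf (.cyc (nat_lit 117) [(nat_lit 1385), (nat_lit 1384), (nat_lit 6871), (nat_lit 1384), (nat_lit 1385)])) (.leaf .df)))) (.node (.node (.node (.leaf .df) (.leaf (.cyc (nat_lit 15) [(nat_lit 2735), (nat_lit 9488), (nat_lit 2735)]))) (.node (.leaf (.cyc (nat_lit 6) [(nat_lit 1550), (nat_lit 5833), (nat_lit 5834), (nat_lit 5833), (nat_lit 1550)])) (.leaf .df))) (.node (.node (.leaf (.cyc (nat_lit 18) [(nat_lit 635), (nat_lit 3224), (nat_lit 2949), (nat_lit 3224), (nat_lit 635)])) (.leaf .df)) (.node (.leaf (.cyc (nat_lit 49) [(nat_lit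 7804), (nat_lit 7805), (nat_lit 2210)])) (.leaf .df)))))) (.node (.node (.node (.node (.node (.leaf .df) (.leaf (.cyc (nat_lit 37) [(nat_lit 7099), (nat_lit 7465), (nat_lit 7547), (nat_lit 7545), (nat_lit 2417)]))) (.node (.leaf (.cyc (nat_lit 82) [(nat_lit 1016), (nat_lit 4329), (nat_lit 4332), (nat_lit 916), (nat_lit 3492), (nat_lit 3149), (nat_lit 3507), (nat_lit 3605), (nat_lit 521), (nat_lit 3525), (nat_lit 933)])) (.leaf .df))) (.node (.node (.leaf .df) (.leaf .df)) (.node (.leaf (.cyc (nat_lit 47) [(nat_lit 6497), (nat_lit 6498), (nat_lit 4653), (nat_lit 1053), (nat_lit 1810)])) (.leaf .df)))) (.node (.node (.node (.leaf .df) (.leaf (.cyc (nat_lit 18) [(nat_lit 2678), (nat_lit 8794), (nat_lit 8578), (nat_lit 8794), (nat_lit 2678)]))) (.node (.leaf (.cyc (nat_lit 18) [(nat_lit 1474), (nat_lit 790), (nat_lit 3350), (nat_lit 790), (nat_lit 1474)])) (.leaf .df))) (.node (.node (.leaf (.cyc (nat_lit 56) [(nat_lit 493), (nat_lit 3463), (nat_lit 3465), (nat_lit 3463), (nat_lit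 493)])) (.leaf .df)) (.node (.leaf (.cyc (nat_lit 105) [(nat_lit 7639), (nat_lit 5390), (nat_lit 7639)])) (.leaf .df))))) (.node (.node (.node (.node (.leaf .df) (.leaf (.cyc (nat_lit 28) [(nat_lit 2550), (nat_lit 8418), (nat_lit 8421), (nat_lit 8418), (nat_lit 2550)]))) (.node (.leaf (.cyc (nat_lit 26) [(nat_lit 1245), (nat_lit 3994), (nat_lit 3989), (nat_lit 3994), (nat_lit 1245)])) (.leaf .df))) (.node (.node (.leaf (.cyc (nat_lit 34) [(nat_lit 182), (nat_lit 71), (nat_lit 2795), (nat_lit 71), (nat_lit 182)])) (.leaf .df)) (.node (.leaf (.cyc (nat_lit 23) [(nat_lit 1844), (nat_lit 1843), (nat_lit 7126)])) (.leaf .df)))) (.node (.node (.node (.leaf .df) (.leaf .df)) (.node (.leaf (.cyc (nat_lit 18) [(nat_lit 1638), (nat_lit 5077), (nat_lit 5079), (nat_lit 5077), (nat_lit 1638)])) (.leaf .df))) (.node (.node (.leaf (.cyc (nat_lit 114) [(nat_lit 389), (nat_lit 4047)])) (.leaf .df)) (.node (.leaf (.cyc (nat_lit 41) [(nat_lit 2285), (nat_lit 5879), (nat_lit 2285)])) (.leaf .df))))))))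
noncomputable def u5P000110 : BT Pf := .node u5P0001100 u5P0001101
noncomputable def u5P0001110 : BT Pf := (.node (.node (.node (.node (.node (.node (.node (.leaf .df) (.leaf (.cyc (nat_lit 28) [(nat_lit 2311), (nat_lit 1619), (nat_lit 4274), (nat_lit 1619), (nat_lit 2311)]))) (.node (.leaf (.cyc (nat_lit 27) [(nat_lit 823), (nat_lit 3376), (nat_lit 823)])) (.leaf .df))) (.node (.node (.leaf .df) (.leaf .df)) (.node (.leaf (.cyc (nat_lit 25) [(nat_lit 1619), (nat_lit 4275), (nat_lit 1399), (nat_lit 6194), (nat_lit 1675)])) (.leaf .df)))) (.node (.node (.node (.leaf .df) (.leaf (.cyc (nat_lit 20) [(nat_lit 2119), (nat_lit 7560), (nat_lit 2576)]))) (.node (.leaf (.cyc (nat_lit 25) [(nat_lit 742), (nat_lit 3297), (nat_lit 688), (nat_lit 1297), (nat_lit 5175)])) (.leaf .df))) (.node (.node (.leaf (.cyc (nat_lit 20) [(nat_lit 232), (nat_lit 2897), (nat_lit 232)])) (.leaf .df)) (.node (.leaf (.cyc (nat_lit 28) [(nat_lit 2011), (nat_lit 5694), (nat_lit 5696), (nat_lit 5694), (nat_lit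 2011)])) (.leaf .df))))) (.node (.node (.node (.node (.leaf .df) (.leaf (.cyc (nat_lit 19) [(nat_lit 2442), (nat_lit 8540), (nat_lit 8542), (nat_lit 8540), (nat_lit 2442)]))) (.node (.leaf (.cyc (nat_lit 18) [(nat_lit 4663), (nat_lit 3715), (nat_lit 3585), (nat_lit 3715), (nat_lit 4663)])) (.leaf .df))) (.node (.node (.leaf .df) (.leaf .df)) (.node (.leaf (.cyc (nat_lit 21) [(nat_lit 1191), (nat_lit 4993), (nat_lit 4703), (nat_lit 1084), (nat_lit 1850)])) (.leaf .df)))) (.node (.node (.node (.leaf .df) (.leaf (.cyc (nat_lit 21) [(nat_lit 2674), (nat_lit 2430), (nat_lit 2431), (nat_lit 9022), (nat_lit 2699)]))) (.node (.leaf (.cyc (nat_lit 19) [(nat_lit 1500), (nat_lit 1498), (nat_lit 5686), (nat_lit 1498), (nat_lit 1500)])) (.leaf .df))) (.node (.node (.leaf (.cyc (nat_lit 53) [(nat_lit 547), (nat_lit 255), (nat_lit 3166), (nat_lit 255), (nat_lit 547)])) (.leaf .df)) (.node (.leaf (.cyc (nat_lit 53) [(nat_lit 6442), (nat_lit 1736), (nat_lit 1735), (nat_lit 6378), (nat_lit 2165)]))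 (.leaf .df)))))) (.node (.node (.node (.node (.node (.leaf .df) (.leaf (.cyc (nat_lit 37) [(nat_lit 2375), (nat_lit 8211), (nat_lit 8212), (nat_lit 8211), (nat_lit 2375)]))) (.node (.leaf (.cyc (nat_lit 10) [(nat_lit 4407), (nat_lit 713), (nat_lit 3901)])) (.leaf .df))) (.node (.node (.leaf .df) (.leaf .df)) (.node (.leaf (.cyc (nat_lit 64) [(nat_lit 6125), (nat_lit 5905), (nat_lit 914), (nat_lit 460), (nat_lit 462), (nat_lit 3490), (nat_lit 3492), (nat_lit 526), (nat_lit 1012), (nat_lit 1766), (nat_lit 6455)])) (.leaf .df)))) (.node (.node (.node (.leaf .df) (.leaf (.cyc (nat_lit 41) [(nat_lit 2641), (nat_lit 8191), (nat_lit 2641)]))) (.node (.leaf (.cyc (nat_lit 46) [(nat_lit 1400), (nat_lit 3945), (nat_lit 1400)])) (.leaf .df))) (.node (.node (.leaf (.cyc (nat_lit 20) [(nat_lit 181), (nat_lit 180), (nat_lit 416)])) (.leaf .df)) (.node (.leaf (.cyc (nat_lit 15) [(nat_lit 1318), (nat_lit 1317), (nat_lit 2098)])) (.leaf .df))))) (.node (.node (.node (.node (.leaf .df) (.leaf (.cyc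 (nat_lit 38) [(nat_lit 2395), (nat_lit 6445), (nat_lit 4835), (nat_lit 5948), (nat_lit 5946), (nat_lit 6150), (nat_lit 7291), (nat_lit 2004), (nat_lit 7051), (nat_lit 7053), (nat_lit 2508)]))) (.node (.leaf (.cyc (nat_lit 47) [(nat_lit 1171), (nat_lit 621), (nat_lit 3220), (nat_lit 621), (nat_lit 1171)])) (.leaf .df))) (.node (.node (.leaf (.cyc (nat_lit 15) [(nat_lit 42), (nat_lit 2794), (nat_lit 70)])) (.leaf .df)) (.node (.leaf (.cyc (nat_lit 49) [(nat_lit 6956), (nat_lit 6959), (nat_lit 1935)])) (.leaf .df)))) (.node (.node (.node (.leaf .df) (.leaf .df)) (.node (.leaf (.cyc (nat_lit 24) [(nat_lit 1585), (nat_lit 5865), (nat_lit 5868), (nat_lit 5865), (nat_lit 1585)])) (.leaf .df))) (.node (.node (.leaf (.cyc (nat_lit 26) [(nat_lit 701), (nat_lit 3258), (nat_lit 3168), (nat_lit 3258), (nat_lit 701)])) (.leaf .df)) (.node (.leaf (.cyc (nat_lit 35) [(nat_lit 1768), (nat_lit 4564), (nat_lit 4106), (nat_lit 5608), (nat_lit 2235)])) (.leaf .df))))))) (.node (.node (.node (.node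 (.node (.node (.leaf .df) (.leaf (.cyc (nat_lit 18) [(nat_lit 2343), (nat_lit 7950), (nat_lit 7951), (nat_lit 7950), (nat_lit 2343)]))) (.node (.leaf (.cyc (nat_lit 23) [(nat_lit 453), (nat_lit 452), (nat_lit 893)])) (.leaf .df))) (.node (.node (.leaf .df) (.leaf .df)) (.node (.leaf (.cyc (nat_lit 94) [(nat_lit 1717), (nat_lit 1718), (nat_lit 6327), (nat_lit 1718), (nat_lit 1717)])) (.leaf .df)))) (.node (.node (.node (.leaf .df) (.leaf (.cyc (nat_lit 24) [(nat_lit 2610), (nat_lit 7966), (nat_lit 5579), (nat_lit 7966), (nat_lit 2610)]))) (.node (.leaf (.cyc (nat_lit 49) [(nat_lit 808), (nat_lit 4367), (nat_lit 1342)])) (.leaf .df))) (.node (.node (.leaf (.cyc (nat_lit 46) [(nat_lit 328), (nat_lit 2952), (nat_lit 328)])) (.leaf .df)) (.node (.leaf (.cyc (nat_lit 48) [(nat_lit 1274), (nat_lit 5132), (nat_lit 2054)])) (.leaf .df))))) (.node (.node (.node (.node (.leaf .df) (.leaf (.cyc (nat_lit 23) [(nat_lit 8882), (nat_lit 2475), (nat_lit 2477)]))) (.node (.leaf (.cyc (nat_lit 27)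 [(nat_lit 4791), (nat_lit 1112), (nat_lit 1113)])) (.leaf .df))) (.node (.node (.leaf .df) (.leaf .df)) (.node (.leaf (.cyc (nat_lit 31) [(nat_lit 1881), (nat_lit 1117), (nat_lit 1116), (nat_lit 4826), (nat_lit 1896)])) (.leaf .df)))) (.node (.node (.node (.leaf .df) (.leaf (.cyc (nat_lit 44) [(nat_lit 2728), (nat_lit 9664), (nat_lit 9663), (nat_lit 9664), (nat_lit 2728)]))) (.node (.leaf (.cyc (nat_lit 97) [(nat_lit 5815), (nat_lit 1472), (nat_lit 4097), (nat_lit 3444), (nat_lit 359), (nat_lit 360), (nat_lit 3927), (nat_lit 5296), (nat_lit 5298), (nat_lit 5089), (nat_lit 1541)])) (.leaf .df))) (.node (.node (.leaf (.cyc (nat_lit 21) [(nat_lit 447), (nat_lit 198), (nat_lit 199), (nat_lit 448), (nat_lit 3767)])) (.leaf .df)) (.node (.leaf (.cyc (nat_lit 41) [(nat_lit 2201), (nat_lit 5511), (nat_lit 2201)])) (.leaf .df)))))) (.node (.node (.node (.node (.node (.leaf .df) (.leaf (.cyc (nat_lit 19) [(nat_lit 2409), (nat_lit 6515), (nat_lit 5313), (nat_lit 6515), (nat_lit 2409)])))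 (.node (.leaf (.cyc (nat_lit 19) [(nat_lit 1001), (nat_lit 3605), (nat_lit 3512), (nat_lit 3605), (nat_lit 1001)])) (.leaf .df))) (.node (.node (.leaf .df) (.leaf .df)) (.node (.leaf (.cyc (nat_lit 110) [(nat_lit 6583), (nat_lit 1801), (nat_lit 4923)])) (.leaf .df)))) (.node (.node (.node (.leaf .df) (.leaf (.cyc (nat_lit 15) [(nat_lit 2427), (nat_lit 8702), (nat_lit 2671)]))) (.node (.leaf (.cyc (nat_lit 45) [(nat_lit 1431), (nat_lit 766), (nat_lit 3341), (nat_lit 785), (nat_lit 1461)])) (.leaf .df))) (.node (.node (.leaf (.cyc (nat_lit 55) [(nat_lit 469), (nat_lit 470), (nat_lit 3511), (nat_lit 470), (nat_lit 469)])) (.leaf .df)) (.node (.leaf (.cyc (nat_lit 34) [(nat_lit 2058), (nat_lit 6434), (nat_lit 7189), (nat_lit 7193), (nat_lit 2129)])) (.leaf .df))))) (.node (.node (.node (.node (.leaf .df) (.leaf (.cyc (nat_lit 53) [(nat_lit 2543), (nat_lit 8363), (nat_lit 8362), (nat_lit 8363), (nat_lit 2543)]))) (.node (.leaf (.cyc (nat_lit 28) [(nat_lit 905), (nat_lit 456), (nat_lit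 3236), (nat_lit 656), (nat_lit 1237)])) (.leaf .df))) (.node (.node (.leaf (.cyc (nat_lit 75) [(nat_lit 117), (nat_lit 118), (nat_lit 2999), (nat_lit 118), (nat_lit 117)])) (.leaf .df)) (.node (.leaf (.cyc (nat_lit 23) [(nat_lit 6913), (nat_lit 6462), (nat_lit 1973)])) (.leaf .df)))) (.node (.node (.node (.leaf .df) (.leaf .df)) (.node (.leaf (.cyc (nat_lit 49) [(nat_lit 1410), (nat_lit 4297), (nat_lit 1627)])) (.leaf .df))) (.node (.node (.leaf (.cyc (nat_lit 78) [(nat_lit 392), (nat_lit 160), (nat_lit 64), (nat_lit 63), (nat_lit 156), (nat_lit 379), (nat_lit 784), (nat_lit 4023), (nat_lit 3388), (nat_lit 418), (nat_lit 419)])) (.leaf .df)) (.node (.leaf (.cyc (nat_lit 53) [(nat_lit 2277), (nat_lit 1545), (nat_lit 4196), (nat_lit 1545), (nat_lit 2277)])) (.leaf .df))))))))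
noncomputable def u5P0001111 : BT Pf := (.node (.node (.node (.node (.node (.node (.node (.leaf .df) (.leaf (.cyc (nat_lit 18) [(nat_lit 2328), (nat_lit 6117), (nat_lit 5358), (nat_lit 6117), (nat_lit 2328)]))) (.node (.leaf (.cyc (nat_lit 1) [(nat_lit 4215), (nat_lit 558), (nat_lit 559)])) (.leaf .df))) (.node (.node (.leaf .df) (.leaf .df)) (.node (.leaf (.cyc (nat_lit 37) [(nat_lit 1150), (nat_lit 4492), (nat_lit 6227), (nat_lit 6226), (nat_lit 1697)])) (.leaf .df)))) (.node (.node (.node (.leaf .df) (.leaf (.cyc (nat_lit 24) [(nat_lit 2393), (nat_lit 6925), (nat_lit 6928), (nat_lit 2151), (nat_lit 2594)]))) (.node (.leaf (.cyc (nat_lit 6) [(nat_lit 5106), (nat_lit 1101), (nat_lit 3720), (nat_lit 701), (nat_lit 1318)])) (.leaf .df))) (.node (.node (.leaf (.cyc (nat_lit 19) [(nat_lit 147), (nat_lit 2954), (nat_lit 3085), (nat_lit 3084), (nat_lit 272)])) (.leaf .df)) (.node (.leaf (.cyc (nat_lit 26) [(nat_lit 2030), (nat_lit 5405), (nat_lit 5406), (nat_lit 5405), (nat_lit 2030)]))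 (.leaf .df))))) (.node (.node (.node (.node (.leaf .df) (.leaf (.cyc (nat_lit 25) [(nat_lit 7375), (nat_lit 7372), (nat_lit 6521), (nat_lit 6738), (nat_lit 2460)]))) (.node (.leaf (.cyc (nat_lit 30) [(nat_lit 3798), (nat_lit 857), (nat_lit 4603), (nat_lit 4595), (nat_lit 1082)])) (.leaf .df))) (.node (.node (.leaf .df) (.leaf .df)) (.node (.leaf (.cyc (nat_lit 41) [(nat_lit 1871), (nat_lit 4766), (nat_lit 1871)])) (.leaf .df)))) (.node (.node (.node (.leaf .df) (.leaf (.cyc (nat_lit 27) [(nat_lit 2715), (nat_lit 9171), (nat_lit 2715)]))) (.node (.leaf (.cyc (nat_lit 28) [(nat_lit 1526), (nat_lit 822), (nat_lit 3375), (nat_lit 822), (nat_lit 1526)])) (.leaf .df))) (.node (.node (.leaf (.cyc (nat_lit 54) [(nat_lit 568), (nat_lit 3690), (nat_lit 558), (nat_lit 261), (nat_lit 260), (nat_lit 3181), (nat_lit 260), (nat_lit 261), (nat_lit 558), (nat_lit 3690), (nat_lit 568)])) (.leaf .df)) (.node (.leaf (.cyc (nat_lit 53) [(nat_lit 2185), (nat_lit 1422), (nat_lit 3995), (nat_lit 1422),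 (nat_lit 2185)])) (.leaf .df)))))) (.node (.node (.node (.node (.node (.leaf .df) (.leaf (.cyc (nat_lit 26) [(nat_lit 2392), (nat_lit 7768), (nat_lit 7769), (nat_lit 7768), (nat_lit 2392)]))) (.node (.leaf (.cyc (nat_lit 43) [(nat_lit 4462), (nat_lit 971), (nat_lit 4471), (nat_lit 971), (nat_lit 4462)])) (.leaf .df))) (.node (.node (.leaf .df) (.leaf .df)) (.node (.leaf (.cyc (nat_lit 50) [(nat_lit 1780), (nat_lit 1025), (nat_lit 3622), (nat_lit 1025), (nat_lit 1780)])) (.leaf .df)))) (.node (.node (.node (.leaf .df) (.leaf (.cyc (nat_lit 50) [(nat_lit 2386), (nat_lit 6407), (nat_lit 6304), (nat_lit 8374), (nat_lit 2655)]))) (.node (.leaf (.cyc (nat_lit 75) [(nat_lit 1286), (nat_lit 1287), (nat_lit 5493), (nat_lit 1287), (nat_lit 1286)])) (.leaf .df))) (.node (.node (.leaf (.cyc (nat_lit 8) [(nat_lit 139), (nat_lit 138), (nat_lit 3447), (nat_lit 138), (nat_lit 139), (nat_lit 335)])) (.leaf .df)) (.node (.leaf (.cyc (nat_lit 23) [(nat_lit 1337), (nat_lit 1336), (nat_lit 2114)]))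 (.leaf .df))))) (.node (.node (.node (.node (.leaf .df) (.leaf (.cyc (nat_lit 46) [(nat_lit 2225), (nat_lit 7241), (nat_lit 2526)]))) (.node (.leaf (.cyc (nat_lit 139) [(nat_lit 892), (nat_lit 891), (nat_lit 4273), (nat_lit 619), (nat_lit 620), (nat_lit 3772), (nat_lit 3755), (nat_lit 1152), (nat_lit 4980), (nat_lit 4978), (nat_lit 4973)])) (.leaf .df))) (.node (.node (.leaf (.cyc (nat_lit 19) [(nat_lit 124), (nat_lit 2918), (nat_lit 2921), (nat_lit 2918), (nat_lit 124)])) (.leaf .df)) (.node (.leaf (.cyc (nat_lit 49) [(nat_lit 1182), (nat_lit 4935), (nat_lit 1952)])) (.leaf .df)))) (.node (.node (.node (.leaf .df) (.leaf .df)) (.node (.leaf (.cyc (nat_lit 13) [(nat_lit 6007), (nat_lit 5317), (nat_lit 5320), (nat_lit 4260), (nat_lit 584), (nat_lit 272), (nat_lit 273), (nat_lit 587), (nat_lit 3727), (nat_lit 597), (nat_lit 1133)])) (.leaf .df))) (.node (.node (.leaf (.cyc (nat_lit 60) [(nat_lit 745), (nat_lit 747), (nat_lit 3959), (nat_lit 747), (nat_lit 745)])) (.leaf .df)) (.node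 (.leaf (.cyc (nat_lit 15) [(nat_lit 6506), (nat_lit 6206), (nat_lit 2258)])) (.leaf .df))))))) (.node (.node (.node (.node (.node (.node (.leaf .df) (.leaf (.cyc (nat_lit 46) [(nat_lit 1691), (nat_lit 6231), (nat_lit 2358)]))) (.node (.leaf (.cyc (nat_lit 45) [(nat_lit 890), (nat_lit 451), (nat_lit 3090), (nat_lit 471), (nat_lit 923)])) (.leaf .df))) (.node (.node (.leaf .df) (.leaf .df)) (.node (.leaf (.cyc (nat_lit 48) [(nat_lit 1742), (nat_lit 4489), (nat_lit 1742)])) (.leaf .df)))) (.node (.node (.node (.leaf .df) (.leaf (.cyc (nat_lit 62) [(nat_lit 2626), (nat_lit 2259), (nat_lit 5728), (nat_lit 2259), (nat_lit 2626)]))) (.node (.leaf (.cyc (nat_lit 107) [(nat_lit 5367), (nat_lit 727), (nat_lit 341), (nat_lit 3267), (nat_lit 718), (nat_lit 3911), (nat_lit 718), (nat_lit 3267), (nat_lit 341), (nat_lit 727), (nat_lit 5367)])) (.leaf .df))) (.node (.node (.leaf (.cyc (nat_lit 27) [(nat_lit 3072), (nat_lit 2967), (nat_lit 374)])) (.leaf .df)) (.node (.leaf (.cyc (nat_lit 97)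 [(nat_lit 7415), (nat_lit 6282), (nat_lit 6113), (nat_lit 915), (nat_lit 461), (nat_lit 462), (nat_lit 916), (nat_lit 6163), (nat_lit 7413), (nat_lit 2076), (nat_lit 2077)])) (.leaf .df))))) (.node (.node (.node (.node (.leaf .df) (.leaf (.cyc (nat_lit 25) [(nat_lit 2492), (nat_lit 2491), (nat_lit 8949), (nat_lit 2491), (nat_lit 2492)]))) (.node (.leaf (.cyc (nat_lit 27) [(nat_lit 603), (nat_lit 602), (nat_lit 1143)])) (.leaf .df))) (.node (.node (.leaf (.cyc (nat_lit 16) [(nat_lit 28), (nat_lit 2755), (nat_lit 2761), (nat_lit 2755), (nat_lit 28)])) (.leaf .df)) (.node (.leaf (.cyc (nat_lit 37) [(nat_lit 1916), (nat_lit 4861), (nat_lit 3752), (nat_lit 4861), (nat_lit 1916)])) (.leaf .df)))) (.node (.node (.node (.leaf .df) (.leaf (.cyc (nat_lit 19) [(nat_lit 2704), (nat_lit 9095), (nat_lit 2531), (nat_lit 9675), (nat_lit 2741)]))) (.node (.leaf (.cyc (nat_lit 27) [(nat_lit 938), (nat_lit 4206), (nat_lit 1567)])) (.leaf .df))) (.node (.node (.leaf (.cyc (nat_lit 15) [(nat_lit 655),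 (nat_lit 3235), (nat_lit 655)])) (.leaf .df)) (.node (.leaf (.cyc (nat_lit 41) [(nat_lit 5853), (nat_lit 5564), (nat_lit 2218)])) (.leaf .df)))))) (.node (.node (.node (.node (.node (.leaf .df) (.leaf (.cyc (nat_lit 12) [(nat_lit 8694), (nat_lit 7309), (nat_lit 2034), (nat_lit 5103), (nat_lit 2009)]))) (.node (.leaf (.cyc (nat_lit 30) [(nat_lit 1030), (nat_lit 538), (nat_lit 539), (nat_lit 1032), (nat_lit 4599)])) (.leaf .df))) (.node (.node (.leaf .df) (.leaf .df)) (.node (.leaf (.cyc (nat_lit 8) [(nat_lit 6645), (nat_lit 6629), (nat_lit 6525), (nat_lit 6524), (nat_lit 6601)])) (.leaf .df)))) (.node (.node (.node (.leaf .df) (.leaf (.cyc (nat_lit 6) [(nat_lit 2684), (nat_lit 8854), (nat_lit 7780), (nat_lit 8854), (nat_lit 2684)]))) (.node (.leaf (.cyc (nat_lit 63) [(nat_lit 4729), (nat_lit 4784), (nat_lit 599), (nat_lit 1139), (nat_lit 5620)])) (.leaf .df))) (.node (.node (.leaf (.cyc (nat_lit 102) [(nat_lit 238), (nat_lit 239), (nat_lit 3575), (nat_lit 239), (nat_lit 238)]))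 (.leaf .df)) (.node (.leaf (.cyc (nat_lit 124) [(nat_lit 7670), (nat_lit 7517), (nat_lit 1659), (nat_lit 4655), (nat_lit 1809)])) (.leaf .df))))) (.node (.node (.node (.node (.leaf .df) (.leaf (.cyc (nat_lit 46) [(nat_lit 2559), (nat_lit 7452), (nat_lit 2559)]))) (.node (.leaf (.cyc (nat_lit 63) [(nat_lit 674), (nat_lit 315), (nat_lit 313), (nat_lit 670), (nat_lit 1262)])) (.leaf .df))) (.node (.node (.leaf (.cyc (nat_lit 37) [(nat_lit 195), (nat_lit 2976), (nat_lit 2977), (nat_lit 2976), (nat_lit 195)])) (.leaf .df)) (.node (.leaf (.cyc (nat_lit 37) [(nat_lit 1988), (nat_lit 4968), (nat_lit 1203), (nat_lit 1990), (nat_lit 7158)])) (.leaf .df)))) (.node (.node (.node (.leaf .df) (.leaf .df)) (.node (.leaf (.cyc (nat_lit 92) [(nat_lit 1649), (nat_lit 4315), (nat_lit 586), (nat_lit 273), (nat_lit 114), (nat_lit 2846), (nat_lit 57), (nat_lit 139), (nat_lit 332), (nat_lit 3882), (nat_lit 1301)])) (.leaf .df))) (.node (.node (.leaf (.cyc (nat_lit 27) [(nat_lit 775), (nat_lit 3348),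 (nat_lit 786)])) (.leaf .df)) (.node (.leaf (.cyc (nat_lit 51) [(nat_lit 7983), (nat_lit 2233), (nat_lit 5596), (nat_lit 4104), (nat_lit 792), (nat_lit 4084), (nat_lit 1460), (nat_lit 5738), (nat_lit 1520), (nat_lit 5943), (nat_lit 2293)])) (.leaf .df))))))))
noncomputable def u5P000111 : BT Pf := .node u5P0001110 u5P0001111
noncomputable def u5P00011 : BT Pf := .node u5P000110 u5P000111
noncomputable def u5P0001 : BT Pf := .node u5P00010 u5P00011
noncomputable def u5P000 : BT Pf := .node u5P0000 u5P0001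
noncomputable def u5P0010000 : BT Pf := (.node (.node (.node (.node (.node (.node (.node (.leaf .df) (.leaf (.cyc (nat_lit 62) [(nat_lit 2296), (nat_lit 5948), (nat_lit 4835), (nat_lit 5948), (nat_lit 2296)]))) (.node (.leaf (.cyc (nat_lit 44) [(nat_lit 391), (nat_lit 160), (nat_lit 158), (nat_lit 386), (nat_lit 791)])) (.leaf .df))) (.node (.node (.leaf .df) (.leaf .df)) (.node (.leaf (.cyc (nat_lit 48) [(nat_lit 5364), (nat_lit 5078), (nat_lit 1654)])) (.leaf .df)))) (.node (.node (.node (.leaf .df) (.leaf (.cyc (nat_lit 34) [(nat_lit 2565), (nat_lit 2096), (nat_lit 5237), (nat_lit 2096), (nat_lit 2565)]))) (.node (.leaf (.cyc (nat_lit 52) [(nat_lit 1266), (nat_lit 1268), (nat_lit 5123), (nat_lit 1268), (nat_lit 1266)])) (.leaf .df))) (.node (.node (.leaf (.cyc (nat_lit 35) [(nat_lit 201), (nat_lit 2893), (nat_lit 2895), (nat_lit 2893), (nat_lit 201)])) (.leaf .df)) (.node (.leaf (.cyc (nat_lit 46) [(nat_lit 1993), (nat_lit 4981), (nat_lit 1993)])) (.leaf .df))))) (.node (.node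 (.node (.node (.leaf .df) (.leaf (.cyc (nat_lit 46) [(nat_lit 2428), (nat_lit 6632), (nat_lit 2428)]))) (.node (.leaf (.cyc (nat_lit 112) [(nat_lit 4356), (nat_lit 4611)])) (.leaf .df))) (.node (.node (.leaf .df) (.leaf .df)) (.node (.leaf (.cyc (nat_lit 20) [(nat_lit 6659), (nat_lit 1828), (nat_lit 1829)])) (.leaf .df)))) (.node (.node (.node (.leaf .df) (.leaf (.cyc (nat_lit 41) [(nat_lit 2687), (nat_lit 8891), (nat_lit 2687)]))) (.node (.leaf (.cyc (nat_lit 23) [(nat_lit 1017), (nat_lit 4106), (nat_lit 1483)])) (.leaf .df))) (.node (.node (.leaf (.cyc (nat_lit 37) [(nat_lit 379), (nat_lit 377), (nat_lit 3330), (nat_lit 3132), (nat_lit 510)])) (.leaf .df)) (.node (.leaf (.cyc (nat_lit 97) [(nat_lit 1911), (nat_lit 1139), (nat_lit 3742), (nat_lit 343), (nat_lit 142), (nat_lit 143), (nat_lit 347), (nat_lit 3926), (nat_lit 3925), (nat_lit 1382), (nat_lit 2152)])) (.leaf .df)))))) (.node (.node (.node (.node (.node (.leaf .df) (.leaf (.cyc (nat_lit 25) [(nat_lit 6949), (nat_lit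 6944), (nat_lit 7105), (nat_lit 7103), (nat_lit 2361)]))) (.node (.leaf (.cyc (nat_lit 16) [(nat_lit 703), (nat_lit 3262), (nat_lit 333), (nat_lit 709), (nat_lit 4355)])) (.leaf .df))) (.node (.node (.leaf .df) (.leaf .df)) (.node (.leaf (.cyc (nat_lit 26) [(nat_lit 1744), (nat_lit 982), (nat_lit 3592), (nat_lit 982), (nat_lit 1744)])) (.leaf .df)))) (.node (.node (.node (.leaf .df) (.leaf (.cyc (nat_lit 31) [(nat_lit 2629), (nat_lit 2270), (nat_lit 5801), (nat_lit 2270), (nat_lit 2629)]))) (.node (.leaf (.cyc (nat_lit 27) [(nat_lit 1370), (nat_lit 3920), (nat_lit 1370)])) (.leaf .df))) (.node (.node (.leaf (.cyc (nat_lit 27) [(nat_lit 3331), (nat_lit 377), (nat_lit 378)])) (.leaf .df)) (.node (.leaf (.cyc (nat_lit 45) [(nat_lit 2080), (nat_lit 1295), (nat_lit 3880), (nat_lit 1295), (nat_lit 2080)])) (.leaf .df))))) (.node (.node (.node (.node (.leaf .df) (.leaf (.cyc (nat_lit 46) [(nat_lit 8117), (nat_lit 7211), (nat_lit 2495)]))) (.node (.leaf (.cyc (nat_lit 25) [(nat_lit 822),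 (nat_lit 3373), (nat_lit 3198), (nat_lit 608), (nat_lit 1149)])) (.leaf .df))) (.node (.node (.leaf (.cyc (nat_lit 18) [(nat_lit 32), (nat_lit 2756), (nat_lit 2767), (nat_lit 2756), (nat_lit 32)])) (.leaf .df)) (.node (.leaf (.cyc (nat_lit 25) [(nat_lit 1920), (nat_lit 4864), (nat_lit 6196), (nat_lit 4864), (nat_lit 1920)])) (.leaf .df)))) (.node (.node (.node (.leaf .df) (.leaf (.cyc (nat_lit 6) [(nat_lit 2743), (nat_lit 9859), (nat_lit 9856), (nat_lit 9859), (nat_lit 2743)]))) (.node (.leaf (.cyc (nat_lit 59) [(nat_lit 5374), (nat_lit 5891), (nat_lit 837), (nat_lit 839), (nat_lit 1553)])) (.leaf .df))) (.node (.node (.leaf (.cyc (nat_lit 6) [(nat_lit 657), (nat_lit 306), (nat_lit 2943), (nat_lit 306), (nat_lit 657)])) (.leaf .df)) (.node (.leaf (.cyc (nat_lit 53) [(nat_lit 1599), (nat_lit 5584), (nat_lit 5581), (nat_lit 5573), (nat_lit 2221)])) (.leaf .df))))))) (.node (.node (.node (.node (.node (.node (.leaf .df) (.leaf (.cyc (nat_lit 21) [(nat_lit 2331), (nat_lit 6122), (nat_lit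 4760), (nat_lit 6122), (nat_lit 2331)]))) (.node (.leaf (.cyc (nat_lit 113) [(nat_lit 863), (nat_lit 4226)])) (.leaf .df))) (.node (.node (.leaf .df) (.leaf .df)) (.node (.leaf (.cyc (nat_lit 15) [(nat_lit 6275), (nat_lit 5688), (nat_lit 6275)])) (.leaf .df)))) (.node (.node (.node (.leaf .df) (.leaf (.cyc (nat_lit 18) [(nat_lit 2597), (nat_lit 8878), (nat_lit 8876), (nat_lit 8878), (nat_lit 2597)]))) (.node (.leaf (.cyc (nat_lit 47) [(nat_lit 1326), (nat_lit 1325), (nat_lit 5250), (nat_lit 1325), (nat_lit 1326)])) (.leaf .df))) (.node (.node (.leaf (.cyc (nat_lit 57) [(nat_lit 283), (nat_lit 120), (nat_lit 121), (nat_lit 3040), (nat_lit 190), (nat_lit 3055), (nat_lit 190), (nat_lit 3040), (nat_lit 121), (nat_lit 120), (nat_lit 283)])) (.leaf .df)) (.node (.leaf (.cyc (nat_lit 28) [(nat_lit 7289), (nat_lit 2030), (nat_lit 1255), (nat_lit 1256), (nat_lit 2032)])) (.leaf .df))))) (.node (.node (.node (.node (.leaf .df) (.leaf (.cyc (nat_lit 46) [(nat_lit 2464), (nat_lit 6758), (nat_lit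 2464)]))) (.node (.leaf (.cyc (nat_lit 62) [(nat_lit 1091), (nat_lit 575), (nat_lit 3185), (nat_lit 575), (nat_lit 1091)])) (.leaf .df))) (.node (.node (.leaf .df) (.leaf .df)) (.node (.leaf (.cyc (nat_lit 6) [(nat_lit 1328), (nat_lit 5183), (nat_lit 6137), (nat_lit 6133), (nat_lit 1876)])) (.leaf .df)))) (.node (.node (.node (.leaf .df) (.leaf (.cyc (nat_lit 3) [(nat_lit 9859), (nat_lit 9784), (nat_lit 9816)]))) (.node (.leaf (.cyc (nat_lit 24) [(nat_lit 1529), (nat_lit 4154), (nat_lit 3614), (nat_lit 4154), (nat_lit 1529)])) (.leaf .df))) (.node (.node (.leaf (.cyc (nat_lit 24) [(nat_lit 576), (nat_lit 3322), (nat_lit 3422), (nat_lit 3322), (nat_lit 576)])) (.leaf .df)) (.node (.leaf (.cyc (nat_lit 27) [(nat_lit 7811), (nat_lit 2188), (nat_lit 2189)])) (.leaf .df)))))) (.node (.node (.node (.node (.node (.leaf .df) (.leaf (.cyc (nat_lit 25) [(nat_lit 7623), (nat_lit 7799), (nat_lit 8137), (nat_lit 8134), (nat_lit 2396)]))) (.node (.leaf (.cyc (nat_lit 48) [(nat_lit 4207), (nat_lit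 4287), (nat_lit 980)])) (.leaf .df))) (.node (.node (.leaf .df) (.leaf .df)) (.node (.leaf (.cyc (nat_lit 34) [(nat_lit 1204), (nat_lit 637), (nat_lit 3625), (nat_lit 1028), (nat_lit 1784)])) (.leaf .df)))) (.node (.node (.node (.leaf .df) (.leaf (.cyc (nat_lit 48) [(nat_lit 8742), (nat_lit 8461), (nat_lit 2659)]))) (.node (.leaf (.cyc (nat_lit 20) [(nat_lit 1435), (nat_lit 4003), (nat_lit 1435)])) (.leaf .df))) (.node (.node (.leaf (.cyc (nat_lit 16) [(nat_lit 441), (nat_lit 196), (nat_lit 2878), (nat_lit 196), (nat_lit 441)])) (.leaf .df)) (.node (.leaf (.cyc (nat_lit 49) [(nat_lit 6556), (nat_lit 5301), (nat_lit 2117)])) (.leaf .df))))) (.node (.node (.node (.node (.leaf .df) (.leaf (.cyc (nat_lit 18) [(nat_lit 2529), (nat_lit 7255), (nat_lit 5606), (nat_lit 7255), (nat_lit 2529)]))) (.node (.leaf (.cyc (nat_lit 145) [(nat_lit 4638), (nat_lit 4466), (nat_lit 4125), (nat_lit 585), (nat_lit 3191), (nat_lit 274), (nat_lit 591), (nat_lit 1121), (nat_lit 4994), (nat_lit 4995), (nat_lit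 1212)])) (.leaf .df))) (.node (.node (.leaf (.cyc (nat_lit 41) [(nat_lit 83), (nat_lit 2859), (nat_lit 135)])) (.leaf .df)) (.node (.leaf (.cyc (nat_lit 20) [(nat_lit 1181), (nat_lit 1180), (nat_lit 1954)])) (.leaf .df)))) (.node (.node (.node (.leaf .df) (.leaf .df)) (.node (.leaf (.cyc (nat_lit 140) [(nat_lit 6017), (nat_lit 4289), (nat_lit 4440), (nat_lit 955), (nat_lit 954)])) (.leaf .df))) (.node (.node (.leaf (.cyc (nat_lit 58) [(nat_lit 651), (nat_lit 3229), (nat_lit 132), (nat_lit 55), (nat_lit 54), (nat_lit 129), (nat_lit 2945), (nat_lit 3438), (nat_lit 2960), (nat_lit 355), (nat_lit 756)])) (.leaf .df)) (.node (.leaf (.cyc (nat_lit 15) [(nat_lit 2262), (nat_lit 5755), (nat_lit 2262)])) (.leaf .df))))))))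
noncomputable def u5P0010001 : BT Pf := (.node (.node (.node (.node (.node (.node (.node (.leaf .df) (.leaf (.cyc (nat_lit 62) [(nat_lit 2245), (nat_lit 5665), (nat_lit 4810), (nat_lit 6069), (nat_lit 2315)]))) (.node (.leaf (.cyc (nat_lit 45) [(nat_lit 828), (nat_lit 4118), (nat_lit 3622), (nat_lit 4118), (nat_lit 828)])) (.leaf .df))) (.node (.node (.leaf .df) (.leaf .df)) (.node (.leaf (.cyc (nat_lit 62) [(nat_lit 1679), (nat_lit 4569), (nat_lit 4575), (nat_lit 4569), (nat_lit 1679)])) (.leaf .df)))) (.node (.node (.node (.leaf .df) (.leaf (.cyc (nat_lit 46) [(nat_lit 2578), (nat_lit 7605), (nat_lit 2578)]))) (.node (.leaf (.cyc (nat_lit 37) [(nat_lit 1302), (nat_lit 1301), (nat_lit 5186), (nat_lit 1301), (nat_lit 1302)])) (.leaf .df))) (.node (.node (.leaf (.cyc (nat_lit 57) [(nat_lit 238), (nat_lit 2903), (nat_lit 2838), (nat_lit 77), (nat_lit 2975), (nat_lit 2973), (nat_lit 2975), (nat_lit 77), (nat_lit 2838), (nat_lit 2903), (nat_lit 238)])) (.leaf .df)) (.node (.leaf (.cyc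 (nat_lit 49) [(nat_lit 6342), (nat_lit 5475), (nat_lit 2015)])) (.leaf .df))))) (.node (.node (.node (.node (.leaf .df) (.leaf (.cyc (nat_lit 19) [(nat_lit 2445), (nat_lit 1835), (nat_lit 4720), (nat_lit 1835), (nat_lit 2445)]))) (.node (.leaf (.cyc (nat_lit 27) [(nat_lit 579), (nat_lit 578), (nat_lit 4673)])) (.leaf .df))) (.node (.node (.leaf .df) (.leaf .df)) (.node (.leaf (.cyc (nat_lit 27) [(nat_lit 1853), (nat_lit 4733), (nat_lit 1853)])) (.leaf .df)))) (.node (.node (.node (.leaf .df) (.leaf (.cyc (nat_lit 26) [(nat_lit 2702), (nat_lit 9069), (nat_lit 8289), (nat_lit 9069), (nat_lit 2702)]))) (.node (.leaf (.cyc (nat_lit 21) [(nat_lit 1505), (nat_lit 1504), (nat_lit 5698), (nat_lit 1504), (nat_lit 1505)])) (.leaf .df))) (.node (.node (.leaf (.cyc (nat_lit 73) [(nat_lit 3505), (nat_lit 3647), (nat_lit 2922)])) (.leaf .df)) (.node (.leaf (.cyc (nat_lit 63) [(nat_lit 7233), (nat_lit 7232), (nat_lit 1401), (nat_lit 1403), (nat_lit 2168)])) (.leaf .df)))))) (.node (.node (.node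 (.node (.node (.leaf .df) (.leaf (.cyc (nat_lit 27) [(nat_lit 7956), (nat_lit 7171), (nat_lit 2379)]))) (.node (.leaf (.cyc (nat_lit 117) [(nat_lit 569), (nat_lit 3690), (nat_lit 4415), (nat_lit 3690), (nat_lit 569)])) (.leaf .df))) (.node (.node (.leaf .df) (.leaf .df)) (.node (.leaf (.cyc (nat_lit 3) [(nat_lit 1084), (nat_lit 1085), (nat_lit 6467), (nat_lit 1752)])) (.leaf .df)))) (.node (.node (.node (.leaf .df) (.leaf (.cyc (nat_lit 50) [(nat_lit 2643), (nat_lit 2304), (nat_lit 5987), (nat_lit 2304), (nat_lit 2643)]))) (.node (.leaf (.cyc (nat_lit 16) [(nat_lit 1407), (nat_lit 745), (nat_lit 3300), (nat_lit 745), (nat_lit 1407)])) (.leaf .df))) (.node (.node (.leaf (.cyc (nat_lit 21) [(nat_lit 427), (nat_lit 3053), (nat_lit 3054), (nat_lit 3053), (nat_lit 427)])) (.leaf .df)) (.node (.leaf (.cyc (nat_lit 53) [(nat_lit 5367), (nat_lit 1374), (nat_lit 5864), (nat_lit 5259), (nat_lit 2101)])) (.leaf .df))))) (.node (.node (.node (.node (.leaf .df) (.leaf (.cyc (nat_lit 44) [(nat_lit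 2512), (nat_lit 7069), (nat_lit 6550), (nat_lit 7069), (nat_lit 2512)]))) (.node (.leaf (.cyc (nat_lit 75) [(nat_lit 1173), (nat_lit 1175), (nat_lit 4931), (nat_lit 1175), (nat_lit 1173)])) (.leaf .df))) (.node (.node (.leaf (.cyc (nat_lit 23) [(nat_lit 46), (nat_lit 2810), (nat_lit 82)])) (.leaf .df)) (.node (.leaf (.cyc (nat_lit 55) [(nat_lit 5519), (nat_lit 1446), (nat_lit 6979), (nat_lit 1446), (nat_lit 5519)])) (.leaf .df)))) (.node (.node (.node (.leaf .df) (.leaf .df)) (.node (.leaf (.cyc (nat_lit 3) [(nat_lit 5955), (nat_lit 4241), (nat_lit 1454)])) (.leaf .df))) (.node (.node (.leaf (.cyc (nat_lit 53) [(nat_lit 716), (nat_lit 3266), (nat_lit 3205), (nat_lit 3266), (nat_lit 716)])) (.leaf .df)) (.node (.leaf (.cyc (nat_lit 21) [(nat_lit 7133), (nat_lit 6055), (nat_lit 5962), (nat_lit 5964), (nat_lit 2240)])) (.leaf .df))))))) (.node (.node (.node (.node (.node (.node (.leaf .df) (.leaf (.cyc (nat_lit 15) [(nat_lit 2285), (nat_lit 6170), (nat_lit 2346)]))) (.node (.leaf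 (.cyc (nat_lit 44) [(nat_lit 854), (nat_lit 430), (nat_lit 428), (nat_lit 853), (nat_lit 4287)])) (.leaf .df))) (.node (.node (.leaf .df) (.leaf .df)) (.node (.leaf (.cyc (nat_lit 37) [(nat_lit 1725), (nat_lit 4462), (nat_lit 3559), (nat_lit 4462), (nat_lit 1725)])) (.leaf .df)))) (.node (.node (.node (.leaf .df) (.leaf (.cyc (nat_lit 25) [(nat_lit 2614), (nat_lit 8110), (nat_lit 8114), (nat_lit 8110), (nat_lit 2614)]))) (.node (.leaf (.cyc (nat_lit 19) [(nat_lit 1345), (nat_lit 4822), (nat_lit 4823), (nat_lit 4822), (nat_lit 1345)])) (.leaf .df))) (.node (.node (.leaf (.cyc (nat_lit 20) [(nat_lit 143), (nat_lit 140), (nat_lit 339)])) (.leaf .df)) (.node (.leaf (.cyc (nat_lit 35) [(nat_lit 2057), (nat_lit 1277), (nat_lit 3869), (nat_lit 1277), (nat_lit 2057)])) (.leaf .df))))) (.node (.node (.node (.node (.leaf .df) (.leaf (.cyc (nat_lit 23) [(nat_lit 7539), (nat_lit 6790), (nat_lit 2480)]))) (.node (.leaf (.cyc (nat_lit 56) [(nat_lit 1116), (nat_lit 4797), (nat_lit 4798), (nat_lit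 4797), (nat_lit 1116)])) (.leaf .df))) (.node (.node (.leaf (.pin (nat_lit 7) [(nat_lit 1)] [])) (.leaf .df)) (.node (.leaf (.cyc (nat_lit 6) [(nat_lit 1901), (nat_lit 6471), (nat_lit 5346), (nat_lit 6471), (nat_lit 1901)])) (.leaf .df)))) (.node (.node (.node (.leaf .df) (.leaf (.cyc (nat_lit 27) [(nat_lit 2731), (nat_lit 9403), (nat_lit 2731)]))) (.node (.leaf (.cyc (nat_lit 37) [(nat_lit 1545), (nat_lit 1544), (nat_lit 5825), (nat_lit 1544), (nat_lit 1545)])) (.leaf .df))) (.node (.node (.leaf (.cyc (nat_lit 20) [(nat_lit 622), (nat_lit 3220), (nat_lit 622)])) (.leaf .df)) (.node (.leaf (.cyc (nat_lit 68) [(nat_lit 7874), (nat_lit 6606), (nat_lit 1201), (nat_lit 4968), (nat_lit 1986)])) (.leaf .df)))))) (.node (.node (.node (.node (.node (.leaf .df) (.leaf (.cyc (nat_lit 44) [(nat_lit 2412), (nat_lit 6525), (nat_lit 5427), (nat_lit 6525), (nat_lit 2412)]))) (.node (.leaf (.cyc (nat_lit 62) [(nat_lit 1008), (nat_lit 4544), (nat_lit 3954), (nat_lit 4544), (nat_lit 1008)])) (.leaf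 .df))) (.node (.node (.leaf .df) (.leaf .df)) (.node (.leaf (.cyc (nat_lit 30) [(nat_lit 1803), (nat_lit 1802), (nat_lit 6592), (nat_lit 1802), (nat_lit 1803)])) (.leaf .df)))) (.node (.node (.node (.leaf .df) (.leaf (.cyc (nat_lit 86) [(nat_lit 9665), (nat_lit 2593), (nat_lit 2591)]))) (.node (.leaf (.cyc (nat_lit 15) [(nat_lit 1466), (nat_lit 4091), (nat_lit 1466)])) (.leaf .df))) (.node (.node (.leaf (.cyc (nat_lit 6) [(nat_lit 479), (nat_lit 3102), (nat_lit 3023), (nat_lit 3102), (nat_lit 479)])) (.leaf .df)) (.node (.leaf (.cyc (nat_lit 28) [(nat_lit 2133), (nat_lit 6253), (nat_lit 6252), (nat_lit 6253), (nat_lit 2133)])) (.leaf .df))))) (.node (.node (.node (.node (.leaf .df) (.leaf (.cyc (nat_lit 39) [(nat_lit 2378), (nat_lit 8082), (nat_lit 8085), (nat_lit 8267), (nat_lit 2317), (nat_lit 1630), (nat_lit 1631), (nat_lit 2318), (nat_lit 8271), (nat_lit 9155), (nat_lit 9154)]))) (.node (.leaf (.cyc (nat_lit 37) [(nat_lit 714), (nat_lit 3901), (nat_lit 5052), (nat_lit 5049),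 (nat_lit 1242)])) (.leaf .df))) (.node (.node (.leaf (.cyc (nat_lit 18) [(nat_lit 171), (nat_lit 2983), (nat_lit 2984), (nat_lit 2983), (nat_lit 171)])) (.leaf .df)) (.node (.leaf (.cyc (nat_lit 5) [(nat_lit 7107), (nat_lit 1666), (nat_lit 4339), (nat_lit 1666), (nat_lit 7107)])) (.leaf .df)))) (.node (.node (.node (.leaf .df) (.leaf .df)) (.node (.leaf (.cyc (nat_lit 20) [(nat_lit 900), (nat_lit 899), (nat_lit 1630)])) (.leaf .df))) (.node (.node (.leaf (.cyc (nat_lit 74) [(nat_lit 3031), (nat_lit 4033), (nat_lit 382)])) (.leaf .df)) (.node (.leaf (.cyc (nat_lit 46) [(nat_lit 1713), (nat_lit 5841), (nat_lit 2280)])) (.leaf .df))))))))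
noncomputable def u5P001000 : BT Pf := .node u5P0010000 u5P0010001
noncomputable def u5P0010010 : BT Pf := (.node (.node (.node (.node (.node (.node (.node (.leaf .df) (.leaf (.cyc (nat_lit 34) [(nat_lit 1675), (nat_lit 5655), (nat_lit 7890), (nat_lit 7889), (nat_lit 2304)]))) (.node (.leaf (.cyc (nat_lit 15) [(nat_lit 806), (nat_lit 3370), (nat_lit 806)])) (.leaf .df))) (.node (.node (.leaf .df) (.leaf .df)) (.node (.leaf (.cyc (nat_lit 69) [(nat_lit 1324), (nat_lit 4612), (nat_lit 4614), (nat_lit 4608), (nat_lit 660), (nat_lit 3418), (nat_lit 3101), (nat_lit 3519), (nat_lit 927), (nat_lit 1668), (nat_lit 6179)])) (.leaf .df)))) (.node (.node (.node (.leaf .df) (.leaf (.cyc (nat_lit 90) [(nat_lit 2562), (nat_lit 9210), (nat_lit 9251), (nat_lit 9210), (nat_lit 2562)]))) (.node (.leaf (.cyc (nat_lit 46) [(nat_lit 1286), (nat_lit 3875), (nat_lit 1286)])) (.leaf .df))) (.node (.node (.leaf (.cyc (nat_lit 27) [(nat_lit 3107), (nat_lit 217), (nat_lit 218)])) (.leaf .df)) (.node (.leaf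 (.cyc (nat_lit 27) [(nat_lit 2004), (nat_lit 5019), (nat_lit 2004)])) (.leaf .df))))) (.node (.node (.node (.node (.leaf .df) (.leaf (.cyc (nat_lit 47) [(nat_lit 1827), (nat_lit 1066), (nat_lit 4691), (nat_lit 1821), (nat_lit 2437)]))) (.node (.leaf (.cyc (nat_lit 8) [(nat_lit 4641), (nat_lit 4610), (nat_lit 3559), (nat_lit 4610), (nat_lit 4641)])) (.leaf .df))) (.node (.node (.leaf .df) (.leaf .df)) (.node (.leaf (.cyc (nat_lit 30) [(nat_lit 1841), (nat_lit 6574), (nat_lit 6573), (nat_lit 6574), (nat_lit 1841)])) (.leaf .df)))) (.node (.node (.node (.leaf .df) (.leaf (.cyc (nat_lit 63) [(nat_lit 2694), (nat_lit 9018), (nat_lit 8370), (nat_lit 9018), (nat_lit 2694)]))) (.node (.leaf (.cyc (nat_lit 27) [(nat_lit 1493), (nat_lit 4128), (nat_lit 1493)])) (.leaf .df))) (.node (.node (.leaf (.cyc (nat_lit 15) [(nat_lit 533), (nat_lit 3153), (nat_lit 533)])) (.leaf .df)) (.node (.leaf (.cyc (nat_lit 81) [(nat_lit 2160), (nat_lit 6996), (nat_lit 1941), (nat_lit 5383), (nat_lit 5384),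 (nat_lit 4844), (nat_lit 1909), (nat_lit 7681), (nat_lit 7684), (nat_lit 6891), (nat_lit 6892)])) (.leaf .df)))))) (.node (.node (.node (.node (.node (.leaf .df) (.leaf (.cyc (nat_lit 15) [(nat_lit 2371), (nat_lit 6321), (nat_lit 2371)]))) (.node (.leaf (.cyc (nat_lit 23) [(nat_lit 4384), (nat_lit 929), (nat_lit 932)])) (.leaf .df))) (.node (.node (.leaf .df) (.leaf .df)) (.node (.leaf (.cyc (nat_lit 124) [(nat_lit 6435), (nat_lit 1627), (nat_lit 897), (nat_lit 4280), (nat_lit 1623)])) (.leaf .df)))) (.node (.node (.node (.leaf .df) (.leaf (.cyc (nat_lit 19) [(nat_lit 2637), (nat_lit 2636), (nat_lit 9505), (nat_lit 2636), (nat_lit 2637)]))) (.node (.leaf (.cyc (nat_lit 37) [(nat_lit 1384), (nat_lit 733), (nat_lit 3292), (nat_lit 733), (nat_lit 1384)])) (.leaf .df))) (.node (.node (.leaf (.cyc (nat_lit 48) [(nat_lit 241), (nat_lit 2986), (nat_lit 395)])) (.leaf .df)) (.node (.leaf (.cyc (nat_lit 44) [(nat_lit 6267), (nat_lit 7319), (nat_lit 7423), (nat_lit 7424), (nat_lit 2090)]))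 (.leaf .df))))) (.node (.node (.node (.node (.leaf .df) (.leaf (.cyc (nat_lit 53) [(nat_lit 8253), (nat_lit 1869), (nat_lit 4896), (nat_lit 1938), (nat_lit 2502)]))) (.node (.leaf (.cyc (nat_lit 35) [(nat_lit 1164), (nat_lit 3764), (nat_lit 3608), (nat_lit 3764), (nat_lit 1164)])) (.leaf .df))) (.node (.node (.leaf (.cyc (nat_lit 44) [(nat_lit 50), (nat_lit 2832), (nat_lit 2829), (nat_lit 2832), (nat_lit 50)])) (.leaf .df)) (.node (.leaf (.cyc (nat_lit 118) [(nat_lit 6547), (nat_lit 1163), (nat_lit 3762), (nat_lit 857), (nat_lit 4603), (nat_lit 4596), (nat_lit 3699), (nat_lit 566), (nat_lit 564), (nat_lit 3701), (nat_lit 3696), (nat_lit 3604), (nat_lit 352), (nat_lit 351), (nat_lit 746), (nat_lit 5435), (nat_lit 6945)])) (.leaf .df)))) (.node (.node (.node (.leaf .df) (.leaf .df)) (.node (.leaf (.cyc (nat_lit 21) [(nat_lit 4474), (nat_lit 4475), (nat_lit 3686), (nat_lit 4213), (nat_lit 1576)])) (.leaf .df))) (.node (.node (.leaf (.cyc (nat_lit 47) [(nat_lit 328), (nat_lit 137),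 (nat_lit 2947), (nat_lit 322), (nat_lit 684)])) (.leaf .df)) (.node (.leaf (.cyc (nat_lit 56) [(nat_lit 2172), (nat_lit 1409), (nat_lit 4095), (nat_lit 1471), (nat_lit 2230)])) (.leaf .df))))))) (.node (.node (.node (.node (.node (.node (.leaf .df) (.leaf (.cyc (nat_lit 19) [(nat_lit 2338), (nat_lit 6142), (nat_lit 5235), (nat_lit 6142), (nat_lit 2338)]))) (.node (.leaf (.cyc (nat_lit 41) [(nat_lit 3773), (nat_lit 3774), (nat_lit 882)])) (.leaf .df))) (.node (.node (.leaf .df) (.leaf .df)) (.node (.leaf (.cyc (nat_lit 47) [(nat_lit 1469), (nat_lit 788), (nat_lit 4076), (nat_lit 958), (nat_lit 1712)])) (.leaf .df)))) (.node (.node (.node (.leaf .df) (.leaf (.cyc (nat_lit 47) [(nat_lit 2605), (nat_lit 7892), (nat_lit 5654), (nat_lit 7892), (nat_lit 2605)]))) (.node (.leaf (.cyc (nat_lit 68) [(nat_lit 4633), (nat_lit 5283), (nat_lit 5282), (nat_lit 4112), (nat_lit 935)])) (.leaf .df))) (.node (.node (.leaf (.cyc (nat_lit 31) [(nat_lit 204), (nat_lit 2883), (nat_lit 2862), (nat_lit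 129), (nat_lit 305)])) (.leaf .df)) (.node (.leaf (.cyc (nat_lit 37) [(nat_lit 2046), (nat_lit 1267), (nat_lit 3864), (nat_lit 1267), (nat_lit 2046)])) (.leaf .df))))) (.node (.node (.node (.node (.leaf .df) (.leaf (.cyc (nat_lit 58) [(nat_lit 2472), (nat_lit 1873), (nat_lit 4918), (nat_lit 4925), (nat_lit 4919), (nat_lit 4921), (nat_lit 4919), (nat_lit 4925), (nat_lit 4918), (nat_lit 1873), (nat_lit 2472)]))) (.node (.leaf (.cyc (nat_lit 37) [(nat_lit 1108), (nat_lit 3773), (nat_lit 3779), (nat_lit 3773), (nat_lit 1108)])) (.leaf .df))) (.node (.node (.leaf .df) (.leaf .df)) (.node (.leaf (.cyc (nat_lit 44) [(nat_lit 1886), (nat_lit 6335), (nat_lit 6334), (nat_lit 6335), (nat_lit 1886)])) (.leaf .df)))) (.node (.node (.node (.leaf .df) (.leaf (.cyc (nat_lit 25) [(nat_lit 2724), (nat_lit 9609), (nat_lit 9613), (nat_lit 9609), (nat_lit 2724)]))) (.node (.leaf (.cyc (nat_lit 16) [(nat_lit 1534), (nat_lit 4586), (nat_lit 4587), (nat_lit 4586), (nat_lit 1534)])) (.leaf .df))) (.node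 (.node (.leaf (.cyc (nat_lit 63) [(nat_lit 3554), (nat_lit 497), (nat_lit 3117), (nat_lit 279), (nat_lit 604)])) (.leaf .df)) (.node (.leaf (.cyc (nat_lit 3) [(nat_lit 7841), (nat_lit 7233), (nat_lit 7235)])) (.leaf .df)))))) (.node (.node (.node (.node (.node (.leaf .df) (.leaf (.cyc (nat_lit 37) [(nat_lit 2404), (nat_lit 6506), (nat_lit 6207), (nat_lit 6506), (nat_lit 2404)]))) (.node (.leaf (.cyc (nat_lit 26) [(nat_lit 990), (nat_lit 4485), (nat_lit 4487), (nat_lit 4485), (nat_lit 990)])) (.leaf .df))) (.node (.node (.leaf .df) (.leaf .df)) (.node (.leaf (.cyc (nat_lit 88) [(nat_lit 6558), (nat_lit 1796), (nat_lit 6563), (nat_lit 1796), (nat_lit 6558)])) (.leaf .df)))) (.node (.node (.node (.leaf .df) (.leaf (.cyc (nat_lit 17) [(nat_lit 9633), (nat_lit 8547), (nat_lit 8548), (nat_lit 2138), (nat_lit 5380), (nat_lit 7322), (nat_lit 2535), (nat_lit 9120), (nat_lit 9116), (nat_lit 2536), (nat_lit 9122)]))) (.node (.leaf (.cyc (nat_lit 46) [(nat_lit 5441), (nat_lit 4242), (nat_lit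 1455)])) (.leaf .df))) (.node (.node (.leaf (.cyc (nat_lit 96) [(nat_lit 3488), (nat_lit 246), (nat_lit 103), (nat_lit 102), (nat_lit 244)])) (.leaf .df)) (.node (.leaf (.cyc (nat_lit 44) [(nat_lit 6628), (nat_lit 1815), (nat_lit 5750), (nat_lit 5754), (nat_lit 2125)])) (.leaf .df))))) (.node (.node (.node (.node (.leaf .df) (.leaf (.cyc (nat_lit 25) [(nat_lit 2537), (nat_lit 9116), (nat_lit 9120), (nat_lit 9116), (nat_lit 2537)]))) (.node (.leaf (.cyc (nat_lit 30) [(nat_lit 1230), (nat_lit 649), (nat_lit 3233), (nat_lit 649), (nat_lit 1230)])) (.leaf .df))) (.node (.node (.leaf (.cyc (nat_lit 55) [(nat_lit 161), (nat_lit 163), (nat_lit 2979), (nat_lit 163), (nat_lit 161)])) (.leaf .df)) (.node (.leaf (.cyc (nat_lit 2) [(nat_lit 7075), (nat_lit 5369), (nat_lit 5367), (nat_lit 1375), (nat_lit 6347)])) (.leaf .df)))) (.node (.node (.node (.leaf .df) (.leaf .df)) (.node (.leaf (.cyc (nat_lit 81) [(nat_lit 1620), (nat_lit 5371), (nat_lit 5888), (nat_lit 5832), (nat_lit 1546), (nat_lit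 4192), (nat_lit 437), (nat_lit 3061), (nat_lit 399), (nat_lit 807), (nat_lit 1502)])) (.leaf .df))) (.node (.node (.leaf (.cyc (nat_lit 63) [(nat_lit 4000), (nat_lit 767), (nat_lit 362), (nat_lit 365), (nat_lit 772)])) (.leaf .df)) (.node (.leaf (.cyc (nat_lit 62) [(nat_lit 1540), (nat_lit 830), (nat_lit 829), (nat_lit 1538), (nat_lit 2271)])) (.leaf .df))))))))
noncomputable def u5P0010011 : BT Pf := (.node (.node (.node (.node (.node (.node (.node (.leaf .df) (.leaf (.cyc (nat_lit 63) [(nat_lit 7554), (nat_lit 5296), (nat_lit 5402), (nat_lit 6099), (nat_lit 2323)]))) (.node (.leaf (.cyc (nat_lit 75) [(nat_lit 833), (nat_lit 835), (nat_lit 4194), (nat_lit 835), (nat_lit 833)])) (.leaf .df))) (.node (.node (.leaf .df) (.leaf .df)) (.node (.leaf (.cyc (nat_lit 69) [(nat_lit 6243), (nat_lit 1690), (nat_lit 938), (nat_lit 3528), (nat_lit 484), (nat_lit 3532), (nat_lit 484), (nat_lit 3528), (nat_lit 938), (nat_lit 1690), (nat_lit 6243)])) (.leaf .df)))) (.node (.node (.node (.leaf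 .df) (.leaf (.cyc (nat_lit 18) [(nat_lit 2587), (nat_lit 7649), (nat_lit 7330), (nat_lit 7649), (nat_lit 2587)]))) (.node (.leaf (.cyc (nat_lit 25) [(nat_lit 720), (nat_lit 337), (nat_lit 3250), (nat_lit 693), (nat_lit 1309)])) (.leaf .df))) (.node (.node (.leaf (.cyc (nat_lit 6) [(nat_lit 254), (nat_lit 108), (nat_lit 2843), (nat_lit 108), (nat_lit 254)])) (.leaf .df)) (.node (.leaf (.cyc (nat_lit 47) [(nat_lit 5811), (nat_lit 1229), (nat_lit 4087), (nat_lit 1254), (nat_lit 2025)])) (.leaf .df))))) (.node (.node (.node (.node (.leaf .df) (.leaf (.cyc (nat_lit 48) [(nat_lit 2455), (nat_lit 6724), (nat_lit 2455)]))) (.node (.leaf (.cyc (nat_lit 84) [(nat_lit 874), (nat_lit 873), (nat_lit 4707), (nat_lit 4704), (nat_lit 4382), (nat_lit 997)])) (.leaf .df))) (.node (.node (.leaf .df) (.leaf .df)) (.node (.leaf (.cyc (nat_lit 62) [(nat_lit 1635), (nat_lit 902), (nat_lit 3722), (nat_lit 1101), (nat_lit 1864)])) (.leaf .df)))) (.node (.node (.node (.leaf .df) (.leaf (.cyc (nat_lit 25)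 [(nat_lit 2711), (nat_lit 9819), (nat_lit 9822), (nat_lit 9819), (nat_lit 2711)]))) (.node (.leaf (.cyc (nat_lit 40) [(nat_lit 5729), (nat_lit 4559), (nat_lit 5729)])) (.leaf .df))) (.node (.node (.leaf (.cyc (nat_lit 37) [(nat_lit 549), (nat_lit 257), (nat_lit 259), (nat_lit 552), (nat_lit 3683)])) (.leaf .df)) (.node (.leaf (.cyc (nat_lit 37) [(nat_lit 2178), (nat_lit 5465), (nat_lit 4926), (nat_lit 5465), (nat_lit 2178)])) (.leaf .df)))))) (.node (.node (.node (.node (.node (.leaf .df) (.leaf (.cyc (nat_lit 87) [(nat_lit 7635), (nat_lit 7634), (nat_lit 7408), (nat_lit 6241), (nat_lit 5379), (nat_lit 1379), (nat_lit 7525), (nat_lit 5632), (nat_lit 4735), (nat_lit 1745), (nat_lit 2387)]))) (.node (.leaf (.cyc (nat_lit 1) [(nat_lit 4451), (nat_lit 806), (nat_lit 807)])) (.leaf .df))) (.node (.node (.leaf .df) (.leaf .df)) (.node (.leaf (.cyc (nat_lit 90) [(nat_lit 1694), (nat_lit 6248), (nat_lit 6470), (nat_lit 6248), (nat_lit 1694)])) (.leaf .df)))) (.node (.node (.node (.leaf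 .df) (.leaf (.cyc (nat_lit 23) [(nat_lit 9571), (nat_lit 2650), (nat_lit 2651)]))) (.node (.leaf (.cyc (nat_lit 26) [(nat_lit 1419), (nat_lit 3979), (nat_lit 4282), (nat_lit 3979), (nat_lit 1419)])) (.leaf .df))) (.node (.node (.leaf (.cyc (nat_lit 74) [(nat_lit 153), (nat_lit 3425)])) (.leaf .df)) (.node (.leaf (.cyc (nat_lit 109) [(nat_lit 1379), (nat_lit 5379), (nat_lit 7523), (nat_lit 1524), (nat_lit 4855), (nat_lit 1913)])) (.leaf .df))))) (.node (.node (.node (.node (.leaf .df) (.leaf (.cyc (nat_lit 16) [(nat_lit 2520), (nat_lit 7844), (nat_lit 7842), (nat_lit 7844), (nat_lit 2520)]))) (.node (.leaf (.cyc (nat_lit 51) [(nat_lit 4963), (nat_lit 4961), (nat_lit 925), (nat_lit 3514), (nat_lit 3884), (nat_lit 4227), (nat_lit 3884), (nat_lit 3514), (nat_lit 925), (nat_lit 4961), (nat_lit 4963)])) (.leaf .df))) (.node (.node (.leaf (.cyc (nat_lit 24) [(nat_lit 105), (nat_lit 2840), (nat_lit 2821), (nat_lit 2840), (nat_lit 105)])) (.leaf .df)) (.node (.leaf (.cyc (nat_lit 21) [(nat_lit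 1947), (nat_lit 4922), (nat_lit 3984), (nat_lit 4922), (nat_lit 1947)])) (.leaf .df)))) (.node (.node (.node (.leaf .df) (.leaf .df)) (.node (.leaf (.cyc (nat_lit 37) [(nat_lit 1600), (nat_lit 879), (nat_lit 3466), (nat_lit 879), (nat_lit 1600)])) (.leaf .df))) (.node (.node (.leaf (.cyc (nat_lit 27) [(nat_lit 348), (nat_lit 347), (nat_lit 737)])) (.leaf .df)) (.node (.leaf (.cyc (nat_lit 19) [(nat_lit 2251), (nat_lit 5699), (nat_lit 4139), (nat_lit 5699), (nat_lit 2251)])) (.leaf .df))))))) (.node (.node (.node (.node (.node (.node (.leaf .df) (.leaf (.cyc (nat_lit 63) [(nat_lit 7386), (nat_lit 1556), (nat_lit 4388), (nat_lit 1677), (nat_lit 2353)]))) (.node (.leaf (.cyc (nat_lit 129) [(nat_lit 913), (nat_lit 4317), (nat_lit 910), (nat_lit 458), (nat_lit 3085), (nat_lit 2955), (nat_lit 3085), (nat_lit 458), (nat_lit 910), (nat_lit 4317), (nat_lit 913)])) (.leaf .df))) (.node (.node (.leaf .df) (.leaf .df)) (.node (.leaf (.cyc (nat_lit 23) [(nat_lit 4724), (nat_lit 4478), (nat_lit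 1734)])) (.leaf .df)))) (.node (.node (.node (.leaf .df) (.leaf (.cyc (nat_lit 25) [(nat_lit 2622), (nat_lit 9387), (nat_lit 9390), (nat_lit 9387), (nat_lit 2622)]))) (.node (.leaf (.cyc (nat_lit 63) [(nat_lit 1357), (nat_lit 3917), (nat_lit 3873), (nat_lit 3917), (nat_lit 1357)])) (.leaf .df))) (.node (.node (.leaf (.cyc (nat_lit 27) [(nat_lit 351), (nat_lit 2957), (nat_lit 351)])) (.leaf .df)) (.node (.leaf (.cyc (nat_lit 62) [(nat_lit 2070), (nat_lit 1285), (nat_lit 4470), (nat_lit 1285), (nat_lit 2070)])) (.leaf .df))))) (.node (.node (.node (.node (.leaf .df) (.leaf (.cyc (nat_lit 23) [(nat_lit 8072), (nat_lit 7055), (nat_lit 2488)]))) (.node (.leaf (.cyc (nat_lit 27) [(nat_lit 725), (nat_lit 3738), (nat_lit 1132)])) (.leaf .df))) (.node (.node (.leaf (.cyc (nat_lit 2) [(nat_lit 25), (nat_lit 7), (nat_lit 2767), (nat_lit 7), (nat_lit 25)])) (.leaf .df)) (.node (.leaf (.cyc (nat_lit 24) [(nat_lit 1910), (nat_lit 6877), (nat_lit 6882), (nat_lit 6877), (nat_lit 1910)])) (.leaf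 .df)))) (.node (.node (.node (.leaf .df) (.leaf (.cyc (nat_lit 44) [(nat_lit 9702), (nat_lit 2665), (nat_lit 8531), (nat_lit 2644), (nat_lit 2737)]))) (.node (.leaf (.cyc (nat_lit 46) [(nat_lit 1559), (nat_lit 4189), (nat_lit 1559)])) (.leaf .df))) (.node (.node (.leaf (.cyc (nat_lit 109) [(nat_lit 296), (nat_lit 298), (nat_lit 3810), (nat_lit 298), (nat_lit 296), (nat_lit 640)])) (.leaf .df)) (.node (.leaf (.cyc (nat_lit 26) [(nat_lit 2213), (nat_lit 1451), (nat_lit 4016), (nat_lit 1451), (nat_lit 2213)])) (.leaf .df)))))) (.node (.node (.node (.node (.node (.leaf .df) (.leaf (.cyc (nat_lit 27) [(nat_lit 1845), (nat_lit 6568), (nat_lit 2420)]))) (.node (.leaf (.cyc (nat_lit 25) [(nat_lit 1022), (nat_lit 533), (nat_lit 3155), (nat_lit 533), (nat_lit 1022)])) (.leaf .df))) (.node (.node (.leaf .df) (.leaf .df)) (.node (.leaf (.cyc (nat_lit 42) [(nat_lit 1454), (nat_lit 779), (nat_lit 371), (nat_lit 373), (nat_lit 782), (nat_lit 5483), (nat_lit 5487), (nat_lit 1424), (nat_lit 1423),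 (nat_lit 5486), (nat_lit 6627)])) (.leaf .df)))) (.node (.node (.node (.leaf .df) (.leaf (.cyc (nat_lit 30) [(nat_lit 2680), (nat_lit 8813), (nat_lit 6739), (nat_lit 8813), (nat_lit 2680)]))) (.node (.leaf (.cyc (nat_lit 102) [(nat_lit 1474), (nat_lit 1475), (nat_lit 5603), (nat_lit 1475), (nat_lit 1474)])) (.leaf .df))) (.node (.node (.leaf (.cyc (nat_lit 18) [(nat_lit 498), (nat_lit 3124), (nat_lit 3285), (nat_lit 3124), (nat_lit 498)])) (.leaf .df)) (.node (.leaf (.cyc (nat_lit 48) [(nat_lit 6682), (nat_lit 5862), (nat_lit 2144)])) (.leaf .df))))) (.node (.node (.node (.node (.leaf .df) (.leaf (.cyc (nat_lit 49) [(nat_lit 8561), (nat_lit 8562), (nat_lit 2554)]))) (.node (.leaf (.cyc (nat_lit 98) [(nat_lit 1226), (nat_lit 1225), (nat_lit 5091), (nat_lit 1225), (nat_lit 1226)])) (.leaf .df))) (.node (.node (.leaf (.cyc (nat_lit 56) [(nat_lit 97), (nat_lit 40), (nat_lit 2789), (nat_lit 73), (nat_lit 186)])) (.leaf .df)) (.node (.leaf (.cyc (nat_lit 26) [(nat_lit 1982), (nat_lit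 6529), (nat_lit 6982), (nat_lit 6529), (nat_lit 1982)])) (.leaf .df)))) (.node (.node (.node (.leaf .df) (.leaf .df)) (.node (.leaf (.cyc (nat_lit 6) [(nat_lit 5341), (nat_lit 5527), (nat_lit 1031), (nat_lit 4310), (nat_lit 1641)])) (.leaf .df))) (.node (.node (.leaf (.cyc (nat_lit 114) [(nat_lit 4057), (nat_lit 3581), (nat_lit 4057)])) (.leaf .df)) (.node (.leaf (.cyc (nat_lit 56) [(nat_lit 2289), (nat_lit 1579), (nat_lit 4503), (nat_lit 1579), (nat_lit 2289)])) (.leaf .df))))))))
noncomputable def u5P001001 : BT Pf := .node u5P0010010 u5P0010011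
noncomputable def u5P00100 : BT Pf := .node u5P001000 u5P001001
noncomputable def u5P0010100 : BT Pf := (.node (.node (.node (.node (.node (.node (.node (.leaf .df) (.leaf (.cyc (nat_lit 46) [(nat_lit 2300), (nat_lit 5959), (nat_lit 2300)]))) (.node (.leaf (.cyc (nat_lit 15) [(nat_lit 799), (nat_lit 3368), (nat_lit 799)])) (.leaf .df))) (.node (.node (.leaf .df) (.leaf .df)) (.node (.leaf (.cyc (nat_lit 6) [(nat_lit 4551), (nat_lit 4267), (nat_lit 888), (nat_lit 4326), (nat_lit 1658)])) (.leaf .df)))) (.node (.node (.node (.leaf .df) (.leaf (.cyc (nat_lit 20) [(nat_lit 2570), (nat_lit 7536), (nat_lit 2570)]))) (.node (.leaf (.cyc (nat_lit 48) [(nat_lit 1275), (nat_lit 3866), (nat_lit 1275)])) (.leaf .df))) (.node (.node (.leaf (.cyc (nat_lit 63) [(nat_lit 211), (nat_lit 2894), (nat_lit 2895), (nat_lit 2894), (nat_lit 211)])) (.leaf .df)) (.node (.leaf (.cyc (nat_lit 126) [(nat_lit 1353), (nat_lit 719), (nat_lit 337), (nat_lit 339), (nat_lit 722), (nat_lit 1357), (nat_lit 5347),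 (nat_lit 5006), (nat_lit 1998), (nat_lit 7187), (nat_lit 7186)])) (.leaf .df))))) (.node (.node (.node (.node (.leaf .df) (.leaf (.cyc (nat_lit 11) [(nat_lit 8721), (nat_lit 6637), (nat_lit 6287), (nat_lit 6637), (nat_lit 8721)]))) (.node (.leaf (.cyc (nat_lit 26) [(nat_lit 1025), (nat_lit 4117), (nat_lit 4126), (nat_lit 4365), (nat_lit 1040)])) (.leaf .df))) (.node (.node (.leaf .df) (.leaf .df)) (.node (.leaf (.cyc (nat_lit 37) [(nat_lit 1834), (nat_lit 4714), (nat_lit 3699), (nat_lit 4714), (nat_lit 1834)])) (.leaf .df)))) (.node (.node (.node (.leaf .df) (.leaf (.cyc (nat_lit 65) [(nat_lit 9180), (nat_lit 8322), (nat_lit 2329), (nat_lit 1643), (nat_lit 4311), (nat_lit 1644), (nat_lit 7812), (nat_lit 7816), (nat_lit 2485), (nat_lit 2690), (nat_lit 9746)]))) (.node (.leaf (.cyc (nat_lit 25) [(nat_lit 943), (nat_lit 4405), (nat_lit 937), (nat_lit 4112), (nat_lit 1488)])) (.leaf .df))) (.node (.node (.leaf (.cyc (nat_lit 23) [(nat_lit 3301), (nat_lit 3255), (nat_lit 521)])) (.leaf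 .df)) (.node (.leaf (.cyc (nat_lit 25) [(nat_lit 2156), (nat_lit 2155), (nat_lit 7697), (nat_lit 2155), (nat_lit 2156)])) (.leaf .df)))))) (.node (.node (.node (.node (.node (.leaf .df) (.leaf (.cyc (nat_lit 34) [(nat_lit 2066), (nat_lit 7358), (nat_lit 1709), (nat_lit 1708), (nat_lit 2365)]))) (.node (.leaf (.cyc (nat_lit 117) [(nat_lit 3903), (nat_lit 4371), (nat_lit 3245), (nat_lit 4371), (nat_lit 3903)])) (.leaf .df))) (.node (.node (.leaf .df) (.leaf .df)) (.node (.leaf (.cyc (nat_lit 48) [(nat_lit 991), (nat_lit 4513), (nat_lit 1749)])) (.leaf .df)))) (.node (.node (.node (.leaf .df) (.leaf (.cyc (nat_lit 23) [(nat_lit 9491), (nat_lit 2633), (nat_lit 2634)]))) (.node (.leaf (.cyc (nat_lit 58) [(nat_lit 5102), (nat_lit 1256), (nat_lit 666), (nat_lit 3242), (nat_lit 134), (nat_lit 133), (nat_lit 3565), (nat_lit 2953), (nat_lit 3270), (nat_lit 729), (nat_lit 1378)])) (.leaf .df))) (.node (.node (.leaf (.cyc (nat_lit 35) [(nat_lit 366), (nat_lit 152), (nat_lit 2867), (nat_lit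 158), (nat_lit 384)])) (.leaf .df)) (.node (.leaf (.cyc (nat_lit 7) [(nat_lit 7443), (nat_lit 1314), (nat_lit 1316)])) (.leaf .df))))) (.node (.node (.node (.node (.leaf .df) (.leaf (.cyc (nat_lit 30) [(nat_lit 2240), (nat_lit 2239), (nat_lit 8001), (nat_lit 6921), (nat_lit 2499)]))) (.node (.leaf (.cyc (nat_lit 57) [(nat_lit 1155), (nat_lit 3758), (nat_lit 3212), (nat_lit 3145), (nat_lit 3130), (nat_lit 3128), (nat_lit 3130), (nat_lit 3145), (nat_lit 3212), (nat_lit 3758), (nat_lit 1155)])) (.leaf .df))) (.node (.node (.leaf (.cyc (nat_lit 9) [(nat_lit 2834), (nat_lit 26), (nat_lit 7), (nat_lit 6), (nat_lit 38)])) (.leaf .df)) (.node (.leaf (.cyc (nat_lit 6) [(nat_lit 1160), (nat_lit 615), (nat_lit 613), (nat_lit 1156), (nat_lit 1925)])) (.leaf .df)))) (.node (.node (.node (.leaf .df) (.leaf (.cyc (nat_lit 48) [(nat_lit 2747), (nat_lit 9825), (nat_lit 2747)]))) (.node (.leaf (.cyc (nat_lit 35) [(nat_lit 1502), (nat_lit 4452), (nat_lit 5903), (nat_lit 5900), (nat_lit 1572)]))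 (.leaf .df))) (.node (.node (.leaf (.cyc (nat_lit 30) [(nat_lit 672), (nat_lit 314), (nat_lit 315), (nat_lit 676), (nat_lit 3859)])) (.leaf .df)) (.node (.leaf (.cyc (nat_lit 45) [(nat_lit 1993), (nat_lit 4979), (nat_lit 4917), (nat_lit 7243), (nat_lit 2225)])) (.leaf .df))))))) (.node (.node (.node (.node (.node (.node (.leaf .df) (.leaf (.cyc (nat_lit 67) [(nat_lit 8336), (nat_lit 6140), (nat_lit 1493), (nat_lit 4400), (nat_lit 4410), (nat_lit 1332), (nat_lit 7450), (nat_lit 2087), (nat_lit 5185), (nat_lit 6136), (nat_lit 2334)]))) (.node (.leaf (.cyc (nat_lit 54) [(nat_lit 878), (nat_lit 443), (nat_lit 441), (nat_lit 872), (nat_lit 4237), (nat_lit 4010), (nat_lit 4237), (nat_lit 872), (nat_lit 441), (nat_lit 443), (nat_lit 878)])) (.leaf .df))) (.node (.node (.leaf .df) (.leaf .df)) (.node (.leaf (.cyc (nat_lit 6) [(nat_lit 6275), (nat_lit 1700), (nat_lit 4426), (nat_lit 953), (nat_lit 1706)])) (.leaf .df)))) (.node (.node (.node (.leaf .df) (.leaf (.cyc (nat_lit 18) [(nat_lit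 2601), (nat_lit 8870), (nat_lit 8868), (nat_lit 8870), (nat_lit 2601)]))) (.node (.leaf (.cyc (nat_lit 146) [(nat_lit 719), (nat_lit 720), (nat_lit 5267), (nat_lit 1332), (nat_lit 1331), (nat_lit 5264), (nat_lit 1331), (nat_lit 1332), (nat_lit 5267), (nat_lit 720), (nat_lit 719)])) (.leaf .df))) (.node (.node (.leaf (.cyc (nat_lit 19) [(nat_lit 289), (nat_lit 3159), (nat_lit 3160), (nat_lit 3159), (nat_lit 289)])) (.leaf .df)) (.node (.leaf (.cyc (nat_lit 44) [(nat_lit 2038), (nat_lit 5112), (nat_lit 4469), (nat_lit 5112), (nat_lit 2038)])) (.leaf .df))))) (.node (.node (.node (.node (.leaf .df) (.leaf (.cyc (nat_lit 56) [(nat_lit 2468), (nat_lit 6778), (nat_lit 4771), (nat_lit 6778), (nat_lit 2468)]))) (.node (.leaf (.cyc (nat_lit 53) [(nat_lit 3833), (nat_lit 3722), (nat_lit 581), (nat_lit 582), (nat_lit 1102)])) (.leaf .df))) (.node (.node (.leaf .df) (.leaf .df)) (.node (.leaf (.cyc (nat_lit 46) [(nat_lit 1883), (nat_lit 4818), (nat_lit 1883)])) (.leaf .df)))) (.node (.node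 (.node (.leaf .df) (.leaf (.cyc (nat_lit 27) [(nat_lit 9630), (nat_lit 9465), (nat_lit 2721)]))) (.node (.leaf (.cyc (nat_lit 79) [(nat_lit 5105), (nat_lit 671), (nat_lit 314), (nat_lit 315), (nat_lit 675), (nat_lit 3858), (nat_lit 3563), (nat_lit 682), (nat_lit 1284), (nat_lit 5779), (nat_lit 5341)])) (.leaf .df))) (.node (.node (.leaf (.cyc (nat_lit 40) [(nat_lit 3731), (nat_lit 3266), (nat_lit 3390)])) (.leaf .df)) (.node (.leaf (.cyc (nat_lit 15) [(nat_lit 7799), (nat_lit 7259), (nat_lit 2193)])) (.leaf .df)))))) (.node (.node (.node (.node (.node (.leaf .df) (.leaf (.cyc (nat_lit 48) [(nat_lit 2400), (nat_lit 6504), (nat_lit 2400)]))) (.node (.leaf (.cyc (nat_lit 113) [(nat_lit 4216), (nat_lit 4497)])) (.leaf .df))) (.node (.node (.leaf .df) (.leaf .df)) (.node (.leaf (.cyc (nat_lit 45) [(nat_lit 6530), (nat_lit 1443), (nat_lit 4005), (nat_lit 1032), (nat_lit 1789)])) (.leaf .df)))) (.node (.node (.node (.leaf .df) (.leaf (.cyc (nat_lit 18) [(nat_lit 2662), (nat_lit 8476),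 (nat_lit 7970), (nat_lit 8476), (nat_lit 2662)]))) (.node (.leaf (.cyc (nat_lit 92) [(nat_lit 1445), (nat_lit 774), (nat_lit 3313), (nat_lit 2965), (nat_lit 347), (nat_lit 3295), (nat_lit 347), (nat_lit 2965), (nat_lit 3313), (nat_lit 774), (nat_lit 1445)])) (.leaf .df))) (.node (.node (.leaf (.cyc (nat_lit 18) [(nat_lit 451), (nat_lit 201), (nat_lit 202), (nat_lit 452), (nat_lit 3475)])) (.leaf .df)) (.node (.leaf (.cyc (nat_lit 26) [(nat_lit 1506), (nat_lit 810), (nat_lit 4367), (nat_lit 1343), (nat_lit 2120)])) (.leaf .df))))) (.node (.node (.node (.node (.leaf .df) (.leaf (.cyc (nat_lit 15) [(nat_lit 2533), (nat_lit 7301), (nat_lit 2533)]))) (.node (.leaf (.cyc (nat_lit 54) [(nat_lit 1218), (nat_lit 643), (nat_lit 3808), (nat_lit 1209), (nat_lit 4987), (nat_lit 4986), (nat_lit 4987), (nat_lit 1209), (nat_lit 3808), (nat_lit 643), (nat_lit 1218)])) (.leaf .df))) (.node (.node (.leaf (.cyc (nat_lit 24) [(nat_lit 149), (nat_lit 2954), (nat_lit 2958), (nat_lit 2954), (nat_lit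 149)])) (.leaf .df)) (.node (.leaf (.cyc (nat_lit 35) [(nat_lit 1962), (nat_lit 1185), (nat_lit 3792), (nat_lit 1185), (nat_lit 1962)])) (.leaf .df)))) (.node (.node (.node (.leaf .df) (.leaf .df)) (.node (.leaf (.cyc (nat_lit 19) [(nat_lit 1615), (nat_lit 1613), (nat_lit 6032), (nat_lit 1613), (nat_lit 1615)])) (.leaf .df))) (.node (.node (.leaf (.cyc (nat_lit 18) [(nat_lit 760), (nat_lit 3363), (nat_lit 3361), (nat_lit 3363), (nat_lit 760)])) (.leaf .df)) (.node (.leaf (.cyc (nat_lit 19) [(nat_lit 2266), (nat_lit 5776), (nat_lit 4159), (nat_lit 5776), (nat_lit 2266)])) (.leaf .df))))))))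
noncomputable def u5P0010101 : BT Pf := (.node (.node (.node (.node (.node (.node (.node (.leaf .df) (.leaf (.cyc (nat_lit 27) [(nat_lit 1643), (nat_lit 6091), (nat_lit 2320)]))) (.node (.leaf (.cyc (nat_lit 81) [(nat_lit 840), (nat_lit 413), (nat_lit 4063), (nat_lit 542), (nat_lit 4086), (nat_lit 553), (nat_lit 259), (nat_lit 257), (nat_lit 549), (nat_lit 3642), (nat_lit 4141)])) (.leaf .df))) (.node (.node (.leaf .df) (.leaf .df)) (.node (.leaf (.cyc (nat_lit 14) [(nat_lit 6227), (nat_lit 984), (nat_lit 512), (nat_lit 511), (nat_lit 982)])) (.leaf .df)))) (.node (.node (.node (.leaf .df) (.leaf (.cyc (nat_lit 27) [(nat_lit 2582), (nat_lit 7632), (nat_lit 2582)]))) (.node (.leaf (.cyc (nat_lit 74) [(nat_lit 1293), (nat_lit 5203)])) (.leaf .df))) (.node (.node (.leaf (.cyc (nat_lit 20) [(nat_lit 249), (nat_lit 2916), (nat_lit 249)])) (.leaf .df)) (.node (.leaf (.cyc (nat_lit 52) [(nat_lit 2017), (nat_lit 2019), (nat_lit 7251), (nat_lit 1475), (nat_lit 1473)])) (.leaf .df)))))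 (.node (.node (.node (.node (.leaf .df) (.leaf (.cyc (nat_lit 30) [(nat_lit 7722), (nat_lit 1933), (nat_lit 1934), (nat_lit 7569), (nat_lit 2449)]))) (.node (.leaf (.cyc (nat_lit 53) [(nat_lit 966), (nat_lit 497), (nat_lit 3676), (nat_lit 561), (nat_lit 1064)])) (.leaf .df))) (.node (.node (.leaf .df) (.leaf .df)) (.node (.leaf (.cyc (nat_lit 21) [(nat_lit 1859), (nat_lit 1858), (nat_lit 6739), (nat_lit 1858), (nat_lit 1859)])) (.leaf .df)))) (.node (.node (.node (.leaf .df) (.leaf (.cyc (nat_lit 27) [(nat_lit 2707), (nat_lit 9124), (nat_lit 2707)]))) (.node (.leaf (.cyc (nat_lit 9) [(nat_lit 5715), (nat_lit 1335), (nat_lit 3900), (nat_lit 726), (nat_lit 1371)])) (.leaf .df))) (.node (.node (.leaf (.cyc (nat_lit 74) [(nat_lit 548), (nat_lit 3658)])) (.leaf .df)) (.node (.leaf (.cyc (nat_lit 25) [(nat_lit 6331), (nat_lit 5908), (nat_lit 5907), (nat_lit 5448), (nat_lit 2173)])) (.leaf .df)))))) (.node (.node (.node (.node (.node (.leaf .df) (.leaf (.cyc (nat_lit 18) [(nat_lit 2383),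 (nat_lit 6385), (nat_lit 5861), (nat_lit 6385), (nat_lit 2383)]))) (.node (.leaf (.cyc (nat_lit 54) [(nat_lit 4435), (nat_lit 948), (nat_lit 488), (nat_lit 3197), (nat_lit 3277), (nat_lit 3278), (nat_lit 3277), (nat_lit 3197), (nat_lit 488), (nat_lit 948), (nat_lit 4435)])) (.leaf .df))) (.node (.node (.leaf .df) (.leaf .df)) (.node (.leaf (.cyc (nat_lit 73) [(nat_lit 1146), (nat_lit 6481)])) (.leaf .df)))) (.node (.node (.node (.leaf .df) (.leaf (.cyc (nat_lit 45) [(nat_lit 2647), (nat_lit 2311), (nat_lit 6051), (nat_lit 2311), (nat_lit 2647)]))) (.node (.leaf (.cyc (nat_lit 0) [(nat_lit 1412), (nat_lit 1413), (nat_lit 5459), (nat_lit 1413), (nat_lit 1412)])) (.leaf .df))) (.node (.node (.leaf (.cyc (nat_lit 60) [(nat_lit 3087), (nat_lit 437), (nat_lit 3411), (nat_lit 437), (nat_lit 3087)])) (.leaf .df)) (.node (.leaf (.cyc (nat_lit 18) [(nat_lit 2102), (nat_lit 5620), (nat_lit 4845), (nat_lit 5620), (nat_lit 2102)])) (.leaf .df))))) (.node (.node (.node (.node (.leaf .df) (.leaf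 (.cyc (nat_lit 58) [(nat_lit 8809), (nat_lit 8811), (nat_lit 8987), (nat_lit 8983), (nat_lit 2415), (nat_lit 6532), (nat_lit 6975), (nat_lit 1204), (nat_lit 4968), (nat_lit 1989), (nat_lit 2516)]))) (.node (.leaf (.cyc (nat_lit 54) [(nat_lit 1184), (nat_lit 627), (nat_lit 625), (nat_lit 1178), (nat_lit 4938), (nat_lit 4937), (nat_lit 4938), (nat_lit 1178), (nat_lit 625), (nat_lit 627), (nat_lit 1184)])) (.leaf .df))) (.node (.node (.leaf (.cyc (nat_lit 46) [(nat_lit 2872), (nat_lit 2836), (nat_lit 96)])) (.leaf .df)) (.node (.leaf (.cyc (nat_lit 68) [(nat_lit 6993), (nat_lit 1394), (nat_lit 738), (nat_lit 3940), (nat_lit 1390)])) (.leaf .df)))) (.node (.node (.node (.leaf .df) (.leaf .df)) (.node (.leaf (.cyc (nat_lit 143) [(nat_lit 1420), (nat_lit 758), (nat_lit 3474), (nat_lit 452), (nat_lit 3079), (nat_lit 353), (nat_lit 3459), (nat_lit 3461), (nat_lit 872), (nat_lit 1594), (nat_lit 5971)])) (.leaf .df))) (.node (.node (.leaf (.cyc (nat_lit 25) [(nat_lit 673), (nat_lit 3247),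 (nat_lit 2953), (nat_lit 3270), (nat_lit 729)])) (.leaf .df)) (.node (.leaf (.cyc (nat_lit 16) [(nat_lit 7256), (nat_lit 1765), (nat_lit 4557), (nat_lit 1497), (nat_lit 2247)])) (.leaf .df))))))) (.node (.node (.node (.node (.node (.node (.leaf .df) (.leaf (.cyc (nat_lit 62) [(nat_lit 2349), (nat_lit 7173), (nat_lit 7172), (nat_lit 7173), (nat_lit 2349)]))) (.node (.leaf (.cyc (nat_lit 20) [(nat_lit 4307), (nat_lit 903), (nat_lit 906)])) (.leaf .df))) (.node (.node (.leaf .df) (.leaf .df)) (.node (.leaf (.cyc (nat_lit 73) [(nat_lit 1724), (nat_lit 6355)])) (.leaf .df)))) (.node (.node (.node (.leaf .df) (.leaf (.cyc (nat_lit 47) [(nat_lit 2400), (nat_lit 1770), (nat_lit 6162), (nat_lit 8008), (nat_lit 2618)]))) (.node (.leaf (.cyc (nat_lit 46) [(nat_lit 1349), (nat_lit 5270), (nat_lit 1349)])) (.leaf .df))) (.node (.node (.leaf (.cyc (nat_lit 101) [(nat_lit 131), (nat_lit 133), (nat_lit 3282), (nat_lit 133), (nat_lit 131), (nat_lit 312)])) (.leaf .df)) (.node (.leaf (.cyc (nat_lit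 30) [(nat_lit 7357), (nat_lit 7358), (nat_lit 1281), (nat_lit 1280), (nat_lit 2064)])) (.leaf .df))))) (.node (.node (.node (.node (.leaf .df) (.leaf (.cyc (nat_lit 46) [(nat_lit 2484), (nat_lit 6801), (nat_lit 2484)]))) (.node (.leaf (.cyc (nat_lit 46) [(nat_lit 4707), (nat_lit 4781), (nat_lit 1122)])) (.leaf .df))) (.node (.node (.leaf (.pin (nat_lit 23) [(nat_lit 9)] [])) (.leaf .df)) (.node (.leaf (.cyc (nat_lit 49) [(nat_lit 6691), (nat_lit 4842), (nat_lit 1905)])) (.leaf .df)))) (.node (.node (.node (.leaf .df) (.leaf (.cyc (nat_lit 18) [(nat_lit 2734), (nat_lit 9449), (nat_lit 9447), (nat_lit 9449), (nat_lit 2734)]))) (.node (.leaf (.cyc (nat_lit 55) [(nat_lit 1548), (nat_lit 1549), (nat_lit 5843), (nat_lit 1549), (nat_lit 1548)])) (.leaf .df))) (.node (.node (.leaf (.cyc (nat_lit 62) [(nat_lit 631), (nat_lit 292), (nat_lit 2937), (nat_lit 292), (nat_lit 631)])) (.leaf .df)) (.node (.leaf (.cyc (nat_lit 23) [(nat_lit 7890), (nat_lit 2208), (nat_lit 2209)])) (.leaf .df))))))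 (.node (.node (.node (.node (.node (.leaf .df) (.leaf (.cyc (nat_lit 16) [(nat_lit 2416), (nat_lit 6533), (nat_lit 4718), (nat_lit 6533), (nat_lit 2416)]))) (.node (.leaf (.cyc (nat_lit 27) [(nat_lit 529), (nat_lit 528), (nat_lit 1014)])) (.leaf .df))) (.node (.node (.leaf .df) (.leaf .df)) (.node (.leaf (.cyc (nat_lit 25) [(nat_lit 1669), (nat_lit 5550), (nat_lit 6611), (nat_lit 1807), (nat_lit 1808)])) (.leaf .df)))) (.node (.node (.node (.leaf .df) (.leaf (.cyc (nat_lit 19) [(nat_lit 2677), (nat_lit 2450), (nat_lit 6695), (nat_lit 2450), (nat_lit 2677)]))) (.node (.leaf (.cyc (nat_lit 21) [(nat_lit 1472), (nat_lit 4095), (nat_lit 3962), (nat_lit 4095), (nat_lit 1472)])) (.leaf .df))) (.node (.node (.leaf (.cyc (nat_lit 61) [(nat_lit 487), (nat_lit 221), (nat_lit 2998), (nat_lit 2876), (nat_lit 192), (nat_lit 3061), (nat_lit 167), (nat_lit 166), (nat_lit 3331), (nat_lit 3330), (nat_lit 402)])) (.leaf .df)) (.node (.leaf (.cyc (nat_lit 15) [(nat_lit 2139), (nat_lit 5381), (nat_lit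 2139)])) (.leaf .df))))) (.node (.node (.node (.node (.leaf .df) (.leaf (.cyc (nat_lit 62) [(nat_lit 2549), (nat_lit 7389), (nat_lit 6278), (nat_lit 7389), (nat_lit 2549)]))) (.node (.leaf (.cyc (nat_lit 70) [(nat_lit 904), (nat_lit 456), (nat_lit 3236), (nat_lit 305), (nat_lit 129), (nat_lit 130), (nat_lit 308), (nat_lit 3241), (nat_lit 661), (nat_lit 1244), (nat_lit 5073)])) (.leaf .df))) (.node (.node (.leaf (.cyc (nat_lit 26) [(nat_lit 178), (nat_lit 2900), (nat_lit 2902), (nat_lit 2900), (nat_lit 178)])) (.leaf .df)) (.node (.leaf (.cyc (nat_lit 73) [(nat_lit 1960), (nat_lit 7122)])) (.leaf .df)))) (.node (.node (.node (.leaf .df) (.leaf .df)) (.node (.leaf (.cyc (nat_lit 18) [(nat_lit 1001), (nat_lit 3604), (nat_lit 749), (nat_lit 4305), (nat_lit 1637)])) (.leaf .df))) (.node (.node (.leaf (.cyc (nat_lit 72) [(nat_lit 3636), (nat_lit 4044), (nat_lit 412)])) (.leaf .df)) (.node (.leaf (.cyc (nat_lit 49) [(nat_lit 7986), (nat_lit 5878), (nat_lit 2284)])) (.leaf .df))))))))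
noncomputable def u5P001010 : BT Pf := .node u5P0010100 u5P0010101
noncomputable def u5P0010110 : BT Pf := (.node (.node (.node (.node (.node (.node (.node (.leaf .df) (.leaf (.cyc (nat_lit 27) [(nat_lit 2163), (nat_lit 6043), (nat_lit 2310)]))) (.node (.leaf (.cyc (nat_lit 48) [(nat_lit 819), (nat_lit 3372), (nat_lit 819)])) (.leaf .df))) (.node (.node (.leaf .df) (.leaf .df)) (.node (.leaf (.cyc (nat_lit 94) [(nat_lit 948), (nat_lit 949), (nat_lit 6195), (nat_lit 949), (nat_lit 948)])) (.leaf .df)))) (.node (.node (.node (.leaf .df) (.leaf (.cyc (nat_lit 78) [(nat_lit 9204), (nat_lit 2557), (nat_lit 2087), (nat_lit 1301), (nat_lit 3882), (nat_lit 3450), (nat_lit 708), (nat_lit 1333), (nat_lit 2113), (nat_lit 2574), (nat_lit 9267)]))) (.node (.leaf (.cyc (nat_lit 53) [(nat_lit 1295), (nat_lit 4277), (nat_lit 3822), (nat_lit 4277), (nat_lit 1295)])) (.leaf .df))) (.node (.node (.leaf (.cyc (nat_lit 21) [(nat_lit 227), (nat_lit 91), (nat_lit 93), (nat_lit 228), (nat_lit 3122)]))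 (.leaf .df)) (.node (.leaf (.cyc (nat_lit 47) [(nat_lit 2010), (nat_lit 5702), (nat_lit 5703), (nat_lit 5702), (nat_lit 2010)])) (.leaf .df))))) (.node (.node (.node (.node (.leaf .df) (.leaf (.cyc (nat_lit 37) [(nat_lit 2441), (nat_lit 1825), (nat_lit 4695), (nat_lit 1825), (nat_lit 2441)]))) (.node (.leaf (.cyc (nat_lit 44) [(nat_lit 562), (nat_lit 264), (nat_lit 3180), (nat_lit 556), (nat_lit 1054)])) (.leaf .df))) (.node (.node (.leaf .df) (.leaf .df)) (.node (.leaf (.cyc (nat_lit 6) [(nat_lit 1848), (nat_lit 1083), (nat_lit 3706), (nat_lit 1083), (nat_lit 1848)])) (.leaf .df)))) (.node (.node (.node (.leaf .df) (.leaf (.cyc (nat_lit 28) [(nat_lit 2698), (nat_lit 2511), (nat_lit 7058), (nat_lit 2511), (nat_lit 2698)]))) (.node (.leaf (.cyc (nat_lit 47) [(nat_lit 1498), (nat_lit 805), (nat_lit 3370), (nat_lit 805), (nat_lit 1498)])) (.leaf .df))) (.node (.node (.leaf (.cyc (nat_lit 20) [(nat_lit 255), (nat_lit 253), (nat_lit 543)])) (.leaf .df)) (.node (.leaf (.cyc (nat_lit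 40) [(nat_lit 7730), (nat_lit 5450), (nat_lit 1426)])) (.leaf .df)))))) (.node (.node (.node (.node (.node (.leaf .df) (.leaf (.cyc (nat_lit 19) [(nat_lit 2374), (nat_lit 1726), (nat_lit 4473), (nat_lit 1726), (nat_lit 2374)]))) (.node (.leaf (.cyc (nat_lit 42) [(nat_lit 941), (nat_lit 943), (nat_lit 4403), (nat_lit 4402), (nat_lit 4185), (nat_lit 4187), (nat_lit 4186), (nat_lit 4147), (nat_lit 403), (nat_lit 3112), (nat_lit 482), (nat_lit 937)])) (.leaf .df))) (.node (.node (.leaf .df) (.leaf .df)) (.node (.leaf (.cyc (nat_lit 24) [(nat_lit 1764), (nat_lit 4883), (nat_lit 4891), (nat_lit 4883), (nat_lit 1764)])) (.leaf .df)))) (.node (.node (.node (.leaf .df) (.leaf (.cyc (nat_lit 47) [(nat_lit 2640), (nat_lit 8186), (nat_lit 5998), (nat_lit 8186), (nat_lit 2640)]))) (.node (.leaf (.cyc (nat_lit 31) [(nat_lit 1396), (nat_lit 5354), (nat_lit 5353), (nat_lit 5354), (nat_lit 1396)])) (.leaf .df))) (.node (.node (.leaf (.cyc (nat_lit 45) [(nat_lit 243), (nat_lit 101), (nat_lit 2872),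 (nat_lit 177), (nat_lit 408)])) (.leaf .df)) (.node (.leaf (.cyc (nat_lit 49) [(nat_lit 1949), (nat_lit 5239), (nat_lit 2097)])) (.leaf .df))))) (.node (.node (.node (.node (.leaf .df) (.leaf (.cyc (nat_lit 46) [(nat_lit 1961), (nat_lit 7050), (nat_lit 2507)]))) (.node (.leaf (.cyc (nat_lit 19) [(nat_lit 1169), (nat_lit 3772), (nat_lit 3753), (nat_lit 3772), (nat_lit 1169)])) (.leaf .df))) (.node (.node (.leaf (.cyc (nat_lit 20) [(nat_lit 65), (nat_lit 2776), (nat_lit 65)])) (.leaf .df)) (.node (.leaf (.cyc (nat_lit 27) [(nat_lit 1161), (nat_lit 1160), (nat_lit 1933)])) (.leaf .df)))) (.node (.node (.node (.leaf .df) (.leaf .df)) (.node (.leaf (.cyc (nat_lit 15) [(nat_lit 5869), (nat_lit 5865), (nat_lit 1584)])) (.leaf .df))) (.node (.node (.leaf (.cyc (nat_lit 27) [(nat_lit 3723), (nat_lit 3719), (nat_lit 699)])) (.leaf .df)) (.node (.leaf (.cyc (nat_lit 110) [(nat_lit 7987), (nat_lit 6684), (nat_lit 7652)])) (.leaf .df))))))) (.node (.node (.node (.node (.node (.node (.leaf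 .df) (.leaf (.cyc (nat_lit 28) [(nat_lit 2341), (nat_lit 6150), (nat_lit 5227), (nat_lit 6150), (nat_lit 2341)]))) (.node (.leaf (.cyc (nat_lit 68) [(nat_lit 4273), (nat_lit 4275), (nat_lit 741), (nat_lit 3297), (nat_lit 687)])) (.leaf .df))) (.node (.node (.leaf .df) (.leaf .df)) (.node (.leaf (.cyc (nat_lit 37) [(nat_lit 1717), (nat_lit 963), (nat_lit 3545), (nat_lit 963), (nat_lit 1717)])) (.leaf .df)))) (.node (.node (.node (.leaf .df) (.leaf (.cyc (nat_lit 28) [(nat_lit 2608), (nat_lit 7926), (nat_lit 5606), (nat_lit 7926), (nat_lit 2608)]))) (.node (.leaf (.cyc (nat_lit 45) [(nat_lit 1340), (nat_lit 5249), (nat_lit 5250), (nat_lit 5249), (nat_lit 1340)])) (.leaf .df))) (.node (.node (.leaf (.cyc (nat_lit 21) [(nat_lit 236), (nat_lit 97), (nat_lit 98), (nat_lit 237), (nat_lit 3251)])) (.leaf .df)) (.node (.leaf (.cyc (nat_lit 6) [(nat_lit 2051), (nat_lit 1271), (nat_lit 4469), (nat_lit 1271), (nat_lit 2051)])) (.leaf .df))))) (.node (.node (.node (.node (.leaf .df) (.leaf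 (.cyc (nat_lit 27) [(nat_lit 2476), (nat_lit 6785), (nat_lit 2476)]))) (.node (.leaf (.cyc (nat_lit 40) [(nat_lit 4787), (nat_lit 4516), (nat_lit 4787)])) (.leaf .df))) (.node (.node (.leaf .df) (.leaf .df)) (.node (.leaf (.cyc (nat_lit 15) [(nat_lit 6508), (nat_lit 6463), (nat_lit 6835)])) (.leaf .df)))) (.node (.node (.node (.leaf .df) (.leaf (.cyc (nat_lit 6) [(nat_lit 2727), (nat_lit 9668), (nat_lit 9132), (nat_lit 9668), (nat_lit 2727)]))) (.node (.leaf (.cyc (nat_lit 45) [(nat_lit 1274), (nat_lit 676), (nat_lit 4370), (nat_lit 5025), (nat_lit 5811)])) (.leaf .df))) (.node (.node (.leaf (.cyc (nat_lit 48) [(nat_lit 3607), (nat_lit 3213), (nat_lit 617)])) (.leaf .df)) (.node (.leaf (.cyc (nat_lit 120) [(nat_lit 5714), (nat_lit 5653), (nat_lit 5753), (nat_lit 1526), (nat_lit 5747), (nat_lit 5749), (nat_lit 6896), (nat_lit 7854), (nat_lit 7851), (nat_lit 5511), (nat_lit 2200)])) (.leaf .df)))))) (.node (.node (.node (.node (.node (.leaf .df) (.leaf (.cyc (nat_lit 57) [(nat_lit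 8029), (nat_lit 8028), (nat_lit 6274), (nat_lit 6703), (nat_lit 6702), (nat_lit 4966), (nat_lit 1196), (nat_lit 6412), (nat_lit 6414), (nat_lit 1777), (nat_lit 2408)]))) (.node (.leaf (.cyc (nat_lit 58) [(nat_lit 4111), (nat_lit 796), (nat_lit 391), (nat_lit 2971), (nat_lit 90), (nat_lit 2995), (nat_lit 98), (nat_lit 239), (nat_lit 519), (nat_lit 3603), (nat_lit 996)])) (.leaf .df))) (.node (.node (.leaf .df) (.leaf .df)) (.node (.leaf (.cyc (nat_lit 18) [(nat_lit 1324), (nat_lit 4612), (nat_lit 4614), (nat_lit 4645), (nat_lit 1801)])) (.leaf .df)))) (.node (.node (.node (.leaf .df) (.leaf (.cyc (nat_lit 21) [(nat_lit 2547), (nat_lit 7366), (nat_lit 2426), (nat_lit 2670), (nat_lit 9651)]))) (.node (.leaf (.cyc (nat_lit 26) [(nat_lit 1460), (nat_lit 4042), (nat_lit 3345), (nat_lit 4042), (nat_lit 1460)])) (.leaf .df))) (.node (.node (.leaf (.cyc (nat_lit 63) [(nat_lit 265), (nat_lit 112), (nat_lit 2884), (nat_lit 210), (nat_lit 469)])) (.leaf .df)) (.node (.leaf (.cyc (nat_lit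 34) [(nat_lit 2128), (nat_lit 2127), (nat_lit 7602), (nat_lit 2127), (nat_lit 2128)])) (.leaf .df))))) (.node (.node (.node (.node (.leaf .df) (.leaf (.cyc (nat_lit 25) [(nat_lit 2542), (nat_lit 7379), (nat_lit 7382), (nat_lit 7379), (nat_lit 2542)]))) (.node (.leaf (.cyc (nat_lit 56) [(nat_lit 674), (nat_lit 4370), (nat_lit 652), (nat_lit 653), (nat_lit 1235)])) (.leaf .df))) (.node (.node (.leaf (.cyc (nat_lit 73) [(nat_lit 2892), (nat_lit 2993)])) (.leaf .df)) (.node (.leaf (.cyc (nat_lit 26) [(nat_lit 1219), (nat_lit 643), (nat_lit 3794), (nat_lit 1191), (nat_lit 1971)])) (.leaf .df)))) (.node (.node (.node (.leaf .df) (.leaf .df)) (.node (.leaf (.cyc (nat_lit 49) [(nat_lit 1421), (nat_lit 5433), (nat_lit 6067)])) (.leaf .df))) (.node (.node (.leaf (.cyc (nat_lit 47) [(nat_lit 783), (nat_lit 3327), (nat_lit 2968), (nat_lit 3327), (nat_lit 783)])) (.leaf .df)) (.node (.leaf (.cyc (nat_lit 18) [(nat_lit 2276), (nat_lit 1543), (nat_lit 4196), (nat_lit 1543), (nat_lit 2276)]))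 (.leaf .df))))))))
noncomputable def u5P0010111 : BT Pf := (.node (.node (.node (.node (.node (.node (.node (.leaf .df) (.leaf (.cyc (nat_lit 19) [(nat_lit 2327), (nat_lit 6108), (nat_lit 5408), (nat_lit 6108), (nat_lit 2327)]))) (.node (.leaf (.cyc (nat_lit 18) [(nat_lit 857), (nat_lit 433), (nat_lit 3056), (nat_lit 433), (nat_lit 857)])) (.leaf .df))) (.node (.node (.leaf .df) (.leaf .df)) (.node (.leaf (.cyc (nat_lit 28) [(nat_lit 1696), (nat_lit 4413), (nat_lit 3586), (nat_lit 4413), (nat_lit 1696)])) (.leaf .df)))) (.node (.node (.node (.leaf .df) (.leaf (.cyc (nat_lit 57) [(nat_lit 2592), (nat_lit 7662), (nat_lit 5396), (nat_lit 5803), (nat_lit 5804), (nat_lit 5805), (nat_lit 5804), (nat_lit 5803), (nat_lit 5396), (nat_lit 7662), (nat_lit 2592)]))) (.node (.leaf (.cyc (nat_lit 21) [(nat_lit 1316), (nat_lit 5164), (nat_lit 5169), (nat_lit 5164), (nat_lit 1316)])) (.leaf .df))) (.node (.node (.leaf (.cyc (nat_lit 54) [(nat_lit 3186), (nat_lit 3187), (nat_lit 114), (nat_lit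 48), (nat_lit 12), (nat_lit 2810), (nat_lit 29), (nat_lit 30), (nat_lit 83), (nat_lit 2894), (nat_lit 231)])) (.leaf .df)) (.node (.leaf (.cyc (nat_lit 107) [(nat_lit 7280), (nat_lit 2029), (nat_lit 1255), (nat_lit 4087), (nat_lit 649), (nat_lit 3227), (nat_lit 303), (nat_lit 653), (nat_lit 3829), (nat_lit 1235), (nat_lit 2011)])) (.leaf .df))))) (.node (.node (.node (.node (.leaf .df) (.leaf (.cyc (nat_lit 50) [(nat_lit 2458), (nat_lit 6733), (nat_lit 6686), (nat_lit 6733), (nat_lit 2458)]))) (.node (.leaf (.cyc (nat_lit 52) [(nat_lit 1077), (nat_lit 1078), (nat_lit 4723), (nat_lit 957), (nat_lit 954)])) (.leaf .df))) (.node (.node (.leaf .df) (.leaf .df)) (.node (.leaf (.cyc (nat_lit 21) [(nat_lit 1869), (nat_lit 4762), (nat_lit 4516), (nat_lit 4762), (nat_lit 1869)])) (.leaf .df)))) (.node (.node (.node (.leaf .df) (.leaf (.cyc (nat_lit 19) [(nat_lit 2712), (nat_lit 9131), (nat_lit 7378), (nat_lit 9165), (nat_lit 2714)]))) (.node (.leaf (.cyc (nat_lit 25) [(nat_lit 858), (nat_lit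 856), (nat_lit 4853), (nat_lit 4855), (nat_lit 1525)])) (.leaf .df))) (.node (.node (.leaf (.cyc (nat_lit 125) [(nat_lit 566), (nat_lit 3508), (nat_lit 469), (nat_lit 210), (nat_lit 3666), (nat_lit 3044), (nat_lit 235), (nat_lit 514), (nat_lit 3595), (nat_lit 514), (nat_lit 235), (nat_lit 3044), (nat_lit 3666), (nat_lit 210), (nat_lit 469), (nat_lit 3508), (nat_lit 566)])) (.leaf .df)) (.node (.leaf (.cyc (nat_lit 18) [(nat_lit 2184), (nat_lit 1421), (nat_lit 3986), (nat_lit 1421), (nat_lit 2184)])) (.leaf .df)))))) (.node (.node (.node (.node (.node (.leaf .df) (.leaf (.cyc (nat_lit 75) [(nat_lit 2389), (nat_lit 2391), (nat_lit 8563), (nat_lit 2391), (nat_lit 2389)]))) (.node (.leaf (.cyc (nat_lit 137) [(nat_lit 4465), (nat_lit 4466), (nat_lit 4116), (nat_lit 4466), (nat_lit 4465)])) (.leaf .df))) (.node (.node (.leaf .df) (.leaf .df)) (.node (.leaf (.cyc (nat_lit 50) [(nat_lit 6515), (nat_lit 1778), (nat_lit 1023), (nat_lit 1024), (nat_lit 1779)])) (.leaf .df)))) (.node (.node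 (.node (.leaf .df) (.leaf (.cyc (nat_lit 45) [(nat_lit 2507), (nat_lit 1956), (nat_lit 7044), (nat_lit 8348), (nat_lit 2654)]))) (.node (.leaf (.cyc (nat_lit 15) [(nat_lit 5489), (nat_lit 5488), (nat_lit 5489)])) (.leaf .df))) (.node (.node (.leaf (.cyc (nat_lit 23) [(nat_lit 398), (nat_lit 397), (nat_lit 3443)])) (.leaf .df)) (.node (.leaf (.cyc (nat_lit 56) [(nat_lit 7361), (nat_lit 5335), (nat_lit 6239), (nat_lit 6238), (nat_lit 2112)])) (.leaf .df))))) (.node (.node (.node (.node (.leaf .df) (.leaf (.cyc (nat_lit 50) [(nat_lit 2525), (nat_lit 7236), (nat_lit 6339), (nat_lit 7236), (nat_lit 2525)]))) (.node (.leaf (.cyc (nat_lit 18) [(nat_lit 1205), (nat_lit 638), (nat_lit 639), (nat_lit 1207), (nat_lit 4979)])) (.leaf .df))) (.node (.node (.leaf (.cyc (nat_lit 48) [(nat_lit 120), (nat_lit 2853), (nat_lit 120)])) (.leaf .df)) (.node (.leaf (.cyc (nat_lit 164) [(nat_lit 1781), (nat_lit 4589), (nat_lit 4590), (nat_lit 1026), (nat_lit 536), (nat_lit 249), (nat_lit 3118), (nat_lit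 3121), (nat_lit 3668), (nat_lit 3175), (nat_lit 260), (nat_lit 556), (nat_lit 1053), (nat_lit 4659), (nat_lit 4674), (nat_lit 1176), (nat_lit 1950)])) (.leaf .df)))) (.node (.node (.node (.leaf .df) (.leaf .df)) (.node (.leaf (.cyc (nat_lit 50) [(nat_lit 1605), (nat_lit 883), (nat_lit 3467), (nat_lit 883), (nat_lit 1605)])) (.leaf .df))) (.node (.node (.leaf (.cyc (nat_lit 7) [(nat_lit 3955), (nat_lit 3415), (nat_lit 443)])) (.leaf .df)) (.node (.leaf (.cyc (nat_lit 21) [(nat_lit 2257), (nat_lit 6205), (nat_lit 6207), (nat_lit 6205), (nat_lit 2257)])) (.leaf .df))))))) (.node (.node (.node (.node (.node (.node (.leaf .df) (.leaf (.cyc (nat_lit 35) [(nat_lit 1964), (nat_lit 6233), (nat_lit 1685), (nat_lit 1686), (nat_lit 2357)]))) (.node (.leaf (.cyc (nat_lit 16) [(nat_lit 921), (nat_lit 469), (nat_lit 3413), (nat_lit 469), (nat_lit 921)])) (.leaf .df))) (.node (.node (.leaf .df) (.leaf .df)) (.node (.leaf (.cyc (nat_lit 46) [(nat_lit 6134), (nat_lit 5906), (nat_lit 1741)])) (.leaf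 .df)))) (.node (.node (.node (.leaf .df) (.leaf (.cyc (nat_lit 76) [(nat_lit 9459), (nat_lit 9456), (nat_lit 8614), (nat_lit 7651), (nat_lit 2587)]))) (.node (.leaf (.cyc (nat_lit 24) [(nat_lit 1245), (nat_lit 4616), (nat_lit 3900), (nat_lit 724), (nat_lit 1364)])) (.leaf .df))) (.node (.node (.leaf (.cyc (nat_lit 58) [(nat_lit 368), (nat_lit 3306), (nat_lit 358), (nat_lit 149), (nat_lit 148), (nat_lit 2963), (nat_lit 148), (nat_lit 149), (nat_lit 358), (nat_lit 3306), (nat_lit 368)])) (.leaf .df)) (.node (.leaf (.cyc (nat_lit 35) [(nat_lit 6125), (nat_lit 6457), (nat_lit 6458), (nat_lit 6416), (nat_lit 2076)])) (.leaf .df))))) (.node (.node (.node (.node (.leaf .df) (.leaf (.cyc (nat_lit 44) [(nat_lit 2491), (nat_lit 1912), (nat_lit 4847), (nat_lit 1912), (nat_lit 2491)]))) (.node (.leaf (.cyc (nat_lit 115) [(nat_lit 1135), (nat_lit 1134), (nat_lit 4851), (nat_lit 1134), (nat_lit 1135)])) (.leaf .df))) (.node (.node (.leaf (.cyc (nat_lit 14) [(nat_lit 2775), (nat_lit 4), (nat_lit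 2764), (nat_lit 4), (nat_lit 2775)])) (.leaf .df)) (.node (.leaf (.cyc (nat_lit 18) [(nat_lit 6182), (nat_lit 6493), (nat_lit 1147), (nat_lit 4859), (nat_lit 1915)])) (.leaf .df)))) (.node (.node (.node (.leaf .df) (.leaf (.cyc (nat_lit 53) [(nat_lit 2740), (nat_lit 2674), (nat_lit 8715), (nat_lit 2674), (nat_lit 2740)]))) (.node (.leaf (.cyc (nat_lit 31) [(nat_lit 1564), (nat_lit 5762), (nat_lit 5761), (nat_lit 5762), (nat_lit 1564)])) (.leaf .df))) (.node (.node (.leaf (.cyc (nat_lit 46) [(nat_lit 653), (nat_lit 3567), (nat_lit 653)])) (.leaf .df)) (.node (.leaf (.cyc (nat_lit 48) [(nat_lit 5726), (nat_lit 5738), (nat_lit 2217)])) (.leaf .df)))))) (.node (.node (.node (.node (.node (.leaf .df) (.leaf (.cyc (nat_lit 50) [(nat_lit 1811), (nat_lit 1056), (nat_lit 4653), (nat_lit 1808), (nat_lit 2423)]))) (.node (.leaf (.cyc (nat_lit 121) [(nat_lit 4595), (nat_lit 570), (nat_lit 267), (nat_lit 265), (nat_lit 566)])) (.leaf .df))) (.node (.node (.leaf .df) (.leaf .df)) (.node (.leaf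 (.cyc (nat_lit 35) [(nat_lit 1823), (nat_lit 6638), (nat_lit 6641), (nat_lit 6638), (nat_lit 1823)])) (.leaf .df)))) (.node (.node (.node (.leaf .df) (.leaf (.cyc (nat_lit 15) [(nat_lit 2684), (nat_lit 8852), (nat_lit 2684)]))) (.node (.leaf (.cyc (nat_lit 112) [(nat_lit 5245), (nat_lit 5619)])) (.leaf .df))) (.node (.node (.leaf (.cyc (nat_lit 63) [(nat_lit 502), (nat_lit 3334), (nat_lit 3421), (nat_lit 3334), (nat_lit 502)])) (.leaf .df)) (.node (.leaf (.cyc (nat_lit 19) [(nat_lit 2074), (nat_lit 2072), (nat_lit 7402), (nat_lit 6889), (nat_lit 7666)])) (.leaf .df))))) (.node (.node (.node (.node (.leaf .df) (.leaf (.cyc (nat_lit 165) [(nat_lit 2557), (nat_lit 8341), (nat_lit 8345), (nat_lit 8344), (nat_lit 8342), (nat_lit 2340), (nat_lit 8368), (nat_lit 6254), (nat_lit 5359), (nat_lit 2133), (nat_lit 8582), (nat_lit 8583), (nat_lit 2253), (nat_lit 6401), (nat_lit 6404), (nat_lit 6403), (nat_lit 2255)]))) (.node (.leaf (.cyc (nat_lit 47) [(nat_lit 1259), (nat_lit 1258), (nat_lit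 5107), (nat_lit 1258), (nat_lit 1259)])) (.leaf .df))) (.node (.node (.leaf (.cyc (nat_lit 24) [(nat_lit 192), (nat_lit 75), (nat_lit 2788), (nat_lit 75), (nat_lit 192)])) (.leaf .df)) (.node (.leaf (.cyc (nat_lit 30) [(nat_lit 1988), (nat_lit 1200), (nat_lit 3814), (nat_lit 1200), (nat_lit 1988)])) (.leaf .df)))) (.node (.node (.node (.leaf .df) (.leaf .df)) (.node (.leaf (.cyc (nat_lit 62) [(nat_lit 1647), (nat_lit 908), (nat_lit 3481), (nat_lit 908), (nat_lit 1647)])) (.leaf .df))) (.node (.node (.leaf (.cyc (nat_lit 20) [(nat_lit 386), (nat_lit 3343), (nat_lit 4042)])) (.leaf .df)) (.node (.leaf (.cyc (nat_lit 23) [(nat_lit 1585), (nat_lit 1583), (nat_lit 2293)])) (.leaf .df))))))))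
noncomputable def u5P001011 : BT Pf := .node u5P0010110 u5P0010111
noncomputable def u5P00101 : BT Pf := .node u5P001010 u5P001011
noncomputable def u5P0010 : BT Pf := .node u5P00100 u5P00101
noncomputable def u5P0011000 : BT Pf := (.node (.node (.node (.node (.node (.node (.node (.leaf .df) (.leaf (.cyc (nat_lit 18) [(nat_lit 2298), (nat_lit 2297), (nat_lit 8201), (nat_lit 2297), (nat_lit 2298)]))) (.node (.leaf (.cyc (nat_lit 75) [(nat_lit 3736), (nat_lit 603), (nat_lit 4107), (nat_lit 794), (nat_lit 3639)])) (.leaf .df))) (.node (.node (.leaf .df) (.leaf .df)) (.node (.leaf (.cyc (nat_lit 49) [(nat_lit 4445), (nat_lit 4326), (nat_lit 1657)])) (.leaf .df)))) (.node (.node (.node (.leaf .df) (.leaf (.cyc (nat_lit 50) [(nat_lit 7540), (nat_lit 7521), (nat_lit 7519), (nat_lit 2107), (nat_lit 2566)]))) (.node (.leaf (.cyc (nat_lit 27) [(nat_lit 676), (nat_lit 675), (nat_lit 1272)])) (.leaf .df))) (.node (.node (.leaf (.cyc (nat_lit 15) [(nat_lit 114), (nat_lit 2882), (nat_lit 205)]))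 (.leaf .df)) (.node (.leaf (.cyc (nat_lit 41) [(nat_lit 1996), (nat_lit 5004), (nat_lit 1996)])) (.leaf .df))))) (.node (.node (.node (.node (.leaf .df) (.leaf (.cyc (nat_lit 105) [(nat_lit 8714), (nat_lit 8472), (nat_lit 2399)]))) (.node (.leaf (.cyc (nat_lit 25) [(nat_lit 801), (nat_lit 799), (nat_lit 4126), (nat_lit 4360), (nat_lit 1036)])) (.leaf .df))) (.node (.node (.leaf .df) (.leaf .df)) (.node (.leaf (.cyc (nat_lit 96) [(nat_lit 6665), (nat_lit 5838), (nat_lit 4132), (nat_lit 5838), (nat_lit 6665)])) (.leaf .df)))) (.node (.node (.node (.leaf .df) (.leaf (.cyc (nat_lit 49) [(nat_lit 2621), (nat_lit 2622), (nat_lit 9739)]))) (.node (.leaf (.cyc (nat_lit 27) [(nat_lit 5633), (nat_lit 5607), (nat_lit 1485)])) (.leaf .df))) (.node (.node (.leaf (.cyc (nat_lit 41) [(nat_lit 517), (nat_lit 3141), (nat_lit 517)])) (.leaf .df)) (.node (.leaf (.cyc (nat_lit 47) [(nat_lit 2154), (nat_lit 1388), (nat_lit 3938), (nat_lit 1388), (nat_lit 2154)])) (.leaf .df)))))) (.node (.node (.node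 (.node (.node (.leaf .df) (.leaf (.cyc (nat_lit 58) [(nat_lit 6672), (nat_lit 1832), (nat_lit 1071), (nat_lit 3698), (nat_lit 3288), (nat_lit 338), (nat_lit 339), (nat_lit 723), (nat_lit 1360), (nat_lit 6253), (nat_lit 2362)]))) (.node (.leaf (.cyc (nat_lit 10) [(nat_lit 4360), (nat_lit 4136), (nat_lit 4179)])) (.leaf .df))) (.node (.node (.leaf .df) (.leaf .df)) (.node (.leaf (.cyc (nat_lit 23) [(nat_lit 6411), (nat_lit 1746), (nat_lit 1747)])) (.leaf .df)))) (.node (.node (.node (.leaf .df) (.leaf (.cyc (nat_lit 61) [(nat_lit 2632), (nat_lit 8120), (nat_lit 2277), (nat_lit 1545), (nat_lit 5651), (nat_lit 5648), (nat_lit 4481), (nat_lit 4480), (nat_lit 1738), (nat_lit 2382), (nat_lit 8528)]))) (.node (.leaf (.cyc (nat_lit 88) [(nat_lit 1373), (nat_lit 1374), (nat_lit 5387), (nat_lit 1374), (nat_lit 1373)])) (.leaf .df))) (.node (.node (.leaf (.cyc (nat_lit 49) [(nat_lit 196), (nat_lit 2969), (nat_lit 380)])) (.leaf .df)) (.node (.leaf (.cyc (nat_lit 63) [(nat_lit 1770), (nat_lit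 1015), (nat_lit 4542), (nat_lit 5177), (nat_lit 2082)])) (.leaf .df))))) (.node (.node (.node (.node (.leaf .df) (.leaf (.cyc (nat_lit 35) [(nat_lit 8849), (nat_lit 8208), (nat_lit 7994), (nat_lit 7996), (nat_lit 2497)]))) (.node (.leaf (.cyc (nat_lit 30) [(nat_lit 1080), (nat_lit 568), (nat_lit 3690), (nat_lit 4501), (nat_lit 1151)])) (.leaf .df))) (.node (.node (.leaf (.cyc (nat_lit 34) [(nat_lit 38), (nat_lit 23), (nat_lit 2793), (nat_lit 23), (nat_lit 38)])) (.leaf .df)) (.node (.leaf (.cyc (nat_lit 107) [(nat_lit 1923), (nat_lit 1153), (nat_lit 3757), (nat_lit 285), (nat_lit 121), (nat_lit 2873), (nat_lit 185), (nat_lit 426), (nat_lit 4204), (nat_lit 1562), (nat_lit 5872)])) (.leaf .df)))) (.node (.node (.node (.leaf .df) (.leaf (.cyc (nat_lit 16) [(nat_lit 2745), (nat_lit 9810), (nat_lit 9676), (nat_lit 9810), (nat_lit 2745)]))) (.node (.leaf (.cyc (nat_lit 27) [(nat_lit 855), (nat_lit 854), (nat_lit 1570)])) (.leaf .df))) (.node (.node (.leaf (.cyc (nat_lit 18) [(nat_lit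 667), (nat_lit 3697), (nat_lit 3701), (nat_lit 3697), (nat_lit 667)])) (.leaf .df)) (.node (.leaf (.cyc (nat_lit 107) [(nat_lit 7946), (nat_lit 1770), (nat_lit 5575), (nat_lit 7446), (nat_lit 2086), (nat_lit 1300), (nat_lit 4229), (nat_lit 689), (nat_lit 691), (nat_lit 1304), (nat_lit 6409)])) (.leaf .df))))))) (.node (.node (.node (.node (.node (.node (.leaf .df) (.leaf (.cyc (nat_lit 27) [(nat_lit 2086), (nat_lit 6137), (nat_lit 2333)]))) (.node (.leaf (.cyc (nat_lit 20) [(nat_lit 751), (nat_lit 3459), (nat_lit 872)])) (.leaf .df))) (.node (.node (.leaf .df) (.leaf .df)) (.node (.leaf (.cyc (nat_lit 100) [(nat_lit 6283), (nat_lit 1702), (nat_lit 5199), (nat_lit 5062), (nat_lit 1387)])) (.leaf .df)))) (.node (.node (.node (.leaf .df) (.leaf (.cyc (nat_lit 18) [(nat_lit 2599), (nat_lit 8860), (nat_lit 9077), (nat_lit 8860), (nat_lit 2599)]))) (.node (.leaf (.cyc (nat_lit 88) [(nat_lit 1328), (nat_lit 1329), (nat_lit 5258), (nat_lit 1329), (nat_lit 1328)])) (.leaf .df))) (.node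 (.node (.leaf (.cyc (nat_lit 64) [(nat_lit 3145), (nat_lit 3130), (nat_lit 232), (nat_lit 3052), (nat_lit 3054), (nat_lit 190), (nat_lit 3040), (nat_lit 121), (nat_lit 122), (nat_lit 286), (nat_lit 3210)])) (.leaf .df)) (.node (.leaf (.cyc (nat_lit 26) [(nat_lit 2034), (nat_lit 5546), (nat_lit 5548), (nat_lit 5546), (nat_lit 2034)])) (.leaf .df))))) (.node (.node (.node (.node (.leaf .df) (.leaf (.cyc (nat_lit 27) [(nat_lit 8843), (nat_lit 2465), (nat_lit 2466)]))) (.node (.leaf (.cyc (nat_lit 37) [(nat_lit 1096), (nat_lit 578), (nat_lit 3189), (nat_lit 578), (nat_lit 1096)])) (.leaf .df))) (.node (.node (.leaf .df) (.leaf .df)) (.node (.leaf (.cyc (nat_lit 62) [(nat_lit 1727), (nat_lit 970), (nat_lit 969), (nat_lit 4802), (nat_lit 1879)])) (.leaf .df)))) (.node (.node (.node (.leaf .df) (.leaf (.cyc (nat_lit 16) [(nat_lit 2719), (nat_lit 2561), (nat_lit 7462), (nat_lit 2561), (nat_lit 2719)]))) (.node (.leaf (.cyc (nat_lit 6) [(nat_lit 1530), (nat_lit 824), (nat_lit 3376), (nat_lit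 824), (nat_lit 1530)])) (.leaf .df))) (.node (.node (.leaf (.cyc (nat_lit 21) [(nat_lit 507), (nat_lit 3188), (nat_lit 3187), (nat_lit 271), (nat_lit 582)])) (.leaf .df)) (.node (.leaf (.cyc (nat_lit 108) [(nat_lit 2133), (nat_lit 5359), (nat_lit 6253), (nat_lit 6251), (nat_lit 1356), (nat_lit 5338), (nat_lit 7193), (nat_lit 7192), (nat_lit 5135), (nat_lit 1427), (nat_lit 2190)])) (.leaf .df)))))) (.node (.node (.node (.node (.node (.leaf .df) (.leaf (.cyc (nat_lit 25) [(nat_lit 8163), (nat_lit 8295), (nat_lit 8299), (nat_lit 7992), (nat_lit 2398)]))) (.node (.leaf (.cyc (nat_lit 27) [(nat_lit 4488), (nat_lit 4484), (nat_lit 984)])) (.leaf .df))) (.node (.node (.leaf .df) (.leaf .df)) (.node (.leaf (.cyc (nat_lit 27) [(nat_lit 1032), (nat_lit 1031), (nat_lit 1787)])) (.leaf .df)))) (.node (.node (.node (.leaf .df) (.leaf (.cyc (nat_lit 45) [(nat_lit 2660), (nat_lit 8465), (nat_lit 7422), (nat_lit 8465), (nat_lit 2660)]))) (.node (.leaf (.cyc (nat_lit 16) [(nat_lit 1442), (nat_lit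 772), (nat_lit 3451), (nat_lit 772), (nat_lit 1442)])) (.leaf .df))) (.node (.node (.leaf (.cyc (nat_lit 35) [(nat_lit 448), (nat_lit 3320), (nat_lit 3321), (nat_lit 3320), (nat_lit 448)])) (.leaf .df)) (.node (.leaf (.cyc (nat_lit 21) [(nat_lit 6231), (nat_lit 1690), (nat_lit 6245), (nat_lit 5302), (nat_lit 2119)])) (.leaf .df))))) (.node (.node (.node (.node (.leaf .df) (.leaf (.cyc (nat_lit 18) [(nat_lit 2531), (nat_lit 7272), (nat_lit 5819), (nat_lit 7272), (nat_lit 2531)]))) (.node (.leaf (.cyc (nat_lit 31) [(nat_lit 1213), (nat_lit 4969), (nat_lit 4970), (nat_lit 4969), (nat_lit 1213)])) (.leaf .df))) (.node (.node (.leaf (.cyc (nat_lit 23) [(nat_lit 130), (nat_lit 2862), (nat_lit 145)])) (.leaf .df)) (.node (.leaf (.cyc (nat_lit 47) [(nat_lit 1958), (nat_lit 1182), (nat_lit 3791), (nat_lit 1182), (nat_lit 1958)])) (.leaf .df)))) (.node (.node (.node (.leaf .df) (.leaf .df)) (.node (.leaf (.cyc (nat_lit 56) [(nat_lit 1612), (nat_lit 6022), (nat_lit 6023), (nat_lit 6022),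 (nat_lit 1612)])) (.leaf .df))) (.node (.node (.leaf (.cyc (nat_lit 45) [(nat_lit 757), (nat_lit 3783), (nat_lit 3780), (nat_lit 3783), (nat_lit 757)])) (.leaf .df)) (.node (.leaf (.cyc (nat_lit 145) [(nat_lit 2036), (nat_lit 5787), (nat_lit 7193), (nat_lit 7189), (nat_lit 1755), (nat_lit 6363), (nat_lit 5876), (nat_lit 1564), (nat_lit 5762), (nat_lit 5769), (nat_lit 2264)])) (.leaf .df))))))))
noncomputable def u5P0011001 : BT Pf := (.node (.node (.node (.node (.node (.node (.node (.leaf .df) (.leaf (.cyc (nat_lit 15) [(nat_lit 6509), (nat_lit 6214), (nat_lit 2318)]))) (.node (.leaf (.cyc (nat_lit 45) [(nat_lit 819), (nat_lit 403), (nat_lit 3026), (nat_lit 411), (nat_lit 838)])) (.leaf .df))) (.node (.node (.leaf .df) (.leaf .df)) (.node (.leaf (.cyc (nat_lit 48) [(nat_lit 5672), (nat_lit 5284), (nat_lit 1682)])) (.leaf .df)))) (.node (.node (.node (.leaf .df) (.leaf (.cyc (nat_lit 49) [(nat_lit 8093), (nat_lit 7990), (nat_lit 2580)]))) (.node (.leaf (.cyc (nat_lit 16) [(nat_lit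 1292), (nat_lit 3879), (nat_lit 690), (nat_lit 1303), (nat_lit 5194)])) (.leaf .df))) (.node (.node (.leaf (.cyc (nat_lit 46) [(nat_lit 243), (nat_lit 2907), (nat_lit 243)])) (.leaf .df)) (.node (.leaf (.cyc (nat_lit 98) [(nat_lit 7241), (nat_lit 7243), (nat_lit 1170), (nat_lit 1169), (nat_lit 1944)])) (.leaf .df))))) (.node (.node (.node (.node (.leaf .df) (.leaf (.cyc (nat_lit 20) [(nat_lit 2448), (nat_lit 6686), (nat_lit 2448)]))) (.node (.leaf (.cyc (nat_lit 52) [(nat_lit 1057), (nat_lit 1059), (nat_lit 4683), (nat_lit 943), (nat_lit 940)])) (.leaf .df))) (.node (.node (.leaf .df) (.leaf .df)) (.node (.leaf (.cyc (nat_lit 53) [(nat_lit 1856), (nat_lit 6002), (nat_lit 6012), (nat_lit 6002), (nat_lit 1856)])) (.leaf .df)))) (.node (.node (.node (.leaf .df) (.leaf (.cyc (nat_lit 27) [(nat_lit 2705), (nat_lit 9122), (nat_lit 2705)]))) (.node (.leaf (.cyc (nat_lit 18) [(nat_lit 1508), (nat_lit 5070), (nat_lit 5072), (nat_lit 5070), (nat_lit 1508)])) (.leaf .df))) (.node (.node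 (.leaf (.cyc (nat_lit 73) [(nat_lit 550), (nat_lit 3651), (nat_lit 2997)])) (.leaf .df)) (.node (.leaf (.cyc (nat_lit 86) [(nat_lit 7755), (nat_lit 1989), (nat_lit 1986)])) (.leaf .df)))))) (.node (.node (.node (.node (.node (.leaf .df) (.leaf (.cyc (nat_lit 49) [(nat_lit 2246), (nat_lit 6384), (nat_lit 2381)]))) (.node (.leaf (.cyc (nat_lit 31) [(nat_lit 493), (nat_lit 224), (nat_lit 222), (nat_lit 489), (nat_lit 950)])) (.leaf .df))) (.node (.node (.leaf .df) (.leaf .df)) (.node (.leaf (.cyc (nat_lit 72) [(nat_lit 1439), (nat_lit 6475), (nat_lit 1128)])) (.leaf .df)))) (.node (.node (.node (.leaf .df) (.leaf (.cyc (nat_lit 69) [(nat_lit 2596), (nat_lit 2175), (nat_lit 5459), (nat_lit 5458), (nat_lit 3966), (nat_lit 4273), (nat_lit 4274), (nat_lit 6041), (nat_lit 2310), (nat_lit 2645), (nat_lit 9546)]))) (.node (.leaf (.cyc (nat_lit 44) [(nat_lit 5446), (nat_lit 3955), (nat_lit 3416), (nat_lit 751), (nat_lit 1411)])) (.leaf .df))) (.node (.node (.leaf (.cyc (nat_lit 15) [(nat_lit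 189), (nat_lit 3047), (nat_lit 434)])) (.leaf .df)) (.node (.leaf (.cyc (nat_lit 23) [(nat_lit 7494), (nat_lit 7493), (nat_lit 7498)])) (.leaf .df))))) (.node (.node (.node (.node (.leaf .df) (.leaf (.cyc (nat_lit 16) [(nat_lit 7217), (nat_lit 7162), (nat_lit 7115), (nat_lit 1981), (nat_lit 2514)]))) (.node (.leaf (.cyc (nat_lit 35) [(nat_lit 1115), (nat_lit 4360), (nat_lit 1035), (nat_lit 4619), (nat_lit 1179)])) (.leaf .df))) (.node (.node (.leaf (.cyc (nat_lit 28) [(nat_lit 36), (nat_lit 5), (nat_lit 4), (nat_lit 35), (nat_lit 89)])) (.leaf .df)) (.node (.leaf (.cyc (nat_lit 37) [(nat_lit 1197), (nat_lit 634), (nat_lit 3763), (nat_lit 1162), (nat_lit 1938)])) (.leaf .df)))) (.node (.node (.node (.leaf .df) (.leaf .df)) (.node (.leaf (.cyc (nat_lit 66) [(nat_lit 5961), (nat_lit 4709), (nat_lit 4386), (nat_lit 4427), (nat_lit 5613)])) (.leaf .df))) (.node (.node (.leaf (.cyc (nat_lit 15) [(nat_lit 347), (nat_lit 3268), (nat_lit 721)])) (.leaf .df)) (.node (.leaf (.cyc (nat_lit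 97) [(nat_lit 8010), (nat_lit 7836), (nat_lit 1602), (nat_lit 4252), (nat_lit 4067), (nat_lit 3142), (nat_lit 519), (nat_lit 996), (nat_lit 4532), (nat_lit 5647), (nat_lit 2243)])) (.leaf .df))))))) (.node (.node (.node (.node (.node (.node (.leaf .df) (.leaf (.cyc (nat_lit 15) [(nat_lit 2348), (nat_lit 6178), (nat_lit 2348)]))) (.node (.leaf (.cyc (nat_lit 30) [(nat_lit 900), (nat_lit 454), (nat_lit 3081), (nat_lit 454), (nat_lit 900)])) (.leaf .df))) (.node (.node (.leaf .df) (.leaf .df)) (.node (.leaf (.cyc (nat_lit 27) [(nat_lit 974), (nat_lit 973), (nat_lit 1729)])) (.leaf .df)))) (.node (.node (.node (.leaf .df) (.leaf (.cyc (nat_lit 28) [(nat_lit 2616), (nat_lit 2237), (nat_lit 5612), (nat_lit 2237), (nat_lit 2616)]))) (.node (.leaf (.cyc (nat_lit 26) [(nat_lit 1022), (nat_lit 4262), (nat_lit 5320), (nat_lit 1346), (nat_lit 1347)])) (.leaf .df))) (.node (.node (.leaf (.cyc (nat_lit 63) [(nat_lit 3199), (nat_lit 278), (nat_lit 2926), (nat_lit 143), (nat_lit 346)])) (.leaf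 .df)) (.node (.leaf (.cyc (nat_lit 48) [(nat_lit 1283), (nat_lit 5148), (nat_lit 2061)])) (.leaf .df))))) (.node (.node (.node (.node (.leaf .df) (.leaf (.cyc (nat_lit 47) [(nat_lit 2482), (nat_lit 1881), (nat_lit 4806), (nat_lit 1881), (nat_lit 2482)]))) (.node (.leaf (.cyc (nat_lit 114) [(nat_lit 1098), (nat_lit 4811)])) (.leaf .df))) (.node (.node (.leaf (.pin (nat_lit 15) [] [])) (.leaf .df)) (.node (.leaf (.cyc (nat_lit 30) [(nat_lit 1903), (nat_lit 6008), (nat_lit 6006), (nat_lit 6008), (nat_lit 1903)])) (.leaf .df)))) (.node (.node (.node (.leaf .df) (.leaf (.cyc (nat_lit 53) [(nat_lit 2732), (nat_lit 2612), (nat_lit 7977), (nat_lit 2612), (nat_lit 2732)]))) (.node (.leaf (.cyc (nat_lit 97) [(nat_lit 4712), (nat_lit 3702), (nat_lit 3705), (nat_lit 567), (nat_lit 568), (nat_lit 1080), (nat_lit 5813), (nat_lit 1540), (nat_lit 4661), (nat_lit 1066), (nat_lit 5835)])) (.leaf .df))) (.node (.node (.leaf (.cyc (nat_lit 15) [(nat_lit 625), (nat_lit 3221), (nat_lit 625)])) (.leaf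 .df)) (.node (.leaf (.cyc (nat_lit 35) [(nat_lit 2208), (nat_lit 1448), (nat_lit 4010), (nat_lit 1448), (nat_lit 2208)])) (.leaf .df)))))) (.node (.node (.node (.node (.node (.leaf .df) (.leaf (.cyc (nat_lit 16) [(nat_lit 2414), (nat_lit 6531), (nat_lit 6430), (nat_lit 6531), (nat_lit 2414)]))) (.node (.leaf (.cyc (nat_lit 4) [(nat_lit 4555), (nat_lit 4458), (nat_lit 4459), (nat_lit 807), (nat_lit 4130)])) (.leaf .df))) (.node (.node (.leaf .df) (.leaf .df)) (.node (.leaf (.cyc (nat_lit 20) [(nat_lit 1558), (nat_lit 1557), (nat_lit 6603)])) (.leaf .df)))) (.node (.node (.node (.leaf .df) (.leaf (.cyc (nat_lit 37) [(nat_lit 2675), (nat_lit 9435), (nat_lit 9436), (nat_lit 9435), (nat_lit 2675)]))) (.node (.leaf (.cyc (nat_lit 1) [(nat_lit 5578), (nat_lit 1297), (nat_lit 1298)])) (.leaf .df))) (.node (.node (.leaf (.cyc (nat_lit 18) [(nat_lit 484), (nat_lit 3114), (nat_lit 3016), (nat_lit 3114), (nat_lit 484)])) (.leaf .df)) (.node (.leaf (.cyc (nat_lit 19) [(nat_lit 2136), (nat_lit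 5889), (nat_lit 5832), (nat_lit 5889), (nat_lit 2136)])) (.leaf .df))))) (.node (.node (.node (.node (.leaf .df) (.leaf (.cyc (nat_lit 37) [(nat_lit 2547), (nat_lit 7686), (nat_lit 7687), (nat_lit 7686), (nat_lit 2547)]))) (.node (.leaf (.cyc (nat_lit 86) [(nat_lit 5067), (nat_lit 782), (nat_lit 780)])) (.leaf .df))) (.node (.node (.leaf (.cyc (nat_lit 45) [(nat_lit 174), (nat_lit 69), (nat_lit 2778), (nat_lit 69), (nat_lit 174)])) (.leaf .df)) (.node (.leaf (.cyc (nat_lit 97) [(nat_lit 7115), (nat_lit 6529), (nat_lit 1443), (nat_lit 772), (nat_lit 4080), (nat_lit 365), (nat_lit 363), (nat_lit 3454), (nat_lit 768), (nat_lit 1434), (nat_lit 5507)])) (.leaf .df)))) (.node (.node (.node (.leaf .df) (.leaf .df)) (.node (.leaf (.cyc (nat_lit 46) [(nat_lit 923), (nat_lit 4303), (nat_lit 1633)])) (.leaf .df))) (.node (.node (.leaf (.cyc (nat_lit 112) [(nat_lit 3637), (nat_lit 4037), (nat_lit 179)])) (.leaf .df)) (.node (.leaf (.cyc (nat_lit 35) [(nat_lit 7388), (nat_lit 7171), (nat_lit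 1737), (nat_lit 5850), (nat_lit 2282)])) (.leaf .df))))))))
noncomputable def u5P001100 : BT Pf := .node u5P0011000 u5P0011001
noncomputable def u5P0011010 : BT Pf := (.node (.node (.node (.node (.node (.node (.node (.leaf .df) (.leaf (.cyc (nat_lit 24) [(nat_lit 2307), (nat_lit 7964), (nat_lit 7971), (nat_lit 7964), (nat_lit 2307)]))) (.node (.leaf (.cyc (nat_lit 47) [(nat_lit 812), (nat_lit 401), (nat_lit 3008), (nat_lit 401), (nat_lit 812)])) (.leaf .df))) (.node (.node (.leaf .df) (.leaf .df)) (.node (.leaf (.cyc (nat_lit 37) [(nat_lit 1672), (nat_lit 4385), (nat_lit 4182), (nat_lit 4385), (nat_lit 1672)])) (.leaf .df)))) (.node (.node (.node (.leaf .df) (.leaf (.cyc (nat_lit 18) [(nat_lit 2573), (nat_lit 2112), (nat_lit 5274), (nat_lit 2112), (nat_lit 2573)]))) (.node (.leaf (.cyc (nat_lit 23) [(nat_lit 700), (nat_lit 3876), (nat_lit 1289)])) (.leaf .df))) (.node (.node (.leaf (.cyc (nat_lit 30) [(nat_lit 221), (nat_lit 2998), (nat_lit 2876), (nat_lit 2998), (nat_lit 221)]))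 (.leaf .df)) (.node (.leaf (.cyc (nat_lit 8) [(nat_lit 7211), (nat_lit 1920), (nat_lit 1148), (nat_lit 1149), (nat_lit 1921)])) (.leaf .df))))) (.node (.node (.node (.node (.leaf .df) (.leaf (.cyc (nat_lit 110) [(nat_lit 8746), (nat_lit 7951), (nat_lit 8746)]))) (.node (.leaf (.cyc (nat_lit 83) [(nat_lit 4334), (nat_lit 3592), (nat_lit 3590), (nat_lit 3136), (nat_lit 2928), (nat_lit 2929), (nat_lit 263), (nat_lit 3183), (nat_lit 3687), (nat_lit 1050), (nat_lit 4650)])) (.leaf .df))) (.node (.node (.leaf .df) (.leaf .df)) (.node (.leaf (.cyc (nat_lit 18) [(nat_lit 1816), (nat_lit 4686), (nat_lit 4453), (nat_lit 4727), (nat_lit 1845)])) (.leaf .df)))) (.node (.node (.node (.leaf .df) (.leaf (.cyc (nat_lit 28) [(nat_lit 2696), (nat_lit 9021), (nat_lit 8718), (nat_lit 9021), (nat_lit 2696)]))) (.node (.leaf (.cyc (nat_lit 21) [(nat_lit 1496), (nat_lit 1494), (nat_lit 5673), (nat_lit 1494), (nat_lit 1496)])) (.leaf .df))) (.node (.node (.leaf (.cyc (nat_lit 28) [(nat_lit 538), (nat_lit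 251), (nat_lit 2921), (nat_lit 251), (nat_lit 538)])) (.leaf .df)) (.node (.leaf (.cyc (nat_lit 24) [(nat_lit 2162), (nat_lit 5630), (nat_lit 4740), (nat_lit 5630), (nat_lit 2162)])) (.leaf .df)))))) (.node (.node (.node (.node (.node (.leaf .df) (.leaf (.cyc (nat_lit 50) [(nat_lit 2372), (nat_lit 1718), (nat_lit 4454), (nat_lit 1718), (nat_lit 2372)]))) (.node (.leaf (.cyc (nat_lit 76) [(nat_lit 4395), (nat_lit 713), (nat_lit 334), (nat_lit 332), (nat_lit 708)])) (.leaf .df))) (.node (.node (.leaf .df) (.leaf .df)) (.node (.leaf (.cyc (nat_lit 47) [(nat_lit 1761), (nat_lit 4675), (nat_lit 4668), (nat_lit 4675), (nat_lit 1761)])) (.leaf .df)))) (.node (.node (.node (.leaf .df) (.leaf (.cyc (nat_lit 27) [(nat_lit 9009), (nat_lit 8173), (nat_lit 2639)]))) (.node (.leaf (.cyc (nat_lit 31) [(nat_lit 1390), (nat_lit 737), (nat_lit 3295), (nat_lit 737), (nat_lit 1390)])) (.leaf .df))) (.node (.node (.leaf (.cyc (nat_lit 27) [(nat_lit 403), (nat_lit 3009), (nat_lit 403)])) (.leaf .df))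 (.node (.leaf (.cyc (nat_lit 62) [(nat_lit 7393), (nat_lit 6156), (nat_lit 4439), (nat_lit 1309), (nat_lit 2093)])) (.leaf .df))))) (.node (.node (.node (.node (.leaf .df) (.leaf (.cyc (nat_lit 53) [(nat_lit 2504), (nat_lit 7008), (nat_lit 4949), (nat_lit 7008), (nat_lit 2504)]))) (.node (.leaf (.cyc (nat_lit 46) [(nat_lit 884), (nat_lit 3767), (nat_lit 1166)])) (.leaf .df))) (.node (.node (.leaf (.cyc (nat_lit 41) [(nat_lit 53), (nat_lit 15), (nat_lit 57)])) (.leaf .df)) (.node (.leaf (.cyc (nat_lit 18) [(nat_lit 1642), (nat_lit 4309), (nat_lit 1013), (nat_lit 6464), (nat_lit 1931)])) (.leaf .df)))) (.node (.node (.node (.leaf .df) (.leaf .df)) (.node (.leaf (.cyc (nat_lit 5) [(nat_lit 5931), (nat_lit 5360), (nat_lit 1361), (nat_lit 3919), (nat_lit 995)])) (.leaf .df))) (.node (.node (.leaf (.cyc (nat_lit 28) [(nat_lit 472), (nat_lit 212), (nat_lit 2948), (nat_lit 324), (nat_lit 691)])) (.leaf .df)) (.node (.leaf (.cyc (nat_lit 30) [(nat_lit 2232), (nat_lit 2231), (nat_lit 7978),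 (nat_lit 2231), (nat_lit 2232)])) (.leaf .df))))))) (.node (.node (.node (.node (.node (.node (.leaf .df) (.leaf (.cyc (nat_lit 27) [(nat_lit 1899), (nat_lit 6146), (nat_lit 2340)]))) (.node (.leaf (.cyc (nat_lit 15) [(nat_lit 888), (nat_lit 3471), (nat_lit 888)])) (.leaf .df))) (.node (.node (.leaf .df) (.leaf .df)) (.node (.leaf (.cyc (nat_lit 30) [(nat_lit 1714), (nat_lit 4453), (nat_lit 4422), (nat_lit 4453), (nat_lit 1714)])) (.leaf .df)))) (.node (.node (.node (.leaf .df) (.leaf (.cyc (nat_lit 18) [(nat_lit 2607), (nat_lit 7922), (nat_lit 5595), (nat_lit 7922), (nat_lit 2607)]))) (.node (.leaf (.cyc (nat_lit 56) [(nat_lit 1338), (nat_lit 5263), (nat_lit 5264), (nat_lit 5263), (nat_lit 1338)])) (.leaf .df))) (.node (.node (.leaf (.cyc (nat_lit 16) [(nat_lit 311), (nat_lit 3124), (nat_lit 3120), (nat_lit 3124), (nat_lit 311)])) (.leaf .df)) (.node (.leaf (.cyc (nat_lit 62) [(nat_lit 2048), (nat_lit 1268), (nat_lit 3864), (nat_lit 1268), (nat_lit 2048)])) (.leaf .df))))) (.node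 (.node (.node (.node (.leaf .df) (.leaf (.cyc (nat_lit 58) [(nat_lit 2474), (nat_lit 6782), (nat_lit 5465), (nat_lit 4928), (nat_lit 4926), (nat_lit 4932), (nat_lit 4926), (nat_lit 4928), (nat_lit 5465), (nat_lit 6782), (nat_lit 2474)]))) (.node (.leaf (.cyc (nat_lit 62) [(nat_lit 1110), (nat_lit 585), (nat_lit 3193), (nat_lit 585), (nat_lit 1110)])) (.leaf .df))) (.node (.node (.leaf .df) (.leaf .df)) (.node (.leaf (.cyc (nat_lit 24) [(nat_lit 6788), (nat_lit 6786), (nat_lit 1347), (nat_lit 4822), (nat_lit 1889)])) (.leaf .df)))) (.node (.node (.node (.leaf .df) (.leaf (.cyc (nat_lit 41) [(nat_lit 2726), (nat_lit 9314), (nat_lit 2726)]))) (.node (.leaf (.cyc (nat_lit 34) [(nat_lit 1538), (nat_lit 4779), (nat_lit 4780), (nat_lit 4779), (nat_lit 1538)])) (.leaf .df))) (.node (.node (.leaf (.cyc (nat_lit 48) [(nat_lit 612), (nat_lit 3203), (nat_lit 612)])) (.leaf .df)) (.node (.leaf (.cyc (nat_lit 24) [(nat_lit 2198), (nat_lit 7117), (nat_lit 7119), (nat_lit 7117), (nat_lit 2198)]))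 (.leaf .df)))))) (.node (.node (.node (.node (.node (.leaf .df) (.leaf (.cyc (nat_lit 53) [(nat_lit 7608), (nat_lit 7989), (nat_lit 1775), (nat_lit 1776), (nat_lit 2406)]))) (.node (.leaf (.cyc (nat_lit 46) [(nat_lit 4006), (nat_lit 3919), (nat_lit 994)])) (.leaf .df))) (.node (.node (.leaf .df) (.leaf .df)) (.node (.leaf (.cyc (nat_lit 48) [(nat_lit 1046), (nat_lit 4636), (nat_lit 1799)])) (.leaf .df)))) (.node (.node (.node (.leaf .df) (.leaf (.cyc (nat_lit 46) [(nat_lit 2668), (nat_lit 8568), (nat_lit 2668)]))) (.node (.leaf (.cyc (nat_lit 50) [(nat_lit 1457), (nat_lit 782), (nat_lit 4078), (nat_lit 782), (nat_lit 1457)])) (.leaf .df))) (.node (.node (.leaf (.cyc (nat_lit 28) [(nat_lit 465), (nat_lit 3086), (nat_lit 3000), (nat_lit 3086), (nat_lit 465)])) (.leaf .df)) (.node (.leaf (.cyc (nat_lit 28) [(nat_lit 2126), (nat_lit 1350), (nat_lit 3913), (nat_lit 1350), (nat_lit 2126)])) (.leaf .df))))) (.node (.node (.node (.node (.leaf .df) (.leaf (.cyc (nat_lit 37) [(nat_lit 2540),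 (nat_lit 2045), (nat_lit 5116), (nat_lit 2045), (nat_lit 2540)]))) (.node (.leaf (.cyc (nat_lit 34) [(nat_lit 673), (nat_lit 314), (nat_lit 3229), (nat_lit 650), (nat_lit 1232)])) (.leaf .df))) (.node (.node (.leaf (.cyc (nat_lit 69) [(nat_lit 2987), (nat_lit 165), (nat_lit 66), (nat_lit 2798), (nat_lit 25), (nat_lit 2783), (nat_lit 25), (nat_lit 2798), (nat_lit 66), (nat_lit 165), (nat_lit 2987)])) (.leaf .df)) (.node (.leaf (.cyc (nat_lit 94) [(nat_lit 1794), (nat_lit 1795), (nat_lit 7082), (nat_lit 1795), (nat_lit 1794)])) (.leaf .df)))) (.node (.node (.node (.leaf .df) (.leaf .df)) (.node (.leaf (.cyc (nat_lit 62) [(nat_lit 5007), (nat_lit 758), (nat_lit 3474), (nat_lit 893), (nat_lit 1623)])) (.leaf .df))) (.node (.node (.leaf (.cyc (nat_lit 46) [(nat_lit 3639), (nat_lit 3354), (nat_lit 777)])) (.leaf .df)) (.node (.leaf (.cyc (nat_lit 35) [(nat_lit 1952), (nat_lit 6697), (nat_lit 1843), (nat_lit 5813), (nat_lit 2273)])) (.leaf .df))))))))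
noncomputable def u5P0011011 : BT Pf := (.node (.node (.node (.node (.node (.node (.node (.leaf .df) (.leaf (.cyc (nat_lit 23) [(nat_lit 8294), (nat_lit 2323), (nat_lit 2325)]))) (.node (.leaf (.cyc (nat_lit 45) [(nat_lit 426), (nat_lit 185), (nat_lit 183), (nat_lit 425), (nat_lit 849)])) (.leaf .df))) (.node (.node (.leaf .df) (.leaf .df)) (.node (.leaf (.cyc (nat_lit 31) [(nat_lit 1693), (nat_lit 6248), (nat_lit 6247), (nat_lit 6248), (nat_lit 1693)])) (.leaf .df)))) (.node (.node (.node (.leaf .df) (.leaf (.cyc (nat_lit 28) [(nat_lit 2589), (nat_lit 7659), (nat_lit 7367), (nat_lit 7659), (nat_lit 2589)]))) (.node (.leaf (.cyc (nat_lit 27) [(nat_lit 698), (nat_lit 697), (nat_lit 1312)])) (.leaf .df))) (.node (.node (.leaf (.cyc (nat_lit 27) [(nat_lit 111), (nat_lit 110), (nat_lit 260)])) (.leaf .df)) (.node (.leaf (.cyc (nat_lit 24) [(nat_lit 1486), (nat_lit 1484), (nat_lit 7269), (nat_lit 2025), (nat_lit 2028)])) (.leaf .df))))) (.node (.node (.node (.node (.leaf .df) (.leaf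 (.cyc (nat_lit 49) [(nat_lit 2447), (nat_lit 6733), (nat_lit 2457)]))) (.node (.leaf (.cyc (nat_lit 19) [(nat_lit 1073), (nat_lit 4710), (nat_lit 4711), (nat_lit 4710), (nat_lit 1073)])) (.leaf .df))) (.node (.node (.leaf .df) (.leaf .df)) (.node (.leaf (.cyc (nat_lit 97) [(nat_lit 4985), (nat_lit 5015), (nat_lit 905), (nat_lit 3479), (nat_lit 461), (nat_lit 3491), (nat_lit 4321), (nat_lit 1656), (nat_lit 6154), (nat_lit 4757), (nat_lit 1867)])) (.leaf .df)))) (.node (.node (.node (.leaf .df) (.leaf (.cyc (nat_lit 53) [(nat_lit 2712), (nat_lit 2540), (nat_lit 7330), (nat_lit 2540), (nat_lit 2712)]))) (.node (.leaf (.cyc (nat_lit 14) [(nat_lit 5736), (nat_lit 4556), (nat_lit 804), (nat_lit 4097), (nat_lit 1472)])) (.leaf .df))) (.node (.node (.leaf (.cyc (nat_lit 106) [(nat_lit 557), (nat_lit 558), (nat_lit 3691), (nat_lit 558), (nat_lit 557)])) (.leaf .df)) (.node (.leaf (.cyc (nat_lit 24) [(nat_lit 2181), (nat_lit 5470), (nat_lit 3971), (nat_lit 5470), (nat_lit 2181)])) (.leaf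 .df)))))) (.node (.node (.node (.node (.node (.leaf .df) (.leaf (.cyc (nat_lit 16) [(nat_lit 2370), (nat_lit 1715), (nat_lit 4531), (nat_lit 1754), (nat_lit 2390)]))) (.node (.leaf (.cyc (nat_lit 27) [(nat_lit 966), (nat_lit 3553), (nat_lit 966)])) (.leaf .df))) (.node (.node (.leaf .df) (.leaf .df)) (.node (.leaf (.cyc (nat_lit 27) [(nat_lit 1019), (nat_lit 1018), (nat_lit 1774)])) (.leaf .df)))) (.node (.node (.node (.leaf .df) (.leaf (.cyc (nat_lit 50) [(nat_lit 2652), (nat_lit 2330), (nat_lit 6121), (nat_lit 2330), (nat_lit 2652)]))) (.node (.leaf (.cyc (nat_lit 53) [(nat_lit 765), (nat_lit 360), (nat_lit 359), (nat_lit 763), (nat_lit 1424)])) (.leaf .df))) (.node (.node (.leaf (.cyc (nat_lit 114) [(nat_lit 368), (nat_lit 3433)])) (.leaf .df)) (.node (.leaf (.cyc (nat_lit 64) [(nat_lit 7530), (nat_lit 5929), (nat_lit 1578), (nat_lit 861), (nat_lit 3686), (nat_lit 1049), (nat_lit 1804), (nat_lit 6599), (nat_lit 6539), (nat_lit 6538), (nat_lit 2048)])) (.leaf .df))))) (.node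 (.node (.node (.node (.leaf .df) (.leaf (.cyc (nat_lit 19) [(nat_lit 2523), (nat_lit 7225), (nat_lit 5115), (nat_lit 7225), (nat_lit 2523)]))) (.node (.leaf (.cyc (nat_lit 27) [(nat_lit 669), (nat_lit 3807), (nat_lit 1205)])) (.leaf .df))) (.node (.node (.leaf (.cyc (nat_lit 19) [(nat_lit 61), (nat_lit 59), (nat_lit 2883), (nat_lit 2882), (nat_lit 115)])) (.leaf .df)) (.node (.leaf (.cyc (nat_lit 56) [(nat_lit 6005), (nat_lit 4984), (nat_lit 4279), (nat_lit 1176), (nat_lit 1949)])) (.leaf .df)))) (.node (.node (.node (.leaf .df) (.leaf .df)) (.node (.leaf (.cyc (nat_lit 21) [(nat_lit 1603), (nat_lit 4252), (nat_lit 4068), (nat_lit 4252), (nat_lit 1603)])) (.leaf .df))) (.node (.node (.leaf (.cyc (nat_lit 21) [(nat_lit 466), (nat_lit 3671), (nat_lit 477), (nat_lit 3520), (nat_lit 744)])) (.leaf .df)) (.node (.leaf (.cyc (nat_lit 41) [(nat_lit 7609), (nat_lit 7610), (nat_lit 2254)])) (.leaf .df))))))) (.node (.node (.node (.node (.node (.node (.leaf .df) (.leaf (.cyc (nat_lit 20)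 [(nat_lit 1683), (nat_lit 1682), (nat_lit 2355)]))) (.node (.leaf (.cyc (nat_lit 6) [(nat_lit 916), (nat_lit 3489), (nat_lit 3413), (nat_lit 3489), (nat_lit 916)])) (.leaf .df))) (.node (.node (.leaf .df) (.leaf .df)) (.node (.leaf (.cyc (nat_lit 62) [(nat_lit 1736), (nat_lit 976), (nat_lit 3572), (nat_lit 976), (nat_lit 1736)])) (.leaf .df)))) (.node (.node (.node (.leaf .df) (.leaf (.cyc (nat_lit 37) [(nat_lit 2624), (nat_lit 8185), (nat_lit 8188), (nat_lit 8185), (nat_lit 2624)]))) (.node (.leaf (.cyc (nat_lit 42) [(nat_lit 1359), (nat_lit 722), (nat_lit 3269), (nat_lit 614), (nat_lit 1159), (nat_lit 4890), (nat_lit 1159), (nat_lit 614), (nat_lit 3269), (nat_lit 722), (nat_lit 1359)])) (.leaf .df))) (.node (.node (.leaf (.cyc (nat_lit 28) [(nat_lit 153), (nat_lit 62), (nat_lit 61), (nat_lit 150), (nat_lit 361)])) (.leaf .df)) (.node (.leaf (.cyc (nat_lit 6) [(nat_lit 6514), (nat_lit 1778), (nat_lit 4581), (nat_lit 1289), (nat_lit 2073)])) (.leaf .df))))) (.node (.node (.node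 (.node (.leaf .df) (.leaf (.cyc (nat_lit 28) [(nat_lit 2489), (nat_lit 8197), (nat_lit 8201), (nat_lit 8197), (nat_lit 2489)]))) (.node (.leaf (.cyc (nat_lit 41) [(nat_lit 733), (nat_lit 3742), (nat_lit 1138)])) (.leaf .df))) (.node (.node (.leaf (.cyc (nat_lit 3) [(nat_lit 20), (nat_lit 2758), (nat_lit 10)])) (.leaf .df)) (.node (.leaf (.cyc (nat_lit 16) [(nat_lit 6829), (nat_lit 1320), (nat_lit 1321), (nat_lit 5620), (nat_lit 1911)])) (.leaf .df)))) (.node (.node (.node (.leaf .df) (.leaf (.cyc (nat_lit 27) [(nat_lit 2739), (nat_lit 9663), (nat_lit 2739)]))) (.node (.leaf (.cyc (nat_lit 62) [(nat_lit 1561), (nat_lit 4353), (nat_lit 3746), (nat_lit 4353), (nat_lit 1561)])) (.leaf .df))) (.node (.node (.leaf (.cyc (nat_lit 45) [(nat_lit 645), (nat_lit 299), (nat_lit 2941), (nat_lit 299), (nat_lit 645)])) (.leaf .df)) (.node (.leaf (.cyc (nat_lit 37) [(nat_lit 2215), (nat_lit 5550), (nat_lit 4380), (nat_lit 5550), (nat_lit 2215)])) (.leaf .df)))))) (.node (.node (.node (.node (.node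 (.leaf .df) (.leaf (.cyc (nat_lit 50) [(nat_lit 2421), (nat_lit 6588), (nat_lit 4849), (nat_lit 6588), (nat_lit 2421)]))) (.node (.leaf (.cyc (nat_lit 48) [(nat_lit 828), (nat_lit 4119), (nat_lit 1026)])) (.leaf .df))) (.node (.node (.leaf .df) (.leaf .df)) (.node (.leaf (.cyc (nat_lit 15) [(nat_lit 1819), (nat_lit 4688), (nat_lit 1819)])) (.leaf .df)))) (.node (.node (.node (.leaf .df) (.leaf (.cyc (nat_lit 19) [(nat_lit 2543), (nat_lit 7548), (nat_lit 7546), (nat_lit 8823), (nat_lit 2682)]))) (.node (.leaf (.cyc (nat_lit 30) [(nat_lit 1480), (nat_lit 1479), (nat_lit 5610), (nat_lit 1479), (nat_lit 1480)])) (.leaf .df))) (.node (.node (.leaf (.cyc (nat_lit 98) [(nat_lit 133), (nat_lit 134), (nat_lit 3562), (nat_lit 134), (nat_lit 133), (nat_lit 318)])) (.leaf .df)) (.node (.leaf (.cyc (nat_lit 56) [(nat_lit 7655), (nat_lit 2144), (nat_lit 5389), (nat_lit 1377), (nat_lit 2146)])) (.leaf .df))))) (.node (.node (.node (.node (.leaf .df) (.leaf (.cyc (nat_lit 27) [(nat_lit 2111),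 (nat_lit 7450), (nat_lit 2556)]))) (.node (.leaf (.cyc (nat_lit 19) [(nat_lit 1228), (nat_lit 648), (nat_lit 649), (nat_lit 4087), (nat_lit 1255)])) (.leaf .df))) (.node (.node (.leaf (.cyc (nat_lit 27) [(nat_lit 3051), (nat_lit 189), (nat_lit 190)])) (.leaf .df)) (.node (.leaf (.cyc (nat_lit 23) [(nat_lit 7143), (nat_lit 1983), (nat_lit 1985)])) (.leaf .df)))) (.node (.node (.node (.leaf .df) (.leaf .df)) (.node (.leaf (.cyc (nat_lit 50) [(nat_lit 6123), (nat_lit 1644), (nat_lit 907), (nat_lit 908), (nat_lit 1645)])) (.leaf .df))) (.node (.node (.leaf (.cyc (nat_lit 10) [(nat_lit 3542), (nat_lit 4059), (nat_lit 3349)])) (.leaf .df)) (.node (.leaf (.cyc (nat_lit 24) [(nat_lit 1977), (nat_lit 4966), (nat_lit 4349), (nat_lit 1581), (nat_lit 2291)])) (.leaf .df))))))))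
noncomputable def u5P001101 : BT Pf := .node u5P0011010 u5P0011011
noncomputable def u5P00110 : BT Pf := .node u5P001100 u5P001101
noncomputable def u5P0011100 : BT Pf := (.node (.node (.node (.node (.node (.node (.node (.leaf .df) (.leaf (.cyc (nat_lit 42) [(nat_lit 1760), (nat_lit 1759), (nat_lit 7484), (nat_lit 7486), (nat_lit 1963), (nat_lit 1185), (nat_lit 3793), (nat_lit 1186), (nat_lit 1964), (nat_lit 7066), (nat_lit 8219)]))) (.node (.leaf (.cyc (nat_lit 12) [(nat_lit 4123), (nat_lit 590), (nat_lit 274), (nat_lit 3191), (nat_lit 585)])) (.leaf .df))) (.node (.node (.leaf .df) (.leaf .df)) (.node (.leaf (.cyc (nat_lit 16) [(nat_lit 1664), (nat_lit 4525), (nat_lit 4523), (nat_lit 4525), (nat_lit 1664)])) (.leaf .df)))) (.node (.node (.node (.leaf .df) (.leaf (.cyc (nat_lit 62) [(nat_lit 2571), (nat_lit 2110), (nat_lit 5262), (nat_lit 2110), (nat_lit 2571)]))) (.node (.leaf (.cyc (nat_lit 35) [(nat_lit 682), (nat_lit 320), (nat_lit 319), (nat_lit 680), (nat_lit 1279)])) (.leaf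 .df))) (.node (.node (.leaf (.cyc (nat_lit 45) [(nat_lit 214), (nat_lit 84), (nat_lit 2816), (nat_lit 84), (nat_lit 214)])) (.leaf .df)) (.node (.leaf (.cyc (nat_lit 65) [(nat_lit 7194), (nat_lit 6428), (nat_lit 5011), (nat_lit 644), (nat_lit 298), (nat_lit 126), (nat_lit 123), (nat_lit 291), (nat_lit 627), (nat_lit 1184), (nat_lit 7050)])) (.leaf .df))))) (.node (.node (.node (.node (.leaf .df) (.leaf (.cyc (nat_lit 34) [(nat_lit 2435), (nat_lit 2433), (nat_lit 8724), (nat_lit 2433), (nat_lit 2435)]))) (.node (.leaf (.cyc (nat_lit 27) [(nat_lit 553), (nat_lit 552), (nat_lit 1044)])) (.leaf .df))) (.node (.node (.leaf .df) (.leaf .df)) (.node (.leaf (.cyc (nat_lit 30) [(nat_lit 6472), (nat_lit 1019), (nat_lit 1020), (nat_lit 4717), (nat_lit 1838)])) (.leaf .df)))) (.node (.node (.node (.leaf .df) (.leaf (.cyc (nat_lit 26) [(nat_lit 2692), (nat_lit 9007), (nat_lit 8641), (nat_lit 9007), (nat_lit 2692)]))) (.node (.leaf (.cyc (nat_lit 50) [(nat_lit 1490), (nat_lit 4123), (nat_lit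 3728), (nat_lit 4123), (nat_lit 1490)])) (.leaf .df))) (.node (.node (.leaf (.cyc (nat_lit 27) [(nat_lit 526), (nat_lit 3149), (nat_lit 526)])) (.leaf .df)) (.node (.leaf (.cyc (nat_lit 6) [(nat_lit 2158), (nat_lit 1389), (nat_lit 3937), (nat_lit 1389), (nat_lit 2158)])) (.leaf .df)))))) (.node (.node (.node (.node (.node (.leaf .df) (.leaf (.cyc (nat_lit 23) [(nat_lit 2229), (nat_lit 6308), (nat_lit 2368)]))) (.node (.leaf (.cyc (nat_lit 53) [(nat_lit 927), (nat_lit 477), (nat_lit 3100), (nat_lit 477), (nat_lit 927)])) (.leaf .df))) (.node (.node (.leaf .df) (.leaf .df)) (.node (.leaf (.cyc (nat_lit 94) [(nat_lit 5011), (nat_lit 1221), (nat_lit 6427), (nat_lit 1221), (nat_lit 5011)])) (.leaf .df)))) (.node (.node (.node (.leaf .df) (.leaf (.cyc (nat_lit 5) [(nat_lit 9499), (nat_lit 9295), (nat_lit 9294), (nat_lit 2312), (nat_lit 2311)]))) (.node (.leaf (.cyc (nat_lit 27) [(nat_lit 765), (nat_lit 3927), (nat_lit 1383)])) (.leaf .df))) (.node (.node (.leaf (.cyc (nat_lit 46) [(nat_lit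 193), (nat_lit 2972), (nat_lit 393)])) (.leaf .df)) (.node (.leaf (.cyc (nat_lit 53) [(nat_lit 2088), (nat_lit 1302), (nat_lit 4229), (nat_lit 1302), (nat_lit 2088)])) (.leaf .df))))) (.node (.node (.node (.node (.leaf .df) (.leaf (.cyc (nat_lit 15) [(nat_lit 2169), (nat_lit 6946), (nat_lit 2501)]))) (.node (.leaf (.cyc (nat_lit 90) [(nat_lit 1156), (nat_lit 1155), (nat_lit 4891), (nat_lit 1155), (nat_lit 1156)])) (.leaf .df))) (.node (.node (.leaf (.cyc (nat_lit 41) [(nat_lit 44), (nat_lit 12), (nat_lit 47)])) (.leaf .df)) (.node (.leaf (.cyc (nat_lit 46) [(nat_lit 6169), (nat_lit 5006), (nat_lit 1927)])) (.leaf .df)))) (.node (.node (.node (.leaf .df) (.leaf (.cyc (nat_lit 45) [(nat_lit 2716), (nat_lit 2550), (nat_lit 9169), (nat_lit 2715), (nat_lit 2748)]))) (.node (.leaf (.cyc (nat_lit 50) [(nat_lit 1573), (nat_lit 4211), (nat_lit 3890), (nat_lit 4211), (nat_lit 1573)])) (.leaf .df))) (.node (.node (.leaf (.cyc (nat_lit 46) [(nat_lit 612), (nat_lit 3569), (nat_lit 678)]))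 (.leaf .df)) (.node (.leaf (.cyc (nat_lit 19) [(nat_lit 1610), (nat_lit 885), (nat_lit 4093), (nat_lit 1469), (nat_lit 2227)])) (.leaf .df))))))) (.node (.node (.node (.node (.node (.node (.leaf .df) (.leaf (.cyc (nat_lit 31) [(nat_lit 8335), (nat_lit 2333), (nat_lit 1648), (nat_lit 1650), (nat_lit 2336)]))) (.node (.leaf (.cyc (nat_lit 23) [(nat_lit 446), (nat_lit 444), (nat_lit 880)])) (.leaf .df))) (.node (.node (.leaf .df) (.leaf .df)) (.node (.leaf (.cyc (nat_lit 19) [(nat_lit 1708), (nat_lit 6294), (nat_lit 6297), (nat_lit 6294), (nat_lit 1708)])) (.leaf .df)))) (.node (.node (.node (.leaf .df) (.leaf (.cyc (nat_lit 30) [(nat_lit 2603), (nat_lit 2184), (nat_lit 5477), (nat_lit 2184), (nat_lit 2603)]))) (.node (.leaf (.cyc (nat_lit 19) [(nat_lit 3969), (nat_lit 3846), (nat_lit 661), (nat_lit 4616), (nat_lit 1334)])) (.leaf .df))) (.node (.node (.leaf (.cyc (nat_lit 15) [(nat_lit 302), (nat_lit 2942), (nat_lit 302)])) (.leaf .df)) (.node (.leaf (.cyc (nat_lit 47) [(nat_lit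 2043), (nat_lit 7317), (nat_lit 7318), (nat_lit 7317), (nat_lit 2043)])) (.leaf .df))))) (.node (.node (.node (.node (.leaf .df) (.leaf (.cyc (nat_lit 23) [(nat_lit 8854), (nat_lit 2468), (nat_lit 2470)]))) (.node (.leaf (.cyc (nat_lit 27) [(nat_lit 4600), (nat_lit 4358), (nat_lit 1105)])) (.leaf .df))) (.node (.node (.leaf .df) (.leaf .df)) (.node (.leaf (.cyc (nat_lit 48) [(nat_lit 1122), (nat_lit 4809), (nat_lit 1885)])) (.leaf .df)))) (.node (.node (.node (.leaf .df) (.leaf (.cyc (nat_lit 45) [(nat_lit 2722), (nat_lit 9294), (nat_lit 8249), (nat_lit 9294), (nat_lit 2722)]))) (.node (.leaf (.cyc (nat_lit 23) [(nat_lit 970), (nat_lit 4161), (nat_lit 1533)])) (.leaf .df))) (.node (.node (.leaf (.cyc (nat_lit 58) [(nat_lit 598), (nat_lit 3727), (nat_lit 587), (nat_lit 273), (nat_lit 3187), (nat_lit 3186), (nat_lit 3187), (nat_lit 273), (nat_lit 587), (nat_lit 3727), (nat_lit 598)])) (.leaf .df)) (.node (.leaf (.cyc (nat_lit 9) [(nat_lit 7835), (nat_lit 1829), (nat_lit 4702), (nat_lit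 1670), (nat_lit 6185)])) (.leaf .df)))))) (.node (.node (.node (.node (.node (.leaf .df) (.leaf (.cyc (nat_lit 27) [(nat_lit 2402), (nat_lit 6505), (nat_lit 2402)]))) (.node (.leaf (.cyc (nat_lit 116) [(nat_lit 607), (nat_lit 605), (nat_lit 4507), (nat_lit 605), (nat_lit 607)])) (.leaf .df))) (.node (.node (.leaf .df) (.leaf .df)) (.node (.leaf (.cyc (nat_lit 47) [(nat_lit 1275), (nat_lit 5131), (nat_lit 6552), (nat_lit 6551), (nat_lit 1792)])) (.leaf .df)))) (.node (.node (.node (.leaf .df) (.leaf (.cyc (nat_lit 28) [(nat_lit 2663), (nat_lit 8478), (nat_lit 7977), (nat_lit 8478), (nat_lit 2663)]))) (.node (.leaf (.cyc (nat_lit 15) [(nat_lit 1448), (nat_lit 4009), (nat_lit 1448)])) (.leaf .df))) (.node (.node (.leaf (.cyc (nat_lit 50) [(nat_lit 275), (nat_lit 116), (nat_lit 2882), (nat_lit 206), (nat_lit 459)])) (.leaf .df)) (.node (.leaf (.cyc (nat_lit 20) [(nat_lit 2122), (nat_lit 5316), (nat_lit 2122)])) (.leaf .df))))) (.node (.node (.node (.node (.leaf .df) (.leaf (.cyc (nat_lit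 48) [(nat_lit 2042), (nat_lit 7320), (nat_lit 2535)]))) (.node (.leaf (.cyc (nat_lit 28) [(nat_lit 649), (nat_lit 301), (nat_lit 299), (nat_lit 646), (nat_lit 1225)])) (.leaf .df))) (.node (.node (.leaf (.cyc (nat_lit 63) [(nat_lit 76), (nat_lit 26), (nat_lit 2800), (nat_lit 65), (nat_lit 161)])) (.leaf .df)) (.node (.leaf (.cyc (nat_lit 34) [(nat_lit 1965), (nat_lit 1186), (nat_lit 3793), (nat_lit 1186), (nat_lit 1965)])) (.leaf .df)))) (.node (.node (.node (.leaf .df) (.leaf .df)) (.node (.leaf (.cyc (nat_lit 23) [(nat_lit 1222), (nat_lit 4272), (nat_lit 1618)])) (.leaf .df))) (.node (.node (.leaf (.cyc (nat_lit 37) [(nat_lit 665), (nat_lit 3851), (nat_lit 3994), (nat_lit 3987), (nat_lit 763)])) (.leaf .df)) (.node (.leaf (.cyc (nat_lit 41) [(nat_lit 7764), (nat_lit 7765), (nat_lit 2269)])) (.leaf .df))))))))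
noncomputable def u5P0011101 : BT Pf := (.node (.node (.node (.node (.node (.node (.node (.leaf .df) (.leaf (.cyc (nat_lit 110) [(nat_lit 8282), (nat_lit 6832), (nat_lit 8282)]))) (.node (.leaf (.cyc (nat_lit 129) [(nat_lit 4185), (nat_lit 487), (nat_lit 486), (nat_lit 3541), (nat_lit 233), (nat_lit 2901), (nat_lit 233), (nat_lit 3541), (nat_lit 486), (nat_lit 487), (nat_lit 4185)])) (.leaf .df))) (.node (.node (.leaf .df) (.leaf .df)) (.node (.leaf (.cyc (nat_lit 33) [(nat_lit 6231), (nat_lit 5880), (nat_lit 5882), (nat_lit 5057), (nat_lit 1647)])) (.leaf .df)))) (.node (.node (.node (.leaf .df) (.leaf (.cyc (nat_lit 50) [(nat_lit 2583), (nat_lit 7633), (nat_lit 7580), (nat_lit 7633), (nat_lit 2583)]))) (.node (.leaf (.cyc (nat_lit 55) [(nat_lit 1305), (nat_lit 1306), (nat_lit 5211), (nat_lit 1306), (nat_lit 1305)])) (.leaf .df))) (.node (.node (.leaf (.cyc (nat_lit 12) [(nat_lit 3163), (nat_lit 252), (nat_lit 2919), (nat_lit 252), (nat_lit 3163), (nat_lit 252)])) (.leaf .df))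 (.node (.leaf (.cyc (nat_lit 53) [(nat_lit 5560), (nat_lit 5558), (nat_lit 4614), (nat_lit 1252), (nat_lit 2022)])) (.leaf .df))))) (.node (.node (.node (.node (.leaf .df) (.leaf (.cyc (nat_lit 21) [(nat_lit 2452), (nat_lit 6700), (nat_lit 6632), (nat_lit 6700), (nat_lit 2452)]))) (.node (.leaf (.cyc (nat_lit 26) [(nat_lit 1067), (nat_lit 4660), (nat_lit 4665), (nat_lit 4660), (nat_lit 1067)])) (.leaf .df))) (.node (.node (.leaf .df) (.leaf .df)) (.node (.leaf (.cyc (nat_lit 35) [(nat_lit 1612), (nat_lit 4551), (nat_lit 5645), (nat_lit 5644), (nat_lit 1861)])) (.leaf .df)))) (.node (.node (.node (.leaf .df) (.leaf (.cyc (nat_lit 18) [(nat_lit 2709), (nat_lit 9128), (nat_lit 8965), (nat_lit 9128), (nat_lit 2709)]))) (.node (.leaf (.cyc (nat_lit 6) [(nat_lit 1515), (nat_lit 5718), (nat_lit 5719), (nat_lit 5718), (nat_lit 1515)])) (.leaf .df))) (.node (.node (.leaf (.cyc (nat_lit 74) [(nat_lit 496), (nat_lit 3667)])) (.leaf .df)) (.node (.leaf (.cyc (nat_lit 102) [(nat_lit 2163),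 (nat_lit 2164), (nat_lit 7771), (nat_lit 2164), (nat_lit 2163)])) (.leaf .df)))))) (.node (.node (.node (.node (.node (.leaf .df) (.leaf (.cyc (nat_lit 24) [(nat_lit 7182), (nat_lit 7179), (nat_lit 5852), (nat_lit 1739), (nat_lit 2385)]))) (.node (.leaf (.cyc (nat_lit 1) [(nat_lit 4443), (nat_lit 888), (nat_lit 889)])) (.leaf .df))) (.node (.node (.leaf .df) (.leaf .df)) (.node (.leaf (.cyc (nat_lit 2) [(nat_lit 1704), (nat_lit 4429), (nat_lit 6484), (nat_lit 606), (nat_lit 607), (nat_lit 1147)])) (.leaf .df)))) (.node (.node (.node (.leaf .df) (.leaf (.cyc (nat_lit 21) [(nat_lit 2649), (nat_lit 8262), (nat_lit 6089), (nat_lit 8262), (nat_lit 2649)]))) (.node (.leaf (.cyc (nat_lit 18) [(nat_lit 1416), (nat_lit 1415), (nat_lit 5466), (nat_lit 1415), (nat_lit 1416)])) (.leaf .df))) (.node (.node (.leaf (.cyc (nat_lit 110) [(nat_lit 3419), (nat_lit 3101), (nat_lit 3419)])) (.leaf .df)) (.node (.leaf (.cyc (nat_lit 48) [(nat_lit 7509), (nat_lit 7507), (nat_lit 2104)])) (.leaf .df)))))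 (.node (.node (.node (.node (.leaf .df) (.leaf (.cyc (nat_lit 37) [(nat_lit 2518), (nat_lit 1991), (nat_lit 6975), (nat_lit 1991), (nat_lit 2518)]))) (.node (.leaf (.cyc (nat_lit 31) [(nat_lit 1121), (nat_lit 591), (nat_lit 3222), (nat_lit 630), (nat_lit 1189)])) (.leaf .df))) (.node (.node (.leaf (.cyc (nat_lit 28) [(nat_lit 101), (nat_lit 2834), (nat_lit 2784), (nat_lit 2834), (nat_lit 101)])) (.leaf .df)) (.node (.leaf (.cyc (nat_lit 37) [(nat_lit 1944), (nat_lit 4915), (nat_lit 4200), (nat_lit 4915), (nat_lit 1944)])) (.leaf .df)))) (.node (.node (.node (.leaf .df) (.leaf .df)) (.node (.leaf (.cyc (nat_lit 23) [(nat_lit 999), (nat_lit 4709), (nat_lit 1597)])) (.leaf .df))) (.node (.node (.leaf (.cyc (nat_lit 20) [(nat_lit 345), (nat_lit 344), (nat_lit 734)])) (.leaf .df)) (.node (.leaf (.cyc (nat_lit 15) [(nat_lit 1499), (nat_lit 1498), (nat_lit 2249)])) (.leaf .df))))))) (.node (.node (.node (.node (.node (.node (.leaf .df) (.leaf (.cyc (nat_lit 30) [(nat_lit 2351), (nat_lit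 8228), (nat_lit 8229), (nat_lit 8228), (nat_lit 2351)]))) (.node (.leaf (.cyc (nat_lit 41) [(nat_lit 910), (nat_lit 3482), (nat_lit 910)])) (.leaf .df))) (.node (.node (.leaf .df) (.leaf .df)) (.node (.leaf (.cyc (nat_lit 23) [(nat_lit 1204), (nat_lit 1201), (nat_lit 6361)])) (.leaf .df)))) (.node (.node (.node (.leaf .df) (.leaf (.cyc (nat_lit 46) [(nat_lit 2620), (nat_lit 8026), (nat_lit 2620)]))) (.node (.leaf (.cyc (nat_lit 56) [(nat_lit 1354), (nat_lit 3916), (nat_lit 3295), (nat_lit 3916), (nat_lit 1354)])) (.leaf .df))) (.node (.node (.leaf (.cyc (nat_lit 60) [(nat_lit 343), (nat_lit 345), (nat_lit 3291), (nat_lit 345), (nat_lit 343)])) (.leaf .df)) (.node (.leaf (.cyc (nat_lit 47) [(nat_lit 1993), (nat_lit 1207), (nat_lit 1208), (nat_lit 5784), (nat_lit 2067)])) (.leaf .df))))) (.node (.node (.node (.node (.leaf .df) (.leaf (.cyc (nat_lit 27) [(nat_lit 6985), (nat_lit 6835), (nat_lit 2486)]))) (.node (.leaf (.cyc (nat_lit 57) [(nat_lit 606), (nat_lit 3196), (nat_lit 2930),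 (nat_lit 280), (nat_lit 3277), (nat_lit 344), (nat_lit 142), (nat_lit 2926), (nat_lit 277), (nat_lit 600), (nat_lit 4827)])) (.leaf .df))) (.node (.node (.leaf (.pin (nat_lit 31) [(nat_lit 2), (nat_lit 22)] [(nat_lit 22), (nat_lit 2)])) (.leaf .df)) (.node (.leaf (.cyc (nat_lit 1) [(nat_lit 6875), (nat_lit 5017), (nat_lit 6875)])) (.leaf .df)))) (.node (.node (.node (.leaf .df) (.leaf (.cyc (nat_lit 6) [(nat_lit 2735), (nat_lit 9491), (nat_lit 9403), (nat_lit 9491), (nat_lit 2735)]))) (.node (.leaf (.cyc (nat_lit 49) [(nat_lit 978), (nat_lit 4176), (nat_lit 1553)])) (.leaf .df))) (.node (.node (.leaf (.cyc (nat_lit 6) [(nat_lit 636), (nat_lit 3625), (nat_lit 3624), (nat_lit 3625), (nat_lit 636)])) (.leaf .df)) (.node (.leaf (.cyc (nat_lit 48) [(nat_lit 1452), (nat_lit 5534), (nat_lit 2211)])) (.leaf .df)))))) (.node (.node (.node (.node (.node (.leaf .df) (.leaf (.cyc (nat_lit 19) [(nat_lit 2418), (nat_lit 6560), (nat_lit 5612), (nat_lit 6560), (nat_lit 2418)]))) (.node (.leaf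 (.cyc (nat_lit 21) [(nat_lit 4156), (nat_lit 3383), (nat_lit 4066), (nat_lit 3617), (nat_lit 1020)])) (.leaf .df))) (.node (.node (.leaf .df) (.leaf .df)) (.node (.leaf (.cyc (nat_lit 53) [(nat_lit 1812), (nat_lit 5683), (nat_lit 5686), (nat_lit 5683), (nat_lit 1812)])) (.leaf .df)))) (.node (.node (.node (.leaf .df) (.leaf (.cyc (nat_lit 15) [(nat_lit 2679), (nat_lit 8795), (nat_lit 2679)]))) (.node (.leaf (.cyc (nat_lit 23) [(nat_lit 792), (nat_lit 790), (nat_lit 1475)])) (.leaf .df))) (.node (.node (.leaf (.cyc (nat_lit 6) [(nat_lit 495), (nat_lit 3493), (nat_lit 3495), (nat_lit 3493), (nat_lit 495)])) (.leaf .df)) (.node (.leaf (.cyc (nat_lit 16) [(nat_lit 2141), (nat_lit 2140), (nat_lit 7640), (nat_lit 2140), (nat_lit 2141)])) (.leaf .df))))) (.node (.node (.node (.node (.leaf .df) (.leaf (.cyc (nat_lit 33) [(nat_lit 9179), (nat_lit 8244), (nat_lit 8279), (nat_lit 8276), (nat_lit 2329)]))) (.node (.leaf (.cyc (nat_lit 44) [(nat_lit 666), (nat_lit 310), (nat_lit 308), (nat_lit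 662), (nat_lit 1247)])) (.leaf .df))) (.node (.node (.leaf (.cyc (nat_lit 78) [(nat_lit 3035), (nat_lit 2972), (nat_lit 2981), (nat_lit 68), (nat_lit 20), (nat_lit 3), (nat_lit 2), (nat_lit 22), (nat_lit 72), (nat_lit 184), (nat_lit 3034)])) (.leaf .df)) (.node (.leaf (.cyc (nat_lit 19) [(nat_lit 1980), (nat_lit 7110), (nat_lit 7113), (nat_lit 7110), (nat_lit 1980)])) (.leaf .df)))) (.node (.node (.node (.leaf .df) (.leaf .df)) (.node (.leaf (.cyc (nat_lit 20) [(nat_lit 6099), (nat_lit 6098), (nat_lit 1639)])) (.leaf .df))) (.node (.node (.leaf (.cyc (nat_lit 72) [(nat_lit 408), (nat_lit 4051)])) (.leaf .df)) (.node (.leaf (.cyc (nat_lit 34) [(nat_lit 7913), (nat_lit 6715), (nat_lit 4902), (nat_lit 1567), (nat_lit 2286)])) (.leaf .df))))))))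
noncomputable def u5P001110 : BT Pf := .node u5P0011100 u5P0011101
noncomputable def u5P0011110 : BT Pf := (.node (.node (.node (.node (.node (.node (.node (.leaf .df) (.leaf (.cyc (nat_lit 15) [(nat_lit 2313), (nat_lit 6059), (nat_lit 2313)]))) (.node (.leaf (.cyc (nat_lit 26) [(nat_lit 415), (nat_lit 4063), (nat_lit 3169), (nat_lit 3377), (nat_lit 824)])) (.leaf .df))) (.node (.node (.leaf .df) (.leaf .df)) (.node (.leaf (.cyc (nat_lit 37) [(nat_lit 1677), (nat_lit 4390), (nat_lit 4189), (nat_lit 4390), (nat_lit 1677)])) (.leaf .df)))) (.node (.node (.node (.leaf .df) (.leaf (.cyc (nat_lit 94) [(nat_lit 2452), (nat_lit 2453), (nat_lit 9275), (nat_lit 2453), (nat_lit 2452)]))) (.node (.leaf (.cyc (nat_lit 62) [(nat_lit 692), (nat_lit 324), (nat_lit 323), (nat_lit 688), (nat_lit 1299)])) (.leaf .df))) (.node (.node (.leaf (.cyc (nat_lit 27) [(nat_lit 169), (nat_lit 2899), (nat_lit 233)])) (.leaf .df)) (.node (.leaf (.cyc (nat_lit 48) [(nat_lit 2013), (nat_lit 5046), (nat_lit 2013)]))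 (.leaf .df))))) (.node (.node (.node (.node (.leaf .df) (.leaf (.cyc (nat_lit 18) [(nat_lit 2443), (nat_lit 8539), (nat_lit 8542), (nat_lit 8539), (nat_lit 2443)]))) (.node (.leaf (.cyc (nat_lit 19) [(nat_lit 1055), (nat_lit 4653), (nat_lit 4654), (nat_lit 4653), (nat_lit 1055)])) (.leaf .df))) (.node (.node (.leaf .df) (.leaf .df)) (.node (.leaf (.cyc (nat_lit 61) [(nat_lit 6420), (nat_lit 6469), (nat_lit 1850), (nat_lit 6715), (nat_lit 4901), (nat_lit 4902), (nat_lit 4206), (nat_lit 3530), (nat_lit 483), (nat_lit 482), (nat_lit 936), (nat_lit 1688)])) (.leaf .df)))) (.node (.node (.node (.leaf .df) (.leaf (.cyc (nat_lit 37) [(nat_lit 2700), (nat_lit 2515), (nat_lit 7140), (nat_lit 2515), (nat_lit 2700)]))) (.node (.leaf (.cyc (nat_lit 149) [(nat_lit 5690), (nat_lit 1503), (nat_lit 807), (nat_lit 805), (nat_lit 1500), (nat_lit 5688), (nat_lit 1500), (nat_lit 805), (nat_lit 807), (nat_lit 1503), (nat_lit 5690)])) (.leaf .df))) (.node (.node (.leaf (.cyc (nat_lit 89) [(nat_lit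 3239), (nat_lit 194), (nat_lit 2877), (nat_lit 2832), (nat_lit 2831), (nat_lit 22), (nat_lit 24), (nat_lit 73), (nat_lit 2922), (nat_lit 259), (nat_lit 551)])) (.leaf .df)) (.node (.leaf (.cyc (nat_lit 28) [(nat_lit 2166), (nat_lit 5433), (nat_lit 3986), (nat_lit 5433), (nat_lit 2166)])) (.leaf .df)))))) (.node (.node (.node (.node (.node (.leaf .df) (.leaf (.cyc (nat_lit 19) [(nat_lit 2376), (nat_lit 7942), (nat_lit 7943), (nat_lit 7942), (nat_lit 2376)]))) (.node (.leaf (.cyc (nat_lit 55) [(nat_lit 706), (nat_lit 708), (nat_lit 4411), (nat_lit 708), (nat_lit 706)])) (.leaf .df))) (.node (.node (.leaf .df) (.leaf .df)) (.node (.leaf (.cyc (nat_lit 53) [(nat_lit 1013), (nat_lit 527), (nat_lit 526), (nat_lit 1012), (nat_lit 1767)])) (.leaf .df)))) (.node (.node (.node (.leaf .df) (.leaf (.cyc (nat_lit 27) [(nat_lit 2642), (nat_lit 8195), (nat_lit 2642)]))) (.node (.leaf (.cyc (nat_lit 34) [(nat_lit 771), (nat_lit 364), (nat_lit 3299), (nat_lit 743), (nat_lit 1404)])) (.leaf .df)))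 (.node (.node (.leaf (.cyc (nat_lit 43) [(nat_lit 418), (nat_lit 419), (nat_lit 3387), (nat_lit 419), (nat_lit 418)])) (.leaf .df)) (.node (.leaf (.cyc (nat_lit 21) [(nat_lit 6440), (nat_lit 1763), (nat_lit 6451), (nat_lit 5241), (nat_lit 2099)])) (.leaf .df))))) (.node (.node (.node (.node (.leaf .df) (.leaf (.cyc (nat_lit 35) [(nat_lit 2510), (nat_lit 8906), (nat_lit 8908), (nat_lit 8906), (nat_lit 2510)]))) (.node (.leaf (.cyc (nat_lit 51) [(nat_lit 1172), (nat_lit 3773), (nat_lit 584), (nat_lit 3191), (nat_lit 274), (nat_lit 3439), (nat_lit 274), (nat_lit 3191), (nat_lit 584), (nat_lit 3773), (nat_lit 1172)])) (.leaf .df))) (.node (.node (.leaf (.cyc (nat_lit 46) [(nat_lit 75), (nat_lit 2786), (nat_lit 75)])) (.leaf .df)) (.node (.leaf (.cyc (nat_lit 45) [(nat_lit 6915), (nat_lit 1590), (nat_lit 4234), (nat_lit 1161), (nat_lit 1936)])) (.leaf .df)))) (.node (.node (.node (.leaf .df) (.leaf .df)) (.node (.leaf (.cyc (nat_lit 50) [(nat_lit 1131), (nat_lit 4353), (nat_lit 4202),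 (nat_lit 867), (nat_lit 1586)])) (.leaf .df))) (.node (.node (.leaf (.cyc (nat_lit 49) [(nat_lit 340), (nat_lit 3263), (nat_lit 709)])) (.leaf .df)) (.node (.leaf (.cyc (nat_lit 25) [(nat_lit 7212), (nat_lit 7909), (nat_lit 2213), (nat_lit 5611), (nat_lit 2237)])) (.leaf .df))))))) (.node (.node (.node (.node (.node (.node (.leaf .df) (.leaf (.cyc (nat_lit 23) [(nat_lit 7952), (nat_lit 7950), (nat_lit 2344)]))) (.node (.leaf (.cyc (nat_lit 47) [(nat_lit 894), (nat_lit 4280), (nat_lit 4281), (nat_lit 4280), (nat_lit 894)])) (.leaf .df))) (.node (.node (.leaf .df) (.leaf .df)) (.node (.leaf (.cyc (nat_lit 63) [(nat_lit 1721), (nat_lit 5600), (nat_lit 5602), (nat_lit 5600), (nat_lit 1721)])) (.leaf .df)))) (.node (.node (.node (.leaf .df) (.leaf (.cyc (nat_lit 20) [(nat_lit 8205), (nat_lit 7972), (nat_lit 2612)]))) (.node (.leaf (.cyc (nat_lit 102) [(nat_lit 1264), (nat_lit 1265), (nat_lit 5307), (nat_lit 1265), (nat_lit 1264)])) (.leaf .df))) (.node (.node (.leaf (.cyc (nat_lit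 59) [(nat_lit 3257), (nat_lit 3258), (nat_lit 3161), (nat_lit 3258), (nat_lit 3257)])) (.leaf .df)) (.node (.leaf (.cyc (nat_lit 16) [(nat_lit 7177), (nat_lit 6927), (nat_lit 5132), (nat_lit 1273), (nat_lit 2055)])) (.leaf .df))))) (.node (.node (.node (.node (.leaf .df) (.leaf (.cyc (nat_lit 102) [(nat_lit 2476), (nat_lit 2477), (nat_lit 8891), (nat_lit 2477), (nat_lit 2476)]))) (.node (.leaf (.cyc (nat_lit 100) [(nat_lit 4793), (nat_lit 4142), (nat_lit 762), (nat_lit 3443), (nat_lit 802)])) (.leaf .df))) (.node (.node (.leaf .df) (.leaf .df)) (.node (.leaf (.cyc (nat_lit 141) [(nat_lit 6616), (nat_lit 1125), (nat_lit 1126), (nat_lit 1897), (nat_lit 6843), (nat_lit 4831), (nat_lit 1793), (nat_lit 6559), (nat_lit 6564), (nat_lit 6558), (nat_lit 1796)])) (.leaf .df)))) (.node (.node (.node (.leaf .df) (.leaf (.cyc (nat_lit 53) [(nat_lit 2729), (nat_lit 9399), (nat_lit 9213), (nat_lit 9399), (nat_lit 2729)]))) (.node (.leaf (.cyc (nat_lit 62) [(nat_lit 836), (nat_lit 410), (nat_lit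 409), (nat_lit 832), (nat_lit 1542)])) (.leaf .df))) (.node (.node (.leaf (.cyc (nat_lit 51) [(nat_lit 3755), (nat_lit 611), (nat_lit 282), (nat_lit 2932), (nat_lit 2946), (nat_lit 131), (nat_lit 55), (nat_lit 53), (nat_lit 127), (nat_lit 3218), (nat_lit 620)])) (.leaf .df)) (.node (.leaf (.cyc (nat_lit 87) [(nat_lit 6603), (nat_lit 1446), (nat_lit 5519), (nat_lit 6980), (nat_lit 5520), (nat_lit 1914), (nat_lit 6898), (nat_lit 7854), (nat_lit 7851), (nat_lit 5511), (nat_lit 2202)])) (.leaf .df)))))) (.node (.node (.node (.node (.node (.leaf .df) (.leaf (.cyc (nat_lit 37) [(nat_lit 2410), (nat_lit 6514), (nat_lit 5332), (nat_lit 6514), (nat_lit 2410)]))) (.node (.leaf (.cyc (nat_lit 34) [(nat_lit 892), (nat_lit 451), (nat_lit 3144), (nat_lit 522), (nat_lit 1004)])) (.leaf .df))) (.node (.node (.leaf .df) (.leaf .df)) (.node (.leaf (.cyc (nat_lit 28) [(nat_lit 6008), (nat_lit 6007), (nat_lit 4979), (nat_lit 4982), (nat_lit 1802)])) (.leaf .df)))) (.node (.node (.node (.leaf .df)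 (.leaf (.cyc (nat_lit 17) [(nat_lit 9656), (nat_lit 8981), (nat_lit 8979), (nat_lit 8982), (nat_lit 8769), (nat_lit 8617), (nat_lit 9318), (nat_lit 9653), (nat_lit 9654), (nat_lit 2670), (nat_lit 2671)]))) (.node (.leaf (.cyc (nat_lit 34) [(nat_lit 876), (nat_lit 442), (nat_lit 3340), (nat_lit 785), (nat_lit 1462)])) (.leaf .df))) (.node (.node (.leaf (.cyc (nat_lit 121) [(nat_lit 3515), (nat_lit 431), (nat_lit 187), (nat_lit 186), (nat_lit 429)])) (.leaf .df)) (.node (.leaf (.cyc (nat_lit 34) [(nat_lit 2130), (nat_lit 1353), (nat_lit 3929), (nat_lit 1353), (nat_lit 2130)])) (.leaf .df))))) (.node (.node (.node (.node (.leaf .df) (.leaf (.cyc (nat_lit 35) [(nat_lit 2544), (nat_lit 7352), (nat_lit 5138), (nat_lit 7352), (nat_lit 2544)]))) (.node (.leaf (.cyc (nat_lit 123) [(nat_lit 710), (nat_lit 3899), (nat_lit 4410), (nat_lit 4399), (nat_lit 4400), (nat_lit 5030), (nat_lit 5032), (nat_lit 1231), (nat_lit 650), (nat_lit 651), (nat_lit 4138), (nat_lit 810), (nat_lit 400), (nat_lit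 3097), (nat_lit 472), (nat_lit 4318), (nat_lit 5050)])) (.leaf .df))) (.node (.node (.leaf (.cyc (nat_lit 24) [(nat_lit 167), (nat_lit 3001), (nat_lit 2891), (nat_lit 3001), (nat_lit 167)])) (.leaf .df)) (.node (.leaf (.cyc (nat_lit 89) [(nat_lit 6991), (nat_lit 5979), (nat_lit 5955), (nat_lit 6914), (nat_lit 7096), (nat_lit 7099), (nat_lit 1939), (nat_lit 4898), (nat_lit 4357), (nat_lit 4952), (nat_lit 1964)])) (.leaf .df)))) (.node (.node (.node (.leaf .df) (.leaf .df)) (.node (.leaf (.cyc (nat_lit 53) [(nat_lit 1312), (nat_lit 4295), (nat_lit 896), (nat_lit 897), (nat_lit 1628)])) (.leaf .df))) (.node (.node (.leaf (.cyc (nat_lit 2) [(nat_lit 4025), (nat_lit 419), (nat_lit 3031), (nat_lit 230), (nat_lit 506)])) (.leaf .df)) (.node (.leaf (.cyc (nat_lit 45) [(nat_lit 7477), (nat_lit 7954), (nat_lit 1827), (nat_lit 5835), (nat_lit 2278)])) (.leaf .df))))))))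
noncomputable def u5P0011111 : BT Pf := (.node (.node (.node (.node (.node (.node (.node (.leaf .df) (.leaf (.cyc (nat_lit 21) [(nat_lit 2329), (nat_lit 6120), (nat_lit 6015), (nat_lit 6120), (nat_lit 2329)]))) (.node (.leaf (.cyc (nat_lit 53) [(nat_lit 864), (nat_lit 436), (nat_lit 3059), (nat_lit 436), (nat_lit 864)])) (.leaf .df))) (.node (.node (.leaf .df) (.leaf .df)) (.node (.leaf (.cyc (nat_lit 31) [(nat_lit 6033), (nat_lit 4522), (nat_lit 946), (nat_lit 947), (nat_lit 1698)])) (.leaf .df)))) (.node (.node (.node (.leaf .df) (.leaf (.cyc (nat_lit 37) [(nat_lit 2377), (nat_lit 8082), (nat_lit 8267), (nat_lit 8265), (nat_lit 2595)]))) (.node (.leaf (.cyc (nat_lit 15) [(nat_lit 703), (nat_lit 702), (nat_lit 1321)])) (.leaf .df))) (.node (.node (.leaf (.cyc (nat_lit 20) [(nat_lit 119), (nat_lit 117), (nat_lit 279)])) (.leaf .df)) (.node (.leaf (.cyc (nat_lit 48) [(nat_lit 1286), (nat_lit 5101), (nat_lit 2031)])) (.leaf .df))))) (.node (.node (.node (.node (.leaf .df) (.leaf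 (.cyc (nat_lit 28) [(nat_lit 2461), (nat_lit 6750), (nat_lit 5235), (nat_lit 6750), (nat_lit 2461)]))) (.node (.leaf (.cyc (nat_lit 48) [(nat_lit 1086), (nat_lit 3707), (nat_lit 1086)])) (.leaf .df))) (.node (.node (.leaf .df) (.leaf .df)) (.node (.leaf (.cyc (nat_lit 23) [(nat_lit 1414), (nat_lit 4769), (nat_lit 1873)])) (.leaf .df)))) (.node (.node (.node (.leaf .df) (.leaf (.cyc (nat_lit 48) [(nat_lit 2716), (nat_lit 9173), (nat_lit 2716)]))) (.node (.leaf (.cyc (nat_lit 62) [(nat_lit 1527), (nat_lit 822), (nat_lit 3374), (nat_lit 822), (nat_lit 1527)])) (.leaf .df))) (.node (.node (.leaf (.cyc (nat_lit 43) [(nat_lit 3703), (nat_lit 572), (nat_lit 3707), (nat_lit 572), (nat_lit 3703)])) (.leaf .df)) (.node (.leaf (.cyc (nat_lit 16) [(nat_lit 2024), (nat_lit 1253), (nat_lit 3996), (nat_lit 1423), (nat_lit 2186)])) (.leaf .df)))))) (.node (.node (.node (.node (.node (.leaf .df) (.leaf (.cyc (nat_lit 37) [(nat_lit 2244), (nat_lit 5981), (nat_lit 2301), (nat_lit 8220), (nat_lit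 2394)]))) (.node (.leaf (.cyc (nat_lit 50) [(nat_lit 3645), (nat_lit 3242), (nat_lit 3123), (nat_lit 501), (nat_lit 972)])) (.leaf .df))) (.node (.node (.leaf .df) (.leaf .df)) (.node (.leaf (.cyc (nat_lit 100) [(nat_lit 6523), (nat_lit 6469), (nat_lit 991), (nat_lit 992), (nat_lit 1753)])) (.leaf .df)))) (.node (.node (.node (.leaf .df) (.leaf (.cyc (nat_lit 15) [(nat_lit 2657), (nat_lit 8410), (nat_lit 2657)]))) (.node (.leaf (.cyc (nat_lit 97) [(nat_lit 1000), (nat_lit 3696), (nat_lit 3701), (nat_lit 3697), (nat_lit 667), (nat_lit 5066), (nat_lit 5483), (nat_lit 5484), (nat_lit 765), (nat_lit 764), (nat_lit 1428)])) (.leaf .df))) (.node (.node (.leaf (.cyc (nat_lit 1) [(nat_lit 373), (nat_lit 3437), (nat_lit 373)])) (.leaf .df)) (.node (.leaf (.cyc (nat_lit 51) [(nat_lit 7348), (nat_lit 2051), (nat_lit 5131), (nat_lit 3866), (nat_lit 677), (nat_lit 4370), (nat_lit 3903), (nat_lit 1341), (nat_lit 5302), (nat_lit 5288), (nat_lit 2114)])) (.leaf .df))))) (.node (.node (.node (.node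 (.leaf .df) (.leaf (.cyc (nat_lit 15) [(nat_lit 2018), (nat_lit 2017), (nat_lit 2527)]))) (.node (.leaf (.cyc (nat_lit 23) [(nat_lit 4982), (nat_lit 1207), (nat_lit 1210)])) (.leaf .df))) (.node (.node (.leaf (.cyc (nat_lit 23) [(nat_lit 55), (nat_lit 52), (nat_lit 126)])) (.leaf .df)) (.node (.leaf (.cyc (nat_lit 15) [(nat_lit 1953), (nat_lit 4936), (nat_lit 1953)])) (.leaf .df)))) (.node (.node (.node (.leaf .df) (.leaf .df)) (.node (.leaf (.cyc (nat_lit 75) [(nat_lit 1605), (nat_lit 1607), (nat_lit 6011), (nat_lit 1607), (nat_lit 1605)])) (.leaf .df))) (.node (.node (.leaf (.cyc (nat_lit 48) [(nat_lit 752), (nat_lit 3303), (nat_lit 752)])) (.leaf .df)) (.node (.leaf (.cyc (nat_lit 24) [(nat_lit 2192), (nat_lit 6175), (nat_lit 6208), (nat_lit 6206), (nat_lit 2259)])) (.leaf .df))))))) (.node (.node (.node (.node (.node (.node (.leaf .df) (.leaf (.cyc (nat_lit 23) [(nat_lit 7566), (nat_lit 7564), (nat_lit 2359)]))) (.node (.leaf (.cyc (nat_lit 31) [(nat_lit 865), (nat_lit 438),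 (nat_lit 3094), (nat_lit 472), (nat_lit 925)])) (.leaf .df))) (.node (.node (.leaf .df) (.leaf .df)) (.node (.leaf (.cyc (nat_lit 50) [(nat_lit 1742), (nat_lit 6320), (nat_lit 6321), (nat_lit 6320), (nat_lit 1742)])) (.leaf .df)))) (.node (.node (.node (.leaf .df) (.leaf (.cyc (nat_lit 63) [(nat_lit 2627), (nat_lit 8146), (nat_lit 8144), (nat_lit 8146), (nat_lit 2627)]))) (.node (.leaf (.cyc (nat_lit 47) [(nat_lit 1366), (nat_lit 1365), (nat_lit 5368), (nat_lit 1365), (nat_lit 1366)])) (.leaf .df))) (.node (.node (.leaf (.cyc (nat_lit 20) [(nat_lit 375), (nat_lit 2966), (nat_lit 375)])) (.leaf .df)) (.node (.leaf (.cyc (nat_lit 62) [(nat_lit 2078), (nat_lit 7401), (nat_lit 7399), (nat_lit 7401), (nat_lit 2078)])) (.leaf .df))))) (.node (.node (.node (.node (.leaf .df) (.leaf (.cyc (nat_lit 51) [(nat_lit 6966), (nat_lit 6964), (nat_lit 1935), (nat_lit 6969), (nat_lit 6968), (nat_lit 6119), (nat_lit 6977), (nat_lit 1990), (nat_lit 7159), (nat_lit 6904), (nat_lit 2493)]))) (.node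 (.leaf (.cyc (nat_lit 24) [(nat_lit 858), (nat_lit 3762), (nat_lit 3761), (nat_lit 3747), (nat_lit 1144)])) (.leaf .df))) (.node (.node (.leaf (.cyc (nat_lit 20) [(nat_lit 3), (nat_lit 0), (nat_lit 30)])) (.leaf .df)) (.node (.leaf (.cyc (nat_lit 34) [(nat_lit 1917), (nat_lit 1145), (nat_lit 4507), (nat_lit 1145), (nat_lit 1917)])) (.leaf .df)))) (.node (.node (.node (.leaf .df) (.leaf (.cyc (nat_lit 41) [(nat_lit 2742), (nat_lit 9776), (nat_lit 2742)]))) (.node (.leaf (.cyc (nat_lit 35) [(nat_lit 4675), (nat_lit 4667), (nat_lit 3715), (nat_lit 4287), (nat_lit 1568)])) (.leaf .df))) (.node (.node (.leaf (.cyc (nat_lit 128) [(nat_lit 3796), (nat_lit 631), (nat_lit 3222), (nat_lit 3194), (nat_lit 274), (nat_lit 2924), (nat_lit 3438), (nat_lit 2945), (nat_lit 305), (nat_lit 3237), (nat_lit 656)])) (.leaf .df)) (.node (.leaf (.cyc (nat_lit 20) [(nat_lit 1464), (nat_lit 1463), (nat_lit 2219)])) (.leaf .df)))))) (.node (.node (.node (.node (.node (.leaf .df) (.leaf (.cyc (nat_lit 45)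 [(nat_lit 1813), (nat_lit 1058), (nat_lit 1057), (nat_lit 1812), (nat_lit 2425)]))) (.node (.leaf (.cyc (nat_lit 27) [(nat_lit 542), (nat_lit 541), (nat_lit 1033)])) (.leaf .df))) (.node (.node (.leaf .df) (.leaf .df)) (.node (.leaf (.cyc (nat_lit 107) [(nat_lit 1826), (nat_lit 4693), (nat_lit 1661), (nat_lit 6283), (nat_lit 6418), (nat_lit 6458), (nat_lit 1767), (nat_lit 5760), (nat_lit 5762), (nat_lit 1564), (nat_lit 5876)])) (.leaf .df)))) (.node (.node (.node (.leaf .df) (.leaf (.cyc (nat_lit 44) [(nat_lit 2685), (nat_lit 8862), (nat_lit 7786), (nat_lit 8862), (nat_lit 2685)]))) (.node (.leaf (.cyc (nat_lit 46) [(nat_lit 1191), (nat_lit 1190), (nat_lit 5627), (nat_lit 1393)])) (.leaf .df))) (.node (.node (.leaf (.cyc (nat_lit 50) [(nat_lit 3346), (nat_lit 2971), (nat_lit 3002), (nat_lit 230), (nat_lit 504)])) (.leaf .df)) (.node (.leaf (.cyc (nat_lit 44) [(nat_lit 1588), (nat_lit 4307), (nat_lit 1636), (nat_lit 6099), (nat_lit 2150)])) (.leaf .df))))) (.node (.node (.node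 (.node (.leaf .df) (.leaf (.cyc (nat_lit 56) [(nat_lit 2561), (nat_lit 2091), (nat_lit 5211), (nat_lit 2091), (nat_lit 2561)]))) (.node (.leaf (.cyc (nat_lit 46) [(nat_lit 1266), (nat_lit 3864), (nat_lit 1266)])) (.leaf .df))) (.node (.node (.leaf (.cyc (nat_lit 56) [(nat_lit 198), (nat_lit 2880), (nat_lit 2845), (nat_lit 2880), (nat_lit 198)])) (.leaf .df)) (.node (.leaf (.cyc (nat_lit 104) [(nat_lit 6412), (nat_lit 1978), (nat_lit 7162), (nat_lit 1430), (nat_lit 1429)])) (.leaf .df)))) (.node (.node (.node (.leaf .df) (.leaf .df)) (.node (.leaf (.cyc (nat_lit 28) [(nat_lit 1493), (nat_lit 4796), (nat_lit 1113), (nat_lit 4315), (nat_lit 1650)])) (.leaf .df))) (.node (.node (.leaf (.cyc (nat_lit 35) [(nat_lit 788), (nat_lit 3349), (nat_lit 3431), (nat_lit 3349), (nat_lit 788)])) (.leaf .df)) (.node (.leaf (.cyc (nat_lit 9) [(nat_lit 8187), (nat_lit 2171), (nat_lit 5445), (nat_lit 2171), (nat_lit 8187)])) (.leaf .df))))))))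
noncomputable def u5P001111 : BT Pf := .node u5P0011110 u5P0011111
noncomputable def u5P00111 : BT Pf := .node u5P001110 u5P001111
noncomputable def u5P0011 : BT Pf := .node u5P00110 u5P00111
noncomputable def u5P001 : BT Pf := .node u5P0010 u5P0011
noncomputable def u5P00 : BT Pf := .node u5P000 u5P001
noncomputable def u5P0100000 : BT Pf := (.node (.node (.node (.node (.node (.node (.node (.leaf .df) (.leaf (.cyc (nat_lit 21) [(nat_lit 2296), (nat_lit 7815), (nat_lit 7814), (nat_lit 7815), (nat_lit 2296)]))) (.node (.leaf (.cyc (nat_lit 15) [(nat_lit 4022), (nat_lit 4084), (nat_lit 791)])) (.leaf .df))) (.node (.node (.leaf .df) (.leaf .df)) (.node (.leaf (.cyc (nat_lit 25) [(nat_lit 1127), (nat_lit 593), (nat_lit 3484), (nat_lit 911), (nat_lit 1653)])) (.leaf .df)))) (.node (.node (.node (.leaf .df) (.leaf (.cyc (nat_lit 46) [(nat_lit 2564), (nat_lit 7475), (nat_lit 2564)]))) (.node (.leaf (.cyc (nat_lit 23) [(nat_lit 673), (nat_lit 671), (nat_lit 1268)])) (.leaf .df))) (.node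 (.node (.leaf (.cyc (nat_lit 34) [(nat_lit 200), (nat_lit 79), (nat_lit 2809), (nat_lit 79), (nat_lit 200)])) (.leaf .df)) (.node (.leaf (.cyc (nat_lit 8) [(nat_lit 7168), (nat_lit 7169), (nat_lit 1672), (nat_lit 4384), (nat_lit 1556)])) (.leaf .df))))) (.node (.node (.node (.node (.leaf .df) (.leaf (.cyc (nat_lit 121) [(nat_lit 8704), (nat_lit 2273), (nat_lit 5814), (nat_lit 1855), (nat_lit 6730)]))) (.node (.leaf (.cyc (nat_lit 73) [(nat_lit 971), (nat_lit 4609)])) (.leaf .df))) (.node (.node (.leaf .df) (.leaf .df)) (.node (.leaf (.cyc (nat_lit 120) [(nat_lit 5763), (nat_lit 4632), (nat_lit 1086), (nat_lit 6646), (nat_lit 1823), (nat_lit 1064), (nat_lit 3694), (nat_lit 563), (nat_lit 1068), (nat_lit 4701), (nat_lit 1828)])) (.leaf .df)))) (.node (.node (.node (.leaf .df) (.leaf (.cyc (nat_lit 6) [(nat_lit 2686), (nat_lit 8882), (nat_lit 7778), (nat_lit 8882), (nat_lit 2686)]))) (.node (.leaf (.cyc (nat_lit 76) [(nat_lit 5633), (nat_lit 1097), (nat_lit 579), (nat_lit 577), (nat_lit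 1095)])) (.leaf .df))) (.node (.node (.leaf (.cyc (nat_lit 31) [(nat_lit 509), (nat_lit 233), (nat_lit 2901), (nat_lit 233), (nat_lit 509)])) (.leaf .df)) (.node (.leaf (.cyc (nat_lit 18) [(nat_lit 2152), (nat_lit 1382), (nat_lit 3925), (nat_lit 1382), (nat_lit 2152)])) (.leaf .df)))))) (.node (.node (.node (.node (.node (.leaf .df) (.leaf (.cyc (nat_lit 118) [(nat_lit 7211), (nat_lit 2006), (nat_lit 1223), (nat_lit 1225), (nat_lit 5091), (nat_lit 5810), (nat_lit 2272), (nat_lit 8105), (nat_lit 8102), (nat_lit 5814), (nat_lit 1092), (nat_lit 3715), (nat_lit 4292), (nat_lit 1570), (nat_lit 2287), (nat_lit 8160), (nat_lit 2360)]))) (.node (.leaf (.cyc (nat_lit 3) [(nat_lit 4353), (nat_lit 596), (nat_lit 3727)])) (.leaf .df))) (.node (.node (.leaf .df) (.leaf .df)) (.node (.leaf (.cyc (nat_lit 25) [(nat_lit 1744), (nat_lit 6258), (nat_lit 6260), (nat_lit 6258), (nat_lit 1744)])) (.leaf .df)))) (.node (.node (.node (.leaf .df) (.leaf (.cyc (nat_lit 26) [(nat_lit 2628), (nat_lit 8146),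 (nat_lit 8147), (nat_lit 8146), (nat_lit 2628)]))) (.node (.leaf (.cyc (nat_lit 56) [(nat_lit 1369), (nat_lit 5361), (nat_lit 5362), (nat_lit 5361), (nat_lit 1369)])) (.leaf .df))) (.node (.node (.leaf (.cyc (nat_lit 108) [(nat_lit 169), (nat_lit 67), (nat_lit 2799), (nat_lit 19), (nat_lit 5), (nat_lit 2764), (nat_lit 4), (nat_lit 2775), (nat_lit 64), (nat_lit 158), (nat_lit 3329)])) (.leaf .df)) (.node (.leaf (.cyc (nat_lit 46) [(nat_lit 2080), (nat_lit 5172), (nat_lit 2080)])) (.leaf .df))))) (.node (.node (.node (.node (.leaf .df) (.leaf (.cyc (nat_lit 6) [(nat_lit 2494), (nat_lit 8738), (nat_lit 8736), (nat_lit 8738), (nat_lit 2494)]))) (.node (.leaf (.cyc (nat_lit 23) [(nat_lit 4502), (nat_lit 4494), (nat_lit 1149)])) (.leaf .df))) (.node (.node (.leaf (.cyc (nat_lit 26) [(nat_lit 31), (nat_lit 30), (nat_lit 2814), (nat_lit 30), (nat_lit 31)])) (.leaf .df)) (.node (.leaf (.cyc (nat_lit 9) [(nat_lit 6913), (nat_lit 1598), (nat_lit 876), (nat_lit 875), (nat_lit 5955)])) (.leaf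 .df)))) (.node (.node (.node (.leaf .df) (.leaf (.cyc (nat_lit 16) [(nat_lit 2743), (nat_lit 9784), (nat_lit 9674), (nat_lit 9784), (nat_lit 2743)]))) (.node (.leaf (.cyc (nat_lit 156) [(nat_lit 1551), (nat_lit 837), (nat_lit 839), (nat_lit 4176), (nat_lit 4071), (nat_lit 4169), (nat_lit 4190), (nat_lit 1546), (nat_lit 5888), (nat_lit 5373), (nat_lit 1366), (nat_lit 1368)])) (.leaf .df))) (.node (.node (.leaf (.cyc (nat_lit 15) [(nat_lit 657), (nat_lit 3238), (nat_lit 657)])) (.leaf .df)) (.node (.leaf (.cyc (nat_lit 27) [(nat_lit 1467), (nat_lit 1466), (nat_lit 2221)])) (.leaf .df))))))) (.node (.node (.node (.node (.node (.node (.leaf .df) (.leaf (.cyc (nat_lit 94) [(nat_lit 2329), (nat_lit 2330), (nat_lit 8321), (nat_lit 2330), (nat_lit 2329)]))) (.node (.leaf (.cyc (nat_lit 41) [(nat_lit 691), (nat_lit 690), (nat_lit 4222), (nat_lit 863)])) (.leaf .df))) (.node (.node (.leaf .df) (.leaf .df)) (.node (.leaf (.cyc (nat_lit 34) [(nat_lit 5721), (nat_lit 5720), (nat_lit 949),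 (nat_lit 947), (nat_lit 1700)])) (.leaf .df)))) (.node (.node (.node (.leaf .df) (.leaf (.cyc (nat_lit 28) [(nat_lit 2596), (nat_lit 8875), (nat_lit 8876), (nat_lit 8875), (nat_lit 2596)]))) (.node (.leaf (.cyc (nat_lit 107) [(nat_lit 5249), (nat_lit 712), (nat_lit 334), (nat_lit 332), (nat_lit 708), (nat_lit 4411), (nat_lit 708), (nat_lit 332), (nat_lit 334), (nat_lit 712), (nat_lit 5249)])) (.leaf .df))) (.node (.node (.leaf (.cyc (nat_lit 49) [(nat_lit 3124), (nat_lit 2946), (nat_lit 282)])) (.leaf .df)) (.node (.leaf (.cyc (nat_lit 19) [(nat_lit 2032), (nat_lit 2031), (nat_lit 7296), (nat_lit 2031), (nat_lit 2032)])) (.leaf .df))))) (.node (.node (.node (.node (.leaf .df) (.leaf (.cyc (nat_lit 93) [(nat_lit 2463), (nat_lit 6753), (nat_lit 2455), (nat_lit 8808), (nat_lit 8805), (nat_lit 8806), (nat_lit 8805), (nat_lit 8808), (nat_lit 2455), (nat_lit 6753), (nat_lit 2463)]))) (.node (.leaf (.cyc (nat_lit 16) [(nat_lit 4114), (nat_lit 4672), (nat_lit 578), (nat_lit 3714), (nat_lit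 1090)])) (.leaf .df))) (.node (.node (.leaf .df) (.leaf .df)) (.node (.leaf (.cyc (nat_lit 15) [(nat_lit 5323), (nat_lit 4787), (nat_lit 1876)])) (.leaf .df)))) (.node (.node (.node (.leaf .df) (.leaf (.cyc (nat_lit 45) [(nat_lit 2564), (nat_lit 2096), (nat_lit 7444), (nat_lit 2555), (nat_lit 2717)]))) (.node (.leaf (.cyc (nat_lit 30) [(nat_lit 850), (nat_lit 425), (nat_lit 3377), (nat_lit 823), (nat_lit 1528)])) (.leaf .df))) (.node (.node (.leaf (.cyc (nat_lit 23) [(nat_lit 270), (nat_lit 268), (nat_lit 575)])) (.leaf .df)) (.node (.leaf (.cyc (nat_lit 44) [(nat_lit 2188), (nat_lit 7732), (nat_lit 7731), (nat_lit 7732), (nat_lit 2188)])) (.leaf .df)))))) (.node (.node (.node (.node (.node (.leaf .df) (.leaf (.cyc (nat_lit 30) [(nat_lit 2395), (nat_lit 6445), (nat_lit 4835), (nat_lit 6445), (nat_lit 2395)]))) (.node (.leaf (.cyc (nat_lit 31) [(nat_lit 978), (nat_lit 4256), (nat_lit 4257), (nat_lit 4256), (nat_lit 978)])) (.leaf .df))) (.node (.node (.leaf .df) (.leaf .df)) (.node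 (.leaf (.cyc (nat_lit 7) [(nat_lit 6529), (nat_lit 1198), (nat_lit 1199)])) (.leaf .df)))) (.node (.node (.node (.leaf .df) (.leaf (.cyc (nat_lit 53) [(nat_lit 2658), (nat_lit 2352), (nat_lit 6202), (nat_lit 2352), (nat_lit 2658)]))) (.node (.leaf (.cyc (nat_lit 86) [(nat_lit 5505), (nat_lit 5062), (nat_lit 1386)])) (.leaf .df))) (.node (.node (.leaf (.cyc (nat_lit 37) [(nat_lit 440), (nat_lit 3359), (nat_lit 3360), (nat_lit 3359), (nat_lit 440)])) (.leaf .df)) (.node (.leaf (.cyc (nat_lit 23) [(nat_lit 1339), (nat_lit 1338), (nat_lit 2116)])) (.leaf .df))))) (.node (.node (.node (.node (.leaf .df) (.leaf (.cyc (nat_lit 28) [(nat_lit 2528), (nat_lit 7252), (nat_lit 5595), (nat_lit 7252), (nat_lit 2528)]))) (.node (.leaf (.cyc (nat_lit 74) [(nat_lit 4956), (nat_lit 4992)])) (.leaf .df))) (.node (.node (.leaf (.cyc (nat_lit 50) [(nat_lit 120), (nat_lit 51), (nat_lit 14), (nat_lit 55), (nat_lit 131)])) (.leaf .df)) (.node (.leaf (.cyc (nat_lit 27) [(nat_lit 1184), (nat_lit 1183),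 (nat_lit 7041)])) (.leaf .df)))) (.node (.node (.node (.leaf .df) (.leaf .df)) (.node (.leaf (.cyc (nat_lit 131) [(nat_lit 4285), (nat_lit 894), (nat_lit 453), (nat_lit 3126), (nat_lit 3188), (nat_lit 269), (nat_lit 270), (nat_lit 577), (nat_lit 4266), (nat_lit 4265), (nat_lit 1609)])) (.leaf .df))) (.node (.node (.leaf (.cyc (nat_lit 48) [(nat_lit 755), (nat_lit 3440), (nat_lit 755)])) (.leaf .df)) (.node (.leaf (.cyc (nat_lit 53) [(nat_lit 7567), (nat_lit 2119), (nat_lit 6886), (nat_lit 6887), (nat_lit 2261)])) (.leaf .df))))))))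
noncomputable def u5P0100001 : BT Pf := (.node (.node (.node (.node (.node (.node (.node (.leaf .df) (.leaf (.cyc (nat_lit 21) [(nat_lit 1773), (nat_lit 4566), (nat_lit 4295), (nat_lit 1626), (nat_lit 2315)]))) (.node (.leaf (.cyc (nat_lit 51) [(nat_lit 827), (nat_lit 3378), (nat_lit 4120), (nat_lit 535), (nat_lit 3158), (nat_lit 3156), (nat_lit 3158), (nat_lit 535), (nat_lit 4120), (nat_lit 3378), (nat_lit 827)])) (.leaf .df))) (.node (.node (.leaf .df) (.leaf .df)) (.node (.leaf (.cyc (nat_lit 21) [(nat_lit 1679), (nat_lit 933), (nat_lit 3526), (nat_lit 933), (nat_lit 1679)])) (.leaf .df)))) (.node (.node (.node (.leaf .df) (.leaf (.cyc (nat_lit 62) [(nat_lit 2577), (nat_lit 8829), (nat_lit 8835), (nat_lit 8829), (nat_lit 2577)]))) (.node (.leaf (.cyc (nat_lit 40) [(nat_lit 5184), (nat_lit 4223), (nat_lit 5184)])) (.leaf .df))) (.node (.node (.leaf (.cyc (nat_lit 19) [(nat_lit 197), (nat_lit 78), (nat_lit 2838), (nat_lit 2903), (nat_lit 238)])) (.leaf .df)) (.node (.leaf (.cyc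 (nat_lit 45) [(nat_lit 1972), (nat_lit 1192), (nat_lit 3836), (nat_lit 1237), (nat_lit 2014)])) (.leaf .df))))) (.node (.node (.node (.node (.leaf .df) (.leaf (.cyc (nat_lit 27) [(nat_lit 8711), (nat_lit 8672), (nat_lit 2445)]))) (.node (.leaf (.cyc (nat_lit 142) [(nat_lit 1053), (nat_lit 1055), (nat_lit 4670), (nat_lit 578), (nat_lit 270), (nat_lit 2923), (nat_lit 268), (nat_lit 574), (nat_lit 3785), (nat_lit 3711), (nat_lit 624)])) (.leaf .df))) (.node (.node (.leaf .df) (.leaf .df)) (.node (.leaf (.cyc (nat_lit 41) [(nat_lit 1852), (nat_lit 4731), (nat_lit 1852)])) (.leaf .df)))) (.node (.node (.node (.leaf .df) (.leaf (.cyc (nat_lit 25) [(nat_lit 2702), (nat_lit 9259), (nat_lit 9262), (nat_lit 9259), (nat_lit 2702)]))) (.node (.leaf (.cyc (nat_lit 40) [(nat_lit 5695), (nat_lit 4618), (nat_lit 5695)])) (.leaf .df))) (.node (.node (.leaf (.cyc (nat_lit 113) [(nat_lit 474), (nat_lit 3647), (nat_lit 257)])) (.leaf .df)) (.node (.leaf (.cyc (nat_lit 56) [(nat_lit 1788), (nat_lit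 1789), (nat_lit 6948), (nat_lit 6946), (nat_lit 2168)])) (.leaf .df)))))) (.node (.node (.node (.node (.node (.leaf .df) (.leaf (.cyc (nat_lit 23) [(nat_lit 2307), (nat_lit 6370), (nat_lit 2378)]))) (.node (.leaf (.cyc (nat_lit 52) [(nat_lit 812), (nat_lit 815), (nat_lit 4416), (nat_lit 815), (nat_lit 812)])) (.leaf .df))) (.node (.node (.leaf .df) (.leaf .df)) (.node (.leaf (.cyc (nat_lit 59) [(nat_lit 5001), (nat_lit 6464), (nat_lit 6460), (nat_lit 6458), (nat_lit 6417), (nat_lit 1751)])) (.leaf .df)))) (.node (.node (.node (.leaf .df) (.leaf (.cyc (nat_lit 47) [(nat_lit 2643), (nat_lit 8227), (nat_lit 6152), (nat_lit 8227), (nat_lit 2643)]))) (.node (.leaf (.cyc (nat_lit 15) [(nat_lit 1407), (nat_lit 3950), (nat_lit 1407)])) (.leaf .df))) (.node (.node (.leaf (.cyc (nat_lit 47) [(nat_lit 426), (nat_lit 3053), (nat_lit 3055), (nat_lit 3053), (nat_lit 426)])) (.leaf .df)) (.node (.leaf (.cyc (nat_lit 62) [(nat_lit 2100), (nat_lit 5242), (nat_lit 4768), (nat_lit 5242), (nat_lit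 2100)])) (.leaf .df))))) (.node (.node (.node (.node (.leaf .df) (.leaf (.cyc (nat_lit 41) [(nat_lit 2512), (nat_lit 7068), (nat_lit 2512)]))) (.node (.leaf (.cyc (nat_lit 28) [(nat_lit 626), (nat_lit 291), (nat_lit 289), (nat_lit 623), (nat_lit 1175)])) (.leaf .df))) (.node (.node (.leaf (.cyc (nat_lit 20) [(nat_lit 48), (nat_lit 2811), (nat_lit 81)])) (.leaf .df)) (.node (.leaf (.cyc (nat_lit 115) [(nat_lit 6968), (nat_lit 6119), (nat_lit 6977), (nat_lit 6119), (nat_lit 6968)])) (.leaf .df)))) (.node (.node (.node (.leaf .df) (.leaf .df)) (.node (.leaf (.cyc (nat_lit 6) [(nat_lit 1589), (nat_lit 870), (nat_lit 3458), (nat_lit 870), (nat_lit 1589)])) (.leaf .df))) (.node (.node (.leaf (.cyc (nat_lit 18) [(nat_lit 644), (nat_lit 3290), (nat_lit 338), (nat_lit 336), (nat_lit 716)])) (.leaf .df)) (.node (.leaf (.cyc (nat_lit 124) [(nat_lit 8001), (nat_lit 6517), (nat_lit 5324), (nat_lit 4579), (nat_lit 1667)])) (.leaf .df))))))) (.node (.node (.node (.node (.node (.node (.leaf .df)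 (.leaf (.cyc (nat_lit 44) [(nat_lit 2345), (nat_lit 6940), (nat_lit 6939), (nat_lit 6940), (nat_lit 2345)]))) (.node (.leaf (.cyc (nat_lit 129) [(nat_lit 4289), (nat_lit 4286), (nat_lit 4287), (nat_lit 508), (nat_lit 231), (nat_lit 2895), (nat_lit 231), (nat_lit 508), (nat_lit 4287), (nat_lit 4286), (nat_lit 4289)])) (.leaf .df))) (.node (.node (.leaf .df) (.leaf .df)) (.node (.leaf (.cyc (nat_lit 2) [(nat_lit 6336), (nat_lit 4610), (nat_lit 500), (nat_lit 501), (nat_lit 974)])) (.leaf .df)))) (.node (.node (.node (.leaf .df) (.leaf (.cyc (nat_lit 63) [(nat_lit 9407), (nat_lit 2612), (nat_lit 2230), (nat_lit 2232), (nat_lit 2613)]))) (.node (.leaf (.cyc (nat_lit 27) [(nat_lit 716), (nat_lit 715), (nat_lit 1345)])) (.leaf .df))) (.node (.node (.leaf (.cyc (nat_lit 9) [(nat_lit 3265), (nat_lit 236), (nat_lit 2997), (nat_lit 227), (nat_lit 3202)])) (.leaf .df)) (.node (.leaf (.cyc (nat_lit 62) [(nat_lit 1711), (nat_lit 957), (nat_lit 956), (nat_lit 1709), (nat_lit 7357)])) (.leaf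 .df))))) (.node (.node (.node (.node (.leaf .df) (.leaf (.cyc (nat_lit 21) [(nat_lit 2479), (nat_lit 6790), (nat_lit 6620), (nat_lit 6790), (nat_lit 2479)]))) (.node (.leaf (.cyc (nat_lit 49) [(nat_lit 4466), (nat_lit 4126), (nat_lit 1115)])) (.leaf .df))) (.node (.node (.leaf (.pin (nat_lit 5) [] [])) (.leaf .df)) (.node (.leaf (.cyc (nat_lit 41) [(nat_lit 1449), (nat_lit 4829), (nat_lit 1901)])) (.leaf .df)))) (.node (.node (.node (.leaf .df) (.leaf (.cyc (nat_lit 28) [(nat_lit 2730), (nat_lit 2610), (nat_lit 7967), (nat_lit 2610), (nat_lit 2730)]))) (.node (.leaf (.cyc (nat_lit 20) [(nat_lit 836), (nat_lit 833), (nat_lit 1545)])) (.leaf .df))) (.node (.node (.leaf (.cyc (nat_lit 121) [(nat_lit 3777), (nat_lit 322), (nat_lit 2948), (nat_lit 211), (nat_lit 471)])) (.leaf .df)) (.node (.leaf (.cyc (nat_lit 21) [(nat_lit 1806), (nat_lit 1050), (nat_lit 1051), (nat_lit 6498), (nat_lit 2204)])) (.leaf .df)))))) (.node (.node (.node (.node (.node (.leaf .df) (.leaf (.cyc (nat_lit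 15) [(nat_lit 1849), (nat_lit 6523), (nat_lit 2412)]))) (.node (.leaf (.cyc (nat_lit 20) [(nat_lit 1008), (nat_lit 3610), (nat_lit 1008)])) (.leaf .df))) (.node (.node (.leaf .df) (.leaf .df)) (.node (.leaf (.cyc (nat_lit 21) [(nat_lit 1803), (nat_lit 4988), (nat_lit 5010), (nat_lit 4988), (nat_lit 1803)])) (.leaf .df)))) (.node (.node (.node (.leaf .df) (.leaf (.cyc (nat_lit 58) [(nat_lit 9664), (nat_lit 2672), (nat_lit 2671), (nat_lit 9660), (nat_lit 9659), (nat_lit 9657), (nat_lit 9659), (nat_lit 9660), (nat_lit 2671), (nat_lit 2672), (nat_lit 9664)]))) (.node (.leaf (.cyc (nat_lit 110) [(nat_lit 5569), (nat_lit 4240), (nat_lit 1456)])) (.leaf .df))) (.node (.node (.leaf (.cyc (nat_lit 15) [(nat_lit 217), (nat_lit 216), (nat_lit 479)])) (.leaf .df)) (.node (.leaf (.cyc (nat_lit 27) [(nat_lit 1361), (nat_lit 1360), (nat_lit 2133)])) (.leaf .df))))) (.node (.node (.node (.node (.leaf .df) (.leaf (.cyc (nat_lit 34) [(nat_lit 2378), (nat_lit 1733), (nat_lit 1734), (nat_lit 7354),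 (nat_lit 2545)]))) (.node (.leaf (.cyc (nat_lit 45) [(nat_lit 1241), (nat_lit 658), (nat_lit 3238), (nat_lit 658), (nat_lit 1241)])) (.leaf .df))) (.node (.node (.leaf (.cyc (nat_lit 26) [(nat_lit 170), (nat_lit 67), (nat_lit 2799), (nat_lit 67), (nat_lit 170)])) (.leaf .df)) (.node (.leaf (.cyc (nat_lit 35) [(nat_lit 1569), (nat_lit 854), (nat_lit 3799), (nat_lit 1195), (nat_lit 1975)])) (.leaf .df)))) (.node (.node (.node (.leaf .df) (.leaf .df)) (.node (.leaf (.cyc (nat_lit 105) [(nat_lit 6080), (nat_lit 4551), (nat_lit 6022)])) (.leaf .df))) (.node (.node (.leaf (.cyc (nat_lit 72) [(nat_lit 3384), (nat_lit 4033), (nat_lit 157)])) (.leaf .df)) (.node (.leaf (.cyc (nat_lit 6) [(nat_lit 2279), (nat_lit 7274), (nat_lit 7273), (nat_lit 7274), (nat_lit 2279)])) (.leaf .df))))))))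
noncomputable def u5P010000 : BT Pf := .node u5P0100000 u5P0100001
noncomputable def u5P0100010 : BT Pf := (.node (.node (.node (.node (.node (.node (.node (.leaf .df) (.leaf (.cyc (nat_lit 26) [(nat_lit 2303), (nat_lit 7940), (nat_lit 7944), (nat_lit 7940), (nat_lit 2303)]))) (.node (.leaf (.cyc (nat_lit 62) [(nat_lit 399), (nat_lit 167), (nat_lit 166), (nat_lit 398), (nat_lit 804)])) (.leaf .df))) (.node (.node (.leaf .df) (.leaf .df)) (.node (.leaf (.cyc (nat_lit 20) [(nat_lit 1667), (nat_lit 4346), (nat_lit 1667)])) (.leaf .df)))) (.node (.node (.node (.leaf .df) (.leaf (.cyc (nat_lit 10) [(nat_lit 9249), (nat_lit 9245), (nat_lit 9249)]))) (.node (.leaf (.cyc (nat_lit 75) [(nat_lit 1283), (nat_lit 1284), (nat_lit 5153), (nat_lit 1284), (nat_lit 1283)])) (.leaf .df))) (.node (.node (.leaf (.cyc (nat_lit 6) [(nat_lit 3052), (nat_lit 95), (nat_lit 2827), (nat_lit 85), (nat_lit 217)])) (.leaf .df)) (.node (.leaf (.cyc (nat_lit 16) [(nat_lit 2003), (nat_lit 5329), (nat_lit 5330),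 (nat_lit 5329), (nat_lit 2003)])) (.leaf .df))))) (.node (.node (.node (.node (.leaf .df) (.leaf (.cyc (nat_lit 62) [(nat_lit 1919), (nat_lit 6494), (nat_lit 1703), (nat_lit 6637), (nat_lit 2436)]))) (.node (.leaf (.cyc (nat_lit 47) [(nat_lit 1046), (nat_lit 4086), (nat_lit 3635), (nat_lit 4086), (nat_lit 1046)])) (.leaf .df))) (.node (.node (.leaf .df) (.leaf .df)) (.node (.leaf (.cyc (nat_lit 20) [(nat_lit 1080), (nat_lit 1079), (nat_lit 1841)])) (.leaf .df)))) (.node (.node (.node (.leaf .df) (.leaf (.cyc (nat_lit 35) [(nat_lit 2694), (nat_lit 9757), (nat_lit 9758), (nat_lit 9757), (nat_lit 2694)]))) (.node (.leaf (.cyc (nat_lit 107) [(nat_lit 1492), (nat_lit 5034), (nat_lit 5036), (nat_lit 1269), (nat_lit 5127), (nat_lit 5126), (nat_lit 5127), (nat_lit 1269), (nat_lit 5036), (nat_lit 5034), (nat_lit 1492)])) (.leaf .df))) (.node (.node (.leaf (.cyc (nat_lit 15) [(nat_lit 519), (nat_lit 3152), (nat_lit 531)])) (.leaf .df)) (.node (.leaf (.cyc (nat_lit 21) [(nat_lit 2160), (nat_lit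 1390), (nat_lit 3941), (nat_lit 1390), (nat_lit 2160)])) (.leaf .df)))))) (.node (.node (.node (.node (.node (.leaf .df) (.leaf (.cyc (nat_lit 44) [(nat_lit 6962), (nat_lit 8368), (nat_lit 8364), (nat_lit 7501), (nat_lit 2370)]))) (.node (.leaf (.cyc (nat_lit 48) [(nat_lit 4382), (nat_lit 4381), (nat_lit 930)])) (.leaf .df))) (.node (.node (.leaf .df) (.leaf .df)) (.node (.leaf (.cyc (nat_lit 41) [(nat_lit 1277), (nat_lit 4533), (nat_lit 1755)])) (.leaf .df)))) (.node (.node (.node (.leaf .df) (.leaf (.cyc (nat_lit 27) [(nat_lit 2637), (nat_lit 8161), (nat_lit 2637)]))) (.node (.leaf (.cyc (nat_lit 20) [(nat_lit 1384), (nat_lit 3931), (nat_lit 1384)])) (.leaf .df))) (.node (.node (.leaf (.cyc (nat_lit 85) [(nat_lit 3348), (nat_lit 384), (nat_lit 158), (nat_lit 64), (nat_lit 2803), (nat_lit 27), (nat_lit 2785), (nat_lit 77), (nat_lit 2976), (nat_lit 2978), (nat_lit 394)])) (.leaf .df)) (.node (.leaf (.cyc (nat_lit 41) [(nat_lit 2090), (nat_lit 5212), (nat_lit 2090)])) (.leaf .df)))))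 (.node (.node (.node (.node (.leaf .df) (.leaf (.cyc (nat_lit 18) [(nat_lit 2502), (nat_lit 7128), (nat_lit 6698), (nat_lit 7128), (nat_lit 2502)]))) (.node (.leaf (.cyc (nat_lit 19) [(nat_lit 4600), (nat_lit 4602), (nat_lit 857), (nat_lit 3762), (nat_lit 1163)])) (.leaf .df))) (.node (.node (.leaf (.cyc (nat_lit 41) [(nat_lit 34), (nat_lit 13), (nat_lit 50)])) (.leaf .df)) (.node (.leaf (.cyc (nat_lit 7) [(nat_lit 6945), (nat_lit 1402), (nat_lit 1403)])) (.leaf .df)))) (.node (.node (.node (.leaf .df) (.leaf .df)) (.node (.leaf (.cyc (nat_lit 30) [(nat_lit 1575), (nat_lit 1574), (nat_lit 5921), (nat_lit 1574), (nat_lit 1575)])) (.leaf .df))) (.node (.node (.leaf (.cyc (nat_lit 28) [(nat_lit 681), (nat_lit 3698), (nat_lit 3701), (nat_lit 3698), (nat_lit 681)])) (.leaf .df)) (.node (.leaf (.cyc (nat_lit 140) [(nat_lit 7969), (nat_lit 7765), (nat_lit 5798), (nat_lit 7765), (nat_lit 7969)])) (.leaf .df))))))) (.node (.node (.node (.node (.node (.node (.leaf .df) (.leaf (.cyc (nat_lit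 27) [(nat_lit 2095), (nat_lit 6141), (nat_lit 2338)]))) (.node (.leaf (.cyc (nat_lit 6) [(nat_lit 881), (nat_lit 446), (nat_lit 3067), (nat_lit 446), (nat_lit 881)])) (.leaf .df))) (.node (.node (.leaf .df) (.leaf .df)) (.node (.leaf (.cyc (nat_lit 30) [(nat_lit 1711), (nat_lit 1710), (nat_lit 6305), (nat_lit 1710), (nat_lit 1711)])) (.leaf .df)))) (.node (.node (.node (.leaf .df) (.leaf (.cyc (nat_lit 48) [(nat_lit 2605), (nat_lit 7893), (nat_lit 2605)]))) (.node (.leaf (.cyc (nat_lit 57) [(nat_lit 797), (nat_lit 393), (nat_lit 2980), (nat_lit 161), (nat_lit 163), (nat_lit 394), (nat_lit 3361), (nat_lit 3363), (nat_lit 760), (nat_lit 5280), (nat_lit 5281)])) (.leaf .df))) (.node (.node (.leaf (.cyc (nat_lit 94) [(nat_lit 300), (nat_lit 301), (nat_lit 3233), (nat_lit 301), (nat_lit 300)])) (.leaf .df)) (.node (.leaf (.cyc (nat_lit 41) [(nat_lit 2045), (nat_lit 5118), (nat_lit 2045)])) (.leaf .df))))) (.node (.node (.node (.node (.leaf .df) (.leaf (.cyc (nat_lit 20) [(nat_lit 8066),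 (nat_lit 7059), (nat_lit 2472)]))) (.node (.leaf (.cyc (nat_lit 45) [(nat_lit 1107), (nat_lit 4260), (nat_lit 4259), (nat_lit 4260), (nat_lit 1107)])) (.leaf .df))) (.node (.node (.leaf .df) (.leaf .df)) (.node (.leaf (.cyc (nat_lit 41) [(nat_lit 5808), (nat_lit 4994), (nat_lit 1886)])) (.leaf .df)))) (.node (.node (.node (.leaf .df) (.leaf (.cyc (nat_lit 23) [(nat_lit 9889), (nat_lit 2723), (nat_lit 2724)]))) (.node (.leaf (.cyc (nat_lit 15) [(nat_lit 1534), (nat_lit 4162), (nat_lit 1534)])) (.leaf .df))) (.node (.node (.leaf (.cyc (nat_lit 60) [(nat_lit 596), (nat_lit 598), (nat_lit 3745), (nat_lit 598), (nat_lit 596)])) (.leaf .df)) (.node (.leaf (.cyc (nat_lit 87) [(nat_lit 2196), (nat_lit 6182), (nat_lit 6900), (nat_lit 1915), (nat_lit 5520), (nat_lit 5525), (nat_lit 5520), (nat_lit 1915), (nat_lit 6900), (nat_lit 6182), (nat_lit 2196)])) (.leaf .df)))))) (.node (.node (.node (.node (.node (.leaf .df) (.leaf (.cyc (nat_lit 75) [(nat_lit 8535), (nat_lit 8225), (nat_lit 8608),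 (nat_lit 2402), (nat_lit 8263)]))) (.node (.leaf (.cyc (nat_lit 54) [(nat_lit 989), (nat_lit 4485), (nat_lit 4484), (nat_lit 512), (nat_lit 511), (nat_lit 3591), (nat_lit 511), (nat_lit 512), (nat_lit 4484), (nat_lit 4485), (nat_lit 989)])) (.leaf .df))) (.node (.node (.leaf .df) (.leaf .df)) (.node (.leaf (.cyc (nat_lit 34) [(nat_lit 1795), (nat_lit 4831), (nat_lit 4833), (nat_lit 4831), (nat_lit 1795)])) (.leaf .df)))) (.node (.node (.node (.leaf .df) (.leaf (.cyc (nat_lit 30) [(nat_lit 2666), (nat_lit 8819), (nat_lit 8817), (nat_lit 8819), (nat_lit 2666)]))) (.node (.leaf (.cyc (nat_lit 37) [(nat_lit 1453), (nat_lit 5534), (nat_lit 5536), (nat_lit 5534), (nat_lit 1453)])) (.leaf .df))) (.node (.node (.leaf (.cyc (nat_lit 58) [(nat_lit 462), (nat_lit 206), (nat_lit 205), (nat_lit 458), (nat_lit 3483), (nat_lit 3482), (nat_lit 3483), (nat_lit 458), (nat_lit 205), (nat_lit 206), (nat_lit 462)])) (.leaf .df)) (.node (.leaf (.cyc (nat_lit 46) [(nat_lit 5753), (nat_lit 5754), (nat_lit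 2124)])) (.leaf .df))))) (.node (.node (.node (.node (.leaf .df) (.leaf (.cyc (nat_lit 35) [(nat_lit 2536), (nat_lit 9116), (nat_lit 9118), (nat_lit 9116), (nat_lit 2536)]))) (.node (.leaf (.cyc (nat_lit 5) [(nat_lit 5025), (nat_lit 4371), (nat_lit 3286), (nat_lit 4371), (nat_lit 5025)])) (.leaf .df))) (.node (.node (.leaf (.cyc (nat_lit 65) [(nat_lit 2976), (nat_lit 2877), (nat_lit 2832), (nat_lit 13), (nat_lit 3), (nat_lit 2759), (nat_lit 1), (nat_lit 18), (nat_lit 65), (nat_lit 163), (nat_lit 2977)])) (.leaf .df)) (.node (.leaf (.cyc (nat_lit 35) [(nat_lit 5810), (nat_lit 5808), (nat_lit 4993), (nat_lit 4954), (nat_lit 1967)])) (.leaf .df)))) (.node (.node (.node (.leaf .df) (.leaf .df)) (.node (.leaf (.cyc (nat_lit 23) [(nat_lit 1168), (nat_lit 4273), (nat_lit 1619)])) (.leaf .df))) (.node (.node (.leaf (.cyc (nat_lit 27) [(nat_lit 364), (nat_lit 363), (nat_lit 768)])) (.leaf .df)) (.node (.leaf (.cyc (nat_lit 20) [(nat_lit 2271), (nat_lit 5805), (nat_lit 2271)])) (.leaf .df))))))))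
noncomputable def u5P0100011 : BT Pf := (.node (.node (.node (.node (.node (.node (.node (.leaf .df) (.leaf (.cyc (nat_lit 56) [(nat_lit 7403), (nat_lit 5364), (nat_lit 5077), (nat_lit 6098), (nat_lit 2323)]))) (.node (.leaf (.cyc (nat_lit 15) [(nat_lit 4193), (nat_lit 3409), (nat_lit 4193)])) (.leaf .df))) (.node (.node (.leaf .df) (.leaf .df)) (.node (.leaf (.cyc (nat_lit 0) [(nat_lit 1380), (nat_lit 5379), (nat_lit 6241), (nat_lit 1323), (nat_lit 1322)])) (.leaf .df)))) (.node (.node (.node (.leaf .df) (.leaf (.cyc (nat_lit 34) [(nat_lit 2586), (nat_lit 9234), (nat_lit 9258), (nat_lit 9234), (nat_lit 2586)]))) (.node (.leaf (.cyc (nat_lit 19) [(nat_lit 1308), (nat_lit 3885), (nat_lit 3253), (nat_lit 3885), (nat_lit 1308)])) (.leaf .df))) (.node (.node (.leaf (.cyc (nat_lit 41) [(nat_lit 254), (nat_lit 3166), (nat_lit 254)])) (.leaf .df)) (.node (.leaf (.cyc (nat_lit 41) [(nat_lit 1588), (nat_lit 5098), (nat_lit 2024)])) (.leaf .df))))) (.node (.node (.node (.node (.leaf .df)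 (.leaf (.cyc (nat_lit 44) [(nat_lit 2454), (nat_lit 6951), (nat_lit 6950), (nat_lit 6951), (nat_lit 2454)]))) (.node (.leaf (.cyc (nat_lit 34) [(nat_lit 1070), (nat_lit 563), (nat_lit 3184), (nat_lit 563), (nat_lit 1070)])) (.leaf .df))) (.node (.node (.leaf .df) (.leaf .df)) (.node (.leaf (.cyc (nat_lit 20) [(nat_lit 1864), (nat_lit 4753), (nat_lit 1864)])) (.leaf .df)))) (.node (.node (.node (.leaf .df) (.leaf (.cyc (nat_lit 31) [(nat_lit 2710), (nat_lit 2539), (nat_lit 7324), (nat_lit 2539), (nat_lit 2710)]))) (.node (.leaf (.cyc (nat_lit 34) [(nat_lit 1519), (nat_lit 4172), (nat_lit 4197), (nat_lit 4172), (nat_lit 1519)])) (.leaf .df))) (.node (.node (.leaf (.cyc (nat_lit 15) [(nat_lit 266), (nat_lit 3179), (nat_lit 552)])) (.leaf .df)) (.node (.leaf (.cyc (nat_lit 37) [(nat_lit 2177), (nat_lit 6803), (nat_lit 6804), (nat_lit 6803), (nat_lit 2177)])) (.leaf .df)))))) (.node (.node (.node (.node (.node (.leaf .df) (.leaf (.cyc (nat_lit 30) [(nat_lit 2306), (nat_lit 1607), (nat_lit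 4510), (nat_lit 1745), (nat_lit 2387)]))) (.node (.leaf (.cyc (nat_lit 8) [(nat_lit 4448), (nat_lit 4176), (nat_lit 839), (nat_lit 4170), (nat_lit 4195)])) (.leaf .df))) (.node (.node (.leaf .df) (.leaf .df)) (.node (.leaf (.cyc (nat_lit 57) [(nat_lit 4654), (nat_lit 4653), (nat_lit 1055), (nat_lit 4675), (nat_lit 4540), (nat_lit 4984), (nat_lit 1132), (nat_lit 596), (nat_lit 597), (nat_lit 1134), (nat_lit 6496)])) (.leaf .df)))) (.node (.node (.node (.leaf .df) (.leaf (.cyc (nat_lit 69) [(nat_lit 2597), (nat_lit 8878), (nat_lit 8876), (nat_lit 8874), (nat_lit 2319), (nat_lit 1632), (nat_lit 4300), (nat_lit 6084), (nat_lit 2317), (nat_lit 2650), (nat_lit 9568)]))) (.node (.leaf (.cyc (nat_lit 44) [(nat_lit 1418), (nat_lit 756), (nat_lit 3440), (nat_lit 756), (nat_lit 1418)])) (.leaf .df))) (.node (.node (.leaf (.cyc (nat_lit 74) [(nat_lit 3352), (nat_lit 3424), (nat_lit 159)])) (.leaf .df)) (.node (.leaf (.cyc (nat_lit 14) [(nat_lit 7520), (nat_lit 7079), (nat_lit 7078), (nat_lit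 1523), (nat_lit 1524)])) (.leaf .df))))) (.node (.node (.node (.node (.leaf .df) (.leaf (.cyc (nat_lit 15) [(nat_lit 2002), (nat_lit 2001), (nat_lit 2520)]))) (.node (.leaf (.cyc (nat_lit 18) [(nat_lit 1194), (nat_lit 4584), (nat_lit 4585), (nat_lit 4584), (nat_lit 1194)])) (.leaf .df))) (.node (.node (.leaf (.cyc (nat_lit 56) [(nat_lit 104), (nat_lit 2840), (nat_lit 2820), (nat_lit 2840), (nat_lit 104)])) (.leaf .df)) (.node (.leaf (.cyc (nat_lit 23) [(nat_lit 7001), (nat_lit 1945), (nat_lit 7009)])) (.leaf .df)))) (.node (.node (.node (.leaf .df) (.leaf .df)) (.node (.leaf (.cyc (nat_lit 27) [(nat_lit 878), (nat_lit 877), (nat_lit 1599)])) (.leaf .df))) (.node (.node (.leaf (.cyc (nat_lit 19) [(nat_lit 736), (nat_lit 3275), (nat_lit 3022), (nat_lit 3275), (nat_lit 736)])) (.leaf .df)) (.node (.leaf (.cyc (nat_lit 30) [(nat_lit 1762), (nat_lit 4540), (nat_lit 1620), (nat_lit 6052), (nat_lit 2250)])) (.leaf .df))))))) (.node (.node (.node (.node (.node (.node (.leaf .df) (.leaf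 (.cyc (nat_lit 49) [(nat_lit 8411), (nat_lit 8413), (nat_lit 2353)]))) (.node (.leaf (.cyc (nat_lit 19) [(nat_lit 913), (nat_lit 4319), (nat_lit 4320), (nat_lit 4319), (nat_lit 913)])) (.leaf .df))) (.node (.node (.leaf .df) (.leaf .df)) (.node (.leaf (.cyc (nat_lit 18) [(nat_lit 1610), (nat_lit 1609), (nat_lit 6020), (nat_lit 4478), (nat_lit 1733)])) (.leaf .df)))) (.node (.node (.node (.leaf .df) (.leaf (.cyc (nat_lit 63) [(nat_lit 2621), (nat_lit 8339), (nat_lit 8337), (nat_lit 8339), (nat_lit 2621)]))) (.node (.leaf (.cyc (nat_lit 35) [(nat_lit 1357), (nat_lit 5343), (nat_lit 5344), (nat_lit 5343), (nat_lit 1357)])) (.leaf .df))) (.node (.node (.leaf (.cyc (nat_lit 48) [(nat_lit 350), (nat_lit 2957), (nat_lit 350)])) (.leaf .df)) (.node (.leaf (.cyc (nat_lit 37) [(nat_lit 2069), (nat_lit 6671), (nat_lit 6672), (nat_lit 6671), (nat_lit 2069)])) (.leaf .df))))) (.node (.node (.node (.node (.leaf .df) (.leaf (.cyc (nat_lit 44) [(nat_lit 1901), (nat_lit 1129), (nat_lit 4824),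 (nat_lit 1894), (nat_lit 2487)]))) (.node (.leaf (.cyc (nat_lit 48) [(nat_lit 724), (nat_lit 3738), (nat_lit 1131)])) (.leaf .df))) (.node (.node (.leaf (.cyc (nat_lit 0) [(nat_lit 25), (nat_lit 26), (nat_lit 2784), (nat_lit 26), (nat_lit 25)])) (.leaf .df)) (.node (.leaf (.cyc (nat_lit 43) [(nat_lit 1907), (nat_lit 1908), (nat_lit 6881), (nat_lit 1908), (nat_lit 1907)])) (.leaf .df)))) (.node (.node (.node (.leaf .df) (.leaf (.cyc (nat_lit 15) [(nat_lit 2737), (nat_lit 9541), (nat_lit 2737)]))) (.node (.leaf (.cyc (nat_lit 28) [(nat_lit 5835), (nat_lit 5833), (nat_lit 4383), (nat_lit 4384), (nat_lit 1555)])) (.leaf .df))) (.node (.node (.leaf (.cyc (nat_lit 87) [(nat_lit 298), (nat_lit 297), (nat_lit 641), (nat_lit 3809), (nat_lit 3569), (nat_lit 3203), (nat_lit 3569), (nat_lit 3809), (nat_lit 641), (nat_lit 297), (nat_lit 298)])) (.leaf .df)) (.node (.leaf (.cyc (nat_lit 63) [(nat_lit 2212), (nat_lit 1451), (nat_lit 4015), (nat_lit 1451), (nat_lit 2212)])) (.leaf .df)))))) (.node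 (.node (.node (.node (.node (.leaf .df) (.leaf (.cyc (nat_lit 47) [(nat_lit 8115), (nat_lit 1967), (nat_lit 1968), (nat_lit 7080), (nat_lit 2419)]))) (.node (.leaf (.cyc (nat_lit 35) [(nat_lit 4570), (nat_lit 1018), (nat_lit 3617), (nat_lit 531), (nat_lit 1021)])) (.leaf .df))) (.node (.node (.leaf .df) (.leaf .df)) (.node (.leaf (.cyc (nat_lit 21) [(nat_lit 5491), (nat_lit 5034), (nat_lit 4127), (nat_lit 4682), (nat_lit 1815)])) (.leaf .df)))) (.node (.node (.node (.leaf .df) (.leaf (.cyc (nat_lit 21) [(nat_lit 2680), (nat_lit 2457), (nat_lit 6732), (nat_lit 2457), (nat_lit 2680)]))) (.node (.leaf (.cyc (nat_lit 54) [(nat_lit 1477), (nat_lit 4103), (nat_lit 3540), (nat_lit 3539), (nat_lit 4185), (nat_lit 4188), (nat_lit 4185), (nat_lit 3539), (nat_lit 3540), (nat_lit 4103), (nat_lit 1477)])) (.leaf .df))) (.node (.node (.leaf (.cyc (nat_lit 96) [(nat_lit 3552), (nat_lit 3124), (nat_lit 131), (nat_lit 2940), (nat_lit 295)])) (.leaf .df)) (.node (.leaf (.cyc (nat_lit 25) [(nat_lit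 2143), (nat_lit 2141), (nat_lit 7645), (nat_lit 2141), (nat_lit 2143)])) (.leaf .df))))) (.node (.node (.node (.node (.leaf .df) (.leaf (.cyc (nat_lit 30) [(nat_lit 2553), (nat_lit 7680), (nat_lit 7678), (nat_lit 7680), (nat_lit 2553)]))) (.node (.leaf (.cyc (nat_lit 100) [(nat_lit 5083), (nat_lit 5088), (nat_lit 4167), (nat_lit 5088), (nat_lit 5083)])) (.leaf .df))) (.node (.node (.leaf (.cyc (nat_lit 27) [(nat_lit 3035), (nat_lit 184), (nat_lit 185)])) (.leaf .df)) (.node (.leaf (.cyc (nat_lit 23) [(nat_lit 7137), (nat_lit 1981), (nat_lit 1982)])) (.leaf .df)))) (.node (.node (.node (.leaf .df) (.leaf .df)) (.node (.leaf (.cyc (nat_lit 76) [(nat_lit 6113), (nat_lit 5911), (nat_lit 470), (nat_lit 3501), (nat_lit 919)])) (.leaf .df))) (.node (.node (.leaf (.cyc (nat_lit 114) [(nat_lit 422), (nat_lit 4055)])) (.leaf .df)) (.node (.leaf (.cyc (nat_lit 26) [(nat_lit 7349), (nat_lit 7525), (nat_lit 4853), (nat_lit 1575), (nat_lit 2288)])) (.leaf .df))))))))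
noncomputable def u5P010001 : BT Pf := .node u5P0100010 u5P0100011
noncomputable def u5P01000 : BT Pf := .node u5P010000 u5P010001
noncomputable def u5P0100100 : BT Pf := (.node (.node (.node (.node (.node (.node (.node (.leaf .df) (.leaf (.cyc (nat_lit 133) [(nat_lit 2299), (nat_lit 7721), (nat_lit 7720), (nat_lit 2161), (nat_lit 6996), (nat_lit 6995), (nat_lit 1464), (nat_lit 786), (nat_lit 787), (nat_lit 1468), (nat_lit 2226)]))) (.node (.leaf (.cyc (nat_lit 27) [(nat_lit 522), (nat_lit 3364), (nat_lit 798)])) (.leaf .df))) (.node (.node (.leaf .df) (.leaf .df)) (.node (.leaf (.cyc (nat_lit 15) [(nat_lit 6144), (nat_lit 6143), (nat_lit 1658)])) (.leaf .df)))) (.node (.node (.node (.leaf .df) (.leaf (.cyc (nat_lit 45) [(nat_lit 7647), (nat_lit 5864), (nat_lit 5257), (nat_lit 2108), (nat_lit 2568)]))) (.node (.leaf (.cyc (nat_lit 118) [(nat_lit 5136), (nat_lit 3986), (nat_lit 759), (nat_lit 3860), (nat_lit 672), (nat_lit 671), (nat_lit 3864), (nat_lit 5105), (nat_lit 5107), (nat_lit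 5105), (nat_lit 3864), (nat_lit 671), (nat_lit 672), (nat_lit 3860), (nat_lit 759), (nat_lit 3986), (nat_lit 5136)])) (.leaf .df))) (.node (.node (.leaf (.cyc (nat_lit 56) [(nat_lit 201), (nat_lit 2881), (nat_lit 2826), (nat_lit 2885), (nat_lit 211)])) (.leaf .df)) (.node (.leaf (.cyc (nat_lit 41) [(nat_lit 1998), (nat_lit 5016), (nat_lit 1998)])) (.leaf .df))))) (.node (.node (.node (.node (.leaf .df) (.leaf (.cyc (nat_lit 18) [(nat_lit 2433), (nat_lit 7163), (nat_lit 7156), (nat_lit 7163), (nat_lit 2433)]))) (.node (.leaf (.cyc (nat_lit 55) [(nat_lit 1038), (nat_lit 1039), (nat_lit 4625), (nat_lit 1039), (nat_lit 1038)])) (.leaf .df))) (.node (.node (.leaf .df) (.leaf .df)) (.node (.leaf (.cyc (nat_lit 50) [(nat_lit 1559), (nat_lit 5830), (nat_lit 5889), (nat_lit 5893), (nat_lit 1833)])) (.leaf .df)))) (.node (.node (.node (.leaf .df) (.leaf (.cyc (nat_lit 53) [(nat_lit 2690), (nat_lit 2485), (nat_lit 6832), (nat_lit 2485), (nat_lit 2690)]))) (.node (.leaf (.cyc (nat_lit 45)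 [(nat_lit 816), (nat_lit 817), (nat_lit 4530), (nat_lit 4532), (nat_lit 1487)])) (.leaf .df))) (.node (.node (.leaf (.cyc (nat_lit 16) [(nat_lit 519), (nat_lit 3598), (nat_lit 3599), (nat_lit 3598), (nat_lit 519)])) (.leaf .df)) (.node (.leaf (.cyc (nat_lit 23) [(nat_lit 1389), (nat_lit 1388), (nat_lit 2156)])) (.leaf .df)))))) (.node (.node (.node (.node (.node (.leaf .df) (.leaf (.cyc (nat_lit 63) [(nat_lit 2364), (nat_lit 6301), (nat_lit 5217), (nat_lit 6301), (nat_lit 2364)]))) (.node (.leaf (.cyc (nat_lit 72) [(nat_lit 3854), (nat_lit 4369)])) (.leaf .df))) (.node (.node (.leaf .df) (.leaf .df)) (.node (.leaf (.cyc (nat_lit 45) [(nat_lit 6283), (nat_lit 1661), (nat_lit 4335), (nat_lit 987), (nat_lit 1748)])) (.leaf .df)))) (.node (.node (.node (.leaf .df) (.leaf (.cyc (nat_lit 89) [(nat_lit 2610), (nat_lit 7966), (nat_lit 5579), (nat_lit 1470), (nat_lit 788), (nat_lit 3351), (nat_lit 789), (nat_lit 1471), (nat_lit 6312), (nat_lit 8132), (nat_lit 2633)]))) (.node (.leaf (.cyc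 (nat_lit 37) [(nat_lit 1378), (nat_lit 3924), (nat_lit 3865), (nat_lit 3924), (nat_lit 1378)])) (.leaf .df))) (.node (.node (.leaf (.cyc (nat_lit 20) [(nat_lit 160), (nat_lit 157), (nat_lit 383)])) (.leaf .df)) (.node (.leaf (.cyc (nat_lit 35) [(nat_lit 2085), (nat_lit 5179), (nat_lit 4547), (nat_lit 5179), (nat_lit 2085)])) (.leaf .df))))) (.node (.node (.node (.node (.leaf .df) (.leaf (.cyc (nat_lit 20) [(nat_lit 2499), (nat_lit 6918), (nat_lit 2499)]))) (.node (.leaf (.cyc (nat_lit 27) [(nat_lit 614), (nat_lit 613), (nat_lit 1155)])) (.leaf .df))) (.node (.node (.leaf (.cyc (nat_lit 38) [(nat_lit 26), (nat_lit 25), (nat_lit 2786), (nat_lit 2788), (nat_lit 2787), (nat_lit 9), (nat_lit 8), (nat_lit 2771), (nat_lit 2753), (nat_lit 10), (nat_lit 42)])) (.leaf .df)) (.node (.leaf (.cyc (nat_lit 41) [(nat_lit 1925), (nat_lit 4892), (nat_lit 1925)])) (.leaf .df)))) (.node (.node (.node (.leaf .df) (.leaf (.cyc (nat_lit 44) [(nat_lit 2746), (nat_lit 2708), (nat_lit 9124), (nat_lit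 2708), (nat_lit 2746)]))) (.node (.leaf (.cyc (nat_lit 26) [(nat_lit 979), (nat_lit 507), (nat_lit 508), (nat_lit 4292), (nat_lit 1571)])) (.leaf .df))) (.node (.node (.leaf (.cyc (nat_lit 44) [(nat_lit 320), (nat_lit 134), (nat_lit 132), (nat_lit 315), (nat_lit 675)])) (.leaf .df)) (.node (.leaf (.cyc (nat_lit 34) [(nat_lit 7001), (nat_lit 7243), (nat_lit 1468), (nat_lit 1467), (nat_lit 7953)])) (.leaf .df))))))) (.node (.node (.node (.node (.node (.node (.leaf .df) (.leaf (.cyc (nat_lit 19) [(nat_lit 2334), (nat_lit 6135), (nat_lit 4316), (nat_lit 6135), (nat_lit 2334)]))) (.node (.leaf (.cyc (nat_lit 53) [(nat_lit 4240), (nat_lit 875), (nat_lit 442), (nat_lit 443), (nat_lit 878)])) (.leaf .df))) (.node (.node (.leaf .df) (.leaf .df)) (.node (.leaf (.cyc (nat_lit 23) [(nat_lit 992), (nat_lit 4438), (nat_lit 1705)])) (.leaf .df)))) (.node (.node (.node (.leaf .df) (.leaf (.cyc (nat_lit 28) [(nat_lit 2600), (nat_lit 8867), (nat_lit 8868), (nat_lit 8867), (nat_lit 2600)]))) (.node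 (.leaf (.cyc (nat_lit 30) [(nat_lit 1331), (nat_lit 4410), (nat_lit 4399), (nat_lit 4410), (nat_lit 1331)])) (.leaf .df))) (.node (.node (.leaf (.cyc (nat_lit 35) [(nat_lit 127), (nat_lit 53), (nat_lit 52), (nat_lit 123), (nat_lit 288)])) (.leaf .df)) (.node (.leaf (.cyc (nat_lit 53) [(nat_lit 1264), (nat_lit 670), (nat_lit 669), (nat_lit 1260), (nat_lit 2036)])) (.leaf .df))))) (.node (.node (.node (.node (.leaf .df) (.leaf (.cyc (nat_lit 26) [(nat_lit 2467), (nat_lit 6777), (nat_lit 6542), (nat_lit 6777), (nat_lit 2467)]))) (.node (.leaf (.cyc (nat_lit 27) [(nat_lit 1102), (nat_lit 3725), (nat_lit 1102)])) (.leaf .df))) (.node (.node (.leaf .df) (.leaf .df)) (.node (.leaf (.cyc (nat_lit 61) [(nat_lit 1882), (nat_lit 4807), (nat_lit 1039), (nat_lit 4365), (nat_lit 4126), (nat_lit 799), (nat_lit 801), (nat_lit 4127), (nat_lit 1061), (nat_lit 1818), (nat_lit 6635)])) (.leaf .df)))) (.node (.node (.node (.leaf .df) (.leaf (.cyc (nat_lit 44) [(nat_lit 2720), (nat_lit 9410), (nat_lit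 9409), (nat_lit 9410), (nat_lit 2720)]))) (.node (.leaf (.cyc (nat_lit 96) [(nat_lit 5776), (nat_lit 4161), (nat_lit 3558), (nat_lit 682), (nat_lit 1283)])) (.leaf .df))) (.node (.node (.leaf (.cyc (nat_lit 49) [(nat_lit 3486), (nat_lit 3484), (nat_lit 592)])) (.leaf .df)) (.node (.leaf (.cyc (nat_lit 23) [(nat_lit 7825), (nat_lit 2191), (nat_lit 2192)])) (.leaf .df)))))) (.node (.node (.node (.node (.node (.leaf .df) (.leaf (.cyc (nat_lit 45) [(nat_lit 2399), (nat_lit 8481), (nat_lit 8480), (nat_lit 8481), (nat_lit 2399)]))) (.node (.leaf (.cyc (nat_lit 112) [(nat_lit 859), (nat_lit 4497)])) (.leaf .df))) (.node (.node (.leaf .df) (.leaf .df)) (.node (.leaf (.cyc (nat_lit 8) [(nat_lit 6545), (nat_lit 6363), (nat_lit 998), (nat_lit 999), (nat_lit 5360)])) (.leaf .df)))) (.node (.node (.node (.leaf .df) (.leaf (.cyc (nat_lit 50) [(nat_lit 2661), (nat_lit 2365), (nat_lit 6300), (nat_lit 2365), (nat_lit 2661)]))) (.node (.leaf (.cyc (nat_lit 44) [(nat_lit 1445), (nat_lit 4524), (nat_lit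 4523), (nat_lit 4524), (nat_lit 1445)])) (.leaf .df))) (.node (.node (.leaf (.cyc (nat_lit 63) [(nat_lit 356), (nat_lit 148), (nat_lit 146), (nat_lit 3079), (nat_lit 452)])) (.leaf .df)) (.node (.leaf (.cyc (nat_lit 23) [(nat_lit 7350), (nat_lit 6035), (nat_lit 2120)])) (.leaf .df))))) (.node (.node (.node (.node (.leaf .df) (.leaf (.cyc (nat_lit 62) [(nat_lit 8109), (nat_lit 7274), (nat_lit 2027), (nat_lit 2028), (nat_lit 2532)]))) (.node (.leaf (.cyc (nat_lit 117) [(nat_lit 1210), (nat_lit 1209), (nat_lit 5009), (nat_lit 1209), (nat_lit 1210)])) (.leaf .df))) (.node (.node (.leaf (.cyc (nat_lit 37) [(nat_lit 138), (nat_lit 57), (nat_lit 16), (nat_lit 60), (nat_lit 148)])) (.leaf .df)) (.node (.leaf (.cyc (nat_lit 45) [(nat_lit 1961), (nat_lit 1184), (nat_lit 3791), (nat_lit 1184), (nat_lit 1961)])) (.leaf .df)))) (.node (.node (.node (.leaf .df) (.leaf .df)) (.node (.leaf (.cyc (nat_lit 44) [(nat_lit 1614), (nat_lit 4491), (nat_lit 4490), (nat_lit 4491), (nat_lit 1614)])) (.leaf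 .df))) (.node (.node (.leaf (.cyc (nat_lit 45) [(nat_lit 759), (nat_lit 3860), (nat_lit 3856), (nat_lit 3860), (nat_lit 759)])) (.leaf .df)) (.node (.leaf (.cyc (nat_lit 27) [(nat_lit 1733), (nat_lit 5777), (nat_lit 2266)])) (.leaf .df))))))))
noncomputable def u5P0100101 : BT Pf := (.node (.node (.node (.node (.node (.node (.node (.leaf .df) (.leaf (.cyc (nat_lit 53) [(nat_lit 7486), (nat_lit 2099), (nat_lit 6808), (nat_lit 6809), (nat_lit 2319)]))) (.node (.leaf (.cyc (nat_lit 21) [(nat_lit 840), (nat_lit 4121), (nat_lit 3623), (nat_lit 4121), (nat_lit 840)])) (.leaf .df))) (.node (.node (.leaf .df) (.leaf .df)) (.node (.leaf (.cyc (nat_lit 25) [(nat_lit 4413), (nat_lit 3684), (nat_lit 1042), (nat_lit 5284), (nat_lit 1684)])) (.leaf .df)))) (.node (.node (.node (.leaf .df) (.leaf (.cyc (nat_lit 30) [(nat_lit 2581), (nat_lit 2135), (nat_lit 5365), (nat_lit 2135), (nat_lit 2581)]))) (.node (.leaf (.cyc (nat_lit 113) [(nat_lit 1292), (nat_lit 5200)])) (.leaf .df))) (.node (.node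 (.leaf (.cyc (nat_lit 21) [(nat_lit 248), (nat_lit 104), (nat_lit 2841), (nat_lit 104), (nat_lit 248)])) (.leaf .df)) (.node (.leaf (.cyc (nat_lit 23) [(nat_lit 1248), (nat_lit 1246), (nat_lit 2019)])) (.leaf .df))))) (.node (.node (.node (.node (.leaf .df) (.leaf (.cyc (nat_lit 21) [(nat_lit 8162), (nat_lit 8575), (nat_lit 2394), (nat_lit 6693), (nat_lit 2449)]))) (.node (.leaf (.cyc (nat_lit 143) [(nat_lit 4335), (nat_lit 3680), (nat_lit 514), (nat_lit 3136), (nat_lit 2931), (nat_lit 2929), (nat_lit 263), (nat_lit 3183), (nat_lit 561), (nat_lit 1062), (nat_lit 4689)])) (.leaf .df))) (.node (.node (.leaf .df) (.leaf .df)) (.node (.leaf (.cyc (nat_lit 35) [(nat_lit 1781), (nat_lit 4588), (nat_lit 5642), (nat_lit 5640), (nat_lit 1858)])) (.leaf .df)))) (.node (.node (.node (.leaf .df) (.leaf (.cyc (nat_lit 21) [(nat_lit 2675), (nat_lit 9114), (nat_lit 9113), (nat_lit 2536), (nat_lit 2706)]))) (.node (.leaf (.cyc (nat_lit 16) [(nat_lit 5652), (nat_lit 4402), (nat_lit 3540), (nat_lit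 4145), (nat_lit 1510)])) (.leaf .df))) (.node (.node (.leaf (.cyc (nat_lit 74) [(nat_lit 429), (nat_lit 3656)])) (.leaf .df)) (.node (.leaf (.cyc (nat_lit 11) [(nat_lit 7761), (nat_lit 1718), (nat_lit 963), (nat_lit 964), (nat_lit 1719)])) (.leaf .df)))))) (.node (.node (.node (.node (.node (.leaf .df) (.leaf (.cyc (nat_lit 60) [(nat_lit 2381), (nat_lit 2382), (nat_lit 8529), (nat_lit 2382), (nat_lit 2381)]))) (.node (.leaf (.cyc (nat_lit 88) [(nat_lit 4426), (nat_lit 952), (nat_lit 4433), (nat_lit 952), (nat_lit 4426)])) (.leaf .df))) (.node (.node (.leaf .df) (.leaf .df)) (.node (.leaf (.cyc (nat_lit 74) [(nat_lit 5436), (nat_lit 6479)])) (.leaf .df)))) (.node (.node (.node (.leaf .df) (.leaf (.cyc (nat_lit 48) [(nat_lit 2643), (nat_lit 8246), (nat_lit 2647)]))) (.node (.leaf (.cyc (nat_lit 20) [(nat_lit 753), (nat_lit 752), (nat_lit 1413)])) (.leaf .df))) (.node (.node (.leaf (.cyc (nat_lit 62) [(nat_lit 437), (nat_lit 192), (nat_lit 2876), (nat_lit 192), (nat_lit 437)])) (.leaf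 .df)) (.node (.leaf (.cyc (nat_lit 95) [(nat_lit 7504), (nat_lit 7026), (nat_lit 7027), (nat_lit 7028), (nat_lit 1781), (nat_lit 4589), (nat_lit 5792), (nat_lit 5776), (nat_lit 1533), (nat_lit 5791), (nat_lit 1861)])) (.leaf .df))))) (.node (.node (.node (.node (.leaf .df) (.leaf (.cyc (nat_lit 21) [(nat_lit 2441), (nat_lit 2439), (nat_lit 8749), (nat_lit 7755), (nat_lit 2516)]))) (.node (.leaf (.cyc (nat_lit 15) [(nat_lit 1183), (nat_lit 3791), (nat_lit 1183)])) (.leaf .df))) (.node (.node (.leaf (.cyc (nat_lit 52) [(nat_lit 94), (nat_lit 95), (nat_lit 2897), (nat_lit 95), (nat_lit 94)])) (.leaf .df)) (.node (.leaf (.cyc (nat_lit 30) [(nat_lit 1941), (nat_lit 5383), (nat_lit 5388), (nat_lit 5383), (nat_lit 1941)])) (.leaf .df)))) (.node (.node (.node (.leaf .df) (.leaf .df)) (.node (.leaf (.cyc (nat_lit 31) [(nat_lit 1594), (nat_lit 4237), (nat_lit 4010), (nat_lit 4237), (nat_lit 1594)])) (.leaf .df))) (.node (.node (.leaf (.cyc (nat_lit 46) [(nat_lit 728), (nat_lit 3272), (nat_lit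 728)])) (.leaf .df)) (.node (.leaf (.cyc (nat_lit 56) [(nat_lit 2246), (nat_lit 7974), (nat_lit 7976), (nat_lit 7974), (nat_lit 2246)])) (.leaf .df))))))) (.node (.node (.node (.node (.node (.node (.leaf .df) (.leaf (.cyc (nat_lit 21) [(nat_lit 2349), (nat_lit 6279), (nat_lit 6278), (nat_lit 6279), (nat_lit 2349)]))) (.node (.leaf (.cyc (nat_lit 50) [(nat_lit 633), (nat_lit 294), (nat_lit 3082), (nat_lit 456), (nat_lit 903)])) (.leaf .df))) (.node (.node (.leaf .df) (.leaf .df)) (.node (.leaf (.cyc (nat_lit 3) [(nat_lit 6353), (nat_lit 1216), (nat_lit 1219)])) (.leaf .df)))) (.node (.node (.node (.leaf .df) (.leaf (.cyc (nat_lit 62) [(nat_lit 2617), (nat_lit 8675), (nat_lit 8673), (nat_lit 8675), (nat_lit 2617)]))) (.node (.leaf (.cyc (nat_lit 25) [(nat_lit 1348), (nat_lit 5314), (nat_lit 5326), (nat_lit 5314), (nat_lit 1348)])) (.leaf .df))) (.node (.node (.leaf (.cyc (nat_lit 72) [(nat_lit 317), (nat_lit 3281)])) (.leaf .df)) (.node (.leaf (.cyc (nat_lit 30) [(nat_lit 2046),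 (nat_lit 5119), (nat_lit 1864), (nat_lit 6757), (nat_lit 2062)])) (.leaf .df))))) (.node (.node (.node (.node (.leaf .df) (.leaf (.cyc (nat_lit 52) [(nat_lit 2482), (nat_lit 2483), (nat_lit 8912), (nat_lit 2483), (nat_lit 2482)]))) (.node (.leaf (.cyc (nat_lit 60) [(nat_lit 1118), (nat_lit 1120), (nat_lit 4817), (nat_lit 1120), (nat_lit 1118)])) (.leaf .df))) (.node (.node (.leaf (.pin (nat_lit 21) [(nat_lit 7)] [])) (.leaf .df)) (.node (.leaf (.cyc (nat_lit 62) [(nat_lit 1904), (nat_lit 1135), (nat_lit 3741), (nat_lit 1135), (nat_lit 1904)])) (.leaf .df)))) (.node (.node (.node (.leaf .df) (.leaf (.cyc (nat_lit 107) [(nat_lit 2733), (nat_lit 2613), (nat_lit 7980), (nat_lit 7979), (nat_lit 5740), (nat_lit 7248), (nat_lit 7247), (nat_lit 9084), (nat_lit 9738), (nat_lit 9739), (nat_lit 9445)]))) (.node (.leaf (.cyc (nat_lit 28) [(nat_lit 1549), (nat_lit 5820), (nat_lit 5819), (nat_lit 5820), (nat_lit 1549)])) (.leaf .df))) (.node (.node (.leaf (.cyc (nat_lit 28) [(nat_lit 297),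 (nat_lit 126), (nat_lit 124), (nat_lit 292), (nat_lit 630)])) (.leaf .df)) (.node (.leaf (.cyc (nat_lit 67) [(nat_lit 7733), (nat_lit 7737), (nat_lit 2165), (nat_lit 5431), (nat_lit 3944), (nat_lit 742), (nat_lit 3297), (nat_lit 688), (nat_lit 1298), (nat_lit 7888), (nat_lit 7889)])) (.leaf .df)))))) (.node (.node (.node (.node (.node (.leaf .df) (.leaf (.cyc (nat_lit 15) [(nat_lit 2416), (nat_lit 6534), (nat_lit 2416)]))) (.node (.leaf (.cyc (nat_lit 30) [(nat_lit 1011), (nat_lit 1010), (nat_lit 4559), (nat_lit 1010), (nat_lit 1011)])) (.leaf .df))) (.node (.node (.leaf .df) (.leaf .df)) (.node (.leaf (.cyc (nat_lit 44) [(nat_lit 1063), (nat_lit 561), (nat_lit 3687), (nat_lit 1051), (nat_lit 1807)])) (.leaf .df)))) (.node (.node (.node (.leaf .df) (.leaf (.cyc (nat_lit 27) [(nat_lit 2505), (nat_lit 8790), (nat_lit 2677)]))) (.node (.leaf (.cyc (nat_lit 23) [(nat_lit 5234), (nat_lit 1320), (nat_lit 5585)])) (.leaf .df))) (.node (.node (.leaf (.cyc (nat_lit 44) [(nat_lit 223),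 (nat_lit 90), (nat_lit 88), (nat_lit 221), (nat_lit 486)])) (.leaf .df)) (.node (.leaf (.cyc (nat_lit 31) [(nat_lit 7408), (nat_lit 6241), (nat_lit 1369), (nat_lit 1370), (nat_lit 2138)])) (.leaf .df))))) (.node (.node (.node (.node (.leaf .df) (.leaf (.cyc (nat_lit 21) [(nat_lit 2549), (nat_lit 7388), (nat_lit 7172), (nat_lit 7388), (nat_lit 2549)]))) (.node (.leaf (.cyc (nat_lit 63) [(nat_lit 1244), (nat_lit 3994), (nat_lit 3988), (nat_lit 3994), (nat_lit 1244)])) (.leaf .df))) (.node (.node (.leaf (.cyc (nat_lit 24) [(nat_lit 170), (nat_lit 2870), (nat_lit 2834), (nat_lit 2872), (nat_lit 178)])) (.leaf .df)) (.node (.leaf (.cyc (nat_lit 108) [(nat_lit 1197), (nat_lit 1196), (nat_lit 1979), (nat_lit 7119), (nat_lit 7121), (nat_lit 6057), (nat_lit 4659), (nat_lit 4674), (nat_lit 1177), (nat_lit 4935), (nat_lit 1183), (nat_lit 1960)])) (.leaf .df)))) (.node (.node (.node (.leaf .df) (.leaf .df)) (.node (.leaf (.cyc (nat_lit 15) [(nat_lit 904), (nat_lit 903), (nat_lit 1636)]))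 (.leaf .df))) (.node (.node (.leaf (.cyc (nat_lit 72) [(nat_lit 180), (nat_lit 4040)])) (.leaf .df)) (.node (.leaf (.cyc (nat_lit 53) [(nat_lit 2260), (nat_lit 1518), (nat_lit 4172), (nat_lit 1552), (nat_lit 2283)])) (.leaf .df))))))))
noncomputable def u5P010010 : BT Pf := .node u5P0100100 u5P0100101
noncomputable def u5P0100110 : BT Pf := (.node (.node (.node (.node (.node (.node (.node (.leaf .df) (.leaf (.cyc (nat_lit 25) [(nat_lit 8088), (nat_lit 6748), (nat_lit 6027), (nat_lit 1614), (nat_lit 2309)]))) (.node (.leaf (.cyc (nat_lit 50) [(nat_lit 816), (nat_lit 402), (nat_lit 3008), (nat_lit 402), (nat_lit 816)])) (.leaf .df))) (.node (.node (.leaf .df) (.leaf .df)) (.node (.leaf (.cyc (nat_lit 48) [(nat_lit 6073), (nat_lit 6193), (nat_lit 6189)])) (.leaf .df)))) (.node (.node (.node (.leaf .df) (.leaf (.cyc (nat_lit 16) [(nat_lit 2574), (nat_lit 9226), (nat_lit 9225), (nat_lit 9226), (nat_lit 2574)]))) (.node (.leaf (.cyc (nat_lit 27) [(nat_lit 3966), (nat_lit 4276), (nat_lit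 1295)])) (.leaf .df))) (.node (.node (.leaf (.cyc (nat_lit 89) [(nat_lit 2946), (nat_lit 120), (nat_lit 51), (nat_lit 2832), (nat_lit 39), (nat_lit 8), (nat_lit 9), (nat_lit 40), (nat_lit 2996), (nat_lit 93), (nat_lit 228)])) (.leaf .df)) (.node (.leaf (.cyc (nat_lit 34) [(nat_lit 2009), (nat_lit 1228), (nat_lit 3825), (nat_lit 1228), (nat_lit 2009)])) (.leaf .df))))) (.node (.node (.node (.node (.leaf .df) (.leaf (.cyc (nat_lit 97) [(nat_lit 8750), (nat_lit 7748), (nat_lit 7747), (nat_lit 2168), (nat_lit 5543), (nat_lit 5540), (nat_lit 7753), (nat_lit 8749), (nat_lit 8748), (nat_lit 2439), (nat_lit 2440)]))) (.node (.leaf (.cyc (nat_lit 34) [(nat_lit 1052), (nat_lit 3688), (nat_lit 3548), (nat_lit 3688), (nat_lit 1052)])) (.leaf .df))) (.node (.node (.leaf .df) (.leaf .df)) (.node (.leaf (.cyc (nat_lit 15) [(nat_lit 6233), (nat_lit 5625), (nat_lit 1848)])) (.leaf .df)))) (.node (.node (.node (.leaf .df) (.leaf (.cyc (nat_lit 27) [(nat_lit 2698), (nat_lit 9024), (nat_lit 2698)])))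 (.node (.leaf (.cyc (nat_lit 63) [(nat_lit 1423), (nat_lit 763), (nat_lit 3444), (nat_lit 804), (nat_lit 1497)])) (.leaf .df))) (.node (.node (.leaf (.cyc (nat_lit 86) [(nat_lit 3633), (nat_lit 3229), (nat_lit 313)])) (.leaf .df)) (.node (.leaf (.cyc (nat_lit 24) [(nat_lit 6072), (nat_lit 6073), (nat_lit 1399), (nat_lit 1398), (nat_lit 2164)])) (.leaf .df)))))) (.node (.node (.node (.node (.node (.leaf .df) (.leaf (.cyc (nat_lit 27) [(nat_lit 8215), (nat_lit 8211), (nat_lit 2374)]))) (.node (.leaf (.cyc (nat_lit 23) [(nat_lit 487), (nat_lit 485), (nat_lit 943)])) (.leaf .df))) (.node (.node (.leaf .df) (.leaf .df)) (.node (.leaf (.cyc (nat_lit 31) [(nat_lit 1763), (nat_lit 1005), (nat_lit 3608), (nat_lit 1005), (nat_lit 1763)])) (.leaf .df)))) (.node (.node (.node (.leaf .df) (.leaf (.cyc (nat_lit 48) [(nat_lit 2623), (nat_lit 8185), (nat_lit 2640)]))) (.node (.leaf (.cyc (nat_lit 108) [(nat_lit 1287), (nat_lit 3875), (nat_lit 683), (nat_lit 320), (nat_lit 3242), (nat_lit 310),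 (nat_lit 309), (nat_lit 665), (nat_lit 5065), (nat_lit 3940), (nat_lit 1392)])) (.leaf .df))) (.node (.node (.leaf (.cyc (nat_lit 27) [(nat_lit 406), (nat_lit 3023), (nat_lit 406)])) (.leaf .df)) (.node (.leaf (.cyc (nat_lit 27) [(nat_lit 2096), (nat_lit 6161), (nat_lit 2096)])) (.leaf .df))))) (.node (.node (.node (.node (.leaf .df) (.leaf (.cyc (nat_lit 26) [(nat_lit 2506), (nat_lit 1954), (nat_lit 4944), (nat_lit 1954), (nat_lit 2506)]))) (.node (.leaf (.cyc (nat_lit 34) [(nat_lit 1168), (nat_lit 3966), (nat_lit 3976), (nat_lit 3966), (nat_lit 1168)])) (.leaf .df))) (.node (.node (.leaf (.cyc (nat_lit 44) [(nat_lit 63), (nat_lit 2775), (nat_lit 2806), (nat_lit 2775), (nat_lit 63)])) (.leaf .df)) (.node (.leaf (.cyc (nat_lit 35) [(nat_lit 6254), (nat_lit 1360), (nat_lit 3918), (nat_lit 1160), (nat_lit 1932)])) (.leaf .df)))) (.node (.node (.node (.leaf .df) (.leaf .df)) (.node (.leaf (.cyc (nat_lit 37) [(nat_lit 1582), (nat_lit 4351), (nat_lit 3797), (nat_lit 4351), (nat_lit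 1582)])) (.leaf .df))) (.node (.node (.leaf (.cyc (nat_lit 19) [(nat_lit 698), (nat_lit 3254), (nat_lit 3141), (nat_lit 3254), (nat_lit 698)])) (.leaf .df)) (.node (.leaf (.cyc (nat_lit 21) [(nat_lit 1512), (nat_lit 4145), (nat_lit 4103), (nat_lit 5596), (nat_lit 2234)])) (.leaf .df))))))) (.node (.node (.node (.node (.node (.node (.leaf .df) (.leaf (.cyc (nat_lit 18) [(nat_lit 2341), (nat_lit 6149), (nat_lit 5235), (nat_lit 6149), (nat_lit 2341)]))) (.node (.leaf (.cyc (nat_lit 30) [(nat_lit 891), (nat_lit 451), (nat_lit 3077), (nat_lit 451), (nat_lit 891)])) (.leaf .df))) (.node (.node (.leaf .df) (.leaf .df)) (.node (.leaf (.cyc (nat_lit 20) [(nat_lit 1717), (nat_lit 4454), (nat_lit 1717)])) (.leaf .df)))) (.node (.node (.node (.leaf .df) (.leaf (.cyc (nat_lit 18) [(nat_lit 2608), (nat_lit 9081), (nat_lit 9082), (nat_lit 9081), (nat_lit 2608)]))) (.node (.leaf (.cyc (nat_lit 41) [(nat_lit 1247), (nat_lit 3993), (nat_lit 5297)])) (.leaf .df))) (.node (.node (.leaf (.cyc (nat_lit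 50) [(nat_lit 140), (nat_lit 58), (nat_lit 56), (nat_lit 136), (nat_lit 325)])) (.leaf .df)) (.node (.leaf (.cyc (nat_lit 110) [(nat_lit 7345), (nat_lit 1380), (nat_lit 1379)])) (.leaf .df))))) (.node (.node (.node (.node (.leaf .df) (.leaf (.cyc (nat_lit 8) [(nat_lit 8881), (nat_lit 2176), (nat_lit 1413), (nat_lit 1414), (nat_lit 2177)]))) (.node (.leaf (.cyc (nat_lit 0) [(nat_lit 603), (nat_lit 278), (nat_lit 277), (nat_lit 4784), (nat_lit 4632)])) (.leaf .df))) (.node (.node (.leaf .df) (.leaf .df)) (.node (.leaf (.cyc (nat_lit 23) [(nat_lit 1127), (nat_lit 1124), (nat_lit 1893)])) (.leaf .df)))) (.node (.node (.node (.leaf .df) (.leaf (.cyc (nat_lit 16) [(nat_lit 2727), (nat_lit 2591), (nat_lit 7663), (nat_lit 2591), (nat_lit 2727)]))) (.node (.leaf (.cyc (nat_lit 3) [(nat_lit 5809), (nat_lit 1229), (nat_lit 5020)])) (.leaf .df))) (.node (.node (.leaf (.cyc (nat_lit 56) [(nat_lit 433), (nat_lit 3047), (nat_lit 3040), (nat_lit 285), (nat_lit 616)])) (.leaf .df)) (.node (.leaf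 (.cyc (nat_lit 47) [(nat_lit 2200), (nat_lit 7851), (nat_lit 7852), (nat_lit 7851), (nat_lit 2200)])) (.leaf .df)))))) (.node (.node (.node (.node (.node (.leaf .df) (.leaf (.cyc (nat_lit 27) [(nat_lit 2408), (nat_lit 6511), (nat_lit 2408)]))) (.node (.leaf (.cyc (nat_lit 20) [(nat_lit 4198), (nat_lit 3618), (nat_lit 996)])) (.leaf .df))) (.node (.node (.leaf .df) (.leaf .df)) (.node (.leaf (.cyc (nat_lit 62) [(nat_lit 1697), (nat_lit 4413), (nat_lit 3683), (nat_lit 1045), (nat_lit 1800)])) (.leaf .df)))) (.node (.node (.node (.leaf .df) (.leaf (.cyc (nat_lit 56) [(nat_lit 2670), (nat_lit 8702), (nat_lit 6623), (nat_lit 8702), (nat_lit 2670)]))) (.node (.leaf (.cyc (nat_lit 63) [(nat_lit 1459), (nat_lit 4042), (nat_lit 3344), (nat_lit 4042), (nat_lit 1459)])) (.leaf .df))) (.node (.node (.leaf (.cyc (nat_lit 31) [(nat_lit 262), (nat_lit 111), (nat_lit 2884), (nat_lit 209), (nat_lit 468)])) (.leaf .df)) (.node (.leaf (.cyc (nat_lit 133) [(nat_lit 7601), (nat_lit 1353), (nat_lit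 719), (nat_lit 720), (nat_lit 5220), (nat_lit 1309), (nat_lit 4439), (nat_lit 955), (nat_lit 956), (nat_lit 1709), (nat_lit 7598)])) (.leaf .df))))) (.node (.node (.node (.node (.leaf .df) (.leaf (.cyc (nat_lit 23) [(nat_lit 2050), (nat_lit 2049), (nat_lit 2542)]))) (.node (.leaf (.cyc (nat_lit 34) [(nat_lit 1234), (nat_lit 3972), (nat_lit 3971), (nat_lit 3972), (nat_lit 1234)])) (.leaf .df))) (.node (.node (.leaf (.cyc (nat_lit 72) [(nat_lit 92), (nat_lit 2992)])) (.leaf .df)) (.node (.leaf (.cyc (nat_lit 34) [(nat_lit 1785), (nat_lit 4595), (nat_lit 1083), (nat_lit 5618), (nat_lit 1970)])) (.leaf .df)))) (.node (.node (.node (.leaf .df) (.leaf .df)) (.node (.leaf (.cyc (nat_lit 30) [(nat_lit 1625), (nat_lit 1624), (nat_lit 6063), (nat_lit 1624), (nat_lit 1625)])) (.leaf .df))) (.node (.node (.leaf (.cyc (nat_lit 48) [(nat_lit 3519), (nat_lit 3419), (nat_lit 783)])) (.leaf .df)) (.node (.leaf (.cyc (nat_lit 50) [(nat_lit 2274), (nat_lit 6001), (nat_lit 5998), (nat_lit 6001),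 (nat_lit 2274)])) (.leaf .df))))))))
noncomputable def u5P0100111 : BT Pf := (.node (.node (.node (.node (.node (.node (.node (.leaf .df) (.leaf (.cyc (nat_lit 44) [(nat_lit 1641), (nat_lit 906), (nat_lit 904), (nat_lit 1639), (nat_lit 2326)]))) (.node (.leaf (.cyc (nat_lit 53) [(nat_lit 470), (nat_lit 210), (nat_lit 3666), (nat_lit 430), (nat_lit 855)])) (.leaf .df))) (.node (.node (.leaf .df) (.leaf .df)) (.node (.leaf (.cyc (nat_lit 27) [(nat_lit 6228), (nat_lit 6226), (nat_lit 1696)])) (.leaf .df)))) (.node (.node (.node (.leaf .df) (.leaf (.cyc (nat_lit 19) [(nat_lit 2524), (nat_lit 2013), (nat_lit 5396), (nat_lit 7662), (nat_lit 2592)]))) (.node (.leaf (.cyc (nat_lit 50) [(nat_lit 702), (nat_lit 330), (nat_lit 328), (nat_lit 700), (nat_lit 1314)])) (.leaf .df))) (.node (.node (.leaf (.cyc (nat_lit 41) [(nat_lit 269), (nat_lit 2923), (nat_lit 269)])) (.leaf .df)) (.node (.leaf (.cyc (nat_lit 2) [(nat_lit 7280), (nat_lit 6756), (nat_lit 6757), (nat_lit 5783), (nat_lit 7155)]))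 (.leaf .df))))) (.node (.node (.node (.node (.leaf .df) (.leaf (.cyc (nat_lit 47) [(nat_lit 2458), (nat_lit 2457), (nat_lit 8815), (nat_lit 2457), (nat_lit 2458)]))) (.node (.leaf (.cyc (nat_lit 23) [(nat_lit 569), (nat_lit 567), (nat_lit 1078)])) (.leaf .df))) (.node (.node (.leaf .df) (.leaf .df)) (.node (.leaf (.cyc (nat_lit 62) [(nat_lit 1106), (nat_lit 583), (nat_lit 582), (nat_lit 1103), (nat_lit 1868)])) (.leaf .df)))) (.node (.node (.node (.leaf .df) (.leaf (.cyc (nat_lit 28) [(nat_lit 2713), (nat_lit 9655), (nat_lit 9312), (nat_lit 9655), (nat_lit 2713)]))) (.node (.leaf (.cyc (nat_lit 21) [(nat_lit 1524), (nat_lit 821), (nat_lit 3374), (nat_lit 821), (nat_lit 1524)])) (.leaf .df))) (.node (.node (.leaf (.cyc (nat_lit 50) [(nat_lit 3248), (nat_lit 3353), (nat_lit 3639), (nat_lit 3638), (nat_lit 564)])) (.leaf .df)) (.node (.leaf (.cyc (nat_lit 19) [(nat_lit 2183), (nat_lit 5973), (nat_lit 5970), (nat_lit 5973), (nat_lit 2183)])) (.leaf .df)))))) (.node (.node (.node (.node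 (.node (.leaf .df) (.leaf (.cyc (nat_lit 28) [(nat_lit 2077), (nat_lit 7401), (nat_lit 7402), (nat_lit 6454), (nat_lit 2391)]))) (.node (.leaf (.cyc (nat_lit 21) [(nat_lit 4117), (nat_lit 4120), (nat_lit 826), (nat_lit 4161), (nat_lit 969)])) (.leaf .df))) (.node (.node (.leaf .df) (.leaf .df)) (.node (.leaf (.cyc (nat_lit 82) [(nat_lit 1778), (nat_lit 1023), (nat_lit 1024), (nat_lit 5871), (nat_lit 1562), (nat_lit 4203), (nat_lit 867), (nat_lit 1586), (nat_lit 5948), (nat_lit 4834), (nat_lit 5333)])) (.leaf .df)))) (.node (.node (.node (.leaf .df) (.leaf (.cyc (nat_lit 46) [(nat_lit 2654), (nat_lit 8349), (nat_lit 2654)]))) (.node (.leaf (.cyc (nat_lit 34) [(nat_lit 1425), (nat_lit 1424), (nat_lit 5487), (nat_lit 1424), (nat_lit 1425)])) (.leaf .df))) (.node (.node (.leaf (.cyc (nat_lit 77) [(nat_lit 397), (nat_lit 3331), (nat_lit 3329), (nat_lit 158), (nat_lit 64), (nat_lit 2804), (nat_lit 17), (nat_lit 61), (nat_lit 3438), (nat_lit 2960), (nat_lit 355)])) (.leaf .df)) (.node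 (.leaf (.cyc (nat_lit 19) [(nat_lit 2111), (nat_lit 5267), (nat_lit 3915), (nat_lit 5267), (nat_lit 2111)])) (.leaf .df))))) (.node (.node (.node (.node (.leaf .df) (.leaf (.cyc (nat_lit 47) [(nat_lit 2525), (nat_lit 2015), (nat_lit 5053), (nat_lit 2015), (nat_lit 2525)]))) (.node (.leaf (.cyc (nat_lit 0) [(nat_lit 1205), (nat_lit 1206), (nat_lit 4977), (nat_lit 1206), (nat_lit 1205)])) (.leaf .df))) (.node (.node (.leaf (.cyc (nat_lit 58) [(nat_lit 119), (nat_lit 49), (nat_lit 47), (nat_lit 2849), (nat_lit 113), (nat_lit 2923), (nat_lit 113), (nat_lit 2849), (nat_lit 47), (nat_lit 49), (nat_lit 119)])) (.leaf .df)) (.node (.leaf (.cyc (nat_lit 19) [(nat_lit 6844), (nat_lit 1810), (nat_lit 4674), (nat_lit 1176), (nat_lit 1950)])) (.leaf .df)))) (.node (.node (.node (.leaf .df) (.leaf .df)) (.node (.leaf (.cyc (nat_lit 46) [(nat_lit 4743), (nat_lit 4510), (nat_lit 1605)])) (.leaf .df))) (.node (.node (.leaf (.cyc (nat_lit 44) [(nat_lit 748), (nat_lit 352), (nat_lit 2957), (nat_lit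 352), (nat_lit 748)])) (.leaf .df)) (.node (.leaf (.cyc (nat_lit 30) [(nat_lit 2256), (nat_lit 6403), (nat_lit 6404), (nat_lit 6403), (nat_lit 2256)])) (.leaf .df))))))) (.node (.node (.node (.node (.node (.node (.leaf .df) (.leaf (.cyc (nat_lit 82) [(nat_lit 2356), (nat_lit 6706), (nat_lit 6708), (nat_lit 1848), (nat_lit 4729), (nat_lit 3707), (nat_lit 572), (nat_lit 571), (nat_lit 1085), (nat_lit 1852), (nat_lit 8310)]))) (.node (.leaf (.cyc (nat_lit 26) [(nat_lit 607), (nat_lit 279), (nat_lit 3086), (nat_lit 466), (nat_lit 920)])) (.leaf .df))) (.node (.node (.leaf .df) (.leaf .df)) (.node (.leaf (.cyc (nat_lit 37) [(nat_lit 1740), (nat_lit 5967), (nat_lit 5969), (nat_lit 5967), (nat_lit 1740)])) (.leaf .df)))) (.node (.node (.node (.leaf .df) (.leaf (.cyc (nat_lit 93) [(nat_lit 2625), (nat_lit 8062), (nat_lit 8056), (nat_lit 8483), (nat_lit 8482), (nat_lit 1932), (nat_lit 1934), (nat_lit 7566), (nat_lit 9272), (nat_lit 9278), (nat_lit 8518)]))) (.node (.leaf (.cyc (nat_lit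 21) [(nat_lit 1363), (nat_lit 5333), (nat_lit 5332), (nat_lit 5333), (nat_lit 1363)])) (.leaf .df))) (.node (.node (.leaf (.cyc (nat_lit 56) [(nat_lit 366), (nat_lit 3309), (nat_lit 3311), (nat_lit 3309), (nat_lit 366)])) (.leaf .df)) (.node (.leaf (.cyc (nat_lit 49) [(nat_lit 7400), (nat_lit 7401), (nat_lit 2076)])) (.leaf .df))))) (.node (.node (.node (.node (.leaf .df) (.leaf (.cyc (nat_lit 41) [(nat_lit 1990), (nat_lit 6895), (nat_lit 2491)]))) (.node (.leaf (.cyc (nat_lit 42) [(nat_lit 1141), (nat_lit 4827), (nat_lit 4828), (nat_lit 606), (nat_lit 607), (nat_lit 4508), (nat_lit 607), (nat_lit 606), (nat_lit 4828), (nat_lit 4827), (nat_lit 1141)])) (.leaf .df))) (.node (.node (.leaf (.cyc (nat_lit 13) [(nat_lit 18), (nat_lit 1), (nat_lit 2759), (nat_lit 2), (nat_lit 2757), (nat_lit 2752), (nat_lit 9), (nat_lit 2787), (nat_lit 2788), (nat_lit 25), (nat_lit 2800)])) (.leaf .df)) (.node (.leaf (.cyc (nat_lit 44) [(nat_lit 1914), (nat_lit 5520), (nat_lit 5525), (nat_lit 5520),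 (nat_lit 1914)])) (.leaf .df)))) (.node (.node (.node (.leaf .df) (.leaf (.cyc (nat_lit 18) [(nat_lit 2740), (nat_lit 9784), (nat_lit 9785), (nat_lit 9784), (nat_lit 2740)]))) (.node (.leaf (.cyc (nat_lit 81) [(nat_lit 1563), (nat_lit 4203), (nat_lit 866), (nat_lit 5294), (nat_lit 1338), (nat_lit 5055), (nat_lit 1239), (nat_lit 657), (nat_lit 3441), (nat_lit 658), (nat_lit 1240)])) (.leaf .df))) (.node (.node (.leaf (.cyc (nat_lit 27) [(nat_lit 303), (nat_lit 302), (nat_lit 650)])) (.leaf .df)) (.node (.leaf (.cyc (nat_lit 47) [(nat_lit 1473), (nat_lit 790), (nat_lit 4084), (nat_lit 1459), (nat_lit 2216)])) (.leaf .df)))))) (.node (.node (.node (.node (.node (.leaf .df) (.leaf (.cyc (nat_lit 47) [(nat_lit 7383), (nat_lit 6401), (nat_lit 7863), (nat_lit 7865), (nat_lit 2423)]))) (.node (.leaf (.cyc (nat_lit 48) [(nat_lit 1029), (nat_lit 3626), (nat_lit 1029)])) (.leaf .df))) (.node (.node (.leaf .df) (.leaf .df)) (.node (.leaf (.cyc (nat_lit 55) [(nat_lit 1821), (nat_lit 1822),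 (nat_lit 6641), (nat_lit 1822), (nat_lit 1821)])) (.leaf .df)))) (.node (.node (.node (.leaf .df) (.leaf (.cyc (nat_lit 30) [(nat_lit 2683), (nat_lit 2682), (nat_lit 9710), (nat_lit 2682), (nat_lit 2683)]))) (.node (.leaf (.cyc (nat_lit 150) [(nat_lit 4729), (nat_lit 4632), (nat_lit 5614), (nat_lit 5617), (nat_lit 5537), (nat_lit 4821), (nat_lit 1122), (nat_lit 591), (nat_lit 3222), (nat_lit 630), (nat_lit 1190)])) (.leaf .df))) (.node (.node (.leaf (.cyc (nat_lit 23) [(nat_lit 230), (nat_lit 228), (nat_lit 501)])) (.leaf .df)) (.node (.leaf (.cyc (nat_lit 14) [(nat_lit 7665), (nat_lit 6870), (nat_lit 1384), (nat_lit 4844), (nat_lit 1909)])) (.leaf .df))))) (.node (.node (.node (.node (.leaf .df) (.leaf (.cyc (nat_lit 37) [(nat_lit 2557), (nat_lit 7450), (nat_lit 5271), (nat_lit 7450), (nat_lit 2557)]))) (.node (.leaf (.cyc (nat_lit 131) [(nat_lit 1101), (nat_lit 3721), (nat_lit 3785), (nat_lit 3711), (nat_lit 3476), (nat_lit 3472), (nat_lit 892), (nat_lit 4984), (nat_lit 4973),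 (nat_lit 4972), (nat_lit 1258)])) (.leaf .df))) (.node (.node (.leaf (.cyc (nat_lit 56) [(nat_lit 191), (nat_lit 75), (nat_lit 2783), (nat_lit 75), (nat_lit 191)])) (.leaf .df)) (.node (.leaf (.cyc (nat_lit 48) [(nat_lit 1202), (nat_lit 4968), (nat_lit 1987)])) (.leaf .df)))) (.node (.node (.node (.leaf .df) (.leaf .df)) (.node (.leaf (.cyc (nat_lit 7) [(nat_lit 6129), (nat_lit 5940), (nat_lit 5877)])) (.leaf .df))) (.node (.node (.leaf (.cyc (nat_lit 114) [(nat_lit 770), (nat_lit 4081)])) (.leaf .df)) (.node (.leaf (.cyc (nat_lit 63) [(nat_lit 1583), (nat_lit 866), (nat_lit 865), (nat_lit 1582), (nat_lit 2292)])) (.leaf .df))))))))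
noncomputable def u5P010011 : BT Pf := .node u5P0100110 u5P0100111
noncomputable def u5P01001 : BT Pf := .node u5P010010 u5P010011
noncomputable def u5P0100 : BT Pf := .node u5P01000 u5P01001
noncomputable def u5P0101000 : BT Pf := (.node (.node (.node (.node (.node (.node (.node (.leaf .df) (.leaf (.cyc (nat_lit 37) [(nat_lit 1773), (nat_lit 4568), (nat_lit 1679), (nat_lit 8200), (nat_lit 8199)]))) (.node (.leaf (.cyc (nat_lit 18) [(nat_lit 529), (nat_lit 246), (nat_lit 4058), (nat_lit 390), (nat_lit 794)])) (.leaf .df))) (.node (.node (.leaf .df) (.leaf .df)) (.node (.leaf (.cyc (nat_lit 30) [(nat_lit 5906), (nat_lit 5905), (nat_lit 914), (nat_lit 913), (nat_lit 1656)])) (.leaf .df)))) (.node (.node (.node (.leaf .df) (.leaf (.cyc (nat_lit 47) [(nat_lit 8550), (nat_lit 8549), (nat_lit 8078), (nat_lit 7530), (nat_lit 2566)]))) (.node (.leaf (.cyc (nat_lit 53) [(nat_lit 1270), (nat_lit 5112), (nat_lit 5115), (nat_lit 5112), (nat_lit 1270)])) (.leaf .df))) (.node (.node (.leaf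 (.cyc (nat_lit 56) [(nat_lit 2938), (nat_lit 56), (nat_lit 2846), (nat_lit 2882), (nat_lit 204)])) (.leaf .df)) (.node (.leaf (.cyc (nat_lit 30) [(nat_lit 1995), (nat_lit 4990), (nat_lit 3871), (nat_lit 4990), (nat_lit 1995)])) (.leaf .df))))) (.node (.node (.node (.node (.leaf .df) (.leaf (.cyc (nat_lit 56) [(nat_lit 2366), (nat_lit 6304), (nat_lit 5928), (nat_lit 1817), (nat_lit 2430)]))) (.node (.leaf (.cyc (nat_lit 63) [(nat_lit 1035), (nat_lit 544), (nat_lit 3171), (nat_lit 544), (nat_lit 1035)])) (.leaf .df))) (.node (.node (.leaf .df) (.leaf .df)) (.node (.leaf (.cyc (nat_lit 37) [(nat_lit 5500), (nat_lit 1000), (nat_lit 3696), (nat_lit 1071), (nat_lit 1831)])) (.leaf .df)))) (.node (.node (.node (.leaf .df) (.leaf (.cyc (nat_lit 30) [(nat_lit 9087), (nat_lit 2408), (nat_lit 6789), (nat_lit 2478), (nat_lit 2688)]))) (.node (.leaf (.cyc (nat_lit 47) [(nat_lit 828), (nat_lit 407), (nat_lit 4060), (nat_lit 795), (nat_lit 1484)])) (.leaf .df))) (.node (.node (.leaf (.cyc (nat_lit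 45) [(nat_lit 3518), (nat_lit 429), (nat_lit 3044), (nat_lit 235), (nat_lit 513)])) (.leaf .df)) (.node (.leaf (.cyc (nat_lit 50) [(nat_lit 2153), (nat_lit 1385), (nat_lit 3931), (nat_lit 1385), (nat_lit 2153)])) (.leaf .df)))))) (.node (.node (.node (.node (.node (.leaf .df) (.leaf (.cyc (nat_lit 37) [(nat_lit 7393), (nat_lit 7991), (nat_lit 2132), (nat_lit 6251), (nat_lit 2362)]))) (.node (.leaf (.cyc (nat_lit 109) [(nat_lit 589), (nat_lit 587), (nat_lit 4361), (nat_lit 587), (nat_lit 589)])) (.leaf .df))) (.node (.node (.leaf .df) (.leaf .df)) (.node (.leaf (.cyc (nat_lit 63) [(nat_lit 1746), (nat_lit 6261), (nat_lit 6259), (nat_lit 6261), (nat_lit 1746)])) (.leaf .df)))) (.node (.node (.node (.leaf .df) (.leaf (.cyc (nat_lit 45) [(nat_lit 2280), (nat_lit 1549), (nat_lit 5826), (nat_lit 2277), (nat_lit 2631)]))) (.node (.leaf (.cyc (nat_lit 21) [(nat_lit 1374), (nat_lit 727), (nat_lit 3272), (nat_lit 727), (nat_lit 1374)])) (.leaf .df))) (.node (.node (.leaf (.cyc (nat_lit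 60) [(nat_lit 3327), (nat_lit 379), (nat_lit 3337), (nat_lit 379), (nat_lit 3327)])) (.leaf .df)) (.node (.leaf (.cyc (nat_lit 35) [(nat_lit 1594), (nat_lit 5582), (nat_lit 5173), (nat_lit 1297), (nat_lit 2082)])) (.leaf .df))))) (.node (.node (.node (.node (.leaf .df) (.leaf (.cyc (nat_lit 28) [(nat_lit 2496), (nat_lit 1920), (nat_lit 4865), (nat_lit 1920), (nat_lit 2496)]))) (.node (.leaf (.cyc (nat_lit 21) [(nat_lit 1151), (nat_lit 4498), (nat_lit 3406), (nat_lit 4498), (nat_lit 1151)])) (.leaf .df))) (.node (.node (.leaf (.cyc (nat_lit 21) [(nat_lit 33), (nat_lit 2756), (nat_lit 6), (nat_lit 37), (nat_lit 2825)])) (.leaf .df)) (.node (.leaf (.cyc (nat_lit 27) [(nat_lit 6921), (nat_lit 1922), (nat_lit 1923)])) (.leaf .df)))) (.node (.node (.node (.leaf .df) (.leaf (.cyc (nat_lit 15) [(nat_lit 2745), (nat_lit 9809), (nat_lit 2745)]))) (.node (.leaf (.cyc (nat_lit 98) [(nat_lit 1363), (nat_lit 1362), (nat_lit 5895), (nat_lit 1362), (nat_lit 1363)])) (.leaf .df))) (.node (.node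 (.leaf (.cyc (nat_lit 28) [(nat_lit 660), (nat_lit 3239), (nat_lit 3063), (nat_lit 3239), (nat_lit 660)])) (.leaf .df)) (.node (.leaf (.cyc (nat_lit 31) [(nat_lit 1770), (nat_lit 5575), (nat_lit 1465), (nat_lit 1467), (nat_lit 2223)])) (.leaf .df))))))) (.node (.node (.node (.node (.node (.node (.leaf .df) (.leaf (.cyc (nat_lit 30) [(nat_lit 2332), (nat_lit 6456), (nat_lit 6455), (nat_lit 6456), (nat_lit 2332)]))) (.node (.leaf (.cyc (nat_lit 24) [(nat_lit 615), (nat_lit 3206), (nat_lit 3066), (nat_lit 3457), (nat_lit 870)])) (.leaf .df))) (.node (.node (.leaf .df) (.leaf .df)) (.node (.leaf (.cyc (nat_lit 26) [(nat_lit 6111), (nat_lit 1563), (nat_lit 5059), (nat_lit 5198), (nat_lit 1702)])) (.leaf .df)))) (.node (.node (.node (.leaf .df) (.leaf (.cyc (nat_lit 28) [(nat_lit 2598), (nat_lit 8882), (nat_lit 8883), (nat_lit 8882), (nat_lit 2598)]))) (.node (.leaf (.cyc (nat_lit 105) [(nat_lit 5257), (nat_lit 5023), (nat_lit 5257)])) (.leaf .df))) (.node (.node (.leaf (.cyc (nat_lit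 44) [(nat_lit 286), (nat_lit 122), (nat_lit 2853), (nat_lit 122), (nat_lit 286)])) (.leaf .df)) (.node (.leaf (.cyc (nat_lit 24) [(nat_lit 2034), (nat_lit 1257), (nat_lit 3853), (nat_lit 1257), (nat_lit 2034)])) (.leaf .df))))) (.node (.node (.node (.node (.leaf .df) (.leaf (.cyc (nat_lit 44) [(nat_lit 8434), (nat_lit 8309), (nat_lit 1866), (nat_lit 1868), (nat_lit 2465)]))) (.node (.leaf (.cyc (nat_lit 16) [(nat_lit 1094), (nat_lit 1093), (nat_lit 4744), (nat_lit 1093), (nat_lit 1094)])) (.leaf .df))) (.node (.node (.leaf .df) (.leaf .df)) (.node (.leaf (.cyc (nat_lit 20) [(nat_lit 1879), (nat_lit 4803), (nat_lit 1879)])) (.leaf .df)))) (.node (.node (.node (.leaf .df) (.leaf (.cyc (nat_lit 15) [(nat_lit 2719), (nat_lit 9212), (nat_lit 2719)]))) (.node (.leaf (.cyc (nat_lit 15) [(nat_lit 861), (nat_lit 4155), (nat_lit 1530)])) (.leaf .df))) (.node (.node (.leaf (.cyc (nat_lit 97) [(nat_lit 455), (nat_lit 3083), (nat_lit 2921), (nat_lit 106), (nat_lit 107), (nat_lit 2925), (nat_lit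 3191), (nat_lit 3193), (nat_lit 272), (nat_lit 271), (nat_lit 581)])) (.leaf .df)) (.node (.leaf (.cyc (nat_lit 34) [(nat_lit 2190), (nat_lit 6667), (nat_lit 6669), (nat_lit 6667), (nat_lit 2190)])) (.leaf .df)))))) (.node (.node (.node (.node (.node (.leaf .df) (.leaf (.cyc (nat_lit 45) [(nat_lit 2397), (nat_lit 6501), (nat_lit 6028), (nat_lit 6501), (nat_lit 2397)]))) (.node (.leaf (.cyc (nat_lit 35) [(nat_lit 983), (nat_lit 4484), (nat_lit 4486), (nat_lit 4484), (nat_lit 983)])) (.leaf .df))) (.node (.node (.leaf .df) (.leaf .df)) (.node (.leaf (.cyc (nat_lit 25) [(nat_lit 1268), (nat_lit 1267), (nat_lit 5121), (nat_lit 4764), (nat_lit 1786)])) (.leaf .df)))) (.node (.node (.node (.leaf .df) (.leaf (.cyc (nat_lit 46) [(nat_lit 2660), (nat_lit 8466), (nat_lit 2660)]))) (.node (.leaf (.cyc (nat_lit 62) [(nat_lit 1441), (nat_lit 771), (nat_lit 4082), (nat_lit 771), (nat_lit 1441)])) (.leaf .df))) (.node (.node (.leaf (.cyc (nat_lit 60) [(nat_lit 444), (nat_lit 445), (nat_lit 3465),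 (nat_lit 445), (nat_lit 444)])) (.leaf .df)) (.node (.leaf (.cyc (nat_lit 16) [(nat_lit 2118), (nat_lit 2117), (nat_lit 7559), (nat_lit 2117), (nat_lit 2118)])) (.leaf .df))))) (.node (.node (.node (.node (.leaf .df) (.leaf (.cyc (nat_lit 62) [(nat_lit 2530), (nat_lit 7269), (nat_lit 5641), (nat_lit 7269), (nat_lit 2530)]))) (.node (.leaf (.cyc (nat_lit 19) [(nat_lit 1064), (nat_lit 3694), (nat_lit 563), (nat_lit 1069), (nat_lit 4994)])) (.leaf .df))) (.node (.node (.leaf (.cyc (nat_lit 15) [(nat_lit 60), (nat_lit 59), (nat_lit 144)])) (.leaf .df)) (.node (.leaf (.cyc (nat_lit 53) [(nat_lit 1184), (nat_lit 627), (nat_lit 626), (nat_lit 1181), (nat_lit 1956)])) (.leaf .df)))) (.node (.node (.node (.leaf .df) (.leaf .df)) (.node (.leaf (.cyc (nat_lit 0) [(nat_lit 1610), (nat_lit 1611), (nat_lit 6025), (nat_lit 1611), (nat_lit 1610)])) (.leaf .df))) (.node (.node (.leaf (.cyc (nat_lit 48) [(nat_lit 757), (nat_lit 3304), (nat_lit 757)])) (.leaf .df)) (.node (.leaf (.cyc (nat_lit 41)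 [(nat_lit 1565), (nat_lit 5762), (nat_lit 2264)])) (.leaf .df))))))))
noncomputable def u5P0101001 : BT Pf := (.node (.node (.node (.node (.node (.node (.node (.leaf .df) (.leaf (.cyc (nat_lit 19) [(nat_lit 2317), (nat_lit 6084), (nat_lit 4300), (nat_lit 6084), (nat_lit 2317)]))) (.node (.leaf (.cyc (nat_lit 28) [(nat_lit 411), (nat_lit 178), (nat_lit 177), (nat_lit 410), (nat_lit 835)])) (.leaf .df))) (.node (.node (.leaf .df) (.leaf .df)) (.node (.leaf (.cyc (nat_lit 30) [(nat_lit 1681), (nat_lit 1680), (nat_lit 6215), (nat_lit 1680), (nat_lit 1681)])) (.leaf .df)))) (.node (.node (.node (.leaf .df) (.leaf (.cyc (nat_lit 31) [(nat_lit 2579), (nat_lit 7616), (nat_lit 5424), (nat_lit 7616), (nat_lit 2579)]))) (.node (.leaf (.cyc (nat_lit 131) [(nat_lit 5059), (nat_lit 849), (nat_lit 4615), (nat_lit 4613), (nat_lit 709), (nat_lit 333), (nat_lit 139), (nat_lit 2947), (nat_lit 324), (nat_lit 690), (nat_lit 1303)])) (.leaf .df))) (.node (.node (.leaf (.cyc (nat_lit 62) [(nat_lit 172),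 (nat_lit 2981), (nat_lit 2972), (nat_lit 2905), (nat_lit 242)])) (.leaf .df)) (.node (.leaf (.cyc (nat_lit 58) [(nat_lit 1946), (nat_lit 1170), (nat_lit 620), (nat_lit 3218), (nat_lit 301), (nat_lit 3233), (nat_lit 649), (nat_lit 1230), (nat_lit 5090), (nat_lit 5071), (nat_lit 2016), (nat_lit 7241)])) (.leaf .df))))) (.node (.node (.node (.node (.leaf .df) (.leaf (.cyc (nat_lit 165) [(nat_lit 2446), (nat_lit 6677), (nat_lit 5825), (nat_lit 5824), (nat_lit 5823), (nat_lit 4192), (nat_lit 437), (nat_lit 3087), (nat_lit 3412), (nat_lit 3674), (nat_lit 3400), (nat_lit 511), (nat_lit 982), (nat_lit 1743), (nat_lit 6399), (nat_lit 6398), (nat_lit 7557)]))) (.node (.leaf (.cyc (nat_lit 23) [(nat_lit 560), (nat_lit 557), (nat_lit 1059)])) (.leaf .df))) (.node (.node (.leaf .df) (.leaf .df)) (.node (.leaf (.cyc (nat_lit 36) [(nat_lit 1834), (nat_lit 4714), (nat_lit 3699), (nat_lit 566), (nat_lit 265), (nat_lit 267), (nat_lit 3695), (nat_lit 4662), (nat_lit 1540), (nat_lit 5814), (nat_lit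 1855)])) (.leaf .df)))) (.node (.node (.node (.leaf .df) (.leaf (.cyc (nat_lit 53) [(nat_lit 2704), (nat_lit 2530), (nat_lit 7270), (nat_lit 2530), (nat_lit 2704)]))) (.node (.leaf (.cyc (nat_lit 30) [(nat_lit 1507), (nat_lit 4791), (nat_lit 4790), (nat_lit 4791), (nat_lit 1507)])) (.leaf .df))) (.node (.node (.leaf (.cyc (nat_lit 74) [(nat_lit 3517), (nat_lit 3650), (nat_lit 548)])) (.leaf .df)) (.node (.leaf (.cyc (nat_lit 19) [(nat_lit 1599), (nat_lit 5447), (nat_lit 1408), (nat_lit 5437), (nat_lit 2170)])) (.leaf .df)))))) (.node (.node (.node (.node (.node (.leaf .df) (.leaf (.cyc (nat_lit 30) [(nat_lit 2380), (nat_lit 2379), (nat_lit 8518), (nat_lit 2379), (nat_lit 2380)]))) (.node (.leaf (.cyc (nat_lit 27) [(nat_lit 489), (nat_lit 488), (nat_lit 947)])) (.leaf .df))) (.node (.node (.leaf .df) (.leaf .df)) (.node (.leaf (.cyc (nat_lit 128) [(nat_lit 5514), (nat_lit 1441), (nat_lit 5513), (nat_lit 6367), (nat_lit 1438), (nat_lit 4431), (nat_lit 3874), (nat_lit 3917), (nat_lit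 1357), (nat_lit 5348), (nat_lit 6471)])) (.leaf .df)))) (.node (.node (.node (.leaf .df) (.leaf (.cyc (nat_lit 31) [(nat_lit 2645), (nat_lit 2310), (nat_lit 6042), (nat_lit 2310), (nat_lit 2645)]))) (.node (.leaf (.cyc (nat_lit 63) [(nat_lit 764), (nat_lit 360), (nat_lit 3302), (nat_lit 751), (nat_lit 1410)])) (.leaf .df))) (.node (.node (.leaf (.cyc (nat_lit 6) [(nat_lit 428), (nat_lit 3174), (nat_lit 3177), (nat_lit 3174), (nat_lit 428)])) (.leaf .df)) (.node (.leaf (.cyc (nat_lit 28) [(nat_lit 1899), (nat_lit 1127), (nat_lit 1125), (nat_lit 1895), (nat_lit 7495)])) (.leaf .df))))) (.node (.node (.node (.node (.leaf .df) (.leaf (.cyc (nat_lit 15) [(nat_lit 2514), (nat_lit 7134), (nat_lit 2514)]))) (.node (.leaf (.cyc (nat_lit 30) [(nat_lit 1178), (nat_lit 4617), (nat_lit 4618), (nat_lit 4617), (nat_lit 1178)])) (.leaf .df))) (.node (.node (.leaf (.cyc (nat_lit 16) [(nat_lit 88), (nat_lit 2847), (nat_lit 2848), (nat_lit 2847), (nat_lit 88)])) (.leaf .df)) (.node (.leaf (.cyc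 (nat_lit 62) [(nat_lit 1937), (nat_lit 6959), (nat_lit 6958), (nat_lit 6959), (nat_lit 1937)])) (.leaf .df)))) (.node (.node (.node (.leaf .df) (.leaf .df)) (.node (.leaf (.cyc (nat_lit 46) [(nat_lit 1447), (nat_lit 4238), (nat_lit 1592)])) (.leaf .df))) (.node (.node (.leaf (.cyc (nat_lit 20) [(nat_lit 342), (nat_lit 3267), (nat_lit 719)])) (.leaf .df)) (.node (.leaf (.cyc (nat_lit 27) [(nat_lit 7834), (nat_lit 5981), (nat_lit 2243)])) (.leaf .df))))))) (.node (.node (.node (.node (.node (.node (.leaf .df) (.leaf (.cyc (nat_lit 129) [(nat_lit 2347), (nat_lit 6174), (nat_lit 1664), (nat_lit 920), (nat_lit 919), (nat_lit 1662), (nat_lit 7307), (nat_lit 2034), (nat_lit 5103), (nat_lit 2009), (nat_lit 7218)]))) (.node (.leaf (.cyc (nat_lit 48) [(nat_lit 899), (nat_lit 3477), (nat_lit 899)])) (.leaf .df))) (.node (.node (.leaf .df) (.leaf .df)) (.node (.leaf (.cyc (nat_lit 15) [(nat_lit 973), (nat_lit 972), (nat_lit 1728)])) (.leaf .df)))) (.node (.node (.node (.leaf .df) (.leaf (.cyc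 (nat_lit 18) [(nat_lit 2616), (nat_lit 7994), (nat_lit 7943), (nat_lit 7994), (nat_lit 2616)]))) (.node (.leaf (.cyc (nat_lit 52) [(nat_lit 1259), (nat_lit 1261), (nat_lit 5321), (nat_lit 1261), (nat_lit 1259)])) (.leaf .df))) (.node (.node (.leaf (.cyc (nat_lit 37) [(nat_lit 345), (nat_lit 3270), (nat_lit 3272), (nat_lit 3270), (nat_lit 345)])) (.leaf .df)) (.node (.leaf (.cyc (nat_lit 30) [(nat_lit 1892), (nat_lit 6846), (nat_lit 1879), (nat_lit 5147), (nat_lit 2060)])) (.leaf .df))))) (.node (.node (.node (.node (.leaf .df) (.leaf (.cyc (nat_lit 48) [(nat_lit 1961), (nat_lit 7042), (nat_lit 2482)]))) (.node (.leaf (.cyc (nat_lit 97) [(nat_lit 4809), (nat_lit 4781), (nat_lit 4706), (nat_lit 4704), (nat_lit 928), (nat_lit 3765), (nat_lit 3764), (nat_lit 523), (nat_lit 522), (nat_lit 4672), (nat_lit 4673)])) (.leaf .df))) (.node (.node (.leaf (.pin (nat_lit 13) [] [])) (.leaf .df)) (.node (.leaf (.cyc (nat_lit 20) [(nat_lit 1903), (nat_lit 4849), (nat_lit 1903)])) (.leaf .df))))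 (.node (.node (.node (.leaf .df) (.leaf (.cyc (nat_lit 18) [(nat_lit 2732), (nat_lit 9407), (nat_lit 9252), (nat_lit 9407), (nat_lit 2732)]))) (.node (.leaf (.cyc (nat_lit 35) [(nat_lit 1547), (nat_lit 4193), (nat_lit 3411), (nat_lit 4193), (nat_lit 1547)])) (.leaf .df))) (.node (.node (.leaf (.cyc (nat_lit 90) [(nat_lit 575), (nat_lit 574), (nat_lit 3785), (nat_lit 574), (nat_lit 575)])) (.leaf .df)) (.node (.leaf (.cyc (nat_lit 27) [(nat_lit 1446), (nat_lit 1445), (nat_lit 2207)])) (.leaf .df)))))) (.node (.node (.node (.node (.node (.leaf .df) (.leaf (.cyc (nat_lit 6) [(nat_lit 2413), (nat_lit 7095), (nat_lit 7093), (nat_lit 7095), (nat_lit 2413)]))) (.node (.leaf (.cyc (nat_lit 16) [(nat_lit 1000), (nat_lit 3604), (nat_lit 748), (nat_lit 4545), (nat_lit 1009)])) (.leaf .df))) (.node (.node (.leaf .df) (.leaf .df)) (.node (.leaf (.cyc (nat_lit 45) [(nat_lit 1557), (nat_lit 843), (nat_lit 4073), (nat_lit 1049), (nat_lit 1805)])) (.leaf .df)))) (.node (.node (.node (.leaf .df)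 (.leaf (.cyc (nat_lit 37) [(nat_lit 2674), (nat_lit 8716), (nat_lit 8592), (nat_lit 8716), (nat_lit 2674)]))) (.node (.leaf (.cyc (nat_lit 30) [(nat_lit 5177), (nat_lit 4552), (nat_lit 886), (nat_lit 4093), (nat_lit 1470)])) (.leaf .df))) (.node (.node (.leaf (.cyc (nat_lit 62) [(nat_lit 483), (nat_lit 3113), (nat_lit 3007), (nat_lit 3113), (nat_lit 483)])) (.leaf .df)) (.node (.leaf (.cyc (nat_lit 27) [(nat_lit 6658), (nat_lit 6655), (nat_lit 2136)])) (.leaf .df))))) (.node (.node (.node (.node (.leaf .df) (.leaf (.cyc (nat_lit 6) [(nat_lit 2546), (nat_lit 7363), (nat_lit 5501), (nat_lit 7363), (nat_lit 2546)]))) (.node (.leaf (.cyc (nat_lit 53) [(nat_lit 667), (nat_lit 310), (nat_lit 309), (nat_lit 665), (nat_lit 5064)])) (.leaf .df))) (.node (.node (.leaf (.cyc (nat_lit 35) [(nat_lit 173), (nat_lit 3011), (nat_lit 3012), (nat_lit 3011), (nat_lit 173)])) (.leaf .df)) (.node (.leaf (.cyc (nat_lit 23) [(nat_lit 7109), (nat_lit 1975), (nat_lit 1977)])) (.leaf .df)))) (.node (.node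 (.node (.leaf .df) (.leaf .df)) (.node (.leaf (.cyc (nat_lit 56) [(nat_lit 1632), (nat_lit 6084), (nat_lit 6085), (nat_lit 6084), (nat_lit 1632)])) (.leaf .df))) (.node (.node (.leaf (.cyc (nat_lit 114) [(nat_lit 4023), (nat_lit 4035)])) (.leaf .df)) (.node (.leaf (.cyc (nat_lit 49) [(nat_lit 6677), (nat_lit 5851), (nat_lit 2282)])) (.leaf .df))))))))
noncomputable def u5P010100 : BT Pf := .node u5P0101000 u5P0101001
noncomputable def u5P0101010 : BT Pf := (.node (.node (.node (.node (.node (.node (.node (.leaf .df) (.leaf (.cyc (nat_lit 37) [(nat_lit 2075), (nat_lit 6862), (nat_lit 1903), (nat_lit 6009), (nat_lit 2306)]))) (.node (.leaf (.cyc (nat_lit 21) [(nat_lit 651), (nat_lit 3633), (nat_lit 4135), (nat_lit 808), (nat_lit 810)])) (.leaf .df))) (.node (.node (.leaf .df) (.leaf .df)) (.node (.leaf (.cyc (nat_lit 48) [(nat_lit 1554), (nat_lit 4385), (nat_lit 1671)])) (.leaf .df)))) (.node (.node (.node (.leaf .df) (.leaf (.cyc (nat_lit 52) [(nat_lit 2568), (nat_lit 2569), (nat_lit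 9256), (nat_lit 2569), (nat_lit 2568)]))) (.node (.leaf (.cyc (nat_lit 21) [(nat_lit 1288), (nat_lit 3876), (nat_lit 3256), (nat_lit 3876), (nat_lit 1288)])) (.leaf .df))) (.node (.node (.leaf (.cyc (nat_lit 21) [(nat_lit 172), (nat_lit 2983), (nat_lit 2985), (nat_lit 2887), (nat_lit 220)])) (.leaf .df)) (.node (.leaf (.cyc (nat_lit 6) [(nat_lit 2005), (nat_lit 7009), (nat_lit 7007), (nat_lit 7009), (nat_lit 2005)])) (.leaf .df))))) (.node (.node (.node (.node (.leaf .df) (.leaf (.cyc (nat_lit 35) [(nat_lit 7950), (nat_lit 1660), (nat_lit 4693), (nat_lit 1825), (nat_lit 2439)]))) (.node (.leaf (.cyc (nat_lit 35) [(nat_lit 1050), (nat_lit 3687), (nat_lit 3675), (nat_lit 3687), (nat_lit 1050)])) (.leaf .df))) (.node (.node (.leaf .df) (.leaf .df)) (.node (.leaf (.cyc (nat_lit 34) [(nat_lit 1844), (nat_lit 4876), (nat_lit 4877), (nat_lit 4876), (nat_lit 1844)])) (.leaf .df)))) (.node (.node (.node (.leaf .df) (.leaf (.cyc (nat_lit 27) [(nat_lit 2696), (nat_lit 9020), (nat_lit 2696)])))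 (.node (.leaf (.cyc (nat_lit 27) [(nat_lit 1495), (nat_lit 4129), (nat_lit 1495)])) (.leaf .df))) (.node (.node (.leaf (.cyc (nat_lit 27) [(nat_lit 538), (nat_lit 3167), (nat_lit 538)])) (.leaf .df)) (.node (.leaf (.cyc (nat_lit 154) [(nat_lit 1933), (nat_lit 5952), (nat_lit 7721), (nat_lit 7720), (nat_lit 7718), (nat_lit 5426), (nat_lit 1287), (nat_lit 1286), (nat_lit 5496), (nat_lit 5156), (nat_lit 6570), (nat_lit 6569), (nat_lit 6589), (nat_lit 1275), (nat_lit 1276), (nat_lit 5142), (nat_lit 2056)])) (.leaf .df)))))) (.node (.node (.node (.node (.node (.leaf .df) (.leaf (.cyc (nat_lit 47) [(nat_lit 2372), (nat_lit 6326), (nat_lit 5229), (nat_lit 6326), (nat_lit 2372)]))) (.node (.leaf (.cyc (nat_lit 20) [(nat_lit 936), (nat_lit 3527), (nat_lit 936)])) (.leaf .df))) (.node (.node (.leaf .df) (.leaf .df)) (.node (.leaf (.cyc (nat_lit 110) [(nat_lit 6441), (nat_lit 1759), (nat_lit 1758)])) (.leaf .df)))) (.node (.node (.node (.leaf .df) (.leaf (.cyc (nat_lit 65) [(nat_lit 9264),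 (nat_lit 9239), (nat_lit 2570), (nat_lit 2109), (nat_lit 5262), (nat_lit 2110), (nat_lit 8173), (nat_lit 2291), (nat_lit 2290), (nat_lit 2638), (nat_lit 9513)]))) (.node (.leaf (.cyc (nat_lit 46) [(nat_lit 739), (nat_lit 3936), (nat_lit 1387)])) (.leaf .df))) (.node (.node (.leaf (.cyc (nat_lit 20) [(nat_lit 399), (nat_lit 3004), (nat_lit 399)])) (.leaf .df)) (.node (.leaf (.cyc (nat_lit 110) [(nat_lit 7465), (nat_lit 6989), (nat_lit 2003)])) (.leaf .df))))) (.node (.node (.node (.node (.leaf .df) (.leaf (.cyc (nat_lit 18) [(nat_lit 8929), (nat_lit 7936), (nat_lit 7243), (nat_lit 1945), (nat_lit 2504)]))) (.node (.leaf (.cyc (nat_lit 26) [(nat_lit 1165), (nat_lit 3765), (nat_lit 3524), (nat_lit 3765), (nat_lit 1165)])) (.leaf .df))) (.node (.node (.leaf (.cyc (nat_lit 37) [(nat_lit 54), (nat_lit 53), (nat_lit 2856), (nat_lit 53), (nat_lit 54)])) (.leaf .df)) (.node (.leaf (.cyc (nat_lit 124) [(nat_lit 6951), (nat_lit 6720), (nat_lit 1703), (nat_lit 4430), (nat_lit 1432)])) (.leaf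 .df)))) (.node (.node (.node (.leaf .df) (.leaf .df)) (.node (.leaf (.cyc (nat_lit 0) [(nat_lit 1577), (nat_lit 1578), (nat_lit 5929), (nat_lit 1578), (nat_lit 1577)])) (.leaf .df))) (.node (.node (.leaf (.cyc (nat_lit 50) [(nat_lit 332), (nat_lit 139), (nat_lit 2947), (nat_lit 324), (nat_lit 689)])) (.leaf .df)) (.node (.leaf (.cyc (nat_lit 40) [(nat_lit 7974), (nat_lit 5679), (nat_lit 7974)])) (.leaf .df))))))) (.node (.node (.node (.node (.node (.node (.leaf .df) (.leaf (.cyc (nat_lit 34) [(nat_lit 2339), (nat_lit 2338), (nat_lit 8358), (nat_lit 2338), (nat_lit 2339)]))) (.node (.leaf (.cyc (nat_lit 50) [(nat_lit 577), (nat_lit 270), (nat_lit 3071), (nat_lit 449), (nat_lit 885)])) (.leaf .df))) (.node (.node (.leaf .df) (.leaf .df)) (.node (.leaf (.cyc (nat_lit 21) [(nat_lit 1714), (nat_lit 4727), (nat_lit 4726), (nat_lit 4727), (nat_lit 1714)])) (.leaf .df)))) (.node (.node (.node (.leaf .df) (.leaf (.cyc (nat_lit 45) [(nat_lit 8115), (nat_lit 7075), (nat_lit 7207), (nat_lit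 7910), (nat_lit 2606)]))) (.node (.leaf (.cyc (nat_lit 25) [(nat_lit 1232), (nat_lit 3826), (nat_lit 3264), (nat_lit 3901), (nat_lit 1337)])) (.leaf .df))) (.node (.node (.leaf (.cyc (nat_lit 62) [(nat_lit 134), (nat_lit 55), (nat_lit 54), (nat_lit 130), (nat_lit 310)])) (.leaf .df)) (.node (.leaf (.cyc (nat_lit 21) [(nat_lit 2048), (nat_lit 5122), (nat_lit 3865), (nat_lit 5122), (nat_lit 2048)])) (.leaf .df))))) (.node (.node (.node (.node (.leaf .df) (.leaf (.cyc (nat_lit 20) [(nat_lit 8274), (nat_lit 7063), (nat_lit 2474)]))) (.node (.leaf (.cyc (nat_lit 37) [(nat_lit 1110), (nat_lit 4124), (nat_lit 4122), (nat_lit 4124), (nat_lit 1110)])) (.leaf .df))) (.node (.node (.leaf .df) (.leaf .df)) (.node (.leaf (.cyc (nat_lit 100) [(nat_lit 6823), (nat_lit 5320), (nat_lit 4259), (nat_lit 5320), (nat_lit 6823)])) (.leaf .df)))) (.node (.node (.node (.leaf .df) (.leaf (.cyc (nat_lit 6) [(nat_lit 2725), (nat_lit 9655), (nat_lit 9164), (nat_lit 9655), (nat_lit 2725)]))) (.node (.leaf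 (.cyc (nat_lit 37) [(nat_lit 1536), (nat_lit 4588), (nat_lit 4589), (nat_lit 4588), (nat_lit 1536)])) (.leaf .df))) (.node (.node (.leaf (.cyc (nat_lit 16) [(nat_lit 611), (nat_lit 282), (nat_lit 2932), (nat_lit 282), (nat_lit 611)])) (.leaf .df)) (.node (.leaf (.cyc (nat_lit 17) [(nat_lit 2104), (nat_lit 7503), (nat_lit 6614), (nat_lit 6616), (nat_lit 4824), (nat_lit 4248), (nat_lit 6478), (nat_lit 771), (nat_lit 4002), (nat_lit 1434), (nat_lit 2197)])) (.leaf .df)))))) (.node (.node (.node (.node (.node (.leaf .df) (.leaf (.cyc (nat_lit 27) [(nat_lit 8468), (nat_lit 8423), (nat_lit 2406)]))) (.node (.leaf (.cyc (nat_lit 81) [(nat_lit 993), (nat_lit 517), (nat_lit 3251), (nat_lit 694), (nat_lit 3934), (nat_lit 4432), (nat_lit 952), (nat_lit 4426), (nat_lit 4434), (nat_lit 947), (nat_lit 946)])) (.leaf .df))) (.node (.node (.leaf .df) (.leaf .df)) (.node (.leaf (.cyc (nat_lit 47) [(nat_lit 1286), (nat_lit 5155), (nat_lit 6567), (nat_lit 6566), (nat_lit 1798)])) (.leaf .df))))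 (.node (.node (.node (.leaf .df) (.leaf (.cyc (nat_lit 79) [(nat_lit 9584), (nat_lit 8900), (nat_lit 2111), (nat_lit 5271), (nat_lit 7450), (nat_lit 2557), (nat_lit 9204), (nat_lit 8555), (nat_lit 8564), (nat_lit 8554), (nat_lit 2667)]))) (.node (.leaf (.cyc (nat_lit 46) [(nat_lit 1257), (nat_lit 5066), (nat_lit 1457)])) (.leaf .df))) (.node (.node (.leaf (.cyc (nat_lit 6) [(nat_lit 464), (nat_lit 3086), (nat_lit 2927), (nat_lit 3086), (nat_lit 464)])) (.leaf .df)) (.node (.leaf (.cyc (nat_lit 27) [(nat_lit 7591), (nat_lit 2125), (nat_lit 2126)])) (.leaf .df))))) (.node (.node (.node (.node (.leaf .df) (.leaf (.cyc (nat_lit 53) [(nat_lit 2445), (nat_lit 2446), (nat_lit 8778), (nat_lit 7558), (nat_lit 2539)]))) (.node (.leaf (.cyc (nat_lit 23) [(nat_lit 801), (nat_lit 3977), (nat_lit 1232)])) (.leaf .df))) (.node (.node (.leaf (.cyc (nat_lit 68) [(nat_lit 2983), (nat_lit 68), (nat_lit 2796), (nat_lit 42), (nat_lit 100)])) (.leaf .df)) (.node (.leaf (.cyc (nat_lit 59) [(nat_lit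 7080), (nat_lit 7078), (nat_lit 5742), (nat_lit 7078), (nat_lit 7080)])) (.leaf .df)))) (.node (.node (.node (.leaf .df) (.leaf .df)) (.node (.leaf (.cyc (nat_lit 3) [(nat_lit 6057), (nat_lit 1053), (nat_lit 1056)])) (.leaf .df))) (.node (.node (.leaf (.cyc (nat_lit 21) [(nat_lit 776), (nat_lit 366), (nat_lit 3436), (nat_lit 366), (nat_lit 776)])) (.leaf .df)) (.node (.leaf (.cyc (nat_lit 62) [(nat_lit 2272), (nat_lit 5809), (nat_lit 5026), (nat_lit 5809), (nat_lit 2272)])) (.leaf .df))))))))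
noncomputable def u5P0101011 : BT Pf := (.node (.node (.node (.node (.node (.node (.node (.leaf .df) (.leaf (.cyc (nat_lit 53) [(nat_lit 2324), (nat_lit 6099), (nat_lit 5408), (nat_lit 6099), (nat_lit 2324)]))) (.node (.leaf (.cyc (nat_lit 19) [(nat_lit 438), (nat_lit 193), (nat_lit 3035), (nat_lit 3391), (nat_lit 847)])) (.leaf .df))) (.node (.node (.leaf .df) (.leaf .df)) (.node (.leaf (.cyc (nat_lit 56) [(nat_lit 1693), (nat_lit 939), (nat_lit 3532), (nat_lit 939), (nat_lit 1693)])) (.leaf .df)))) (.node (.node (.node (.leaf .df) (.leaf (.cyc (nat_lit 18) [(nat_lit 2589), (nat_lit 2146), (nat_lit 5393), (nat_lit 2146), (nat_lit 2589)]))) (.node (.leaf (.cyc (nat_lit 107) [(nat_lit 1311), (nat_lit 695), (nat_lit 3253), (nat_lit 3885), (nat_lit 1308), (nat_lit 5217), (nat_lit 1308), (nat_lit 3885), (nat_lit 3253), (nat_lit 695), (nat_lit 1311)])) (.leaf .df))) (.node (.node (.leaf (.cyc (nat_lit 92) [(nat_lit 257), (nat_lit 2922), (nat_lit 73), (nat_lit 24), (nat_lit 2819), (nat_lit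 2820), (nat_lit 2819), (nat_lit 24), (nat_lit 73), (nat_lit 2922), (nat_lit 257)])) (.leaf .df)) (.node (.leaf (.cyc (nat_lit 86) [(nat_lit 7272), (nat_lit 5820), (nat_lit 1548)])) (.leaf .df))))) (.node (.node (.node (.node (.leaf .df) (.leaf (.cyc (nat_lit 47) [(nat_lit 2456), (nat_lit 8136), (nat_lit 8133), (nat_lit 8136), (nat_lit 2456)]))) (.node (.leaf (.cyc (nat_lit 27) [(nat_lit 566), (nat_lit 565), (nat_lit 1073)])) (.leaf .df))) (.node (.node (.leaf .df) (.leaf .df)) (.node (.leaf (.cyc (nat_lit 77) [(nat_lit 5974), (nat_lit 5976), (nat_lit 1595), (nat_lit 5582), (nat_lit 1296), (nat_lit 1295), (nat_lit 5171), (nat_lit 1102), (nat_lit 1103), (nat_lit 1866), (nat_lit 6761)])) (.leaf .df)))) (.node (.node (.node (.leaf .df) (.leaf (.cyc (nat_lit 27) [(nat_lit 2712), (nat_lit 9132), (nat_lit 2712)]))) (.node (.leaf (.cyc (nat_lit 113) [(nat_lit 1521), (nat_lit 5737)])) (.leaf .df))) (.node (.node (.leaf (.cyc (nat_lit 44) [(nat_lit 266), (nat_lit 112), (nat_lit 110), (nat_lit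 261), (nat_lit 558)])) (.leaf .df)) (.node (.leaf (.cyc (nat_lit 106) [(nat_lit 2179), (nat_lit 2180), (nat_lit 7785), (nat_lit 2180), (nat_lit 2179)])) (.leaf .df)))))) (.node (.node (.node (.node (.node (.leaf .df) (.leaf (.cyc (nat_lit 46) [(nat_lit 2389), (nat_lit 6432), (nat_lit 2389)]))) (.node (.leaf (.cyc (nat_lit 41) [(nat_lit 531), (nat_lit 4070), (nat_lit 965)])) (.leaf .df))) (.node (.node (.leaf .df) (.leaf .df)) (.node (.leaf (.cyc (nat_lit 27) [(nat_lit 1678), (nat_lit 4568), (nat_lit 1772)])) (.leaf .df)))) (.node (.node (.node (.leaf .df) (.leaf (.cyc (nat_lit 47) [(nat_lit 2652), (nat_lit 8318), (nat_lit 7624), (nat_lit 8318), (nat_lit 2652)]))) (.node (.leaf (.cyc (nat_lit 56) [(nat_lit 1423), (nat_lit 5478), (nat_lit 5479), (nat_lit 5478), (nat_lit 1423)])) (.leaf .df))) (.node (.node (.leaf (.cyc (nat_lit 113) [(nat_lit 3429), (nat_lit 3318), (nat_lit 3429), (nat_lit 372)])) (.leaf .df)) (.node (.leaf (.cyc (nat_lit 23) [(nat_lit 6229), (nat_lit 6235), (nat_lit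 2107)])) (.leaf .df))))) (.node (.node (.node (.node (.leaf .df) (.leaf (.cyc (nat_lit 19) [(nat_lit 2522), (nat_lit 2010), (nat_lit 5042), (nat_lit 2010), (nat_lit 2522)]))) (.node (.leaf (.cyc (nat_lit 57) [(nat_lit 4969), (nat_lit 642), (nat_lit 297), (nat_lit 2940), (nat_lit 133), (nat_lit 3282), (nat_lit 133), (nat_lit 2940), (nat_lit 297), (nat_lit 642), (nat_lit 4969)])) (.leaf .df))) (.node (.node (.leaf (.cyc (nat_lit 50) [(nat_lit 73), (nat_lit 24), (nat_lit 11), (nat_lit 46), (nat_lit 109)])) (.leaf .df)) (.node (.leaf (.cyc (nat_lit 30) [(nat_lit 1582), (nat_lit 4348), (nat_lit 5287), (nat_lit 5286), (nat_lit 1948)])) (.leaf .df)))) (.node (.node (.node (.leaf .df) (.leaf .df)) (.node (.leaf (.cyc (nat_lit 18) [(nat_lit 974), (nat_lit 3570), (nat_lit 4067), (nat_lit 4252), (nat_lit 1602)])) (.leaf .df))) (.node (.node (.leaf (.cyc (nat_lit 27) [(nat_lit 743), (nat_lit 3298), (nat_lit 743)])) (.leaf .df)) (.node (.leaf (.cyc (nat_lit 62) [(nat_lit 2253), (nat_lit 6400),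 (nat_lit 6399), (nat_lit 6400), (nat_lit 2253)])) (.leaf .df))))))) (.node (.node (.node (.node (.node (.node (.leaf .df) (.leaf (.cyc (nat_lit 53) [(nat_lit 7765), (nat_lit 1535), (nat_lit 4389), (nat_lit 1677), (nat_lit 2354)]))) (.node (.leaf (.cyc (nat_lit 41) [(nat_lit 916), (nat_lit 3490), (nat_lit 916)])) (.leaf .df))) (.node (.node (.leaf .df) (.leaf .df)) (.node (.leaf (.cyc (nat_lit 97) [(nat_lit 6194), (nat_lit 931), (nat_lit 480), (nat_lit 3103), (nat_lit 411), (nat_lit 839), (nat_lit 4177), (nat_lit 3574), (nat_lit 3573), (nat_lit 4479), (nat_lit 1735)])) (.leaf .df)))) (.node (.node (.node (.leaf .df) (.leaf (.cyc (nat_lit 9) [(nat_lit 9448), (nat_lit 9410), (nat_lit 2562), (nat_lit 7463), (nat_lit 2368)]))) (.node (.leaf (.cyc (nat_lit 45) [(nat_lit 739), (nat_lit 348), (nat_lit 3268), (nat_lit 722), (nat_lit 1358)])) (.leaf .df))) (.node (.node (.leaf (.cyc (nat_lit 6) [(nat_lit 152), (nat_lit 62), (nat_lit 60), (nat_lit 149), (nat_lit 358)])) (.leaf .df)) (.node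 (.leaf (.cyc (nat_lit 13) [(nat_lit 7401), (nat_lit 6416), (nat_lit 6419), (nat_lit 1720), (nat_lit 4456), (nat_lit 4070), (nat_lit 247), (nat_lit 3147), (nat_lit 525), (nat_lit 1010), (nat_lit 1765)])) (.leaf .df))))) (.node (.node (.node (.node (.leaf .df) (.leaf (.cyc (nat_lit 18) [(nat_lit 2489), (nat_lit 8190), (nat_lit 8191), (nat_lit 8190), (nat_lit 2489)]))) (.node (.leaf (.cyc (nat_lit 8) [(nat_lit 4841), (nat_lit 4506), (nat_lit 4669), (nat_lit 4670), (nat_lit 1096)])) (.leaf .df))) (.node (.node (.leaf (.cyc (nat_lit 7) [(nat_lit 21), (nat_lit 2766), (nat_lit 2773)])) (.leaf .df)) (.node (.leaf (.cyc (nat_lit 15) [(nat_lit 1250), (nat_lit 5621), (nat_lit 1911)])) (.leaf .df)))) (.node (.node (.node (.leaf .df) (.leaf (.cyc (nat_lit 28) [(nat_lit 2738), (nat_lit 9653), (nat_lit 9319), (nat_lit 9653), (nat_lit 2738)]))) (.node (.leaf (.cyc (nat_lit 21) [(nat_lit 1561), (nat_lit 4354), (nat_lit 4361), (nat_lit 4354), (nat_lit 1561)])) (.leaf .df))) (.node (.node (.leaf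 (.cyc (nat_lit 27) [(nat_lit 644), (nat_lit 3810), (nat_lit 644)])) (.leaf .df)) (.node (.leaf (.cyc (nat_lit 3) [(nat_lit 7913), (nat_lit 6712), (nat_lit 1971)])) (.leaf .df)))))) (.node (.node (.node (.node (.node (.leaf .df) (.leaf (.cyc (nat_lit 47) [(nat_lit 2421), (nat_lit 6587), (nat_lit 4852), (nat_lit 6587), (nat_lit 2421)]))) (.node (.leaf (.cyc (nat_lit 23) [(nat_lit 827), (nat_lit 4120), (nat_lit 1025)])) (.leaf .df))) (.node (.node (.leaf .df) (.leaf .df)) (.node (.leaf (.cyc (nat_lit 21) [(nat_lit 1818), (nat_lit 5928), (nat_lit 5930), (nat_lit 5928), (nat_lit 1818)])) (.leaf .df)))) (.node (.node (.node (.leaf .df) (.leaf (.cyc (nat_lit 27) [(nat_lit 2519), (nat_lit 8824), (nat_lit 2682)]))) (.node (.leaf (.cyc (nat_lit 40) [(nat_lit 5609), (nat_lit 4857), (nat_lit 5609)])) (.leaf .df))) (.node (.node (.leaf (.cyc (nat_lit 74) [(nat_lit 321), (nat_lit 3561)])) (.leaf .df)) (.node (.leaf (.cyc (nat_lit 62) [(nat_lit 2145), (nat_lit 5920), (nat_lit 5921), (nat_lit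 5920), (nat_lit 2145)])) (.leaf .df))))) (.node (.node (.node (.node (.leaf .df) (.leaf (.cyc (nat_lit 53) [(nat_lit 7993), (nat_lit 7506), (nat_lit 2095), (nat_lit 7443), (nat_lit 2555)]))) (.node (.leaf (.cyc (nat_lit 31) [(nat_lit 868), (nat_lit 869), (nat_lit 5067), (nat_lit 5064), (nat_lit 1253)])) (.leaf .df))) (.node (.node (.leaf (.cyc (nat_lit 6) [(nat_lit 189), (nat_lit 3039), (nat_lit 3018), (nat_lit 3039), (nat_lit 189)])) (.leaf .df)) (.node (.leaf (.cyc (nat_lit 44) [(nat_lit 7121), (nat_lit 1979), (nat_lit 4967), (nat_lit 1199), (nat_lit 1984)])) (.leaf .df)))) (.node (.node (.node (.leaf .df) (.leaf .df)) (.node (.leaf (.cyc (nat_lit 23) [(nat_lit 1100), (nat_lit 4312), (nat_lit 1644)])) (.leaf .df))) (.node (.node (.leaf (.cyc (nat_lit 10) [(nat_lit 546), (nat_lit 4062), (nat_lit 413)])) (.leaf .df)) (.node (.leaf (.cyc (nat_lit 22) [(nat_lit 8167), (nat_lit 7127), (nat_lit 7038), (nat_lit 7040), (nat_lit 1126), (nat_lit 1127), (nat_lit 6792), (nat_lit 1878),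 (nat_lit 4790), (nat_lit 5936), (nat_lit 2290)])) (.leaf .df))))))))
noncomputable def u5P010101 : BT Pf := .node u5P0101010 u5P0101011
noncomputable def u5P01010 : BT Pf := .node u5P010100 u5P010101
noncomputable def u5P0101100 : BT Pf := (.node (.node (.node (.node (.node (.node (.node (.leaf .df) (.leaf (.cyc (nat_lit 30) [(nat_lit 1603), (nat_lit 1602), (nat_lit 7836), (nat_lit 7834), (nat_lit 2301)]))) (.node (.leaf (.cyc (nat_lit 53) [(nat_lit 800), (nat_lit 396), (nat_lit 2987), (nat_lit 396), (nat_lit 800)])) (.leaf .df))) (.node (.node (.leaf .df) (.leaf .df)) (.node (.leaf (.cyc (nat_lit 24) [(nat_lit 1566), (nat_lit 5873), (nat_lit 6111), (nat_lit 6114), (nat_lit 1663)])) (.leaf .df)))) (.node (.node (.node (.leaf .df) (.leaf (.cyc (nat_lit 37) [(nat_lit 2571), (nat_lit 8173), (nat_lit 8174), (nat_lit 8173), (nat_lit 2571)]))) (.node (.leaf (.cyc (nat_lit 23) [(nat_lit 5121), (nat_lit 5120), (nat_lit 1278)])) (.leaf .df))) (.node (.node (.leaf (.cyc (nat_lit 31) [(nat_lit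 91), (nat_lit 36), (nat_lit 2815), (nat_lit 84), (nat_lit 213)])) (.leaf .df)) (.node (.leaf (.cyc (nat_lit 27) [(nat_lit 1218), (nat_lit 1217), (nat_lit 2000)])) (.leaf .df))))) (.node (.node (.node (.node (.leaf .df) (.leaf (.cyc (nat_lit 22) [(nat_lit 2131), (nat_lit 5357), (nat_lit 7343), (nat_lit 2049), (nat_lit 5130), (nat_lit 2050), (nat_lit 7344), (nat_lit 1989), (nat_lit 1988), (nat_lit 7163), (nat_lit 2434)]))) (.node (.leaf (.cyc (nat_lit 26) [(nat_lit 1042), (nat_lit 549), (nat_lit 3176), (nat_lit 549), (nat_lit 1042)])) (.leaf .df))) (.node (.node (.leaf .df) (.leaf .df)) (.node (.leaf (.cyc (nat_lit 20) [(nat_lit 6681), (nat_lit 1837), (nat_lit 1838)])) (.leaf .df)))) (.node (.node (.node (.leaf .df) (.leaf (.cyc (nat_lit 25) [(nat_lit 2692), (nat_lit 9682), (nat_lit 9685), (nat_lit 9682), (nat_lit 2692)]))) (.node (.leaf (.cyc (nat_lit 47) [(nat_lit 1490), (nat_lit 4605), (nat_lit 4606), (nat_lit 4605), (nat_lit 1490)])) (.leaf .df))) (.node (.node (.leaf (.cyc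 (nat_lit 56) [(nat_lit 524), (nat_lit 243), (nat_lit 2909), (nat_lit 243), (nat_lit 524)])) (.leaf .df)) (.node (.leaf (.cyc (nat_lit 41) [(nat_lit 6628), (nat_lit 5539), (nat_lit 2158)])) (.leaf .df)))))) (.node (.node (.node (.node (.node (.leaf .df) (.leaf (.cyc (nat_lit 56) [(nat_lit 2367), (nat_lit 6687), (nat_lit 6688), (nat_lit 6687), (nat_lit 2367)]))) (.node (.leaf (.cyc (nat_lit 50) [(nat_lit 926), (nat_lit 3884), (nat_lit 4227), (nat_lit 3884), (nat_lit 926)])) (.leaf .df))) (.node (.node (.leaf .df) (.leaf .df)) (.node (.leaf (.cyc (nat_lit 114) [(nat_lit 1580), (nat_lit 6424)])) (.leaf .df)))) (.node (.node (.node (.leaf .df) (.leaf (.cyc (nat_lit 35) [(nat_lit 2635), (nat_lit 8158), (nat_lit 5914), (nat_lit 8158), (nat_lit 2635)]))) (.node (.leaf (.cyc (nat_lit 23) [(nat_lit 732), (nat_lit 730), (nat_lit 1381)])) (.leaf .df))) (.node (.node (.leaf (.cyc (nat_lit 63) [(nat_lit 371), (nat_lit 154), (nat_lit 2867), (nat_lit 160), (nat_lit 390)])) (.leaf .df)) (.node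 (.leaf (.cyc (nat_lit 25) [(nat_lit 1332), (nat_lit 707), (nat_lit 3882), (nat_lit 1301), (nat_lit 2087)])) (.leaf .df))))) (.node (.node (.node (.node (.leaf .df) (.leaf (.cyc (nat_lit 119) [(nat_lit 2154), (nat_lit 5419), (nat_lit 738), (nat_lit 348), (nat_lit 3268), (nat_lit 722), (nat_lit 1357), (nat_lit 5347), (nat_lit 1927), (nat_lit 6941), (nat_lit 2500)]))) (.node (.leaf (.cyc (nat_lit 61) [(nat_lit 1159), (nat_lit 3817), (nat_lit 3809), (nat_lit 3569), (nat_lit 3287), (nat_lit 3203), (nat_lit 3287), (nat_lit 3569), (nat_lit 3809), (nat_lit 3817), (nat_lit 1159)])) (.leaf .df))) (.node (.node (.leaf (.cyc (nat_lit 20) [(nat_lit 22), (nat_lit 11), (nat_lit 45)])) (.leaf .df)) (.node (.leaf (.cyc (nat_lit 81) [(nat_lit 1926), (nat_lit 1925), (nat_lit 6933), (nat_lit 5415), (nat_lit 5413), (nat_lit 1169), (nat_lit 1170), (nat_lit 6824), (nat_lit 1888), (nat_lit 4823), (nat_lit 1887)])) (.leaf .df)))) (.node (.node (.node (.leaf .df) (.leaf (.cyc (nat_lit 46) [(nat_lit 2748),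 (nat_lit 9849), (nat_lit 2748)]))) (.node (.leaf (.cyc (nat_lit 47) [(nat_lit 1573), (nat_lit 1572), (nat_lit 5912), (nat_lit 1572), (nat_lit 1573)])) (.leaf .df))) (.node (.node (.leaf (.cyc (nat_lit 61) [(nat_lit 677), (nat_lit 315), (nat_lit 314), (nat_lit 672), (nat_lit 3862), (nat_lit 3857), (nat_lit 3862), (nat_lit 672), (nat_lit 314), (nat_lit 315), (nat_lit 677)])) (.leaf .df)) (.node (.leaf (.cyc (nat_lit 27) [(nat_lit 2227), (nat_lit 5576), (nat_lit 2227)])) (.leaf .df))))))) (.node (.node (.node (.node (.node (.node (.leaf .df) (.leaf (.cyc (nat_lit 49) [(nat_lit 7535), (nat_lit 6140), (nat_lit 2336)]))) (.node (.leaf (.cyc (nat_lit 15) [(nat_lit 879), (nat_lit 3462), (nat_lit 879)])) (.leaf .df))) (.node (.node (.leaf .df) (.leaf .df)) (.node (.leaf (.cyc (nat_lit 62) [(nat_lit 1707), (nat_lit 4724), (nat_lit 4721), (nat_lit 4724), (nat_lit 1707)])) (.leaf .df)))) (.node (.node (.node (.leaf .df) (.leaf (.cyc (nat_lit 20) [(nat_lit 2603), (nat_lit 7797), (nat_lit 2603)])))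 (.node (.leaf (.cyc (nat_lit 30) [(nat_lit 1333), (nat_lit 708), (nat_lit 3450), (nat_lit 708), (nat_lit 1333)])) (.leaf .df))) (.node (.node (.leaf (.cyc (nat_lit 21) [(nat_lit 300), (nat_lit 127), (nat_lit 2856), (nat_lit 127), (nat_lit 300)])) (.leaf .df)) (.node (.leaf (.cyc (nat_lit 28) [(nat_lit 1370), (nat_lit 1371), (nat_lit 5859), (nat_lit 7170), (nat_lit 2041)])) (.leaf .df))))) (.node (.node (.node (.node (.leaf .df) (.leaf (.cyc (nat_lit 57) [(nat_lit 2469), (nat_lit 6778), (nat_lit 4773), (nat_lit 4278), (nat_lit 3822), (nat_lit 3821), (nat_lit 3822), (nat_lit 4278), (nat_lit 4773), (nat_lit 6778), (nat_lit 2469)]))) (.node (.leaf (.cyc (nat_lit 3) [(nat_lit 4761), (nat_lit 988), (nat_lit 990)])) (.leaf .df))) (.node (.node (.leaf .df) (.leaf .df)) (.node (.leaf (.cyc (nat_lit 131) [(nat_lit 5242), (nat_lit 1326), (nat_lit 6489), (nat_lit 6181), (nat_lit 1401), (nat_lit 3946), (nat_lit 6485), (nat_lit 600), (nat_lit 3729), (nat_lit 4809), (nat_lit 1884)])) (.leaf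 .df)))) (.node (.node (.node (.leaf .df) (.leaf (.cyc (nat_lit 46) [(nat_lit 9336), (nat_lit 9295), (nat_lit 2722)]))) (.node (.leaf (.cyc (nat_lit 115) [(nat_lit 1204), (nat_lit 1202), (nat_lit 5785), (nat_lit 1202), (nat_lit 1204)])) (.leaf .df))) (.node (.node (.leaf (.cyc (nat_lit 35) [(nat_lit 340), (nat_lit 141), (nat_lit 2926), (nat_lit 276), (nat_lit 596)])) (.leaf .df)) (.node (.leaf (.cyc (nat_lit 45) [(nat_lit 7184), (nat_lit 7711), (nat_lit 7709), (nat_lit 6182), (nat_lit 2194)])) (.leaf .df)))))) (.node (.node (.node (.node (.node (.leaf .df) (.leaf (.cyc (nat_lit 105) [(nat_lit 8601), (nat_lit 8242), (nat_lit 8090)]))) (.node (.leaf (.cyc (nat_lit 6) [(nat_lit 602), (nat_lit 3195), (nat_lit 281), (nat_lit 610), (nat_lit 4500)])) (.leaf .df))) (.node (.node (.leaf .df) (.leaf .df)) (.node (.leaf (.cyc (nat_lit 48) [(nat_lit 1491), (nat_lit 4620), (nat_lit 1792)])) (.leaf .df)))) (.node (.node (.node (.leaf .df) (.leaf (.cyc (nat_lit 19) [(nat_lit 9338), (nat_lit 9336),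 (nat_lit 9499), (nat_lit 9497), (nat_lit 2663)]))) (.node (.leaf (.cyc (nat_lit 45) [(nat_lit 1447), (nat_lit 775), (nat_lit 3314), (nat_lit 775), (nat_lit 1447)])) (.leaf .df))) (.node (.node (.leaf (.cyc (nat_lit 34) [(nat_lit 458), (nat_lit 3085), (nat_lit 2958), (nat_lit 3085), (nat_lit 458)])) (.leaf .df)) (.node (.leaf (.cyc (nat_lit 74) [(nat_lit 7575), (nat_lit 7576)])) (.leaf .df))))) (.node (.node (.node (.node (.leaf .df) (.leaf (.cyc (nat_lit 47) [(nat_lit 8719), (nat_lit 8296), (nat_lit 8297), (nat_lit 7313), (nat_lit 2534)]))) (.node (.leaf (.cyc (nat_lit 47) [(nat_lit 1220), (nat_lit 3906), (nat_lit 3907), (nat_lit 3906), (nat_lit 1220)])) (.leaf .df))) (.node (.node (.leaf (.cyc (nat_lit 28) [(nat_lit 159), (nat_lit 64), (nat_lit 2804), (nat_lit 64), (nat_lit 159)])) (.leaf .df)) (.node (.leaf (.cyc (nat_lit 31) [(nat_lit 1964), (nat_lit 1186), (nat_lit 3792), (nat_lit 1186), (nat_lit 1964)])) (.leaf .df)))) (.node (.node (.node (.leaf .df) (.leaf .df)) (.node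 (.leaf (.cyc (nat_lit 21) [(nat_lit 1617), (nat_lit 4272), (nat_lit 3819), (nat_lit 4272), (nat_lit 1617)])) (.leaf .df))) (.node (.node (.leaf (.cyc (nat_lit 0) [(nat_lit 760), (nat_lit 761), (nat_lit 3993), (nat_lit 662), (nat_lit 661)])) (.leaf .df)) (.node (.leaf (.cyc (nat_lit 7) [(nat_lit 8089), (nat_lit 6567), (nat_lit 2070)])) (.leaf .df))))))))
noncomputable def u5P0101101 : BT Pf := (.node (.node (.node (.node (.node (.node (.node (.leaf .df) (.leaf (.cyc (nat_lit 25) [(nat_lit 7816), (nat_lit 7812), (nat_lit 1644), (nat_lit 6091), (nat_lit 2321)]))) (.node (.leaf (.cyc (nat_lit 1) [(nat_lit 4185), (nat_lit 3540), (nat_lit 817)])) (.leaf .df))) (.node (.node (.leaf .df) (.leaf .df)) (.node (.leaf (.cyc (nat_lit 29) [(nat_lit 6233), (nat_lit 4952), (nat_lit 703), (nat_lit 705), (nat_lit 1327)])) (.leaf .df)))) (.node (.node (.node (.leaf .df) (.leaf (.cyc (nat_lit 47) [(nat_lit 2583), (nat_lit 2138), (nat_lit 5899), (nat_lit 2138), (nat_lit 2583)]))) (.node (.leaf (.cyc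 (nat_lit 28) [(nat_lit 1306), (nat_lit 5180), (nat_lit 5181), (nat_lit 5180), (nat_lit 1306)])) (.leaf .df))) (.node (.node (.leaf (.cyc (nat_lit 23) [(nat_lit 108), (nat_lit 106), (nat_lit 251)])) (.leaf .df)) (.node (.leaf (.cyc (nat_lit 18) [(nat_lit 1567), (nat_lit 4903), (nat_lit 1940), (nat_lit 7101), (nat_lit 2022)])) (.leaf .df))))) (.node (.node (.node (.node (.leaf .df) (.leaf (.cyc (nat_lit 47) [(nat_lit 8576), (nat_lit 6447), (nat_lit 6987), (nat_lit 7128), (nat_lit 2451)]))) (.node (.leaf (.cyc (nat_lit 25) [(nat_lit 1067), (nat_lit 562), (nat_lit 3184), (nat_lit 562), (nat_lit 1067)])) (.leaf .df))) (.node (.node (.leaf .df) (.leaf .df)) (.node (.leaf (.cyc (nat_lit 94) [(nat_lit 1859), (nat_lit 1860), (nat_lit 6745), (nat_lit 1860), (nat_lit 1859)])) (.leaf .df)))) (.node (.node (.node (.leaf .df) (.leaf (.cyc (nat_lit 0) [(nat_lit 2707), (nat_lit 2708), (nat_lit 9817), (nat_lit 2708), (nat_lit 2707)]))) (.node (.leaf (.cyc (nat_lit 41) [(nat_lit 5284), (nat_lit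 4393), (nat_lit 1515)])) (.leaf .df))) (.node (.node (.leaf (.cyc (nat_lit 74) [(nat_lit 467), (nat_lit 3664)])) (.leaf .df)) (.node (.leaf (.cyc (nat_lit 107) [(nat_lit 2174), (nat_lit 1410), (nat_lit 3963), (nat_lit 4236), (nat_lit 4237), (nat_lit 4010), (nat_lit 4237), (nat_lit 4236), (nat_lit 3963), (nat_lit 1410), (nat_lit 2174)])) (.leaf .df)))))) (.node (.node (.node (.node (.node (.leaf .df) (.leaf (.cyc (nat_lit 22) [(nat_lit 8535), (nat_lit 7494), (nat_lit 7492), (nat_lit 1365), (nat_lit 1367), (nat_lit 5893), (nat_lit 1833), (nat_lit 6674), (nat_lit 5860), (nat_lit 6385), (nat_lit 2384)]))) (.node (.leaf (.cyc (nat_lit 23) [(nat_lit 492), (nat_lit 490), (nat_lit 957)])) (.leaf .df))) (.node (.node (.leaf .df) (.leaf .df)) (.node (.leaf (.cyc (nat_lit 115) [(nat_lit 5242), (nat_lit 1326), (nat_lit 6489), (nat_lit 1326), (nat_lit 5242)])) (.leaf .df)))) (.node (.node (.node (.leaf .df) (.leaf (.cyc (nat_lit 61) [(nat_lit 9561), (nat_lit 2648), (nat_lit 8638), (nat_lit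 2410), (nat_lit 1778), (nat_lit 4581), (nat_lit 1289), (nat_lit 5169), (nat_lit 2074), (nat_lit 8942), (nat_lit 8944)]))) (.node (.leaf (.cyc (nat_lit 110) [(nat_lit 5465), (nat_lit 4932), (nat_lit 5465)])) (.leaf .df))) (.node (.node (.leaf (.cyc (nat_lit 3) [(nat_lit 3417), (nat_lit 439), (nat_lit 3239)])) (.leaf .df)) (.node (.leaf (.cyc (nat_lit 34) [(nat_lit 2103), (nat_lit 2102), (nat_lit 7511), (nat_lit 2102), (nat_lit 2103)])) (.leaf .df))))) (.node (.node (.node (.node (.leaf .df) (.leaf (.cyc (nat_lit 20) [(nat_lit 2518), (nat_lit 7165), (nat_lit 2518)]))) (.node (.leaf (.cyc (nat_lit 27) [(nat_lit 630), (nat_lit 629), (nat_lit 1188)])) (.leaf .df))) (.node (.node (.leaf (.cyc (nat_lit 27) [(nat_lit 43), (nat_lit 42), (nat_lit 101)])) (.leaf .df)) (.node (.leaf (.cyc (nat_lit 20) [(nat_lit 1944), (nat_lit 4916), (nat_lit 1944)])) (.leaf .df)))) (.node (.node (.node (.leaf .df) (.leaf .df)) (.node (.leaf (.cyc (nat_lit 84) [(nat_lit 5974), (nat_lit 1420), (nat_lit 3981),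 (nat_lit 759), (nat_lit 1421)])) (.leaf .df))) (.node (.node (.leaf (.cyc (nat_lit 117) [(nat_lit 720), (nat_lit 719), (nat_lit 3929), (nat_lit 719), (nat_lit 720)])) (.leaf .df)) (.node (.leaf (.cyc (nat_lit 53) [(nat_lit 2248), (nat_lit 5682), (nat_lit 5486), (nat_lit 5682), (nat_lit 2248)])) (.leaf .df))))))) (.node (.node (.node (.node (.node (.node (.leaf .df) (.leaf (.cyc (nat_lit 20) [(nat_lit 2351), (nat_lit 6199), (nat_lit 2351)]))) (.node (.leaf (.cyc (nat_lit 46) [(nat_lit 909), (nat_lit 3483), (nat_lit 909)])) (.leaf .df))) (.node (.node (.leaf .df) (.leaf .df)) (.node (.leaf (.cyc (nat_lit 159) [(nat_lit 5879), (nat_lit 6170), (nat_lit 6359), (nat_lit 1201), (nat_lit 637), (nat_lit 295), (nat_lit 297), (nat_lit 641), (nat_lit 3809), (nat_lit 678), (nat_lit 4533)])) (.leaf .df)))) (.node (.node (.node (.leaf .df) (.leaf (.cyc (nat_lit 62) [(nat_lit 2619), (nat_lit 8524), (nat_lit 8530), (nat_lit 8524), (nat_lit 2619)]))) (.node (.leaf (.cyc (nat_lit 44) [(nat_lit 721),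 (nat_lit 339), (nat_lit 337), (nat_lit 719), (nat_lit 1352)])) (.leaf .df))) (.node (.node (.leaf (.cyc (nat_lit 21) [(nat_lit 298), (nat_lit 2940), (nat_lit 134), (nat_lit 319), (nat_lit 3288)])) (.leaf .df)) (.node (.leaf (.cyc (nat_lit 23) [(nat_lit 7170), (nat_lit 7360), (nat_lit 2066)])) (.leaf .df))))) (.node (.node (.node (.node (.leaf .df) (.leaf (.cyc (nat_lit 37) [(nat_lit 2485), (nat_lit 8282), (nat_lit 8283), (nat_lit 8282), (nat_lit 2485)]))) (.node (.leaf (.cyc (nat_lit 81) [(nat_lit 1126), (nat_lit 593), (nat_lit 595), (nat_lit 4108), (nat_lit 545), (nat_lit 547), (nat_lit 3640), (nat_lit 4623), (nat_lit 4807), (nat_lit 1117), (nat_lit 1116)])) (.leaf .df))) (.node (.node (.leaf (.pin (nat_lit 29) [(nat_lit 3), (nat_lit 20)] [(nat_lit 20), (nat_lit 3)])) (.leaf .df)) (.node (.leaf (.cyc (nat_lit 63) [(nat_lit 1253), (nat_lit 665), (nat_lit 663), (nat_lit 5623), (nat_lit 1906)])) (.leaf .df)))) (.node (.node (.node (.leaf .df) (.leaf (.cyc (nat_lit 16) [(nat_lit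 2735), (nat_lit 2633), (nat_lit 8131), (nat_lit 2633), (nat_lit 2735)]))) (.node (.leaf (.cyc (nat_lit 105) [(nat_lit 5849), (nat_lit 4177), (nat_lit 977)])) (.leaf .df))) (.node (.node (.leaf (.cyc (nat_lit 15) [(nat_lit 296), (nat_lit 295), (nat_lit 636)])) (.leaf .df)) (.node (.leaf (.cyc (nat_lit 31) [(nat_lit 2210), (nat_lit 1450), (nat_lit 4015), (nat_lit 1450), (nat_lit 2210)])) (.leaf .df)))))) (.node (.node (.node (.node (.node (.leaf .df) (.leaf (.cyc (nat_lit 62) [(nat_lit 2417), (nat_lit 1791), (nat_lit 4618), (nat_lit 1791), (nat_lit 2417)]))) (.node (.leaf (.cyc (nat_lit 3) [(nat_lit 4569), (nat_lit 933), (nat_lit 934)])) (.leaf .df))) (.node (.node (.leaf .df) (.leaf .df)) (.node (.leaf (.cyc (nat_lit 46) [(nat_lit 1811), (nat_lit 4678), (nat_lit 1811)])) (.leaf .df)))) (.node (.node (.node (.leaf .df) (.leaf (.cyc (nat_lit 28) [(nat_lit 2678), (nat_lit 8944), (nat_lit 8943), (nat_lit 8944), (nat_lit 2678)]))) (.node (.leaf (.cyc (nat_lit 107) [(nat_lit 1474), (nat_lit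 790), (nat_lit 3350), (nat_lit 4084), (nat_lit 784), (nat_lit 3337), (nat_lit 784), (nat_lit 4084), (nat_lit 3350), (nat_lit 790), (nat_lit 1474)])) (.leaf .df))) (.node (.node (.leaf (.cyc (nat_lit 15) [(nat_lit 226), (nat_lit 225), (nat_lit 495)])) (.leaf .df)) (.node (.leaf (.cyc (nat_lit 15) [(nat_lit 1373), (nat_lit 1372), (nat_lit 2141)])) (.leaf .df))))) (.node (.node (.node (.node (.leaf .df) (.leaf (.cyc (nat_lit 31) [(nat_lit 2551), (nat_lit 2071), (nat_lit 5162), (nat_lit 2071), (nat_lit 2551)]))) (.node (.leaf (.cyc (nat_lit 63) [(nat_lit 1246), (nat_lit 662), (nat_lit 3240), (nat_lit 662), (nat_lit 1246)])) (.leaf .df))) (.node (.node (.leaf (.cyc (nat_lit 6) [(nat_lit 184), (nat_lit 72), (nat_lit 2780), (nat_lit 72), (nat_lit 184)])) (.leaf .df)) (.node (.leaf (.cyc (nat_lit 15) [(nat_lit 1871), (nat_lit 6771), (nat_lit 7129)])) (.leaf .df)))) (.node (.node (.node (.leaf .df) (.leaf .df)) (.node (.leaf (.cyc (nat_lit 10) [(nat_lit 6103), (nat_lit 5014), (nat_lit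 1217)])) (.leaf .df))) (.node (.node (.leaf (.cyc (nat_lit 74) [(nat_lit 392), (nat_lit 4048)])) (.leaf .df)) (.node (.leaf (.cyc (nat_lit 6) [(nat_lit 2254), (nat_lit 5878), (nat_lit 1565), (nat_lit 1566), (nat_lit 2285)])) (.leaf .df))))))))
noncomputable def u5P010110 : BT Pf := .node u5P0101100 u5P0101101
noncomputable def u5P0101110 : BT Pf := (.node (.node (.node (.node (.node (.node (.node (.leaf .df) (.leaf (.cyc (nat_lit 21) [(nat_lit 6293), (nat_lit 7010), (nat_lit 1943), (nat_lit 6050), (nat_lit 2312)]))) (.node (.leaf (.cyc (nat_lit 19) [(nat_lit 526), (nat_lit 244), (nat_lit 3019), (nat_lit 405), (nat_lit 823)])) (.leaf .df))) (.node (.node (.leaf .df) (.leaf .df)) (.node (.leaf (.cyc (nat_lit 45) [(nat_lit 1676), (nat_lit 4389), (nat_lit 4162), (nat_lit 4389), (nat_lit 1676)])) (.leaf .df)))) (.node (.node (.node (.leaf .df) (.leaf (.cyc (nat_lit 81) [(nat_lit 2576), (nat_lit 2118), (nat_lit 5299), (nat_lit 5300), (nat_lit 2117), (nat_lit 8778), (nat_lit 2446), (nat_lit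 8672), (nat_lit 8673), (nat_lit 8711), (nat_lit 8798)]))) (.node (.leaf (.cyc (nat_lit 20) [(nat_lit 1299), (nat_lit 3881), (nat_lit 1299)])) (.leaf .df))) (.node (.node (.leaf (.cyc (nat_lit 30) [(nat_lit 232), (nat_lit 3051), (nat_lit 3049), (nat_lit 3051), (nat_lit 232)])) (.leaf .df)) (.node (.leaf (.cyc (nat_lit 21) [(nat_lit 2012), (nat_lit 1235), (nat_lit 3828), (nat_lit 1235), (nat_lit 2012)])) (.leaf .df))))) (.node (.node (.node (.node (.leaf .df) (.leaf (.cyc (nat_lit 97) [(nat_lit 2186), (nat_lit 5682), (nat_lit 2248), (nat_lit 8025), (nat_lit 1756), (nat_lit 5500), (nat_lit 6666), (nat_lit 1831), (nat_lit 4711), (nat_lit 1830), (nat_lit 2442)]))) (.node (.leaf (.cyc (nat_lit 106) [(nat_lit 1053), (nat_lit 1054), (nat_lit 4664), (nat_lit 1054), (nat_lit 1053)])) (.leaf .df))) (.node (.node (.leaf .df) (.leaf .df)) (.node (.leaf (.cyc (nat_lit 88) [(nat_lit 1849), (nat_lit 1850), (nat_lit 6713), (nat_lit 1850), (nat_lit 1849)])) (.leaf .df)))) (.node (.node (.node (.leaf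 .df) (.leaf (.cyc (nat_lit 20) [(nat_lit 2700), (nat_lit 9038), (nat_lit 2700)]))) (.node (.leaf (.cyc (nat_lit 45) [(nat_lit 1503), (nat_lit 807), (nat_lit 3370), (nat_lit 807), (nat_lit 1503)])) (.leaf .df))) (.node (.node (.leaf (.cyc (nat_lit 58) [(nat_lit 549), (nat_lit 3176), (nat_lit 257), (nat_lit 2922), (nat_lit 188), (nat_lit 3056), (nat_lit 188), (nat_lit 2922), (nat_lit 257), (nat_lit 3176), (nat_lit 549)])) (.leaf .df)) (.node (.leaf (.cyc (nat_lit 18) [(nat_lit 2166), (nat_lit 6067), (nat_lit 6066), (nat_lit 6067), (nat_lit 2166)])) (.leaf .df)))))) (.node (.node (.node (.node (.node (.leaf .df) (.leaf (.cyc (nat_lit 81) [(nat_lit 2375), (nat_lit 8211), (nat_lit 8212), (nat_lit 8215), (nat_lit 2246), (nat_lit 1495), (nat_lit 1496), (nat_lit 5731), (nat_lit 5732), (nat_lit 5730), (nat_lit 8059)]))) (.node (.leaf (.cyc (nat_lit 75) [(nat_lit 3899), (nat_lit 710), (nat_lit 4408), (nat_lit 942), (nat_lit 940)])) (.leaf .df))) (.node (.node (.leaf .df) (.leaf .df)) (.node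 (.leaf (.cyc (nat_lit 18) [(nat_lit 6418), (nat_lit 6281), (nat_lit 5638), (nat_lit 5767), (nat_lit 1767)])) (.leaf .df)))) (.node (.node (.node (.leaf .df) (.leaf (.cyc (nat_lit 44) [(nat_lit 8560), (nat_lit 7572), (nat_lit 5945), (nat_lit 2295), (nat_lit 2641)]))) (.node (.leaf (.cyc (nat_lit 48) [(nat_lit 1402), (nat_lit 3946), (nat_lit 1402)])) (.leaf .df))) (.node (.node (.leaf (.cyc (nat_lit 54) [(nat_lit 3385), (nat_lit 3334), (nat_lit 3332), (nat_lit 166), (nat_lit 66), (nat_lit 2777), (nat_lit 66), (nat_lit 166), (nat_lit 3332), (nat_lit 3334), (nat_lit 3385)])) (.leaf .df)) (.node (.leaf (.cyc (nat_lit 16) [(nat_lit 2098), (nat_lit 2097), (nat_lit 7479), (nat_lit 2097), (nat_lit 2098)])) (.leaf .df))))) (.node (.node (.node (.node (.leaf .df) (.leaf (.cyc (nat_lit 53) [(nat_lit 2341), (nat_lit 7291), (nat_lit 2004), (nat_lit 7051), (nat_lit 2509)]))) (.node (.leaf (.cyc (nat_lit 23) [(nat_lit 623), (nat_lit 621), (nat_lit 1172)])) (.leaf .df))) (.node (.node (.leaf (.cyc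 (nat_lit 48) [(nat_lit 73), (nat_lit 2782), (nat_lit 73)])) (.leaf .df)) (.node (.leaf (.cyc (nat_lit 31) [(nat_lit 6549), (nat_lit 1361), (nat_lit 3918), (nat_lit 1161), (nat_lit 1935)])) (.leaf .df)))) (.node (.node (.node (.leaf .df) (.leaf .df)) (.node (.leaf (.cyc (nat_lit 48) [(nat_lit 1310), (nat_lit 4352), (nat_lit 1586)])) (.leaf .df))) (.node (.node (.leaf (.cyc (nat_lit 62) [(nat_lit 705), (nat_lit 330), (nat_lit 2952), (nat_lit 330), (nat_lit 705)])) (.leaf .df)) (.node (.leaf (.cyc (nat_lit 23) [(nat_lit 2222), (nat_lit 7667), (nat_lit 2237)])) (.leaf .df))))))) (.node (.node (.node (.node (.node (.node (.leaf .df) (.leaf (.cyc (nat_lit 53) [(nat_lit 2343), (nat_lit 6910), (nat_lit 6908), (nat_lit 6910), (nat_lit 2343)]))) (.node (.leaf (.cyc (nat_lit 52) [(nat_lit 3894), (nat_lit 893), (nat_lit 4281), (nat_lit 893), (nat_lit 3894)])) (.leaf .df))) (.node (.node (.leaf .df) (.leaf .df)) (.node (.leaf (.cyc (nat_lit 18) [(nat_lit 1019), (nat_lit 3617), (nat_lit 4070),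 (nat_lit 4456), (nat_lit 1720)])) (.leaf .df)))) (.node (.node (.node (.leaf .df) (.leaf (.cyc (nat_lit 20) [(nat_lit 8426), (nat_lit 7969), (nat_lit 2611)]))) (.node (.leaf (.cyc (nat_lit 9) [(nat_lit 5304), (nat_lit 4135), (nat_lit 3634), (nat_lit 670), (nat_lit 1265)])) (.leaf .df))) (.node (.node (.leaf (.cyc (nat_lit 97) [(nat_lit 250), (nat_lit 3083), (nat_lit 3236), (nat_lit 305), (nat_lit 129), (nat_lit 54), (nat_lit 53), (nat_lit 2856), (nat_lit 2860), (nat_lit 137), (nat_lit 329)])) (.leaf .df)) (.node (.leaf (.cyc (nat_lit 45) [(nat_lit 6373), (nat_lit 4638), (nat_lit 4465), (nat_lit 1272), (nat_lit 2054)])) (.leaf .df))))) (.node (.node (.node (.node (.leaf .df) (.leaf (.cyc (nat_lit 26) [(nat_lit 2181), (nat_lit 1417), (nat_lit 4776), (nat_lit 1875), (nat_lit 2477)]))) (.node (.leaf (.cyc (nat_lit 40) [(nat_lit 4793), (nat_lit 4143), (nat_lit 4793)])) (.leaf .df))) (.node (.node (.leaf .df) (.leaf .df)) (.node (.leaf (.cyc (nat_lit 41) [(nat_lit 1880), (nat_lit 4826),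 (nat_lit 1897)])) (.leaf .df)))) (.node (.node (.node (.leaf .df) (.leaf (.cyc (nat_lit 27) [(nat_lit 2729), (nat_lit 9398), (nat_lit 2729)]))) (.node (.leaf (.cyc (nat_lit 37) [(nat_lit 1011), (nat_lit 1009), (nat_lit 5736), (nat_lit 5739), (nat_lit 1542)])) (.leaf .df))) (.node (.node (.leaf (.cyc (nat_lit 23) [(nat_lit 291), (nat_lit 288), (nat_lit 620)])) (.leaf .df)) (.node (.leaf (.cyc (nat_lit 6) [(nat_lit 1440), (nat_lit 771), (nat_lit 4002), (nat_lit 1436), (nat_lit 2201)])) (.leaf .df)))))) (.node (.node (.node (.node (.node (.leaf .df) (.leaf (.cyc (nat_lit 20) [(nat_lit 2121), (nat_lit 6515), (nat_lit 2410)]))) (.node (.leaf (.cyc (nat_lit 31) [(nat_lit 898), (nat_lit 454), (nat_lit 3143), (nat_lit 522), (nat_lit 1002)])) (.leaf .df))) (.node (.node (.leaf .df) (.leaf .df)) (.node (.leaf (.cyc (nat_lit 27) [(nat_lit 1049), (nat_lit 1048), (nat_lit 1802)])) (.leaf .df)))) (.node (.node (.node (.leaf .df) (.leaf (.cyc (nat_lit 16) [(nat_lit 2671), (nat_lit 2670), (nat_lit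 9654), (nat_lit 2670), (nat_lit 2671)]))) (.node (.leaf (.cyc (nat_lit 23) [(nat_lit 4610), (nat_lit 4083), (nat_lit 1462)])) (.leaf .df))) (.node (.node (.leaf (.cyc (nat_lit 27) [(nat_lit 472), (nat_lit 3095), (nat_lit 472)])) (.leaf .df)) (.node (.leaf (.cyc (nat_lit 142) [(nat_lit 7606), (nat_lit 7608), (nat_lit 2058), (nat_lit 1277), (nat_lit 3870), (nat_lit 4533), (nat_lit 6362), (nat_lit 5879), (nat_lit 1566), (nat_lit 1565), (nat_lit 5878)])) (.leaf .df))))) (.node (.node (.node (.node (.leaf .df) (.leaf (.cyc (nat_lit 65) [(nat_lit 2150), (nat_lit 1381), (nat_lit 5379), (nat_lit 6241), (nat_lit 1323), (nat_lit 5234), (nat_lit 6141), (nat_lit 2339), (nat_lit 8363), (nat_lit 2543), (nat_lit 9144)]))) (.node (.leaf (.cyc (nat_lit 129) [(nat_lit 1238), (nat_lit 3844), (nat_lit 657), (nat_lit 306), (nat_lit 129), (nat_lit 2862), (nat_lit 2883), (nat_lit 206), (nat_lit 460), (nat_lit 4317), (nat_lit 4316)])) (.leaf .df))) (.node (.node (.leaf (.cyc (nat_lit 7) [(nat_lit 90),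 (nat_lit 2994), (nat_lit 93)])) (.leaf .df)) (.node (.leaf (.cyc (nat_lit 34) [(nat_lit 1973), (nat_lit 1192), (nat_lit 3796), (nat_lit 1192), (nat_lit 1973)])) (.leaf .df)))) (.node (.node (.node (.leaf .df) (.leaf .df)) (.node (.leaf (.cyc (nat_lit 27) [(nat_lit 1628), (nat_lit 4296), (nat_lit 1628)])) (.leaf .df))) (.node (.node (.leaf (.cyc (nat_lit 62) [(nat_lit 422), (nat_lit 182), (nat_lit 181), (nat_lit 419), (nat_lit 4024)])) (.leaf .df)) (.node (.leaf (.cyc (nat_lit 46) [(nat_lit 1833), (nat_lit 5836), (nat_lit 2278)])) (.leaf .df))))))))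
noncomputable def u5P0101111 : BT Pf := (.node (.node (.node (.node (.node (.node (.node (.leaf .df) (.leaf (.cyc (nat_lit 10) [(nat_lit 8311), (nat_lit 6119), (nat_lit 1990)]))) (.node (.leaf (.cyc (nat_lit 28) [(nat_lit 862), (nat_lit 435), (nat_lit 3056), (nat_lit 435), (nat_lit 862)])) (.leaf .df))) (.node (.node (.leaf .df) (.leaf .df)) (.node (.leaf (.cyc (nat_lit 78) [(nat_lit 5722), (nat_lit 4634), (nat_lit 1042), (nat_lit 3684), (nat_lit 4413), (nat_lit 1697), (nat_lit 6265), (nat_lit 1294), (nat_lit 686), (nat_lit 3776), (nat_lit 1024)])) (.leaf .df)))) (.node (.node (.node (.leaf .df) (.leaf (.cyc (nat_lit 34) [(nat_lit 8829), (nat_lit 2123), (nat_lit 7404), (nat_lit 7680), (nat_lit 2594)]))) (.node (.leaf (.cyc (nat_lit 28) [(nat_lit 704), (nat_lit 330), (nat_lit 329), (nat_lit 701), (nat_lit 1319)])) (.leaf .df))) (.node (.node (.leaf (.cyc (nat_lit 26) [(nat_lit 274), (nat_lit 2925), (nat_lit 3165), (nat_lit 2925), (nat_lit 274)])) (.leaf .df)) (.node (.leaf (.cyc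 (nat_lit 107) [(nat_lit 7289), (nat_lit 7286), (nat_lit 7155), (nat_lit 1208), (nat_lit 639), (nat_lit 638), (nat_lit 1205), (nat_lit 6045), (nat_lit 6046), (nat_lit 6044), (nat_lit 2004)])) (.leaf .df))))) (.node (.node (.node (.node (.leaf .df) (.leaf (.cyc (nat_lit 18) [(nat_lit 2461), (nat_lit 6751), (nat_lit 5227), (nat_lit 6751), (nat_lit 2461)]))) (.node (.leaf (.cyc (nat_lit 31) [(nat_lit 1084), (nat_lit 4643), (nat_lit 4642), (nat_lit 4643), (nat_lit 1084)])) (.leaf .df))) (.node (.node (.leaf .df) (.leaf .df)) (.node (.leaf (.cyc (nat_lit 20) [(nat_lit 1108), (nat_lit 1107), (nat_lit 1872)])) (.leaf .df)))) (.node (.node (.node (.leaf .df) (.leaf (.cyc (nat_lit 54) [(nat_lit 2715), (nat_lit 2549), (nat_lit 8140), (nat_lit 8141), (nat_lit 8142), (nat_lit 2282), (nat_lit 2283), (nat_lit 8146), (nat_lit 9393), (nat_lit 9486), (nat_lit 9483)]))) (.node (.leaf (.cyc (nat_lit 95) [(nat_lit 5752), (nat_lit 5753), (nat_lit 1488), (nat_lit 5293), (nat_lit 1338), (nat_lit 711),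 (nat_lit 3263), (nat_lit 3267), (nat_lit 720), (nat_lit 3930), (nat_lit 5334)])) (.leaf .df))) (.node (.node (.leaf (.cyc (nat_lit 35) [(nat_lit 570), (nat_lit 3703), (nat_lit 3704), (nat_lit 3703), (nat_lit 570)])) (.leaf .df)) (.node (.leaf (.cyc (nat_lit 15) [(nat_lit 2186), (nat_lit 5482), (nat_lit 2186)])) (.leaf .df)))))) (.node (.node (.node (.node (.node (.leaf .df) (.leaf (.cyc (nat_lit 25) [(nat_lit 2393), (nat_lit 6441), (nat_lit 6380), (nat_lit 6441), (nat_lit 2393)]))) (.node (.leaf (.cyc (nat_lit 46) [(nat_lit 4234), (nat_lit 3760), (nat_lit 972)])) (.leaf .df))) (.node (.node (.leaf .df) (.leaf .df)) (.node (.leaf (.cyc (nat_lit 56) [(nat_lit 1038), (nat_lit 4074), (nat_lit 4121), (nat_lit 1026), (nat_lit 1781)])) (.leaf .df)))) (.node (.node (.node (.leaf .df) (.leaf (.cyc (nat_lit 19) [(nat_lit 2598), (nat_lit 7777), (nat_lit 7072), (nat_lit 8401), (nat_lit 2656)]))) (.node (.leaf (.cyc (nat_lit 50) [(nat_lit 1426), (nat_lit 5135), (nat_lit 5139), (nat_lit 5135),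 (nat_lit 1426)])) (.leaf .df))) (.node (.node (.leaf (.cyc (nat_lit 46) [(nat_lit 332), (nat_lit 3449), (nat_lit 332)])) (.leaf .df)) (.node (.leaf (.cyc (nat_lit 34) [(nat_lit 1969), (nat_lit 1188), (nat_lit 4929), (nat_lit 5286), (nat_lit 2114)])) (.leaf .df))))) (.node (.node (.node (.node (.leaf .df) (.leaf (.cyc (nat_lit 45) [(nat_lit 2526), (nat_lit 7244), (nat_lit 7002), (nat_lit 7244), (nat_lit 2526)]))) (.node (.leaf (.cyc (nat_lit 21) [(nat_lit 1209), (nat_lit 1207), (nat_lit 4981), (nat_lit 1207), (nat_lit 1209)])) (.leaf .df))) (.node (.node (.leaf (.cyc (nat_lit 21) [(nat_lit 2861), (nat_lit 2862), (nat_lit 54), (nat_lit 52), (nat_lit 125)])) (.leaf .df)) (.node (.leaf (.cyc (nat_lit 63) [(nat_lit 6053), (nat_lit 1620), (nat_lit 4279), (nat_lit 1177), (nat_lit 1952)])) (.leaf .df)))) (.node (.node (.node (.leaf .df) (.leaf .df)) (.node (.leaf (.cyc (nat_lit 18) [(nat_lit 4844), (nat_lit 5384), (nat_lit 5383), (nat_lit 4911), (nat_lit 1607)])) (.leaf .df))) (.node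 (.node (.leaf (.cyc (nat_lit 29) [(nat_lit 3961), (nat_lit 747), (nat_lit 3300), (nat_lit 747), (nat_lit 3961)])) (.leaf .df)) (.node (.leaf (.cyc (nat_lit 16) [(nat_lit 2258), (nat_lit 1517), (nat_lit 4148), (nat_lit 1517), (nat_lit 2258)])) (.leaf .df))))))) (.node (.node (.node (.node (.node (.node (.leaf .df) (.leaf (.cyc (nat_lit 149) [(nat_lit 7910), (nat_lit 7207), (nat_lit 7075), (nat_lit 1967), (nat_lit 1188), (nat_lit 4950), (nat_lit 6232), (nat_lit 1685), (nat_lit 1687), (nat_lit 2358), (nat_lit 8441)]))) (.node (.leaf (.cyc (nat_lit 51) [(nat_lit 924), (nat_lit 3513), (nat_lit 3778), (nat_lit 533), (nat_lit 3155), (nat_lit 3153), (nat_lit 3155), (nat_lit 533), (nat_lit 3778), (nat_lit 3513), (nat_lit 924)])) (.leaf .df))) (.node (.node (.leaf .df) (.leaf .df)) (.node (.leaf (.cyc (nat_lit 47) [(nat_lit 1742), (nat_lit 981), (nat_lit 3587), (nat_lit 981), (nat_lit 1742)])) (.leaf .df)))) (.node (.node (.node (.leaf .df) (.leaf (.cyc (nat_lit 35) [(nat_lit 2627), (nat_lit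 9393), (nat_lit 9394), (nat_lit 9393), (nat_lit 2627)]))) (.node (.leaf (.cyc (nat_lit 12) [(nat_lit 5369), (nat_lit 1224), (nat_lit 646), (nat_lit 3766), (nat_lit 1167)])) (.leaf .df))) (.node (.node (.leaf (.cyc (nat_lit 107) [(nat_lit 374), (nat_lit 155), (nat_lit 2865), (nat_lit 2864), (nat_lit 23), (nat_lit 37), (nat_lit 2824), (nat_lit 94), (nat_lit 231), (nat_lit 3188), (nat_lit 3186)])) (.leaf .df)) (.node (.leaf (.cyc (nat_lit 21) [(nat_lit 2078), (nat_lit 2076), (nat_lit 7414), (nat_lit 2076), (nat_lit 2078)])) (.leaf .df))))) (.node (.node (.node (.node (.leaf .df) (.leaf (.cyc (nat_lit 26) [(nat_lit 7235), (nat_lit 7232), (nat_lit 6487), (nat_lit 1912), (nat_lit 2492)]))) (.node (.leaf (.cyc (nat_lit 28) [(nat_lit 1061), (nat_lit 560), (nat_lit 559), (nat_lit 4506), (nat_lit 1143)])) (.leaf .df))) (.node (.node (.leaf (.cyc (nat_lit 18) [(nat_lit 12), (nat_lit 2774), (nat_lit 4), (nat_lit 2755), (nat_lit 29)])) (.leaf .df)) (.node (.leaf (.cyc (nat_lit 23) [(nat_lit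 6611), (nat_lit 6609), (nat_lit 1917)])) (.leaf .df)))) (.node (.node (.node (.leaf .df) (.leaf (.cyc (nat_lit 28) [(nat_lit 2741), (nat_lit 9777), (nat_lit 9776), (nat_lit 9777), (nat_lit 2741)]))) (.node (.leaf (.cyc (nat_lit 53) [(nat_lit 5874), (nat_lit 1563), (nat_lit 4204), (nat_lit 852), (nat_lit 1567)])) (.leaf .df))) (.node (.node (.leaf (.cyc (nat_lit 16) [(nat_lit 655), (nat_lit 305), (nat_lit 2943), (nat_lit 305), (nat_lit 655)])) (.leaf .df)) (.node (.leaf (.cyc (nat_lit 6) [(nat_lit 2218), (nat_lit 1462), (nat_lit 4029), (nat_lit 1462), (nat_lit 2218)])) (.leaf .df)))))) (.node (.node (.node (.node (.node (.leaf .df) (.leaf (.cyc (nat_lit 46) [(nat_lit 2425), (nat_lit 6620), (nat_lit 2425)]))) (.node (.leaf (.cyc (nat_lit 107) [(nat_lit 4600), (nat_lit 848), (nat_lit 425), (nat_lit 183), (nat_lit 185), (nat_lit 3053), (nat_lit 190), (nat_lit 3047), (nat_lit 3056), (nat_lit 433), (nat_lit 857)])) (.leaf .df))) (.node (.node (.leaf .df) (.leaf .df)) (.node (.leaf (.cyc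 (nat_lit 25) [(nat_lit 1824), (nat_lit 6638), (nat_lit 6640), (nat_lit 6638), (nat_lit 1824)])) (.leaf .df)))) (.node (.node (.node (.leaf .df) (.leaf (.cyc (nat_lit 41) [(nat_lit 2685), (nat_lit 9077), (nat_lit 2685)]))) (.node (.leaf (.cyc (nat_lit 152) [(nat_lit 5618), (nat_lit 5625), (nat_lit 1186), (nat_lit 3841), (nat_lit 3835), (nat_lit 3441), (nat_lit 658), (nat_lit 1241), (nat_lit 5058), (nat_lit 5198), (nat_lit 950), (nat_lit 952), (nat_lit 4432), (nat_lit 3932), (nat_lit 735), (nat_lit 3936), (nat_lit 738), (nat_lit 1395)])) (.leaf .df))) (.node (.node (.leaf (.cyc (nat_lit 117) [(nat_lit 494), (nat_lit 3139), (nat_lit 3576), (nat_lit 3139), (nat_lit 494)])) (.leaf .df)) (.node (.leaf (.cyc (nat_lit 41) [(nat_lit 2150), (nat_lit 5408), (nat_lit 2150)])) (.leaf .df))))) (.node (.node (.node (.node (.leaf .df) (.leaf (.cyc (nat_lit 45) [(nat_lit 2091), (nat_lit 1306), (nat_lit 5187), (nat_lit 2088), (nat_lit 2559)]))) (.node (.leaf (.cyc (nat_lit 54) [(nat_lit 1264),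 (nat_lit 670), (nat_lit 3807), (nat_lit 1206), (nat_lit 4977), (nat_lit 4975), (nat_lit 4977), (nat_lit 1206), (nat_lit 3807), (nat_lit 670), (nat_lit 1264)])) (.leaf .df))) (.node (.node (.leaf (.cyc (nat_lit 62) [(nat_lit 122), (nat_lit 51), (nat_lit 2832), (nat_lit 2877), (nat_lit 195)])) (.leaf .df)) (.node (.leaf (.cyc (nat_lit 23) [(nat_lit 6591), (nat_lit 1821), (nat_lit 7161)])) (.leaf .df)))) (.node (.node (.node (.leaf .df) (.leaf .df)) (.node (.leaf (.cyc (nat_lit 123) [(nat_lit 4377), (nat_lit 809), (nat_lit 400), (nat_lit 3007), (nat_lit 168), (nat_lit 67), (nat_lit 66), (nat_lit 3001), (nat_lit 2998), (nat_lit 2876), (nat_lit 191), (nat_lit 436), (nat_lit 4222), (nat_lit 5184), (nat_lit 5185), (nat_lit 5186), (nat_lit 6136)])) (.leaf .df))) (.node (.node (.leaf (.cyc (nat_lit 3) [(nat_lit 4089), (nat_lit 448), (nat_lit 449)])) (.leaf .df)) (.node (.leaf (.cyc (nat_lit 18) [(nat_lit 6000), (nat_lit 1716), (nat_lit 8182), (nat_lit 8180), (nat_lit 2294)])) (.leaf .df))))))))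
noncomputable def u5P010111 : BT Pf := .node u5P0101110 u5P0101111
noncomputable def u5P01011 : BT Pf := .node u5P010110 u5P010111
noncomputable def u5P0101 : BT Pf := .node u5P01010 u5P01011
noncomputable def u5P010 : BT Pf := .node u5P0100 u5P0101
noncomputable def u5P0110000 : BT Pf := (.node (.node (.node (.node (.node (.node (.node (.leaf .df) (.leaf (.cyc (nat_lit 56) [(nat_lit 2297), (nat_lit 8193), (nat_lit 8194), (nat_lit 8193), (nat_lit 2297)]))) (.node (.leaf (.cyc (nat_lit 106) [(nat_lit 790), (nat_lit 791), (nat_lit 4101), (nat_lit 791), (nat_lit 790)])) (.leaf .df))) (.node (.node (.leaf .df) (.leaf .df)) (.node (.leaf (.cyc (nat_lit 50) [(nat_lit 1310), (nat_lit 5192), (nat_lit 5195), (nat_lit 5051), (nat_lit 1654)])) (.leaf .df)))) (.node (.node (.node (.leaf .df) (.leaf (.cyc (nat_lit 15) [(nat_lit 9221), (nat_lit 8831), (nat_lit 9221)]))) (.node (.leaf (.cyc (nat_lit 47) [(nat_lit 1269), (nat_lit 5122), (nat_lit 5123), (nat_lit 5122), (nat_lit 1269)])) (.leaf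 .df))) (.node (.node (.leaf (.cyc (nat_lit 19) [(nat_lit 202), (nat_lit 2881), (nat_lit 2823), (nat_lit 2881), (nat_lit 202)])) (.leaf .df)) (.node (.leaf (.cyc (nat_lit 46) [(nat_lit 1994), (nat_lit 5010), (nat_lit 1994)])) (.leaf .df))))) (.node (.node (.node (.node (.leaf .df) (.leaf (.cyc (nat_lit 45) [(nat_lit 1817), (nat_lit 1061), (nat_lit 1060), (nat_lit 1816), (nat_lit 2428)]))) (.node (.leaf (.cyc (nat_lit 74) [(nat_lit 4607), (nat_lit 4611)])) (.leaf .df))) (.node (.node (.leaf .df) (.leaf .df)) (.node (.leaf (.cyc (nat_lit 37) [(nat_lit 1620), (nat_lit 5371), (nat_lit 5888), (nat_lit 5831), (nat_lit 1829)])) (.leaf .df)))) (.node (.node (.node (.leaf .df) (.leaf (.cyc (nat_lit 44) [(nat_lit 2687), (nat_lit 8890), (nat_lit 7789), (nat_lit 8890), (nat_lit 2687)]))) (.node (.leaf (.cyc (nat_lit 34) [(nat_lit 953), (nat_lit 489), (nat_lit 3353), (nat_lit 794), (nat_lit 1483)])) (.leaf .df))) (.node (.node (.leaf (.cyc (nat_lit 27) [(nat_lit 235), (nat_lit 234), (nat_lit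 511)])) (.leaf .df)) (.node (.leaf (.cyc (nat_lit 48) [(nat_lit 2059), (nat_lit 5414), (nat_lit 2153)])) (.leaf .df)))))) (.node (.node (.node (.node (.node (.leaf .df) (.leaf (.cyc (nat_lit 51) [(nat_lit 6542), (nat_lit 6540), (nat_lit 1788), (nat_lit 6543), (nat_lit 6546), (nat_lit 2134), (nat_lit 7623), (nat_lit 7799), (nat_lit 7801), (nat_lit 7103), (nat_lit 2361)]))) (.node (.leaf (.cyc (nat_lit 25) [(nat_lit 583), (nat_lit 3190), (nat_lit 330), (nat_lit 703), (nat_lit 4357)])) (.leaf .df))) (.node (.node (.leaf .df) (.leaf .df)) (.node (.leaf (.cyc (nat_lit 18) [(nat_lit 1143), (nat_lit 1142), (nat_lit 5632), (nat_lit 4735), (nat_lit 1745)])) (.leaf .df)))) (.node (.node (.node (.leaf .df) (.leaf (.cyc (nat_lit 69) [(nat_lit 9477), (nat_lit 2630), (nat_lit 2277), (nat_lit 5826), (nat_lit 1549), (nat_lit 5843), (nat_lit 1549), (nat_lit 5826), (nat_lit 2277), (nat_lit 2630), (nat_lit 9477)]))) (.node (.leaf (.cyc (nat_lit 45) [(nat_lit 1372), (nat_lit 5367), (nat_lit 5368),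 (nat_lit 5367), (nat_lit 1372)])) (.leaf .df))) (.node (.node (.leaf (.cyc (nat_lit 29) [(nat_lit 3332), (nat_lit 166), (nat_lit 2869), (nat_lit 93), (nat_lit 229)])) (.leaf .df)) (.node (.leaf (.cyc (nat_lit 25) [(nat_lit 2081), (nat_lit 5170), (nat_lit 3976), (nat_lit 5170), (nat_lit 2081)])) (.leaf .df))))) (.node (.node (.node (.node (.leaf .df) (.leaf (.cyc (nat_lit 27) [(nat_lit 2496), (nat_lit 6916), (nat_lit 2496)]))) (.node (.leaf (.cyc (nat_lit 20) [(nat_lit 1150), (nat_lit 3816), (nat_lit 1150)])) (.leaf .df))) (.node (.node (.leaf (.cyc (nat_lit 29) [(nat_lit 2819), (nat_lit 22), (nat_lit 2780), (nat_lit 22), (nat_lit 2819)])) (.leaf .df)) (.node (.leaf (.cyc (nat_lit 15) [(nat_lit 1922), (nat_lit 4879), (nat_lit 1922)])) (.leaf .df)))) (.node (.node (.node (.leaf .df) (.leaf (.cyc (nat_lit 46) [(nat_lit 2744), (nat_lit 9796), (nat_lit 2744)]))) (.node (.leaf (.cyc (nat_lit 23) [(nat_lit 1075), (nat_lit 1072), (nat_lit 5893)])) (.leaf .df))) (.node (.node (.leaf (.cyc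 (nat_lit 15) [(nat_lit 308), (nat_lit 307), (nat_lit 659)])) (.leaf .df)) (.node (.leaf (.cyc (nat_lit 128) [(nat_lit 6352), (nat_lit 1730), (nat_lit 5966), (nat_lit 5969), (nat_lit 1593), (nat_lit 1592), (nat_lit 5965), (nat_lit 7886), (nat_lit 2208), (nat_lit 5573), (nat_lit 2222)])) (.leaf .df))))))) (.node (.node (.node (.node (.node (.node (.leaf .df) (.leaf (.cyc (nat_lit 30) [(nat_lit 2331), (nat_lit 7811), (nat_lit 7810), (nat_lit 7811), (nat_lit 2331)]))) (.node (.leaf (.cyc (nat_lit 102) [(nat_lit 708), (nat_lit 3882), (nat_lit 4229), (nat_lit 3882), (nat_lit 708)])) (.leaf .df))) (.node (.node (.leaf .df) (.leaf .df)) (.node (.leaf (.cyc (nat_lit 46) [(nat_lit 1701), (nat_lit 6195), (nat_lit 1701)])) (.leaf .df)))) (.node (.node (.node (.leaf .df) (.leaf (.cyc (nat_lit 28) [(nat_lit 2597), (nat_lit 2176), (nat_lit 5459), (nat_lit 2176), (nat_lit 2597)]))) (.node (.leaf (.cyc (nat_lit 41) [(nat_lit 1328), (nat_lit 4412), (nat_lit 1328)])) (.leaf .df))) (.node (.node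 (.leaf (.cyc (nat_lit 20) [(nat_lit 122), (nat_lit 120), (nat_lit 284)])) (.leaf .df)) (.node (.leaf (.cyc (nat_lit 31) [(nat_lit 1782), (nat_lit 1028), (nat_lit 4000), (nat_lit 5104), (nat_lit 2033)])) (.leaf .df))))) (.node (.node (.node (.node (.leaf .df) (.leaf (.cyc (nat_lit 45) [(nat_lit 2464), (nat_lit 6768), (nat_lit 6197), (nat_lit 6768), (nat_lit 2464)]))) (.node (.leaf (.cyc (nat_lit 62) [(nat_lit 589), (nat_lit 273), (nat_lit 3187), (nat_lit 576), (nat_lit 1092)])) (.leaf .df))) (.node (.node (.leaf .df) (.leaf .df)) (.node (.leaf (.cyc (nat_lit 18) [(nat_lit 1812), (nat_lit 4795), (nat_lit 1113), (nat_lit 1111), (nat_lit 1877)])) (.leaf .df)))) (.node (.node (.node (.leaf .df) (.leaf (.cyc (nat_lit 37) [(nat_lit 9521), (nat_lit 9249), (nat_lit 2572), (nat_lit 9196), (nat_lit 2718)]))) (.node (.leaf (.cyc (nat_lit 95) [(nat_lit 1012), (nat_lit 3614), (nat_lit 4154), (nat_lit 1529), (nat_lit 5765), (nat_lit 5763), (nat_lit 4786), (nat_lit 3744), (nat_lit 4107), (nat_lit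 1483), (nat_lit 5639), (nat_lit 5636)])) (.leaf .df))) (.node (.node (.leaf (.cyc (nat_lit 28) [(nat_lit 579), (nat_lit 270), (nat_lit 2923), (nat_lit 270), (nat_lit 579)])) (.leaf .df)) (.node (.leaf (.cyc (nat_lit 53) [(nat_lit 2189), (nat_lit 7732), (nat_lit 7771), (nat_lit 7732), (nat_lit 2189)])) (.leaf .df)))))) (.node (.node (.node (.node (.node (.leaf .df) (.leaf (.cyc (nat_lit 51) [(nat_lit 7620), (nat_lit 7618), (nat_lit 6549), (nat_lit 6550), (nat_lit 1790), (nat_lit 1789), (nat_lit 6949), (nat_lit 6944), (nat_lit 8136), (nat_lit 8134), (nat_lit 2396)]))) (.node (.leaf (.cyc (nat_lit 47) [(nat_lit 980), (nat_lit 3715), (nat_lit 3716), (nat_lit 3715), (nat_lit 980)])) (.leaf .df))) (.node (.node (.leaf .df) (.leaf .df)) (.node (.leaf (.cyc (nat_lit 24) [(nat_lit 1785), (nat_lit 1029), (nat_lit 3628), (nat_lit 1029), (nat_lit 1785)])) (.leaf .df)))) (.node (.node (.node (.leaf .df) (.leaf (.cyc (nat_lit 47) [(nat_lit 2659), (nat_lit 8463), (nat_lit 8086), (nat_lit 8463),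 (nat_lit 2659)]))) (.node (.leaf (.cyc (nat_lit 30) [(nat_lit 1435), (nat_lit 768), (nat_lit 3454), (nat_lit 768), (nat_lit 1435)])) (.leaf .df))) (.node (.node (.leaf (.cyc (nat_lit 56) [(nat_lit 444), (nat_lit 3138), (nat_lit 3140), (nat_lit 3138), (nat_lit 444)])) (.leaf .df)) (.node (.leaf (.cyc (nat_lit 89) [(nat_lit 7325), (nat_lit 2043), (nat_lit 1265), (nat_lit 670), (nat_lit 313), (nat_lit 315), (nat_lit 677), (nat_lit 1275), (nat_lit 5301), (nat_lit 5299), (nat_lit 2117)])) (.leaf .df))))) (.node (.node (.node (.node (.leaf .df) (.leaf (.cyc (nat_lit 28) [(nat_lit 2529), (nat_lit 9083), (nat_lit 9082), (nat_lit 9083), (nat_lit 2529)]))) (.node (.leaf (.cyc (nat_lit 48) [(nat_lit 1211), (nat_lit 1212), (nat_lit 4997)])) (.leaf .df))) (.node (.node (.leaf (.cyc (nat_lit 30) [(nat_lit 138), (nat_lit 2860), (nat_lit 2856), (nat_lit 2860), (nat_lit 138)])) (.leaf .df)) (.node (.leaf (.cyc (nat_lit 63) [(nat_lit 6931), (nat_lit 6933), (nat_lit 1179), (nat_lit 1181), (nat_lit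 1955)])) (.leaf .df)))) (.node (.node (.node (.leaf .df) (.leaf .df)) (.node (.leaf (.cyc (nat_lit 20) [(nat_lit 886), (nat_lit 885), (nat_lit 1611)])) (.leaf .df))) (.node (.node (.leaf (.cyc (nat_lit 54) [(nat_lit 3972), (nat_lit 651), (nat_lit 302), (nat_lit 304), (nat_lit 3566), (nat_lit 3232), (nat_lit 3566), (nat_lit 304), (nat_lit 302), (nat_lit 651), (nat_lit 3972)])) (.leaf .df)) (.node (.leaf (.cyc (nat_lit 38) [(nat_lit 2240), (nat_lit 2239), (nat_lit 8001), (nat_lit 6516), (nat_lit 5312), (nat_lit 1350), (nat_lit 5754), (nat_lit 1526), (nat_lit 1527), (nat_lit 5756), (nat_lit 2262)])) (.leaf .df))))))))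
noncomputable def u5P0110001 : BT Pf := (.node (.node (.node (.node (.node (.node (.node (.leaf .df) (.leaf (.cyc (nat_lit 23) [(nat_lit 1631), (nat_lit 1629), (nat_lit 2316)]))) (.node (.leaf (.cyc (nat_lit 23) [(nat_lit 410), (nat_lit 407), (nat_lit 830)])) (.leaf .df))) (.node (.node (.leaf .df) (.leaf .df)) (.node (.leaf (.cyc (nat_lit 157) [(nat_lit 6213), (nat_lit 4520), (nat_lit 4294), (nat_lit 899), (nat_lit 1631)])) (.leaf .df)))) (.node (.node (.node (.leaf .df) (.leaf (.cyc (nat_lit 50) [(nat_lit 2495), (nat_lit 1920), (nat_lit 5335), (nat_lit 2128), (nat_lit 2578)]))) (.node (.leaf (.cyc (nat_lit 93) [(nat_lit 1302), (nat_lit 3882), (nat_lit 332), (nat_lit 139), (nat_lit 138), (nat_lit 2951), (nat_lit 138), (nat_lit 139), (nat_lit 332), (nat_lit 3882), (nat_lit 1302)])) (.leaf .df))) (.node (.node (.leaf (.cyc (nat_lit 26) [(nat_lit 230), (nat_lit 93), (nat_lit 2996), (nat_lit 98), (nat_lit 239)])) (.leaf .df)) (.node (.leaf (.cyc (nat_lit 63) [(nat_lit 2015), (nat_lit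 1239), (nat_lit 3843), (nat_lit 1239), (nat_lit 2015)])) (.leaf .df))))) (.node (.node (.node (.node (.leaf .df) (.leaf (.cyc (nat_lit 20) [(nat_lit 1836), (nat_lit 1835), (nat_lit 2446)]))) (.node (.leaf (.cyc (nat_lit 26) [(nat_lit 1056), (nat_lit 556), (nat_lit 3182), (nat_lit 556), (nat_lit 1056)])) (.leaf .df))) (.node (.node (.leaf .df) (.leaf .df)) (.node (.leaf (.cyc (nat_lit 53) [(nat_lit 1854), (nat_lit 1091), (nat_lit 3786), (nat_lit 1091), (nat_lit 1854)])) (.leaf .df)))) (.node (.node (.node (.leaf .df) (.leaf (.cyc (nat_lit 24) [(nat_lit 2703), (nat_lit 9330), (nat_lit 9667), (nat_lit 9330), (nat_lit 2703)]))) (.node (.leaf (.cyc (nat_lit 23) [(nat_lit 1234), (nat_lit 4138), (nat_lit 1506)])) (.leaf .df))) (.node (.node (.leaf (.cyc (nat_lit 72) [(nat_lit 3494), (nat_lit 3648), (nat_lit 214)])) (.leaf .df)) (.node (.leaf (.cyc (nat_lit 16) [(nat_lit 2169), (nat_lit 2168), (nat_lit 7749), (nat_lit 2168), (nat_lit 2169)])) (.leaf .df)))))) (.node (.node (.node (.node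 (.node (.leaf .df) (.leaf (.cyc (nat_lit 40) [(nat_lit 8517), (nat_lit 7959), (nat_lit 8517)]))) (.node (.leaf (.cyc (nat_lit 46) [(nat_lit 945), (nat_lit 3539), (nat_lit 945)])) (.leaf .df))) (.node (.node (.leaf .df) (.leaf .df)) (.node (.leaf (.cyc (nat_lit 11) [(nat_lit 6246), (nat_lit 6465), (nat_lit 4887), (nat_lit 6465), (nat_lit 6246)])) (.leaf .df)))) (.node (.node (.node (.leaf .df) (.leaf (.cyc (nat_lit 21) [(nat_lit 2644), (nat_lit 8514), (nat_lit 9156), (nat_lit 8514), (nat_lit 2644)]))) (.node (.leaf (.cyc (nat_lit 27) [(nat_lit 749), (nat_lit 748), (nat_lit 1408)])) (.leaf .df))) (.node (.node (.leaf (.cyc (nat_lit 30) [(nat_lit 245), (nat_lit 3019), (nat_lit 3037), (nat_lit 185), (nat_lit 427)])) (.leaf .df)) (.node (.leaf (.cyc (nat_lit 8) [(nat_lit 7492), (nat_lit 5369), (nat_lit 5892), (nat_lit 5852), (nat_lit 1740)])) (.leaf .df))))) (.node (.node (.node (.node (.leaf .df) (.leaf (.cyc (nat_lit 21) [(nat_lit 8069), (nat_lit 7994), (nat_lit 7941), (nat_lit 7085),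 (nat_lit 2513)]))) (.node (.leaf (.cyc (nat_lit 30) [(nat_lit 1177), (nat_lit 4674), (nat_lit 4659), (nat_lit 4674), (nat_lit 1177)])) (.leaf .df))) (.node (.node (.leaf (.cyc (nat_lit 27) [(nat_lit 84), (nat_lit 2817), (nat_lit 84)])) (.leaf .df)) (.node (.leaf (.cyc (nat_lit 102) [(nat_lit 1443), (nat_lit 1444), (nat_lit 6980), (nat_lit 1444), (nat_lit 1443)])) (.leaf .df)))) (.node (.node (.node (.leaf .df) (.leaf .df)) (.node (.leaf (.cyc (nat_lit 31) [(nat_lit 1591), (nat_lit 871), (nat_lit 3460), (nat_lit 871), (nat_lit 1591)])) (.leaf .df))) (.node (.node (.leaf (.cyc (nat_lit 10) [(nat_lit 3909), (nat_lit 3279), (nat_lit 608)])) (.leaf .df)) (.node (.leaf (.cyc (nat_lit 15) [(nat_lit 2241), (nat_lit 5637), (nat_lit 2241)])) (.leaf .df))))))) (.node (.node (.node (.node (.node (.node (.leaf .df) (.leaf (.cyc (nat_lit 16) [(nat_lit 2346), (nat_lit 6358), (nat_lit 4460), (nat_lit 6358), (nat_lit 2346)]))) (.node (.leaf (.cyc (nat_lit 28) [(nat_lit 454), (nat_lit 203), (nat_lit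 202), (nat_lit 453), (nat_lit 896)])) (.leaf .df))) (.node (.node (.leaf .df) (.leaf .df)) (.node (.leaf (.cyc (nat_lit 121) [(nat_lit 6341), (nat_lit 981), (nat_lit 3589), (nat_lit 831), (nat_lit 5473)])) (.leaf .df)))) (.node (.node (.node (.leaf .df) (.leaf (.cyc (nat_lit 47) [(nat_lit 2386), (nat_lit 6406), (nat_lit 5609), (nat_lit 2235), (nat_lit 2615)]))) (.node (.leaf (.cyc (nat_lit 81) [(nat_lit 1346), (nat_lit 715), (nat_lit 3266), (nat_lit 3205), (nat_lit 282), (nat_lit 283), (nat_lit 3569), (nat_lit 679), (nat_lit 3871), (nat_lit 4990), (nat_lit 4991)])) (.leaf .df))) (.node (.node (.leaf (.cyc (nat_lit 27) [(nat_lit 142), (nat_lit 141), (nat_lit 341)])) (.leaf .df)) (.node (.leaf (.cyc (nat_lit 47) [(nat_lit 1813), (nat_lit 5918), (nat_lit 5919), (nat_lit 5146), (nat_lit 2059)])) (.leaf .df))))) (.node (.node (.node (.node (.leaf .df) (.leaf (.cyc (nat_lit 20) [(nat_lit 1900), (nat_lit 6792), (nat_lit 2481)]))) (.node (.leaf (.cyc (nat_lit 19) [(nat_lit 1117), (nat_lit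 4797), (nat_lit 4800), (nat_lit 4797), (nat_lit 1117)])) (.leaf .df))) (.node (.node (.leaf (.pin (nat_lit 9) [(nat_lit 3)] [])) (.leaf .df)) (.node (.leaf (.cyc (nat_lit 21) [(nat_lit 1902), (nat_lit 6005), (nat_lit 6006), (nat_lit 6005), (nat_lit 1902)])) (.leaf .df)))) (.node (.node (.node (.leaf .df) (.leaf (.cyc (nat_lit 19) [(nat_lit 2658), (nat_lit 8414), (nat_lit 2354), (nat_lit 9402), (nat_lit 2731)]))) (.node (.leaf (.cyc (nat_lit 49) [(nat_lit 844), (nat_lit 4169), (nat_lit 1546)])) (.leaf .df))) (.node (.node (.leaf (.cyc (nat_lit 37) [(nat_lit 622), (nat_lit 3219), (nat_lit 2937), (nat_lit 3219), (nat_lit 622)])) (.leaf .df)) (.node (.leaf (.cyc (nat_lit 44) [(nat_lit 7876), (nat_lit 2204), (nat_lit 1440), (nat_lit 1441), (nat_lit 2205)])) (.leaf .df)))))) (.node (.node (.node (.node (.node (.leaf .df) (.leaf (.cyc (nat_lit 15) [(nat_lit 1846), (nat_lit 6526), (nat_lit 2413)]))) (.node (.leaf (.cyc (nat_lit 0) [(nat_lit 1007), (nat_lit 1008), (nat_lit 4549), (nat_lit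 1008), (nat_lit 1007)])) (.leaf .df))) (.node (.node (.leaf .df) (.leaf .df)) (.node (.leaf (.cyc (nat_lit 49) [(nat_lit 6580), (nat_lit 6581), (nat_lit 1804)])) (.leaf .df)))) (.node (.node (.node (.leaf .df) (.leaf (.cyc (nat_lit 21) [(nat_lit 2673), (nat_lit 8798), (nat_lit 9275), (nat_lit 8798), (nat_lit 2673)]))) (.node (.leaf (.cyc (nat_lit 53) [(nat_lit 5570), (nat_lit 1464), (nat_lit 786), (nat_lit 787), (nat_lit 1467)])) (.leaf .df))) (.node (.node (.leaf (.cyc (nat_lit 46) [(nat_lit 481), (nat_lit 3110), (nat_lit 481)])) (.leaf .df)) (.node (.leaf (.cyc (nat_lit 45) [(nat_lit 6604), (nat_lit 1446), (nat_lit 4006), (nat_lit 1361), (nat_lit 2134)])) (.leaf .df))))) (.node (.node (.node (.node (.leaf .df) (.leaf (.cyc (nat_lit 15) [(nat_lit 8731), (nat_lit 8381), (nat_lit 2546)]))) (.node (.leaf (.cyc (nat_lit 65) [(nat_lit 5060), (nat_lit 3905), (nat_lit 714), (nat_lit 334), (nat_lit 3449), (nat_lit 139), (nat_lit 57), (nat_lit 58), (nat_lit 143), (nat_lit 348), (nat_lit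 3936)])) (.leaf .df))) (.node (.node (.leaf (.cyc (nat_lit 20) [(nat_lit 172), (nat_lit 2871), (nat_lit 172)])) (.leaf .df)) (.node (.leaf (.cyc (nat_lit 20) [(nat_lit 1197), (nat_lit 4966), (nat_lit 1976)])) (.leaf .df)))) (.node (.node (.node (.leaf .df) (.leaf .df)) (.node (.leaf (.cyc (nat_lit 105) [(nat_lit 6084), (nat_lit 5176), (nat_lit 1400)])) (.leaf .df))) (.node (.node (.leaf (.cyc (nat_lit 73) [(nat_lit 419), (nat_lit 4033), (nat_lit 2969)])) (.leaf .df)) (.node (.leaf (.cyc (nat_lit 37) [(nat_lit 6451), (nat_lit 5376), (nat_lit 5891), (nat_lit 1550), (nat_lit 2281)])) (.leaf .df))))))))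
noncomputable def u5P011000 : BT Pf := .node u5P0110000 u5P0110001
noncomputable def u5P0110010 : BT Pf := (.node (.node (.node (.node (.node (.node (.node (.leaf .df) (.leaf (.cyc (nat_lit 15) [(nat_lit 1719), (nat_lit 5995), (nat_lit 2305)]))) (.node (.leaf (.cyc (nat_lit 31) [(nat_lit 401), (nat_lit 169), (nat_lit 168), (nat_lit 400), (nat_lit 808)])) (.leaf .df))) (.node (.node (.leaf .df) (.leaf .df)) (.node (.leaf (.cyc (nat_lit 34) [(nat_lit 1433), (nat_lit 766), (nat_lit 3521), (nat_lit 927), (nat_lit 1669)])) (.leaf .df)))) (.node (.node (.node (.leaf .df) (.leaf (.cyc (nat_lit 94) [(nat_lit 2479), (nat_lit 2480), (nat_lit 9253), (nat_lit 2480), (nat_lit 2479)]))) (.node (.leaf (.cyc (nat_lit 129) [(nat_lit 1287), (nat_lit 683), (nat_lit 320), (nat_lit 3242), (nat_lit 667), (nat_lit 3852), (nat_lit 667), (nat_lit 3242), (nat_lit 320), (nat_lit 683), (nat_lit 1287)])) (.leaf .df))) (.node (.node (.leaf (.cyc (nat_lit 53) [(nat_lit 218), (nat_lit 2985), (nat_lit 2984),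 (nat_lit 2985), (nat_lit 218)])) (.leaf .df)) (.node (.leaf (.cyc (nat_lit 28) [(nat_lit 2004), (nat_lit 1222), (nat_lit 3820), (nat_lit 1222), (nat_lit 2004)])) (.leaf .df))))) (.node (.node (.node (.node (.leaf .df) (.leaf (.cyc (nat_lit 20) [(nat_lit 8157), (nat_lit 6880), (nat_lit 2438)]))) (.node (.leaf (.cyc (nat_lit 24) [(nat_lit 1047), (nat_lit 1046), (nat_lit 4644), (nat_lit 1046), (nat_lit 1047)])) (.leaf .df))) (.node (.node (.leaf .df) (.leaf .df)) (.node (.leaf (.cyc (nat_lit 24) [(nat_lit 1842), (nat_lit 1079), (nat_lit 3708), (nat_lit 1079), (nat_lit 1842)])) (.leaf .df)))) (.node (.node (.node (.leaf .df) (.leaf (.cyc (nat_lit 23) [(nat_lit 9765), (nat_lit 2694), (nat_lit 2695)]))) (.node (.leaf (.cyc (nat_lit 53) [(nat_lit 1493), (nat_lit 5030), (nat_lit 5032), (nat_lit 5030), (nat_lit 1493)])) (.leaf .df))) (.node (.node (.leaf (.cyc (nat_lit 15) [(nat_lit 535), (nat_lit 3156), (nat_lit 535)])) (.leaf .df)) (.node (.leaf (.cyc (nat_lit 23) [(nat_lit 1392), (nat_lit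 1390), (nat_lit 2161)])) (.leaf .df)))))) (.node (.node (.node (.node (.node (.leaf .df) (.leaf (.cyc (nat_lit 16) [(nat_lit 2371), (nat_lit 1716), (nat_lit 4446), (nat_lit 1716), (nat_lit 2371)]))) (.node (.leaf (.cyc (nat_lit 68) [(nat_lit 4388), (nat_lit 842), (nat_lit 3383), (nat_lit 421), (nat_lit 844)])) (.leaf .df))) (.node (.node (.leaf .df) (.leaf .df)) (.node (.leaf (.cyc (nat_lit 19) [(nat_lit 1756), (nat_lit 4535), (nat_lit 4339), (nat_lit 4535), (nat_lit 1756)])) (.leaf .df)))) (.node (.node (.node (.leaf .df) (.leaf (.cyc (nat_lit 28) [(nat_lit 2637), (nat_lit 2288), (nat_lit 5922), (nat_lit 2288), (nat_lit 2637)]))) (.node (.leaf (.cyc (nat_lit 25) [(nat_lit 1278), (nat_lit 679), (nat_lit 3273), (nat_lit 733), (nat_lit 1385)])) (.leaf .df))) (.node (.node (.leaf (.cyc (nat_lit 47) [(nat_lit 395), (nat_lit 2983), (nat_lit 2871), (nat_lit 2983), (nat_lit 395)])) (.leaf .df)) (.node (.leaf (.cyc (nat_lit 48) [(nat_lit 2091), (nat_lit 5208), (nat_lit 2091)])) (.leaf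 .df))))) (.node (.node (.node (.node (.leaf .df) (.leaf (.cyc (nat_lit 27) [(nat_lit 2184), (nat_lit 6997), (nat_lit 2503)]))) (.node (.leaf (.cyc (nat_lit 83) [(nat_lit 4205), (nat_lit 3399), (nat_lit 3397), (nat_lit 3114), (nat_lit 3015), (nat_lit 3146), (nat_lit 3607), (nat_lit 3609), (nat_lit 3764), (nat_lit 1164), (nat_lit 4900)])) (.leaf .df))) (.node (.node (.leaf (.cyc (nat_lit 43) [(nat_lit 50), (nat_lit 51), (nat_lit 2853), (nat_lit 51), (nat_lit 50)])) (.leaf .df)) (.node (.leaf (.cyc (nat_lit 48) [(nat_lit 1930), (nat_lit 4890), (nat_lit 1930)])) (.leaf .df)))) (.node (.node (.node (.leaf .df) (.leaf .df)) (.node (.leaf (.cyc (nat_lit 62) [(nat_lit 4307), (nat_lit 4306), (nat_lit 3798), (nat_lit 858), (nat_lit 1576)])) (.leaf .df))) (.node (.node (.leaf (.cyc (nat_lit 37) [(nat_lit 685), (nat_lit 3776), (nat_lit 3621), (nat_lit 3776), (nat_lit 685)])) (.leaf .df)) (.node (.leaf (.cyc (nat_lit 19) [(nat_lit 1495), (nat_lit 803), (nat_lit 4097), (nat_lit 1471), (nat_lit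 2231)])) (.leaf .df))))))) (.node (.node (.node (.node (.node (.node (.leaf .df) (.leaf (.cyc (nat_lit 67) [(nat_lit 8354), (nat_lit 7504), (nat_lit 6844), (nat_lit 6616), (nat_lit 1125), (nat_lit 1127), (nat_lit 6146), (nat_lit 1653), (nat_lit 4320), (nat_lit 1651), (nat_lit 2338)]))) (.node (.leaf (.cyc (nat_lit 44) [(nat_lit 533), (nat_lit 248), (nat_lit 3069), (nat_lit 447), (nat_lit 882)])) (.leaf .df))) (.node (.node (.leaf .df) (.leaf .df)) (.node (.leaf (.cyc (nat_lit 48) [(nat_lit 1503), (nat_lit 4452), (nat_lit 1713)])) (.leaf .df)))) (.node (.node (.node (.leaf .df) (.leaf (.cyc (nat_lit 50) [(nat_lit 2605), (nat_lit 2209), (nat_lit 5532), (nat_lit 2209), (nat_lit 2605)]))) (.node (.leaf (.cyc (nat_lit 31) [(nat_lit 5279), (nat_lit 1334), (nat_lit 709), (nat_lit 710), (nat_lit 1336)])) (.leaf .df))) (.node (.node (.leaf (.cyc (nat_lit 24) [(nat_lit 306), (nat_lit 2944), (nat_lit 3165), (nat_lit 2944), (nat_lit 306)])) (.leaf .df)) (.node (.leaf (.cyc (nat_lit 27) [(nat_lit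 6599), (nat_lit 6538), (nat_lit 2047)])) (.leaf .df))))) (.node (.node (.node (.node (.leaf .df) (.leaf (.cyc (nat_lit 3) [(nat_lit 8867), (nat_lit 2179), (nat_lit 2181)]))) (.node (.leaf (.cyc (nat_lit 62) [(nat_lit 1108), (nat_lit 4640), (nat_lit 4637), (nat_lit 4640), (nat_lit 1108)])) (.leaf .df))) (.node (.node (.leaf .df) (.leaf .df)) (.node (.leaf (.cyc (nat_lit 35) [(nat_lit 1124), (nat_lit 593), (nat_lit 592), (nat_lit 1123), (nat_lit 1887)])) (.leaf .df)))) (.node (.node (.node (.leaf .df) (.leaf (.cyc (nat_lit 15) [(nat_lit 2725), (nat_lit 9311), (nat_lit 2725)]))) (.node (.leaf (.cyc (nat_lit 20) [(nat_lit 1535), (nat_lit 4162), (nat_lit 1535)])) (.leaf .df))) (.node (.node (.leaf (.cyc (nat_lit 44) [(nat_lit 605), (nat_lit 279), (nat_lit 2927), (nat_lit 279), (nat_lit 605)])) (.leaf .df)) (.node (.leaf (.cyc (nat_lit 140) [(nat_lit 6880), (nat_lit 7845), (nat_lit 7840), (nat_lit 1602), (nat_lit 1601)])) (.leaf .df)))))) (.node (.node (.node (.node (.node (.leaf .df)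 (.leaf (.cyc (nat_lit 81) [(nat_lit 2404), (nat_lit 6506), (nat_lit 6207), (nat_lit 1678), (nat_lit 933), (nat_lit 4387), (nat_lit 1673), (nat_lit 6193), (nat_lit 6435), (nat_lit 6434), (nat_lit 2057)]))) (.node (.leaf (.cyc (nat_lit 102) [(nat_lit 989), (nat_lit 990), (nat_lit 4517), (nat_lit 990), (nat_lit 989)])) (.leaf .df))) (.node (.node (.leaf .df) (.leaf .df)) (.node (.leaf (.cyc (nat_lit 23) [(nat_lit 1040), (nat_lit 1038), (nat_lit 1797)])) (.leaf .df)))) (.node (.node (.node (.leaf .df) (.leaf (.cyc (nat_lit 15) [(nat_lit 2390), (nat_lit 2389), (nat_lit 2667)]))) (.node (.leaf (.cyc (nat_lit 50) [(nat_lit 1455), (nat_lit 5068), (nat_lit 4232), (nat_lit 5068), (nat_lit 1455)])) (.leaf .df))) (.node (.node (.leaf (.cyc (nat_lit 56) [(nat_lit 256), (nat_lit 109), (nat_lit 2884), (nat_lit 207), (nat_lit 463)])) (.leaf .df)) (.node (.leaf (.cyc (nat_lit 157) [(nat_lit 7589), (nat_lit 6924), (nat_lit 5870), (nat_lit 1748), (nat_lit 6419)])) (.leaf .df))))) (.node (.node (.node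 (.node (.leaf .df) (.leaf (.cyc (nat_lit 44) [(nat_lit 2538), (nat_lit 7558), (nat_lit 7559), (nat_lit 7558), (nat_lit 2538)]))) (.node (.leaf (.cyc (nat_lit 46) [(nat_lit 802), (nat_lit 3973), (nat_lit 1231)])) (.leaf .df))) (.node (.node (.leaf (.cyc (nat_lit 12) [(nat_lit 2981), (nat_lit 68), (nat_lit 20), (nat_lit 34), (nat_lit 86)])) (.leaf .df)) (.node (.leaf (.cyc (nat_lit 46) [(nat_lit 5743), (nat_lit 4958), (nat_lit 1968)])) (.leaf .df)))) (.node (.node (.node (.leaf .df) (.leaf .df)) (.node (.leaf (.cyc (nat_lit 15) [(nat_lit 1621), (nat_lit 4281), (nat_lit 1621)])) (.leaf .df))) (.node (.node (.leaf (.cyc (nat_lit 24) [(nat_lit 723), (nat_lit 3268), (nat_lit 2965), (nat_lit 3313), (nat_lit 774)])) (.leaf .df)) (.node (.leaf (.cyc (nat_lit 20) [(nat_lit 1540), (nat_lit 1539), (nat_lit 2272)])) (.leaf .df))))))))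
noncomputable def u5P0110011 : BT Pf := (.node (.node (.node (.node (.node (.node (.node (.leaf .df) (.leaf (.cyc (nat_lit 8) [(nat_lit 8292), (nat_lit 2116), (nat_lit 5293), (nat_lit 1488), (nat_lit 7586)]))) (.node (.leaf (.cyc (nat_lit 29) [(nat_lit 4186), (nat_lit 845), (nat_lit 421), (nat_lit 4066), (nat_lit 531)])) (.leaf .df))) (.node (.node (.leaf .df) (.leaf .df)) (.node (.leaf (.cyc (nat_lit 48) [(nat_lit 5881), (nat_lit 5880), (nat_lit 1691)])) (.leaf .df)))) (.node (.node (.node (.leaf .df) (.leaf (.cyc (nat_lit 20) [(nat_lit 8616), (nat_lit 7651), (nat_lit 2588)]))) (.node (.leaf (.cyc (nat_lit 46) [(nat_lit 1310), (nat_lit 4291), (nat_lit 1310)])) (.leaf .df))) (.node (.node (.leaf (.cyc (nat_lit 49) [(nat_lit 186), (nat_lit 2922), (nat_lit 256)])) (.leaf .df)) (.node (.leaf (.cyc (nat_lit 130) [(nat_lit 7268), (nat_lit 5812), (nat_lit 5138), (nat_lit 5812), (nat_lit 7268)])) (.leaf .df))))) (.node (.node (.node (.node (.leaf .df) (.leaf (.cyc (nat_lit 47) [(nat_lit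 2455), (nat_lit 7584), (nat_lit 7585), (nat_lit 7584), (nat_lit 2455)]))) (.node (.leaf (.cyc (nat_lit 15) [(nat_lit 565), (nat_lit 564), (nat_lit 1071)])) (.leaf .df))) (.node (.node (.leaf .df) (.leaf .df)) (.node (.leaf (.cyc (nat_lit 26) [(nat_lit 1865), (nat_lit 4756), (nat_lit 3839), (nat_lit 4756), (nat_lit 1865)])) (.leaf .df)))) (.node (.node (.node (.leaf .df) (.leaf (.cyc (nat_lit 26) [(nat_lit 2711), (nat_lit 9130), (nat_lit 8773), (nat_lit 9130), (nat_lit 2711)]))) (.node (.leaf (.cyc (nat_lit 56) [(nat_lit 1520), (nat_lit 5726), (nat_lit 5727), (nat_lit 5726), (nat_lit 1520)])) (.leaf .df))) (.node (.node (.leaf (.cyc (nat_lit 26) [(nat_lit 435), (nat_lit 188), (nat_lit 2922), (nat_lit 259), (nat_lit 554)])) (.leaf .df)) (.node (.leaf (.cyc (nat_lit 15) [(nat_lit 1418), (nat_lit 5470), (nat_lit 2180)])) (.leaf .df)))))) (.node (.node (.node (.node (.node (.leaf .df) (.leaf (.cyc (nat_lit 24) [(nat_lit 2113), (nat_lit 6238), (nat_lit 8449), (nat_lit 8446), (nat_lit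 2388)]))) (.node (.leaf (.cyc (nat_lit 15) [(nat_lit 963), (nat_lit 3544), (nat_lit 963)])) (.leaf .df))) (.node (.node (.leaf .df) (.leaf .df)) (.node (.leaf (.cyc (nat_lit 63) [(nat_lit 1768), (nat_lit 5593), (nat_lit 5592), (nat_lit 5593), (nat_lit 1768)])) (.leaf .df)))) (.node (.node (.node (.leaf .df) (.leaf (.cyc (nat_lit 34) [(nat_lit 2651), (nat_lit 2317), (nat_lit 6087), (nat_lit 2317), (nat_lit 2651)]))) (.node (.leaf (.cyc (nat_lit 20) [(nat_lit 763), (nat_lit 762), (nat_lit 1422)])) (.leaf .df))) (.node (.node (.leaf (.cyc (nat_lit 73) [(nat_lit 3308), (nat_lit 3425), (nat_lit 62)])) (.leaf .df)) (.node (.leaf (.cyc (nat_lit 20) [(nat_lit 2106), (nat_lit 5250), (nat_lit 2106)])) (.leaf .df))))) (.node (.node (.node (.node (.leaf .df) (.leaf (.cyc (nat_lit 6) [(nat_lit 2520), (nat_lit 7235), (nat_lit 7231), (nat_lit 7235), (nat_lit 2520)]))) (.node (.leaf (.cyc (nat_lit 15) [(nat_lit 634), (nat_lit 633), (nat_lit 1195)])) (.leaf .df))) (.node (.node (.leaf (.cyc (nat_lit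 56) [(nat_lit 52), (nat_lit 14), (nat_lit 2831), (nat_lit 2842), (nat_lit 106)])) (.leaf .df)) (.node (.leaf (.cyc (nat_lit 30) [(nat_lit 1683), (nat_lit 4393), (nat_lit 1516), (nat_lit 6584), (nat_lit 1947)])) (.leaf .df)))) (.node (.node (.node (.leaf .df) (.leaf .df)) (.node (.leaf (.cyc (nat_lit 47) [(nat_lit 1601), (nat_lit 4252), (nat_lit 3577), (nat_lit 4252), (nat_lit 1601)])) (.leaf .df))) (.node (.node (.leaf (.cyc (nat_lit 31) [(nat_lit 741), (nat_lit 3326), (nat_lit 3325), (nat_lit 3326), (nat_lit 741)])) (.leaf .df)) (.node (.leaf (.cyc (nat_lit 28) [(nat_lit 2252), (nat_lit 1506), (nat_lit 4139), (nat_lit 1506), (nat_lit 2252)])) (.leaf .df))))))) (.node (.node (.node (.node (.node (.node (.leaf .df) (.leaf (.cyc (nat_lit 61) [(nat_lit 8418), (nat_lit 2069), (nat_lit 2068), (nat_lit 7393), (nat_lit 6156), (nat_lit 4521), (nat_lit 6213), (nat_lit 6215), (nat_lit 1680), (nat_lit 1681), (nat_lit 6219)]))) (.node (.leaf (.cyc (nat_lit 62) [(nat_lit 4269), (nat_lit 3884),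 (nat_lit 4318), (nat_lit 4317), (nat_lit 914)])) (.leaf .df))) (.node (.node (.leaf .df) (.leaf .df)) (.node (.leaf (.cyc (nat_lit 25) [(nat_lit 1537), (nat_lit 4588), (nat_lit 5792), (nat_lit 5777), (nat_lit 1734)])) (.leaf .df)))) (.node (.node (.node (.leaf .df) (.leaf (.cyc (nat_lit 26) [(nat_lit 2622), (nat_lit 8339), (nat_lit 8340), (nat_lit 8339), (nat_lit 2622)]))) (.node (.leaf (.cyc (nat_lit 148) [(nat_lit 1203), (nat_lit 637), (nat_lit 295), (nat_lit 297), (nat_lit 643), (nat_lit 1216), (nat_lit 5006), (nat_lit 5347), (nat_lit 5349), (nat_lit 5347), (nat_lit 5006), (nat_lit 1216), (nat_lit 643), (nat_lit 297), (nat_lit 295), (nat_lit 637), (nat_lit 1203)])) (.leaf .df))) (.node (.node (.leaf (.cyc (nat_lit 23) [(nat_lit 149), (nat_lit 146), (nat_lit 353)])) (.leaf .df)) (.node (.leaf (.cyc (nat_lit 53) [(nat_lit 2071), (nat_lit 1288), (nat_lit 3877), (nat_lit 1288), (nat_lit 2071)])) (.leaf .df))))) (.node (.node (.node (.node (.leaf .df) (.leaf (.cyc (nat_lit 25) [(nat_lit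 8606), (nat_lit 8202), (nat_lit 1898), (nat_lit 1897), (nat_lit 2488)]))) (.node (.leaf (.cyc (nat_lit 46) [(nat_lit 1134), (nat_lit 3741), (nat_lit 1134)])) (.leaf .df))) (.node (.node (.leaf (.cyc (nat_lit 4) [(nat_lit 24), (nat_lit 2), (nat_lit 2759), (nat_lit 2), (nat_lit 24)])) (.leaf .df)) (.node (.leaf (.cyc (nat_lit 34) [(nat_lit 5303), (nat_lit 5415), (nat_lit 1385), (nat_lit 4844), (nat_lit 1910)])) (.leaf .df)))) (.node (.node (.node (.leaf .df) (.leaf (.cyc (nat_lit 3) [(nat_lit 9957), (nat_lit 9803), (nat_lit 9603)]))) (.node (.leaf (.cyc (nat_lit 25) [(nat_lit 1375), (nat_lit 1373), (nat_lit 5385), (nat_lit 4915), (nat_lit 1560)])) (.leaf .df))) (.node (.node (.leaf (.cyc (nat_lit 46) [(nat_lit 3802), (nat_lit 3813), (nat_lit 3802)])) (.leaf .df)) (.node (.leaf (.cyc (nat_lit 41) [(nat_lit 2005), (nat_lit 2006), (nat_lit 7909)])) (.leaf .df)))))) (.node (.node (.node (.node (.node (.leaf .df) (.leaf (.cyc (nat_lit 19) [(nat_lit 2420), (nat_lit 1798), (nat_lit 4629),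 (nat_lit 1798), (nat_lit 2420)]))) (.node (.leaf (.cyc (nat_lit 46) [(nat_lit 1023), (nat_lit 3621), (nat_lit 1023)])) (.leaf .df))) (.node (.node (.leaf .df) (.leaf .df)) (.node (.leaf (.cyc (nat_lit 3) [(nat_lit 6629), (nat_lit 1396), (nat_lit 1397)])) (.leaf .df)))) (.node (.node (.node (.leaf .df) (.leaf (.cyc (nat_lit 27) [(nat_lit 9632), (nat_lit 9566), (nat_lit 2681)]))) (.node (.leaf (.cyc (nat_lit 75) [(nat_lit 1476), (nat_lit 1477), (nat_lit 5605), (nat_lit 1477), (nat_lit 1476)])) (.leaf .df))) (.node (.node (.leaf (.cyc (nat_lit 15) [(nat_lit 320), (nat_lit 3123), (nat_lit 499)])) (.leaf .df)) (.node (.leaf (.cyc (nat_lit 50) [(nat_lit 7651), (nat_lit 2143), (nat_lit 1372), (nat_lit 1375), (nat_lit 2144)])) (.leaf .df))))) (.node (.node (.node (.node (.leaf .df) (.leaf (.cyc (nat_lit 35) [(nat_lit 8250), (nat_lit 1706), (nat_lit 6281), (nat_lit 7415), (nat_lit 2554)]))) (.node (.leaf (.cyc (nat_lit 16) [(nat_lit 5075), (nat_lit 1244), (nat_lit 3851), (nat_lit 663),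 (nat_lit 1250)])) (.leaf .df))) (.node (.node (.leaf (.cyc (nat_lit 19) [(nat_lit 187), (nat_lit 73), (nat_lit 2790), (nat_lit 73), (nat_lit 187)])) (.leaf .df)) (.node (.leaf (.cyc (nat_lit 63) [(nat_lit 1983), (nat_lit 1199), (nat_lit 3800), (nat_lit 1199), (nat_lit 1983)])) (.leaf .df)))) (.node (.node (.node (.leaf .df) (.leaf .df)) (.node (.leaf (.cyc (nat_lit 53) [(nat_lit 4969), (nat_lit 5015), (nat_lit 905), (nat_lit 906), (nat_lit 1642)])) (.leaf .df))) (.node (.node (.leaf (.cyc (nat_lit 74) [(nat_lit 532), (nat_lit 4065)])) (.leaf .df)) (.node (.leaf (.cyc (nat_lit 63) [(nat_lit 2289), (nat_lit 5932), (nat_lit 4528), (nat_lit 5932), (nat_lit 2289)])) (.leaf .df))))))))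
noncomputable def u5P011001 : BT Pf := .node u5P0110010 u5P0110011
noncomputable def u5P01100 : BT Pf := .node u5P011000 u5P011001
noncomputable def u5P0110100 : BT Pf := (.node (.node (.node (.node (.node (.node (.node (.leaf .df) (.leaf (.cyc (nat_lit 50) [(nat_lit 8115), (nat_lit 7076), (nat_lit 6346), (nat_lit 5960), (nat_lit 2300)]))) (.node (.leaf (.cyc (nat_lit 64) [(nat_lit 407), (nat_lit 177), (nat_lit 2900), (nat_lit 2899), (nat_lit 67), (nat_lit 66), (nat_lit 165), (nat_lit 2987), (nat_lit 396), (nat_lit 799), (nat_lit 4117)])) (.leaf .df))) (.node (.node (.leaf .df) (.leaf .df)) (.node (.leaf (.cyc (nat_lit 30) [(nat_lit 1659), (nat_lit 917), (nat_lit 3499), (nat_lit 917), (nat_lit 1659)])) (.leaf .df)))) (.node (.node (.node (.leaf .df) (.leaf (.cyc (nat_lit 30) [(nat_lit 2570), (nat_lit 2109), (nat_lit 5262), (nat_lit 2109), (nat_lit 2570)]))) (.node (.leaf (.cyc (nat_lit 53) [(nat_lit 1276), (nat_lit 5043), (nat_lit 5042), (nat_lit 5043), (nat_lit 1276)])) (.leaf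 .df))) (.node (.node (.leaf (.cyc (nat_lit 23) [(nat_lit 3093), (nat_lit 211), (nat_lit 212)])) (.leaf .df)) (.node (.leaf (.cyc (nat_lit 56) [(nat_lit 1999), (nat_lit 6106), (nat_lit 6104), (nat_lit 6106), (nat_lit 1999)])) (.leaf .df))))) (.node (.node (.node (.node (.leaf .df) (.leaf (.cyc (nat_lit 20) [(nat_lit 2434), (nat_lit 6636), (nat_lit 2434)]))) (.node (.leaf (.cyc (nat_lit 102) [(nat_lit 1039), (nat_lit 1040), (nat_lit 4629), (nat_lit 1040), (nat_lit 1039)])) (.leaf .df))) (.node (.node (.leaf .df) (.leaf .df)) (.node (.leaf (.cyc (nat_lit 48) [(nat_lit 1837), (nat_lit 4718), (nat_lit 1837)])) (.leaf .df)))) (.node (.node (.node (.leaf .df) (.leaf (.cyc (nat_lit 31) [(nat_lit 2691), (nat_lit 2505), (nat_lit 7030), (nat_lit 2505), (nat_lit 2691)]))) (.node (.leaf (.cyc (nat_lit 20) [(nat_lit 1489), (nat_lit 4115), (nat_lit 1489)])) (.leaf .df))) (.node (.node (.leaf (.cyc (nat_lit 19) [(nat_lit 522), (nat_lit 241), (nat_lit 2910), (nat_lit 241), (nat_lit 522)])) (.leaf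 .df)) (.node (.leaf (.cyc (nat_lit 26) [(nat_lit 2156), (nat_lit 7510), (nat_lit 7511), (nat_lit 7510), (nat_lit 2156)])) (.leaf .df)))))) (.node (.node (.node (.node (.node (.leaf .df) (.leaf (.cyc (nat_lit 49) [(nat_lit 8373), (nat_lit 8374), (nat_lit 2366)]))) (.node (.leaf (.cyc (nat_lit 107) [(nat_lit 4348), (nat_lit 865), (nat_lit 438), (nat_lit 193), (nat_lit 3035), (nat_lit 3033), (nat_lit 3035), (nat_lit 193), (nat_lit 438), (nat_lit 865), (nat_lit 4348)])) (.leaf .df))) (.node (.node (.leaf .df) (.leaf .df)) (.node (.leaf (.cyc (nat_lit 30) [(nat_lit 1150), (nat_lit 4488), (nat_lit 4485), (nat_lit 989), (nat_lit 1750)])) (.leaf .df)))) (.node (.node (.node (.leaf .df) (.leaf (.cyc (nat_lit 34) [(nat_lit 2634), (nat_lit 9482), (nat_lit 9487), (nat_lit 9482), (nat_lit 2634)]))) (.node (.leaf (.cyc (nat_lit 60) [(nat_lit 5389), (nat_lit 1378), (nat_lit 5397), (nat_lit 1378), (nat_lit 5389)])) (.leaf .df))) (.node (.node (.leaf (.cyc (nat_lit 58) [(nat_lit 386), (nat_lit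 3329), (nat_lit 377), (nat_lit 156), (nat_lit 2866), (nat_lit 2865), (nat_lit 2866), (nat_lit 156), (nat_lit 377), (nat_lit 3329), (nat_lit 386)])) (.leaf .df)) (.node (.leaf (.cyc (nat_lit 19) [(nat_lit 5575), (nat_lit 6162), (nat_lit 7413), (nat_lit 7411), (nat_lit 2086)])) (.leaf .df))))) (.node (.node (.node (.node (.leaf .df) (.leaf (.cyc (nat_lit 23) [(nat_lit 2444), (nat_lit 8706), (nat_lit 8981)]))) (.node (.leaf (.cyc (nat_lit 24) [(nat_lit 1156), (nat_lit 3758), (nat_lit 3211), (nat_lit 3758), (nat_lit 1156)])) (.leaf .df))) (.node (.node (.leaf (.cyc (nat_lit 30) [(nat_lit 41), (nat_lit 2772), (nat_lit 2773), (nat_lit 43), (nat_lit 2837)])) (.leaf .df)) (.node (.leaf (.cyc (nat_lit 20) [(nat_lit 1926), (nat_lit 4886), (nat_lit 1926)])) (.leaf .df)))) (.node (.node (.node (.leaf .df) (.leaf (.cyc (nat_lit 47) [(nat_lit 2747), (nat_lit 2710), (nat_lit 9129), (nat_lit 2710), (nat_lit 2747)]))) (.node (.leaf (.cyc (nat_lit 128) [(nat_lit 922), (nat_lit 3510), (nat_lit 4210),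 (nat_lit 1572), (nat_lit 5909), (nat_lit 5907), (nat_lit 5232), (nat_lit 3953), (nat_lit 747), (nat_lit 745), (nat_lit 3960), (nat_lit 4327)])) (.leaf .df))) (.node (.node (.leaf (.cyc (nat_lit 28) [(nat_lit 3860), (nat_lit 357), (nat_lit 2963), (nat_lit 357), (nat_lit 3860)])) (.leaf .df)) (.node (.leaf (.cyc (nat_lit 41) [(nat_lit 6824), (nat_lit 7243), (nat_lit 2226)])) (.leaf .df))))))) (.node (.node (.node (.node (.node (.node (.leaf .df) (.leaf (.cyc (nat_lit 24) [(nat_lit 1653), (nat_lit 4319), (nat_lit 4317), (nat_lit 6135), (nat_lit 2335)]))) (.node (.leaf (.cyc (nat_lit 101) [(nat_lit 461), (nat_lit 459), (nat_lit 4245), (nat_lit 459), (nat_lit 461)])) (.leaf .df))) (.node (.node (.leaf .df) (.leaf .df)) (.node (.leaf (.cyc (nat_lit 20) [(nat_lit 956), (nat_lit 954), (nat_lit 1707)])) (.leaf .df)))) (.node (.node (.node (.leaf .df) (.leaf (.cyc (nat_lit 28) [(nat_lit 2601), (nat_lit 2181), (nat_lit 5471), (nat_lit 2181), (nat_lit 2601)]))) (.node (.leaf (.cyc (nat_lit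 60) [(nat_lit 717), (nat_lit 719), (nat_lit 5268), (nat_lit 719), (nat_lit 717)])) (.leaf .df))) (.node (.node (.leaf (.cyc (nat_lit 23) [(nat_lit 274), (nat_lit 2935), (nat_lit 292)])) (.leaf .df)) (.node (.leaf (.cyc (nat_lit 24) [(nat_lit 2039), (nat_lit 7225), (nat_lit 7227), (nat_lit 7225), (nat_lit 2039)])) (.leaf .df))))) (.node (.node (.node (.node (.leaf .df) (.leaf (.cyc (nat_lit 22) [(nat_lit 7779), (nat_lit 7019), (nat_lit 1948), (nat_lit 5279), (nat_lit 5277), (nat_lit 5278), (nat_lit 5461), (nat_lit 1414), (nat_lit 1413), (nat_lit 2175), (nat_lit 8853)]))) (.node (.leaf (.cyc (nat_lit 51) [(nat_lit 1103), (nat_lit 3725), (nat_lit 3724), (nat_lit 3583), (nat_lit 3339), (nat_lit 3324), (nat_lit 3339), (nat_lit 3583), (nat_lit 3724), (nat_lit 3725), (nat_lit 1103)])) (.leaf .df))) (.node (.node (.leaf .df) (.leaf .df)) (.node (.leaf (.cyc (nat_lit 45) [(nat_lit 1883), (nat_lit 5111), (nat_lit 5321), (nat_lit 5111), (nat_lit 1883)])) (.leaf .df)))) (.node (.node (.node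 (.leaf .df) (.leaf (.cyc (nat_lit 19) [(nat_lit 2721), (nat_lit 2578), (nat_lit 7604), (nat_lit 2578), (nat_lit 2721)]))) (.node (.leaf (.cyc (nat_lit 41) [(nat_lit 5781), (nat_lit 5159), (nat_lit 5781)])) (.leaf .df))) (.node (.node (.leaf (.cyc (nat_lit 15) [(nat_lit 276), (nat_lit 275), (nat_lit 593)])) (.leaf .df)) (.node (.leaf (.cyc (nat_lit 16) [(nat_lit 2193), (nat_lit 6954), (nat_lit 6950), (nat_lit 6954), (nat_lit 2193)])) (.leaf .df)))))) (.node (.node (.node (.node (.node (.leaf .df) (.leaf (.cyc (nat_lit 45) [(nat_lit 2089), (nat_lit 6409), (nat_lit 7948), (nat_lit 7946), (nat_lit 2400)]))) (.node (.leaf (.cyc (nat_lit 11) [(nat_lit 4492), (nat_lit 4496), (nat_lit 434), (nat_lit 435), (nat_lit 861)])) (.leaf .df))) (.node (.node (.leaf .df) (.leaf .df)) (.node (.leaf (.cyc (nat_lit 25) [(nat_lit 1790), (nat_lit 6540), (nat_lit 6542), (nat_lit 6540), (nat_lit 1790)])) (.leaf .df)))) (.node (.node (.node (.leaf .df) (.leaf (.cyc (nat_lit 53) [(nat_lit 2662), (nat_lit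 9450), (nat_lit 9447), (nat_lit 9450), (nat_lit 2662)]))) (.node (.leaf (.cyc (nat_lit 43) [(nat_lit 1442), (nat_lit 1444), (nat_lit 5525), (nat_lit 1444), (nat_lit 1442)])) (.leaf .df))) (.node (.node (.leaf (.cyc (nat_lit 15) [(nat_lit 293), (nat_lit 3082), (nat_lit 455)])) (.leaf .df)) (.node (.leaf (.cyc (nat_lit 37) [(nat_lit 2121), (nat_lit 5312), (nat_lit 5270), (nat_lit 5312), (nat_lit 2121)])) (.leaf .df))))) (.node (.node (.node (.node (.leaf .df) (.leaf (.cyc (nat_lit 16) [(nat_lit 7870), (nat_lit 2007), (nat_lit 5103), (nat_lit 2033), (nat_lit 2533)]))) (.node (.leaf (.cyc (nat_lit 72) [(nat_lit 5005), (nat_lit 5013)])) (.leaf .df))) (.node (.node (.leaf (.cyc (nat_lit 56) [(nat_lit 155), (nat_lit 2864), (nat_lit 2781), (nat_lit 2864), (nat_lit 155)])) (.leaf .df)) (.node (.leaf (.cyc (nat_lit 23) [(nat_lit 7061), (nat_lit 1962), (nat_lit 1963)])) (.leaf .df)))) (.node (.node (.node (.leaf .df) (.leaf .df)) (.node (.leaf (.cyc (nat_lit 47) [(nat_lit 1616), (nat_lit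 4455), (nat_lit 4454), (nat_lit 4455), (nat_lit 1616)])) (.leaf .df))) (.node (.node (.leaf (.cyc (nat_lit 20) [(nat_lit 761), (nat_lit 3305), (nat_lit 761)])) (.leaf .df)) (.node (.leaf (.cyc (nat_lit 20) [(nat_lit 2267), (nat_lit 5794), (nat_lit 2267)])) (.leaf .df))))))))
noncomputable def u5P0110101 : BT Pf := (.node (.node (.node (.node (.node (.node (.node (.leaf .df) (.leaf (.cyc (nat_lit 19) [(nat_lit 2320), (nat_lit 1633), (nat_lit 4302), (nat_lit 1633), (nat_lit 2320)]))) (.node (.leaf (.cyc (nat_lit 26) [(nat_lit 841), (nat_lit 840), (nat_lit 4181), (nat_lit 840), (nat_lit 841)])) (.leaf .df))) (.node (.node (.leaf .df) (.leaf .df)) (.node (.leaf (.cyc (nat_lit 15) [(nat_lit 1686), (nat_lit 4394), (nat_lit 1686)])) (.leaf .df)))) (.node (.node (.node (.leaf .df) (.leaf (.cyc (nat_lit 19) [(nat_lit 2582), (nat_lit 9240), (nat_lit 9243), (nat_lit 9240), (nat_lit 2582)]))) (.node (.leaf (.cyc (nat_lit 35) [(nat_lit 1304), (nat_lit 4228), (nat_lit 3408), (nat_lit 4228),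 (nat_lit 1304)])) (.leaf .df))) (.node (.node (.leaf (.cyc (nat_lit 62) [(nat_lit 249), (nat_lit 105), (nat_lit 2841), (nat_lit 105), (nat_lit 249)])) (.leaf .df)) (.node (.leaf (.cyc (nat_lit 46) [(nat_lit 2020), (nat_lit 5086), (nat_lit 2020)])) (.leaf .df))))) (.node (.node (.node (.node (.leaf .df) (.leaf (.cyc (nat_lit 48) [(nat_lit 7029), (nat_lit 6697), (nat_lit 2450)]))) (.node (.leaf (.cyc (nat_lit 24) [(nat_lit 1065), (nat_lit 3694), (nat_lit 3184), (nat_lit 3694), (nat_lit 1065)])) (.leaf .df))) (.node (.node (.leaf .df) (.leaf .df)) (.node (.leaf (.cyc (nat_lit 30) [(nat_lit 1859), (nat_lit 1095), (nat_lit 3717), (nat_lit 1095), (nat_lit 1859)])) (.leaf .df)))) (.node (.node (.node (.leaf .df) (.leaf (.cyc (nat_lit 28) [(nat_lit 2707), (nat_lit 2537), (nat_lit 7323), (nat_lit 2537), (nat_lit 2707)]))) (.node (.leaf (.cyc (nat_lit 49) [(nat_lit 818), (nat_lit 4147), (nat_lit 1513)])) (.leaf .df))) (.node (.node (.leaf (.cyc (nat_lit 112) [(nat_lit 262), (nat_lit 3661)]))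 (.leaf .df)) (.node (.leaf (.cyc (nat_lit 27) [(nat_lit 2174), (nat_lit 5455), (nat_lit 2174)])) (.leaf .df)))))) (.node (.node (.node (.node (.node (.leaf .df) (.leaf (.cyc (nat_lit 67) [(nat_lit 8531), (nat_lit 2307), (nat_lit 1610), (nat_lit 1609), (nat_lit 6020), (nat_lit 4724), (nat_lit 6673), (nat_lit 6674), (nat_lit 5861), (nat_lit 6385), (nat_lit 2383)]))) (.node (.leaf (.cyc (nat_lit 121) [(nat_lit 4432), (nat_lit 3934), (nat_lit 694), (nat_lit 3252), (nat_lit 516)])) (.leaf .df))) (.node (.node (.leaf .df) (.leaf .df)) (.node (.leaf (.cyc (nat_lit 45) [(nat_lit 1452), (nat_lit 779), (nat_lit 777), (nat_lit 4829), (nat_lit 6474)])) (.leaf .df)))) (.node (.node (.node (.leaf .df) (.leaf (.cyc (nat_lit 3) [(nat_lit 9557), (nat_lit 2609), (nat_lit 2610)]))) (.node (.leaf (.cyc (nat_lit 140) [(nat_lit 5461), (nat_lit 5377), (nat_lit 5375), (nat_lit 5377), (nat_lit 5461)])) (.leaf .df))) (.node (.node (.leaf (.cyc (nat_lit 94) [(nat_lit 436), (nat_lit 3088), (nat_lit 3412),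 (nat_lit 3088), (nat_lit 436)])) (.leaf .df)) (.node (.leaf (.cyc (nat_lit 53) [(nat_lit 5419), (nat_lit 5627), (nat_lit 5618), (nat_lit 5624), (nat_lit 2102)])) (.leaf .df))))) (.node (.node (.node (.node (.leaf .df) (.leaf (.cyc (nat_lit 24) [(nat_lit 2517), (nat_lit 8314), (nat_lit 8313), (nat_lit 8314), (nat_lit 2517)]))) (.node (.leaf (.cyc (nat_lit 15) [(nat_lit 629), (nat_lit 628), (nat_lit 1185)])) (.leaf .df))) (.node (.node (.leaf (.cyc (nat_lit 50) [(nat_lit 96), (nat_lit 38), (nat_lit 2805), (nat_lit 38), (nat_lit 96)])) (.leaf .df)) (.node (.leaf (.cyc (nat_lit 47) [(nat_lit 1942), (nat_lit 6050), (nat_lit 6051), (nat_lit 6050), (nat_lit 1942)])) (.leaf .df)))) (.node (.node (.node (.leaf .df) (.leaf .df)) (.node (.leaf (.cyc (nat_lit 23) [(nat_lit 5972), (nat_lit 1594), (nat_lit 1595)])) (.leaf .df))) (.node (.node (.leaf (.cyc (nat_lit 44) [(nat_lit 347), (nat_lit 143), (nat_lit 141), (nat_lit 342), (nat_lit 731)])) (.leaf .df)) (.node (.leaf (.cyc (nat_lit 79)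 [(nat_lit 2026), (nat_lit 1254), (nat_lit 1255), (nat_lit 5405), (nat_lit 5404), (nat_lit 5484), (nat_lit 1424), (nat_lit 1423), (nat_lit 5486), (nat_lit 5682), (nat_lit 2247)])) (.leaf .df))))))) (.node (.node (.node (.node (.node (.node (.leaf .df) (.leaf (.cyc (nat_lit 56) [(nat_lit 2350), (nat_lit 8401), (nat_lit 8402), (nat_lit 8401), (nat_lit 2350)]))) (.node (.leaf (.cyc (nat_lit 62) [(nat_lit 539), (nat_lit 251), (nat_lit 3083), (nat_lit 456), (nat_lit 906)])) (.leaf .df))) (.node (.node (.leaf .df) (.leaf .df)) (.node (.leaf (.cyc (nat_lit 112) [(nat_lit 1722), (nat_lit 6357)])) (.leaf .df)))) (.node (.node (.node (.leaf .df) (.leaf (.cyc (nat_lit 50) [(nat_lit 2314), (nat_lit 6069), (nat_lit 5646), (nat_lit 2242), (nat_lit 2618)]))) (.node (.leaf (.cyc (nat_lit 23) [(nat_lit 720), (nat_lit 717), (nat_lit 1350)])) (.leaf .df))) (.node (.node (.leaf (.cyc (nat_lit 41) [(nat_lit 311), (nat_lit 3285), (nat_lit 311)])) (.leaf .df)) (.node (.leaf (.cyc (nat_lit 2) [(nat_lit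 7380), (nat_lit 7362), (nat_lit 6306), (nat_lit 7362), (nat_lit 7380)])) (.leaf .df))))) (.node (.node (.node (.node (.leaf .df) (.leaf (.cyc (nat_lit 45) [(nat_lit 2484), (nat_lit 8101), (nat_lit 8098), (nat_lit 8101), (nat_lit 2484)]))) (.node (.leaf (.cyc (nat_lit 15) [(nat_lit 715), (nat_lit 3731), (nat_lit 1123)])) (.leaf .df))) (.node (.node (.leaf (.pin (nat_lit 25) [(nat_lit 2), (nat_lit 11), (nat_lit 12)] [(nat_lit 4)])) (.leaf .df)) (.node (.leaf (.cyc (nat_lit 36) [(nat_lit 1384), (nat_lit 733), (nat_lit 3292), (nat_lit 3742), (nat_lit 599), (nat_lit 277), (nat_lit 278), (nat_lit 602), (nat_lit 4841), (nat_lit 4840), (nat_lit 1905)])) (.leaf .df)))) (.node (.node (.node (.leaf .df) (.leaf (.cyc (nat_lit 28) [(nat_lit 2734), (nat_lit 2614), (nat_lit 7980), (nat_lit 2614), (nat_lit 2734)]))) (.node (.leaf (.cyc (nat_lit 41) [(nat_lit 4385), (nat_lit 4383), (nat_lit 1550)])) (.leaf .df))) (.node (.node (.leaf (.cyc (nat_lit 46) [(nat_lit 3762), (nat_lit 3763), (nat_lit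 633)])) (.leaf .df)) (.node (.leaf (.cyc (nat_lit 34) [(nat_lit 2081), (nat_lit 1295), (nat_lit 1296), (nat_lit 5581), (nat_lit 2209)])) (.leaf .df)))))) (.node (.node (.node (.node (.node (.leaf .df) (.leaf (.cyc (nat_lit 20) [(nat_lit 2053), (nat_lit 6552), (nat_lit 2417)]))) (.node (.leaf (.cyc (nat_lit 23) [(nat_lit 4543), (nat_lit 4542), (nat_lit 1016)])) (.leaf .df))) (.node (.node (.leaf .df) (.leaf .df)) (.node (.leaf (.cyc (nat_lit 48) [(nat_lit 1810), (nat_lit 4666), (nat_lit 1810)])) (.leaf .df)))) (.node (.node (.node (.leaf .df) (.leaf (.cyc (nat_lit 164) [(nat_lit 2629), (nat_lit 8097), (nat_lit 2270), (nat_lit 5800), (nat_lit 4779), (nat_lit 1110), (nat_lit 4639), (nat_lit 4637), (nat_lit 1044), (nat_lit 3682), (nat_lit 568), (nat_lit 1080), (nat_lit 1843), (nat_lit 6696), (nat_lit 6695), (nat_lit 2450), (nat_lit 2677)]))) (.node (.leaf (.cyc (nat_lit 48) [(nat_lit 1473), (nat_lit 4102), (nat_lit 1473)])) (.leaf .df))) (.node (.node (.leaf (.cyc (nat_lit 27) [(nat_lit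 224), (nat_lit 223), (nat_lit 491)])) (.leaf .df)) (.node (.leaf (.cyc (nat_lit 6) [(nat_lit 2139), (nat_lit 1371), (nat_lit 3920), (nat_lit 1371), (nat_lit 2139)])) (.leaf .df))))) (.node (.node (.node (.node (.leaf .df) (.leaf (.cyc (nat_lit 18) [(nat_lit 2550), (nat_lit 8411), (nat_lit 8412), (nat_lit 8411), (nat_lit 2550)]))) (.node (.leaf (.cyc (nat_lit 25) [(nat_lit 5051), (nat_lit 5049), (nat_lit 3845), (nat_lit 3851), (nat_lit 1245)])) (.leaf .df))) (.node (.node (.leaf (.cyc (nat_lit 45) [(nat_lit 103), (nat_lit 43), (nat_lit 2794), (nat_lit 71), (nat_lit 180)])) (.leaf .df)) (.node (.leaf (.cyc (nat_lit 11) [(nat_lit 6988), (nat_lit 7124), (nat_lit 1183), (nat_lit 4935), (nat_lit 6697)])) (.leaf .df)))) (.node (.node (.node (.leaf .df) (.leaf .df)) (.node (.leaf (.cyc (nat_lit 40) [(nat_lit 6101), (nat_lit 5011), (nat_lit 1220)])) (.leaf .df))) (.node (.node (.leaf (.cyc (nat_lit 72) [(nat_lit 504), (nat_lit 4046), (nat_lit 420)])) (.leaf .df)) (.node (.leaf (.cyc (nat_lit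 31) [(nat_lit 1955), (nat_lit 1956), (nat_lit 8077), (nat_lit 8074), (nat_lit 2284)])) (.leaf .df))))))))
noncomputable def u5P011010 : BT Pf := .node u5P0110100 u5P0110101
noncomputable def u5P0110110 : BT Pf := (.node (.node (.node (.node (.node (.node (.node (.leaf .df) (.leaf (.cyc (nat_lit 27) [(nat_lit 8228), (nat_lit 6200), (nat_lit 2311)]))) (.node (.leaf (.cyc (nat_lit 56) [(nat_lit 821), (nat_lit 404), (nat_lit 3012), (nat_lit 404), (nat_lit 821)])) (.leaf .df))) (.node (.node (.leaf .df) (.leaf .df)) (.node (.leaf (.cyc (nat_lit 35) [(nat_lit 1632), (nat_lit 5176), (nat_lit 5431), (nat_lit 6194), (nat_lit 1674)])) (.leaf .df)))) (.node (.node (.node (.leaf .df) (.leaf (.cyc (nat_lit 19) [(nat_lit 2575), (nat_lit 8550), (nat_lit 8552), (nat_lit 8550), (nat_lit 2575)]))) (.node (.leaf (.cyc (nat_lit 15) [(nat_lit 1297), (nat_lit 3881), (nat_lit 1297)])) (.leaf .df))) (.node (.node (.leaf (.cyc (nat_lit 27) [(nat_lit 202), (nat_lit 2893), (nat_lit 231)])) (.leaf .df))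 (.node (.leaf (.cyc (nat_lit 27) [(nat_lit 2011), (nat_lit 5045), (nat_lit 2011)])) (.leaf .df))))) (.node (.node (.node (.node (.leaf .df) (.leaf (.cyc (nat_lit 27) [(nat_lit 2026), (nat_lit 6664), (nat_lit 2442)]))) (.node (.leaf (.cyc (nat_lit 27) [(nat_lit 563), (nat_lit 562), (nat_lit 4661)])) (.leaf .df))) (.node (.node (.leaf .df) (.leaf .df)) (.node (.leaf (.cyc (nat_lit 16) [(nat_lit 1758), (nat_lit 6576), (nat_lit 4725), (nat_lit 1084), (nat_lit 1849)])) (.leaf .df)))) (.node (.node (.node (.leaf .df) (.leaf (.cyc (nat_lit 46) [(nat_lit 9781), (nat_lit 9756), (nat_lit 9781)]))) (.node (.leaf (.cyc (nat_lit 58) [(nat_lit 5683), (nat_lit 4684), (nat_lit 4406), (nat_lit 4230), (nat_lit 1333), (nat_lit 5274), (nat_lit 1333), (nat_lit 4230), (nat_lit 4406), (nat_lit 4684), (nat_lit 5683)])) (.leaf .df))) (.node (.node (.leaf (.cyc (nat_lit 49) [(nat_lit 265), (nat_lit 3173), (nat_lit 545)])) (.leaf .df)) (.node (.leaf (.cyc (nat_lit 18) [(nat_lit 2165), (nat_lit 5431), (nat_lit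 3944), (nat_lit 5431), (nat_lit 2165)])) (.leaf .df)))))) (.node (.node (.node (.node (.node (.leaf .df) (.leaf (.cyc (nat_lit 20) [(nat_lit 1727), (nat_lit 1726), (nat_lit 2375)]))) (.node (.leaf (.cyc (nat_lit 48) [(nat_lit 4396), (nat_lit 4405), (nat_lit 940)])) (.leaf .df))) (.node (.node (.leaf .df) (.leaf .df)) (.node (.leaf (.cyc (nat_lit 49) [(nat_lit 1754), (nat_lit 4558), (nat_lit 1765)])) (.leaf .df)))) (.node (.node (.node (.leaf .df) (.leaf (.cyc (nat_lit 50) [(nat_lit 2640), (nat_lit 8187), (nat_lit 7757), (nat_lit 8187), (nat_lit 2640)]))) (.node (.leaf (.cyc (nat_lit 47) [(nat_lit 757), (nat_lit 356), (nat_lit 3296), (nat_lit 741), (nat_lit 1398)])) (.leaf .df))) (.node (.node (.leaf (.cyc (nat_lit 41) [(nat_lit 413), (nat_lit 3029), (nat_lit 413)])) (.leaf .df)) (.node (.leaf (.cyc (nat_lit 89) [(nat_lit 6999), (nat_lit 1942), (nat_lit 1168), (nat_lit 619), (nat_lit 288), (nat_lit 290), (nat_lit 624), (nat_lit 1176), (nat_lit 5239), (nat_lit 5238), (nat_lit 2097)]))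 (.leaf .df))))) (.node (.node (.node (.node (.leaf .df) (.leaf (.cyc (nat_lit 44) [(nat_lit 2508), (nat_lit 7051), (nat_lit 5019), (nat_lit 7051), (nat_lit 2508)]))) (.node (.leaf (.cyc (nat_lit 48) [(nat_lit 1107), (nat_lit 3773), (nat_lit 1171)])) (.leaf .df))) (.node (.node (.leaf (.cyc (nat_lit 20) [(nat_lit 26), (nat_lit 2798), (nat_lit 67)])) (.leaf .df)) (.node (.leaf (.cyc (nat_lit 28) [(nat_lit 1933), (nat_lit 6932), (nat_lit 6930), (nat_lit 6932), (nat_lit 1933)])) (.leaf .df)))) (.node (.node (.node (.leaf .df) (.leaf .df)) (.node (.leaf (.cyc (nat_lit 23) [(nat_lit 1460), (nat_lit 1459), (nat_lit 5941)])) (.leaf .df))) (.node (.node (.leaf (.cyc (nat_lit 19) [(nat_lit 3475), (nat_lit 3259), (nat_lit 329), (nat_lit 328), (nat_lit 699)])) (.leaf .df)) (.node (.leaf (.cyc (nat_lit 8) [(nat_lit 7989), (nat_lit 2129), (nat_lit 5338), (nat_lit 1356), (nat_lit 2132)])) (.leaf .df))))))) (.node (.node (.node (.node (.node (.node (.leaf .df) (.leaf (.cyc (nat_lit 28) [(nat_lit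 1710), (nat_lit 957), (nat_lit 955), (nat_lit 6156), (nat_lit 2342)]))) (.node (.leaf (.cyc (nat_lit 124) [(nat_lit 4277), (nat_lit 687), (nat_lit 323), (nat_lit 322), (nat_lit 685)])) (.leaf .df))) (.node (.node (.leaf .df) (.leaf .df)) (.node (.leaf (.cyc (nat_lit 23) [(nat_lit 5230), (nat_lit 4455), (nat_lit 1718)])) (.leaf .df)))) (.node (.node (.node (.leaf .df) (.leaf (.cyc (nat_lit 35) [(nat_lit 2609), (nat_lit 7968), (nat_lit 7440), (nat_lit 7968), (nat_lit 2609)]))) (.node (.leaf (.cyc (nat_lit 16) [(nat_lit 5288), (nat_lit 1336), (nat_lit 3901), (nat_lit 712), (nat_lit 1341)])) (.leaf .df))) (.node (.node (.leaf (.cyc (nat_lit 20) [(nat_lit 3251), (nat_lit 325), (nat_lit 327)])) (.leaf .df)) (.node (.leaf (.cyc (nat_lit 62) [(nat_lit 7319), (nat_lit 2039), (nat_lit 5112), (nat_lit 1271), (nat_lit 2053)])) (.leaf .df))))) (.node (.node (.node (.node (.leaf .df) (.leaf (.cyc (nat_lit 19) [(nat_lit 2270), (nat_lit 5800), (nat_lit 4779), (nat_lit 6784), (nat_lit 2476)])))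 (.node (.leaf (.cyc (nat_lit 40) [(nat_lit 4789), (nat_lit 4361), (nat_lit 4789)])) (.leaf .df))) (.node (.node (.leaf .df) (.leaf .df)) (.node (.leaf (.cyc (nat_lit 30) [(nat_lit 6775), (nat_lit 4826), (nat_lit 1126), (nat_lit 1125), (nat_lit 1894)])) (.leaf .df)))) (.node (.node (.node (.leaf .df) (.leaf (.cyc (nat_lit 41) [(nat_lit 2728), (nat_lit 9666), (nat_lit 2728)]))) (.node (.leaf (.cyc (nat_lit 30) [(nat_lit 1092), (nat_lit 4663), (nat_lit 4660), (nat_lit 4661), (nat_lit 1540)])) (.leaf .df))) (.node (.node (.leaf (.cyc (nat_lit 27) [(nat_lit 299), (nat_lit 3218), (nat_lit 618)])) (.leaf .df)) (.node (.leaf (.cyc (nat_lit 156) [(nat_lit 5857), (nat_lit 4700), (nat_lit 1067), (nat_lit 4691), (nat_lit 6591), (nat_lit 7807), (nat_lit 7808), (nat_lit 1435), (nat_lit 1436), (nat_lit 2200), (nat_lit 7859)])) (.leaf .df)))))) (.node (.node (.node (.node (.node (.leaf .df) (.leaf (.cyc (nat_lit 27) [(nat_lit 2123), (nat_lit 6514), (nat_lit 2409)]))) (.node (.leaf (.cyc (nat_lit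 25) [(nat_lit 957), (nat_lit 4424), (nat_lit 4425), (nat_lit 4386), (nat_lit 999)])) (.leaf .df))) (.node (.node (.leaf .df) (.leaf .df)) (.node (.leaf (.cyc (nat_lit 97) [(nat_lit 5871), (nat_lit 6266), (nat_lit 5722), (nat_lit 4633), (nat_lit 3995), (nat_lit 1422), (nat_lit 5480), (nat_lit 1252), (nat_lit 4614), (nat_lit 4645), (nat_lit 1801)])) (.leaf .df)))) (.node (.node (.node (.leaf .df) (.leaf (.cyc (nat_lit 61) [(nat_lit 9653), (nat_lit 2588), (nat_lit 2587), (nat_lit 9320), (nat_lit 9317), (nat_lit 9315), (nat_lit 9317), (nat_lit 9320), (nat_lit 2587), (nat_lit 2588), (nat_lit 9653)]))) (.node (.leaf (.cyc (nat_lit 46) [(nat_lit 4608), (nat_lit 4030), (nat_lit 1461)])) (.leaf .df))) (.node (.node (.leaf (.cyc (nat_lit 28) [(nat_lit 470), (nat_lit 3489), (nat_lit 3490), (nat_lit 3489), (nat_lit 470)])) (.leaf .df)) (.node (.leaf (.cyc (nat_lit 23) [(nat_lit 2037), (nat_lit 5787), (nat_lit 2129)])) (.leaf .df))))) (.node (.node (.node (.node (.leaf .df) (.leaf (.cyc (nat_lit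 26) [(nat_lit 2542), (nat_lit 7343), (nat_lit 5357), (nat_lit 7343), (nat_lit 2542)]))) (.node (.leaf (.cyc (nat_lit 25) [(nat_lit 1236), (nat_lit 654), (nat_lit 3231), (nat_lit 654), (nat_lit 1236)])) (.leaf .df))) (.node (.node (.leaf (.cyc (nat_lit 41) [(nat_lit 2875), (nat_lit 2995), (nat_lit 88)])) (.leaf .df)) (.node (.leaf (.cyc (nat_lit 47) [(nat_lit 6283), (nat_lit 6281), (nat_lit 5984), (nat_lit 6462), (nat_lit 1972)])) (.leaf .df)))) (.node (.node (.node (.leaf .df) (.leaf .df)) (.node (.leaf (.cyc (nat_lit 35) [(nat_lit 1626), (nat_lit 4293), (nat_lit 4290), (nat_lit 4293), (nat_lit 1626)])) (.leaf .df))) (.node (.node (.leaf (.cyc (nat_lit 27) [(nat_lit 3589), (nat_lit 3588), (nat_lit 784)])) (.leaf .df)) (.node (.leaf (.cyc (nat_lit 28) [(nat_lit 2276), (nat_lit 7295), (nat_lit 7296), (nat_lit 7295), (nat_lit 2276)])) (.leaf .df))))))))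
noncomputable def u5P0110111 : BT Pf := (.node (.node (.node (.node (.node (.node (.node (.leaf .df) (.leaf (.cyc (nat_lit 54) [(nat_lit 2327), (nat_lit 1639), (nat_lit 904), (nat_lit 906), (nat_lit 1642), (nat_lit 6956), (nat_lit 1931), (nat_lit 5001), (nat_lit 1852), (nat_lit 6723), (nat_lit 6722)]))) (.node (.leaf (.cyc (nat_lit 56) [(nat_lit 859), (nat_lit 3404), (nat_lit 3048), (nat_lit 3404), (nat_lit 859)])) (.leaf .df))) (.node (.node (.leaf .df) (.leaf .df)) (.node (.leaf (.cyc (nat_lit 20) [(nat_lit 1697), (nat_lit 4414), (nat_lit 1697)])) (.leaf .df)))) (.node (.node (.node (.leaf .df) (.leaf (.cyc (nat_lit 24) [(nat_lit 2593), (nat_lit 7662), (nat_lit 5395), (nat_lit 7662), (nat_lit 2593)]))) (.node (.leaf (.cyc (nat_lit 46) [(nat_lit 1317), (nat_lit 3896), (nat_lit 1317)])) (.leaf .df))) (.node (.node (.leaf (.cyc (nat_lit 35) [(nat_lit 137), (nat_lit 57), (nat_lit 2846), (nat_lit 114), (nat_lit 271)])) (.leaf .df)) (.node (.leaf (.cyc (nat_lit 23) [(nat_lit 7282),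 (nat_lit 2029), (nat_lit 2030)])) (.leaf .df))))) (.node (.node (.node (.node (.leaf .df) (.leaf (.cyc (nat_lit 23) [(nat_lit 1860), (nat_lit 1858), (nat_lit 2460)]))) (.node (.leaf (.cyc (nat_lit 46) [(nat_lit 1081), (nat_lit 4420), (nat_lit 1081)])) (.leaf .df))) (.node (.node (.leaf .df) (.leaf .df)) (.node (.leaf (.cyc (nat_lit 56) [(nat_lit 1870), (nat_lit 6771), (nat_lit 6772), (nat_lit 6771), (nat_lit 1870)])) (.leaf .df)))) (.node (.node (.node (.leaf .df) (.leaf (.cyc (nat_lit 54) [(nat_lit 2714), (nat_lit 2548), (nat_lit 7372), (nat_lit 5151), (nat_lit 5154), (nat_lit 5778), (nat_lit 2266), (nat_lit 8267), (nat_lit 8265), (nat_lit 2595), (nat_lit 9341)]))) (.node (.leaf (.cyc (nat_lit 27) [(nat_lit 4869), (nat_lit 4868), (nat_lit 1526)])) (.leaf .df))) (.node (.node (.leaf (.cyc (nat_lit 63) [(nat_lit 567), (nat_lit 3690), (nat_lit 3691), (nat_lit 3690), (nat_lit 567)])) (.leaf .df)) (.node (.leaf (.cyc (nat_lit 28) [(nat_lit 2184), (nat_lit 6068), (nat_lit 6066), (nat_lit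 6068), (nat_lit 2184)])) (.leaf .df)))))) (.node (.node (.node (.node (.node (.leaf .df) (.leaf (.cyc (nat_lit 25) [(nat_lit 8374), (nat_lit 6303), (nat_lit 5933), (nat_lit 6437), (nat_lit 2392)]))) (.node (.leaf (.cyc (nat_lit 60) [(nat_lit 682), (nat_lit 3858), (nat_lit 4468), (nat_lit 3858), (nat_lit 682)])) (.leaf .df))) (.node (.node (.leaf .df) (.leaf .df)) (.node (.leaf (.cyc (nat_lit 48) [(nat_lit 1780), (nat_lit 4587), (nat_lit 1780)])) (.leaf .df)))) (.node (.node (.node (.leaf .df) (.leaf (.cyc (nat_lit 47) [(nat_lit 2507), (nat_lit 8077), (nat_lit 8073), (nat_lit 8373), (nat_lit 2655)]))) (.node (.leaf (.cyc (nat_lit 52) [(nat_lit 1391), (nat_lit 1392), (nat_lit 5492), (nat_lit 1392), (nat_lit 1391)])) (.leaf .df))) (.node (.node (.leaf (.cyc (nat_lit 116) [(nat_lit 2962), (nat_lit 357), (nat_lit 3445), (nat_lit 357), (nat_lit 2962), (nat_lit 331)])) (.leaf .df)) (.node (.leaf (.cyc (nat_lit 105) [(nat_lit 7540), (nat_lit 2038), (nat_lit 7225)])) (.leaf .df))))) (.node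 (.node (.node (.node (.leaf .df) (.leaf (.cyc (nat_lit 102) [(nat_lit 2469), (nat_lit 2470), (nat_lit 9077), (nat_lit 2470), (nat_lit 2469)]))) (.node (.leaf (.cyc (nat_lit 67) [(nat_lit 1048), (nat_lit 554), (nat_lit 553), (nat_lit 4086), (nat_lit 542), (nat_lit 3169), (nat_lit 424), (nat_lit 3805), (nat_lit 1205), (nat_lit 4980), (nat_lit 4979)])) (.leaf .df))) (.node (.node (.leaf (.cyc (nat_lit 28) [(nat_lit 69), (nat_lit 20), (nat_lit 13), (nat_lit 51), (nat_lit 121)])) (.leaf .df)) (.node (.leaf (.cyc (nat_lit 21) [(nat_lit 1951), (nat_lit 1949), (nat_lit 7023), (nat_lit 1949), (nat_lit 1951)])) (.leaf .df)))) (.node (.node (.node (.leaf .df) (.leaf .df)) (.node (.leaf (.cyc (nat_lit 44) [(nat_lit 1606), (nat_lit 4510), (nat_lit 4509), (nat_lit 4510), (nat_lit 1606)])) (.leaf .df))) (.node (.node (.leaf (.cyc (nat_lit 8) [(nat_lit 3955), (nat_lit 3417), (nat_lit 215), (nat_lit 3665), (nat_lit 430)])) (.leaf .df)) (.node (.leaf (.cyc (nat_lit 30) [(nat_lit 2257), (nat_lit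 5720), (nat_lit 6195), (nat_lit 5720), (nat_lit 2257)])) (.leaf .df))))))) (.node (.node (.node (.node (.node (.node (.leaf .df) (.leaf (.cyc (nat_lit 63) [(nat_lit 2357), (nat_lit 7552), (nat_lit 7551), (nat_lit 7552), (nat_lit 2357)]))) (.node (.leaf (.cyc (nat_lit 48) [(nat_lit 923), (nat_lit 3513), (nat_lit 923)])) (.leaf .df))) (.node (.node (.leaf .df) (.leaf .df)) (.node (.leaf (.cyc (nat_lit 45) [(nat_lit 1741), (nat_lit 6154), (nat_lit 6152), (nat_lit 6154), (nat_lit 1741)])) (.leaf .df)))) (.node (.node (.node (.leaf .df) (.leaf (.cyc (nat_lit 20) [(nat_lit 8625), (nat_lit 8060), (nat_lit 2626)]))) (.node (.leaf (.cyc (nat_lit 94) [(nat_lit 1363), (nat_lit 1364), (nat_lit 5365), (nat_lit 1364), (nat_lit 1363)])) (.leaf .df))) (.node (.node (.leaf (.cyc (nat_lit 37) [(nat_lit 370), (nat_lit 3315), (nat_lit 3317), (nat_lit 3315), (nat_lit 370)])) (.leaf .df)) (.node (.leaf (.cyc (nat_lit 29) [(nat_lit 7412), (nat_lit 5906), (nat_lit 4483), (nat_lit 5906), (nat_lit 7412)]))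 (.leaf .df))))) (.node (.node (.node (.node (.leaf .df) (.leaf (.cyc (nat_lit 23) [(nat_lit 8738), (nat_lit 8735), (nat_lit 2492)]))) (.node (.leaf (.cyc (nat_lit 56) [(nat_lit 1142), (nat_lit 4830), (nat_lit 4832), (nat_lit 4830), (nat_lit 1142)])) (.leaf .df))) (.node (.node (.leaf (.cyc (nat_lit 1) [(nat_lit 4), (nat_lit 2761), (nat_lit 4)])) (.leaf .df)) (.node (.leaf (.cyc (nat_lit 28) [(nat_lit 6179), (nat_lit 6487), (nat_lit 4846), (nat_lit 1144), (nat_lit 1915)])) (.leaf .df)))) (.node (.node (.node (.leaf .df) (.leaf (.cyc (nat_lit 27) [(nat_lit 2741), (nat_lit 9676), (nat_lit 2741)]))) (.node (.leaf (.cyc (nat_lit 8) [(nat_lit 5877), (nat_lit 1509), (nat_lit 814), (nat_lit 815), (nat_lit 1512)])) (.leaf .df))) (.node (.node (.leaf (.cyc (nat_lit 15) [(nat_lit 654), (nat_lit 3230), (nat_lit 654)])) (.leaf .df)) (.node (.leaf (.cyc (nat_lit 50) [(nat_lit 1476), (nat_lit 792), (nat_lit 4084), (nat_lit 1460), (nat_lit 2217)])) (.leaf .df)))))) (.node (.node (.node (.node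 (.node (.leaf .df) (.leaf (.cyc (nat_lit 62) [(nat_lit 1809), (nat_lit 1052), (nat_lit 1051), (nat_lit 1808), (nat_lit 2424)]))) (.node (.leaf (.cyc (nat_lit 44) [(nat_lit 1031), (nat_lit 539), (nat_lit 3167), (nat_lit 539), (nat_lit 1031)])) (.leaf .df))) (.node (.node (.leaf .df) (.leaf .df)) (.node (.leaf (.cyc (nat_lit 36) [(nat_lit 4785), (nat_lit 4837), (nat_lit 4838), (nat_lit 6496), (nat_lit 6498), (nat_lit 4654), (nat_lit 1051), (nat_lit 3687), (nat_lit 561), (nat_lit 1064), (nat_lit 1823)])) (.leaf .df)))) (.node (.node (.node (.leaf .df) (.leaf (.cyc (nat_lit 16) [(nat_lit 2684), (nat_lit 2468), (nat_lit 6779), (nat_lit 2468), (nat_lit 2684)]))) (.node (.leaf (.cyc (nat_lit 7) [(nat_lit 1137), (nat_lit 1139), (nat_lit 5621), (nat_lit 1251)])) (.leaf .df))) (.node (.node (.leaf (.cyc (nat_lit 26) [(nat_lit 503), (nat_lit 3334), (nat_lit 3333), (nat_lit 3334), (nat_lit 503)])) (.leaf .df)) (.node (.leaf (.cyc (nat_lit 46) [(nat_lit 2104), (nat_lit 6242), (nat_lit 2149)]))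 (.leaf .df))))) (.node (.node (.node (.node (.leaf .df) (.leaf (.cyc (nat_lit 69) [(nat_lit 9205), (nat_lit 2558), (nat_lit 2088), (nat_lit 5187), (nat_lit 1306), (nat_lit 5211), (nat_lit 1306), (nat_lit 5187), (nat_lit 2088), (nat_lit 2558), (nat_lit 9205)]))) (.node (.leaf (.cyc (nat_lit 37) [(nat_lit 1260), (nat_lit 4972), (nat_lit 4978), (nat_lit 4972), (nat_lit 1260)])) (.leaf .df))) (.node (.node (.leaf (.cyc (nat_lit 34) [(nat_lit 192), (nat_lit 2998), (nat_lit 2891), (nat_lit 2998), (nat_lit 192)])) (.leaf .df)) (.node (.leaf (.cyc (nat_lit 79) [(nat_lit 6642), (nat_lit 1821), (nat_lit 1822), (nat_lit 6639), (nat_lit 6638), (nat_lit 4692), (nat_lit 966), (nat_lit 3554), (nat_lit 637), (nat_lit 1203), (nat_lit 1990)])) (.leaf .df)))) (.node (.node (.node (.leaf .df) (.leaf .df)) (.node (.leaf (.cyc (nat_lit 56) [(nat_lit 6125), (nat_lit 1645), (nat_lit 4313), (nat_lit 909), (nat_lit 1648)])) (.leaf .df))) (.node (.node (.leaf (.cyc (nat_lit 111) [(nat_lit 553), (nat_lit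 551), (nat_lit 4031), (nat_lit 540), (nat_lit 542)])) (.leaf .df)) (.node (.leaf (.cyc (nat_lit 34) [(nat_lit 6320), (nat_lit 6341), (nat_lit 7236), (nat_lit 7237), (nat_lit 2293)])) (.leaf .df))))))))
noncomputable def u5P011011 : BT Pf := .node u5P0110110 u5P0110111
noncomputable def u5P01101 : BT Pf := .node u5P011010 u5P011011
noncomputable def u5P0110 : BT Pf := .node u5P01100 u5P01101
noncomputable def u5P0111000 : BT Pf := (.node (.node (.node (.node (.node (.node (.node (.leaf .df) (.leaf (.cyc (nat_lit 28) [(nat_lit 2298), (nat_lit 8192), (nat_lit 8191), (nat_lit 8192), (nat_lit 2298)]))) (.node (.leaf (.cyc (nat_lit 25) [(nat_lit 492), (nat_lit 223), (nat_lit 2971), (nat_lit 391), (nat_lit 796)])) (.leaf .df))) (.node (.node (.leaf .df) (.leaf .df)) (.node (.leaf (.cyc (nat_lit 137) [(nat_lit 6143), (nat_lit 1657), (nat_lit 6157), (nat_lit 1657), (nat_lit 6143)])) (.leaf .df)))) (.node (.node (.node (.leaf .df) (.leaf (.cyc (nat_lit 69) [(nat_lit 9229), (nat_lit 2567),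 (nat_lit 2108), (nat_lit 5257), (nat_lit 5864), (nat_lit 5386), (nat_lit 5864), (nat_lit 5257), (nat_lit 2108), (nat_lit 2567), (nat_lit 9229)]))) (.node (.leaf (.cyc (nat_lit 11) [(nat_lit 5132), (nat_lit 3861), (nat_lit 3927), (nat_lit 732), (nat_lit 731)])) (.leaf .df))) (.node (.node (.leaf (.cyc (nat_lit 50) [(nat_lit 117), (nat_lit 49), (nat_lit 2811), (nat_lit 82), (nat_lit 207)])) (.leaf .df)) (.node (.leaf (.cyc (nat_lit 86) [(nat_lit 7181), (nat_lit 1832), (nat_lit 1830)])) (.leaf .df))))) (.node (.node (.node (.node (.leaf .df) (.leaf (.cyc (nat_lit 30) [(nat_lit 2431), (nat_lit 8710), (nat_lit 8708), (nat_lit 8710), (nat_lit 2431)]))) (.node (.leaf (.cyc (nat_lit 15) [(nat_lit 793), (nat_lit 3639), (nat_lit 1037)])) (.leaf .df))) (.node (.node (.leaf .df) (.leaf .df)) (.node (.leaf (.cyc (nat_lit 60) [(nat_lit 1830), (nat_lit 1831), (nat_lit 6668), (nat_lit 1831), (nat_lit 1830)])) (.leaf .df)))) (.node (.node (.node (.leaf .df) (.leaf (.cyc (nat_lit 53) [(nat_lit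 2689), (nat_lit 2481), (nat_lit 6793), (nat_lit 2481), (nat_lit 2689)]))) (.node (.leaf (.cyc (nat_lit 19) [(nat_lit 4673), (nat_lit 4745), (nat_lit 5643), (nat_lit 1484), (nat_lit 1485)])) (.leaf .df))) (.node (.node (.leaf (.cyc (nat_lit 23) [(nat_lit 239), (nat_lit 237), (nat_lit 518)])) (.leaf .df)) (.node (.leaf (.cyc (nat_lit 41) [(nat_lit 1394), (nat_lit 5419), (nat_lit 2155)])) (.leaf .df)))))) (.node (.node (.node (.node (.node (.leaf .df) (.leaf (.cyc (nat_lit 53) [(nat_lit 2363), (nat_lit 1695), (nat_lit 4403), (nat_lit 1695), (nat_lit 2363)]))) (.node (.leaf (.cyc (nat_lit 135) [(nat_lit 811), (nat_lit 3371), (nat_lit 808), (nat_lit 4179), (nat_lit 4181), (nat_lit 4364), (nat_lit 4126), (nat_lit 799), (nat_lit 3977), (nat_lit 3826), (nat_lit 3264), (nat_lit 713)])) (.leaf .df))) (.node (.node (.leaf .df) (.leaf .df)) (.node (.leaf (.cyc (nat_lit 34) [(nat_lit 1022), (nat_lit 3777), (nat_lit 686), (nat_lit 5204), (nat_lit 1747)])) (.leaf .df)))) (.node (.node (.node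 (.leaf .df) (.leaf (.cyc (nat_lit 44) [(nat_lit 9393), (nat_lit 8146), (nat_lit 8143), (nat_lit 2382), (nat_lit 9484)]))) (.node (.leaf (.cyc (nat_lit 35) [(nat_lit 1376), (nat_lit 3921), (nat_lit 3278), (nat_lit 3921), (nat_lit 1376)])) (.leaf .df))) (.node (.node (.leaf (.cyc (nat_lit 105) [(nat_lit 3341), (nat_lit 3312), (nat_lit 3341)])) (.leaf .df)) (.node (.leaf (.cyc (nat_lit 45) [(nat_lit 2084), (nat_lit 1298), (nat_lit 3881), (nat_lit 1298), (nat_lit 2084)])) (.leaf .df))))) (.node (.node (.node (.node (.leaf .df) (.leaf (.cyc (nat_lit 14) [(nat_lit 8973), (nat_lit 7532), (nat_lit 2048), (nat_lit 2047), (nat_lit 8600)]))) (.node (.leaf (.cyc (nat_lit 49) [(nat_lit 3934), (nat_lit 3888), (nat_lit 1153)])) (.leaf .df))) (.node (.node (.leaf (.cyc (nat_lit 36) [(nat_lit 22), (nat_lit 2819), (nat_lit 2822), (nat_lit 32), (nat_lit 2756), (nat_lit 2767), (nat_lit 6), (nat_lit 2769), (nat_lit 2753), (nat_lit 2771), (nat_lit 39)])) (.leaf .df)) (.node (.leaf (.cyc (nat_lit 30)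 [(nat_lit 1924), (nat_lit 1155), (nat_lit 3759), (nat_lit 1155), (nat_lit 1924)])) (.leaf .df)))) (.node (.node (.node (.leaf .df) (.leaf (.cyc (nat_lit 6) [(nat_lit 2745), (nat_lit 9854), (nat_lit 9852), (nat_lit 9854), (nat_lit 2745)]))) (.node (.leaf (.cyc (nat_lit 141) [(nat_lit 1569), (nat_lit 1570), (nat_lit 5901), (nat_lit 5900), (nat_lit 4210), (nat_lit 470), (nat_lit 469), (nat_lit 3512), (nat_lit 3508), (nat_lit 565), (nat_lit 1074)])) (.leaf .df))) (.node (.node (.leaf (.cyc (nat_lit 20) [(nat_lit 315), (nat_lit 3243), (nat_lit 668)])) (.leaf .df)) (.node (.leaf (.cyc (nat_lit 47) [(nat_lit 6167), (nat_lit 1746), (nat_lit 7948), (nat_lit 2223), (nat_lit 2224)])) (.leaf .df))))))) (.node (.node (.node (.node (.node (.node (.leaf .df) (.leaf (.cyc (nat_lit 53) [(nat_lit 2333), (nat_lit 6388), (nat_lit 6390), (nat_lit 6388), (nat_lit 2333)]))) (.node (.leaf (.cyc (nat_lit 0) [(nat_lit 871), (nat_lit 872), (nat_lit 4237), (nat_lit 776), (nat_lit 775)])) (.leaf .df))) (.node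 (.node (.leaf .df) (.leaf .df)) (.node (.leaf (.cyc (nat_lit 20) [(nat_lit 952), (nat_lit 951), (nat_lit 1703)])) (.leaf .df)))) (.node (.node (.node (.leaf .df) (.leaf (.cyc (nat_lit 28) [(nat_lit 2599), (nat_lit 8854), (nat_lit 8859), (nat_lit 8854), (nat_lit 2599)]))) (.node (.leaf (.cyc (nat_lit 40) [(nat_lit 5261), (nat_lit 5074), (nat_lit 5261)])) (.leaf .df))) (.node (.node (.leaf (.cyc (nat_lit 18) [(nat_lit 287), (nat_lit 3038), (nat_lit 3022), (nat_lit 3038), (nat_lit 287)])) (.leaf .df)) (.node (.leaf (.cyc (nat_lit 20) [(nat_lit 1260), (nat_lit 1259), (nat_lit 2035)])) (.leaf .df))))) (.node (.node (.node (.node (.leaf .df) (.leaf (.cyc (nat_lit 53) [(nat_lit 7155), (nat_lit 6764), (nat_lit 1867), (nat_lit 1868), (nat_lit 2466)]))) (.node (.leaf (.cyc (nat_lit 21) [(nat_lit 1099), (nat_lit 4312), (nat_lit 4311), (nat_lit 4312), (nat_lit 1099)])) (.leaf .df))) (.node (.node (.leaf .df) (.leaf .df)) (.node (.leaf (.cyc (nat_lit 16) [(nat_lit 1880), (nat_lit 1116), (nat_lit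 4362), (nat_lit 1116), (nat_lit 1880)])) (.leaf .df)))) (.node (.node (.node (.leaf .df) (.leaf (.cyc (nat_lit 6) [(nat_lit 2719), (nat_lit 9406), (nat_lit 9405), (nat_lit 9406), (nat_lit 2719)]))) (.node (.leaf (.cyc (nat_lit 27) [(nat_lit 5773), (nat_lit 1530), (nat_lit 1531)])) (.leaf .df))) (.node (.node (.leaf (.cyc (nat_lit 23) [(nat_lit 273), (nat_lit 271), (nat_lit 583)])) (.leaf .df)) (.node (.leaf (.cyc (nat_lit 35) [(nat_lit 2191), (nat_lit 6666), (nat_lit 6668), (nat_lit 6666), (nat_lit 2191)])) (.leaf .df)))))) (.node (.node (.node (.node (.node (.leaf .df) (.leaf (.cyc (nat_lit 51) [(nat_lit 2398), (nat_lit 7992), (nat_lit 2235), (nat_lit 5608), (nat_lit 1483), (nat_lit 5637), (nat_lit 1483), (nat_lit 5608), (nat_lit 2235), (nat_lit 7992), (nat_lit 2398)]))) (.node (.leaf (.cyc (nat_lit 54) [(nat_lit 984), (nat_lit 512), (nat_lit 234), (nat_lit 236), (nat_lit 516), (nat_lit 4438), (nat_lit 4432), (nat_lit 734), (nat_lit 3921), (nat_lit 3922), (nat_lit 3923)])) (.leaf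 .df))) (.node (.node (.leaf .df) (.leaf .df)) (.node (.leaf (.cyc (nat_lit 28) [(nat_lit 1787), (nat_lit 5527), (nat_lit 4885), (nat_lit 5527), (nat_lit 1787)])) (.leaf .df)))) (.node (.node (.node (.leaf .df) (.leaf (.cyc (nat_lit 48) [(nat_lit 9326), (nat_lit 8618), (nat_lit 2661)]))) (.node (.leaf (.cyc (nat_lit 18) [(nat_lit 1443), (nat_lit 772), (nat_lit 4080), (nat_lit 772), (nat_lit 1443)])) (.leaf .df))) (.node (.node (.leaf (.cyc (nat_lit 25) [(nat_lit 449), (nat_lit 3320), (nat_lit 3422), (nat_lit 3320), (nat_lit 449)])) (.leaf .df)) (.node (.leaf (.cyc (nat_lit 62) [(nat_lit 1934), (nat_lit 6932), (nat_lit 6933), (nat_lit 5303), (nat_lit 2119)])) (.leaf .df))))) (.node (.node (.node (.node (.leaf .df) (.leaf (.cyc (nat_lit 28) [(nat_lit 2531), (nat_lit 7274), (nat_lit 5844), (nat_lit 7274), (nat_lit 2531)]))) (.node (.leaf (.cyc (nat_lit 63) [(nat_lit 1157), (nat_lit 3817), (nat_lit 641), (nat_lit 643), (nat_lit 1216)])) (.leaf .df))) (.node (.node (.leaf (.cyc (nat_lit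 43) [(nat_lit 144), (nat_lit 145), (nat_lit 2957), (nat_lit 145), (nat_lit 144)])) (.leaf .df)) (.node (.leaf (.cyc (nat_lit 41) [(nat_lit 1959), (nat_lit 4949), (nat_lit 1959)])) (.leaf .df)))) (.node (.node (.node (.leaf .df) (.leaf .df)) (.node (.leaf (.cyc (nat_lit 47) [(nat_lit 1613), (nat_lit 887), (nat_lit 3471), (nat_lit 887), (nat_lit 1613)])) (.leaf .df))) (.node (.node (.leaf (.cyc (nat_lit 130) [(nat_lit 3981), (nat_lit 3860), (nat_lit 3863), (nat_lit 3860), (nat_lit 3981)])) (.leaf .df)) (.node (.leaf (.cyc (nat_lit 20) [(nat_lit 1578), (nat_lit 5770), (nat_lit 2265)])) (.leaf .df))))))))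
noncomputable def u5P0111001 : BT Pf := (.node (.node (.node (.node (.node (.node (.node (.leaf .df) (.leaf (.cyc (nat_lit 16) [(nat_lit 2318), (nat_lit 8262), (nat_lit 8264), (nat_lit 8262), (nat_lit 2318)]))) (.node (.leaf (.cyc (nat_lit 104) [(nat_lit 837), (nat_lit 838), (nat_lit 4173), (nat_lit 838), (nat_lit 837)])) (.leaf .df))) (.node (.node (.leaf .df) (.leaf .df)) (.node (.leaf (.cyc (nat_lit 11) [(nat_lit 6220), (nat_lit 5671), (nat_lit 4685), (nat_lit 5671), (nat_lit 6220)])) (.leaf .df)))) (.node (.node (.node (.leaf .df) (.leaf (.cyc (nat_lit 31) [(nat_lit 8250), (nat_lit 8007), (nat_lit 8565), (nat_lit 8567), (nat_lit 2580)]))) (.node (.leaf (.cyc (nat_lit 79) [(nat_lit 4428), (nat_lit 493), (nat_lit 224), (nat_lit 90), (nat_lit 88), (nat_lit 221), (nat_lit 3116), (nat_lit 485), (nat_lit 942), (nat_lit 5197), (nat_lit 5194)])) (.leaf .df))) (.node (.node (.leaf (.cyc (nat_lit 21) [(nat_lit 195), (nat_lit 77), (nat_lit 2837), (nat_lit 102), (nat_lit 245)])) (.leaf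 .df)) (.node (.leaf (.cyc (nat_lit 47) [(nat_lit 5704), (nat_lit 5070), (nat_lit 5069), (nat_lit 1246), (nat_lit 2017)])) (.leaf .df))))) (.node (.node (.node (.node (.leaf .df) (.leaf (.cyc (nat_lit 62) [(nat_lit 2448), (nat_lit 6733), (nat_lit 6732), (nat_lit 6733), (nat_lit 2448)]))) (.node (.leaf (.cyc (nat_lit 47) [(nat_lit 945), (nat_lit 4402), (nat_lit 4683), (nat_lit 4682), (nat_lit 1060)])) (.leaf .df))) (.node (.node (.leaf .df) (.leaf .df)) (.node (.leaf (.cyc (nat_lit 20) [(nat_lit 1096), (nat_lit 4745), (nat_lit 1857)])) (.leaf .df)))) (.node (.node (.node (.leaf .df) (.leaf (.cyc (nat_lit 28) [(nat_lit 2705), (nat_lit 9636), (nat_lit 9634), (nat_lit 9636), (nat_lit 2705)]))) (.node (.leaf (.cyc (nat_lit 53) [(nat_lit 1033), (nat_lit 4135), (nat_lit 4134), (nat_lit 814), (nat_lit 1508)])) (.leaf .df))) (.node (.node (.leaf (.cyc (nat_lit 112) [(nat_lit 463), (nat_lit 3654), (nat_lit 476)])) (.leaf .df)) (.node (.leaf (.cyc (nat_lit 37) [(nat_lit 2171), (nat_lit 1407),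 (nat_lit 3960), (nat_lit 1407), (nat_lit 2171)])) (.leaf .df)))))) (.node (.node (.node (.node (.node (.leaf .df) (.leaf (.cyc (nat_lit 20) [(nat_lit 2382), (nat_lit 6383), (nat_lit 2382)]))) (.node (.leaf (.cyc (nat_lit 121) [(nat_lit 4429), (nat_lit 769), (nat_lit 364), (nat_lit 362), (nat_lit 766)])) (.leaf .df))) (.node (.node (.leaf .df) (.leaf .df)) (.node (.leaf (.cyc (nat_lit 72) [(nat_lit 1128), (nat_lit 6476)])) (.leaf .df)))) (.node (.node (.node (.leaf .df) (.leaf (.cyc (nat_lit 23) [(nat_lit 9549), (nat_lit 2645), (nat_lit 2646)]))) (.node (.leaf (.cyc (nat_lit 54) [(nat_lit 5451), (nat_lit 5452), (nat_lit 5446), (nat_lit 3955), (nat_lit 3957), (nat_lit 3959), (nat_lit 3957), (nat_lit 3955), (nat_lit 5446), (nat_lit 5452), (nat_lit 5451)])) (.leaf .df))) (.node (.node (.leaf (.cyc (nat_lit 44) [(nat_lit 434), (nat_lit 188), (nat_lit 2874), (nat_lit 188), (nat_lit 434)])) (.leaf .df)) (.node (.leaf (.cyc (nat_lit 94) [(nat_lit 1894), (nat_lit 1895), (nat_lit 7497),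 (nat_lit 1895), (nat_lit 1894)])) (.leaf .df))))) (.node (.node (.node (.node (.leaf .df) (.leaf (.cyc (nat_lit 15) [(nat_lit 2515), (nat_lit 7139), (nat_lit 2515)]))) (.node (.leaf (.cyc (nat_lit 47) [(nat_lit 1180), (nat_lit 1179), (nat_lit 4941), (nat_lit 1179), (nat_lit 1180)])) (.leaf .df))) (.node (.node (.leaf (.cyc (nat_lit 46) [(nat_lit 2885), (nat_lit 2825), (nat_lit 94)])) (.leaf .df)) (.node (.leaf (.cyc (nat_lit 27) [(nat_lit 1940), (nat_lit 4905), (nat_lit 1940)])) (.leaf .df)))) (.node (.node (.node (.leaf .df) (.leaf .df)) (.node (.leaf (.cyc (nat_lit 23) [(nat_lit 5960), (nat_lit 1591), (nat_lit 1593)])) (.leaf .df))) (.node (.node (.leaf (.cyc (nat_lit 23) [(nat_lit 615), (nat_lit 3269), (nat_lit 723)])) (.leaf .df)) (.node (.leaf (.cyc (nat_lit 30) [(nat_lit 2244), (nat_lit 2243), (nat_lit 8012), (nat_lit 2243), (nat_lit 2244)])) (.leaf .df))))))) (.node (.node (.node (.node (.node (.node (.leaf .df) (.leaf (.cyc (nat_lit 16) [(nat_lit 6506), (nat_lit 6205),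 (nat_lit 7999), (nat_lit 8002), (nat_lit 2348)]))) (.node (.leaf (.cyc (nat_lit 31) [(nat_lit 901), (nat_lit 3833), (nat_lit 3834), (nat_lit 3833), (nat_lit 901)])) (.leaf .df))) (.node (.node (.leaf .df) (.leaf .df)) (.node (.leaf (.cyc (nat_lit 28) [(nat_lit 1729), (nat_lit 5960), (nat_lit 5958), (nat_lit 5960), (nat_lit 1729)])) (.leaf .df)))) (.node (.node (.node (.leaf .df) (.leaf (.cyc (nat_lit 20) [(nat_lit 2240), (nat_lit 2238), (nat_lit 2617)]))) (.node (.leaf (.cyc (nat_lit 102) [(nat_lit 1345), (nat_lit 1347), (nat_lit 5325), (nat_lit 1347), (nat_lit 1345)])) (.leaf .df))) (.node (.node (.leaf (.cyc (nat_lit 18) [(nat_lit 3277), (nat_lit 280), (nat_lit 2930), (nat_lit 280), (nat_lit 3277)])) (.leaf .df)) (.node (.leaf (.cyc (nat_lit 45) [(nat_lit 2061), (nat_lit 6757), (nat_lit 6754), (nat_lit 6757), (nat_lit 2061)])) (.leaf .df))))) (.node (.node (.node (.node (.leaf .df) (.leaf (.cyc (nat_lit 23) [(nat_lit 1882), (nat_lit 1881), (nat_lit 2483)]))) (.node (.leaf (.cyc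 (nat_lit 37) [(nat_lit 1120), (nat_lit 590), (nat_lit 3194), (nat_lit 590), (nat_lit 1120)])) (.leaf .df))) (.node (.node (.leaf (.pin (nat_lit 17) [(nat_lit 5)] [])) (.leaf .df)) (.node (.leaf (.cyc (nat_lit 61) [(nat_lit 6861), (nat_lit 1903), (nat_lit 6008), (nat_lit 6006), (nat_lit 6007), (nat_lit 5317), (nat_lit 5320), (nat_lit 4262), (nat_lit 3777), (nat_lit 685), (nat_lit 1290)])) (.leaf .df)))) (.node (.node (.node (.leaf .df) (.leaf (.cyc (nat_lit 27) [(nat_lit 2733), (nat_lit 9409), (nat_lit 2733)]))) (.node (.leaf (.cyc (nat_lit 112) [(nat_lit 1501), (nat_lit 5837)])) (.leaf .df))) (.node (.node (.leaf (.cyc (nat_lit 6) [(nat_lit 296), (nat_lit 126), (nat_lit 123), (nat_lit 291), (nat_lit 625)])) (.leaf .df)) (.node (.leaf (.cyc (nat_lit 63) [(nat_lit 1478), (nat_lit 1480), (nat_lit 7667), (nat_lit 5573), (nat_lit 2208)])) (.leaf .df)))))) (.node (.node (.node (.node (.node (.leaf .df) (.leaf (.cyc (nat_lit 20) [(nat_lit 7069), (nat_lit 7067), (nat_lit 2415)]))) (.node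 (.leaf (.cyc (nat_lit 28) [(nat_lit 4532), (nat_lit 796), (nat_lit 4061), (nat_lit 525), (nat_lit 1010)])) (.leaf .df))) (.node (.node (.leaf .df) (.leaf .df)) (.node (.leaf (.cyc (nat_lit 87) [(nat_lit 5351), (nat_lit 6359), (nat_lit 6358), (nat_lit 966), (nat_lit 497), (nat_lit 495), (nat_lit 3549), (nat_lit 3688), (nat_lit 1050), (nat_lit 4651), (nat_lit 1806)])) (.leaf .df)))) (.node (.node (.node (.leaf .df) (.leaf (.cyc (nat_lit 46) [(nat_lit 2676), (nat_lit 8768), (nat_lit 2676)]))) (.node (.leaf (.cyc (nat_lit 27) [(nat_lit 4237), (nat_lit 1448), (nat_lit 5581)])) (.leaf .df))) (.node (.node (.leaf (.cyc (nat_lit 28) [(nat_lit 484), (nat_lit 3131), (nat_lit 3130), (nat_lit 3131), (nat_lit 484)])) (.leaf .df)) (.node (.leaf (.cyc (nat_lit 28) [(nat_lit 2136), (nat_lit 5893), (nat_lit 4713), (nat_lit 5893), (nat_lit 2136)])) (.leaf .df))))) (.node (.node (.node (.node (.leaf .df) (.leaf (.cyc (nat_lit 21) [(nat_lit 2548), (nat_lit 7373), (nat_lit 6063), (nat_lit 7373), (nat_lit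 2548)]))) (.node (.leaf (.cyc (nat_lit 21) [(nat_lit 814), (nat_lit 401), (nat_lit 3330), (nat_lit 3847), (nat_lit 1243)])) (.leaf .df))) (.node (.node (.leaf (.cyc (nat_lit 30) [(nat_lit 175), (nat_lit 69), (nat_lit 2797), (nat_lit 69), (nat_lit 175)])) (.leaf .df)) (.node (.leaf (.cyc (nat_lit 21) [(nat_lit 1979), (nat_lit 6412), (nat_lit 6415), (nat_lit 6412), (nat_lit 1979)])) (.leaf .df)))) (.node (.node (.node (.leaf .df) (.leaf .df)) (.node (.leaf (.cyc (nat_lit 48) [(nat_lit 5261), (nat_lit 5075), (nat_lit 1634)])) (.leaf .df))) (.node (.node (.leaf (.cyc (nat_lit 73) [(nat_lit 3580), (nat_lit 4037), (nat_lit 182)])) (.leaf .df)) (.node (.leaf (.cyc (nat_lit 110) [(nat_lit 8140), (nat_lit 7390), (nat_lit 8140)])) (.leaf .df))))))))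
noncomputable def u5P011100 : BT Pf := .node u5P0111000 u5P0111001
noncomputable def u5P0111010 : BT Pf := (.node (.node (.node (.node (.node (.node (.node (.leaf .df) (.leaf (.cyc (nat_lit 15) [(nat_lit 1614), (nat_lit 1613), (nat_lit 2308)]))) (.node (.leaf (.cyc (nat_lit 17) [(nat_lit 762), (nat_lit 3443), (nat_lit 3423), (nat_lit 397), (nat_lit 3332), (nat_lit 3333), (nat_lit 3536), (nat_lit 3541), (nat_lit 3132), (nat_lit 401), (nat_lit 813)])) (.leaf .df))) (.node (.node (.leaf .df) (.leaf .df)) (.node (.leaf (.cyc (nat_lit 30) [(nat_lit 1673), (nat_lit 4387), (nat_lit 3526), (nat_lit 4387), (nat_lit 1673)])) (.leaf .df)))) (.node (.node (.node (.leaf .df) (.leaf (.cyc (nat_lit 28) [(nat_lit 2573), (nat_lit 9228), (nat_lit 9227), (nat_lit 9228), (nat_lit 2573)]))) (.node (.leaf (.cyc (nat_lit 34) [(nat_lit 1290), (nat_lit 4773), (nat_lit 4774), (nat_lit 4773), (nat_lit 1290)])) (.leaf .df))) (.node (.node (.leaf (.cyc (nat_lit 16) [(nat_lit 2990), (nat_lit 165), (nat_lit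 2869), (nat_lit 91), (nat_lit 226)])) (.leaf .df)) (.node (.leaf (.cyc (nat_lit 20) [(nat_lit 5405), (nat_lit 5100), (nat_lit 2008)])) (.leaf .df))))) (.node (.node (.node (.node (.leaf .df) (.leaf (.cyc (nat_lit 27) [(nat_lit 1826), (nat_lit 1825), (nat_lit 2440)]))) (.node (.leaf (.cyc (nat_lit 30) [(nat_lit 1051), (nat_lit 3688), (nat_lit 3549), (nat_lit 3688), (nat_lit 1051)])) (.leaf .df))) (.node (.node (.leaf .df) (.leaf .df)) (.node (.leaf (.cyc (nat_lit 41) [(nat_lit 1195), (nat_lit 4728), (nat_lit 1846)])) (.leaf .df)))) (.node (.node (.node (.leaf .df) (.leaf (.cyc (nat_lit 46) [(nat_lit 9773), (nat_lit 9764), (nat_lit 9773)]))) (.node (.leaf (.cyc (nat_lit 58) [(nat_lit 1496), (nat_lit 4423), (nat_lit 4421), (nat_lit 4146), (nat_lit 5598), (nat_lit 5606), (nat_lit 5598), (nat_lit 4146), (nat_lit 4421), (nat_lit 4423), (nat_lit 1496)])) (.leaf .df))) (.node (.node (.leaf (.cyc (nat_lit 82) [(nat_lit 3629), (nat_lit 3390), (nat_lit 3202), (nat_lit 3120), (nat_lit 3124),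 (nat_lit 311), (nat_lit 3245), (nat_lit 3243), (nat_lit 3229), (nat_lit 302), (nat_lit 3227)])) (.leaf .df)) (.node (.leaf (.cyc (nat_lit 26) [(nat_lit 6027), (nat_lit 4491), (nat_lit 4734), (nat_lit 5631), (nat_lit 2162)])) (.leaf .df)))))) (.node (.node (.node (.node (.node (.leaf .df) (.leaf (.cyc (nat_lit 46) [(nat_lit 2373), (nat_lit 6332), (nat_lit 2373)]))) (.node (.leaf (.cyc (nat_lit 46) [(nat_lit 939), (nat_lit 3533), (nat_lit 939)])) (.leaf .df))) (.node (.node (.leaf .df) (.leaf .df)) (.node (.leaf (.cyc (nat_lit 50) [(nat_lit 1761), (nat_lit 1004), (nat_lit 3606), (nat_lit 1004), (nat_lit 1761)])) (.leaf .df)))) (.node (.node (.node (.leaf .df) (.leaf (.cyc (nat_lit 19) [(nat_lit 8974), (nat_lit 8601), (nat_lit 8243), (nat_lit 8172), (nat_lit 2639)]))) (.node (.leaf (.cyc (nat_lit 48) [(nat_lit 739), (nat_lit 3940), (nat_lit 1391)])) (.leaf .df))) (.node (.node (.leaf (.cyc (nat_lit 46) [(nat_lit 404), (nat_lit 3017), (nat_lit 404)])) (.leaf .df)) (.node (.leaf (.cyc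 (nat_lit 58) [(nat_lit 7385), (nat_lit 2065), (nat_lit 5149), (nat_lit 3874), (nat_lit 3917), (nat_lit 722), (nat_lit 339), (nat_lit 3250), (nat_lit 693), (nat_lit 1309), (nat_lit 2093)])) (.leaf .df))))) (.node (.node (.node (.node (.leaf .df) (.leaf (.cyc (nat_lit 19) [(nat_lit 2505), (nat_lit 7029), (nat_lit 4934), (nat_lit 7029), (nat_lit 2505)]))) (.node (.leaf (.cyc (nat_lit 45) [(nat_lit 1166), (nat_lit 618), (nat_lit 3217), (nat_lit 618), (nat_lit 1166)])) (.leaf .df))) (.node (.node (.leaf (.cyc (nat_lit 47) [(nat_lit 2857), (nat_lit 39), (nat_lit 2803), (nat_lit 17), (nat_lit 59)])) (.leaf .df)) (.node (.leaf (.cyc (nat_lit 53) [(nat_lit 1931), (nat_lit 5001), (nat_lit 4731), (nat_lit 5001), (nat_lit 1931)])) (.leaf .df)))) (.node (.node (.node (.leaf .df) (.leaf .df)) (.node (.leaf (.cyc (nat_lit 20) [(nat_lit 5932), (nat_lit 1579), (nat_lit 1580)])) (.leaf .df))) (.node (.node (.leaf (.cyc (nat_lit 19) [(nat_lit 694), (nat_lit 325), (nat_lit 2949), (nat_lit 325), (nat_lit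 694)])) (.leaf .df)) (.node (.leaf (.cyc (nat_lit 16) [(nat_lit 2233), (nat_lit 5596), (nat_lit 4104), (nat_lit 5596), (nat_lit 2233)])) (.leaf .df))))))) (.node (.node (.node (.node (.node (.node (.leaf .df) (.leaf (.cyc (nat_lit 19) [(nat_lit 2340), (nat_lit 8342), (nat_lit 8344), (nat_lit 8342), (nat_lit 2340)]))) (.node (.leaf (.cyc (nat_lit 53) [(nat_lit 889), (nat_lit 450), (nat_lit 3074), (nat_lit 450), (nat_lit 889)])) (.leaf .df))) (.node (.node (.leaf .df) (.leaf .df)) (.node (.leaf (.cyc (nat_lit 49) [(nat_lit 5838), (nat_lit 4450), (nat_lit 1715)])) (.leaf .df)))) (.node (.node (.node (.leaf .df) (.leaf (.cyc (nat_lit 28) [(nat_lit 2607), (nat_lit 7923), (nat_lit 5706), (nat_lit 7923), (nat_lit 2607)]))) (.node (.leaf (.cyc (nat_lit 14) [(nat_lit 5293), (nat_lit 797), (nat_lit 3356), (nat_lit 438), (nat_lit 866)])) (.leaf .df))) (.node (.node (.leaf (.cyc (nat_lit 56) [(nat_lit 313), (nat_lit 3243), (nat_lit 3244), (nat_lit 3243), (nat_lit 313)])) (.leaf .df)) (.node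 (.leaf (.cyc (nat_lit 31) [(nat_lit 1273), (nat_lit 676), (nat_lit 674), (nat_lit 1270), (nat_lit 2049)])) (.leaf .df))))) (.node (.node (.node (.node (.leaf .df) (.leaf (.cyc (nat_lit 3) [(nat_lit 8875), (nat_lit 2175), (nat_lit 2176)]))) (.node (.leaf (.cyc (nat_lit 94) [(nat_lit 572), (nat_lit 3695), (nat_lit 1070), (nat_lit 4781), (nat_lit 3729), (nat_lit 601)])) (.leaf .df))) (.node (.node (.leaf .df) (.leaf .df)) (.node (.leaf (.cyc (nat_lit 26) [(nat_lit 1889), (nat_lit 1888), (nat_lit 6826), (nat_lit 1888), (nat_lit 1889)])) (.leaf .df)))) (.node (.node (.node (.leaf .df) (.leaf (.cyc (nat_lit 44) [(nat_lit 2726), (nat_lit 9651), (nat_lit 9654), (nat_lit 9651), (nat_lit 2726)]))) (.node (.leaf (.cyc (nat_lit 52) [(nat_lit 5800), (nat_lit 1538), (nat_lit 5805), (nat_lit 1538), (nat_lit 5800)])) (.leaf .df))) (.node (.node (.leaf (.cyc (nat_lit 15) [(nat_lit 286), (nat_lit 3206), (nat_lit 613)])) (.leaf .df)) (.node (.leaf (.cyc (nat_lit 110) [(nat_lit 7853), (nat_lit 1915),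 (nat_lit 1914)])) (.leaf .df)))))) (.node (.node (.node (.node (.node (.leaf .df) (.leaf (.cyc (nat_lit 23) [(nat_lit 8235), (nat_lit 8049), (nat_lit 2407)]))) (.node (.leaf (.cyc (nat_lit 50) [(nat_lit 3947), (nat_lit 3301), (nat_lit 3254), (nat_lit 518), (nat_lit 994)])) (.leaf .df))) (.node (.node (.leaf .df) (.leaf .df)) (.node (.leaf (.cyc (nat_lit 45) [(nat_lit 1079), (nat_lit 568), (nat_lit 3682), (nat_lit 1044), (nat_lit 1799)])) (.leaf .df)))) (.node (.node (.node (.leaf .df) (.leaf (.cyc (nat_lit 45) [(nat_lit 2668), (nat_lit 8567), (nat_lit 7617), (nat_lit 8567), (nat_lit 2668)]))) (.node (.leaf (.cyc (nat_lit 27) [(nat_lit 927), (nat_lit 4018), (nat_lit 1458)])) (.leaf .df))) (.node (.node (.leaf (.cyc (nat_lit 37) [(nat_lit 466), (nat_lit 464), (nat_lit 3499), (nat_lit 464), (nat_lit 466)])) (.leaf .df)) (.node (.leaf (.cyc (nat_lit 27) [(nat_lit 7358), (nat_lit 5336), (nat_lit 2127)])) (.leaf .df))))) (.node (.node (.node (.node (.leaf .df) (.leaf (.cyc (nat_lit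 46) [(nat_lit 8601), (nat_lit 8600), (nat_lit 2541)]))) (.node (.leaf (.cyc (nat_lit 126) [(nat_lit 4779), (nat_lit 1110), (nat_lit 4124), (nat_lit 4122), (nat_lit 800), (nat_lit 3977), (nat_lit 650), (nat_lit 651), (nat_lit 1233), (nat_lit 5037), (nat_lit 3831)])) (.leaf .df))) (.node (.node (.leaf (.cyc (nat_lit 12) [(nat_lit 2989), (nat_lit 110), (nat_lit 46), (nat_lit 44), (nat_lit 105)])) (.leaf .df)) (.node (.leaf (.cyc (nat_lit 25) [(nat_lit 1210), (nat_lit 3808), (nat_lit 3794), (nat_lit 4954), (nat_lit 1969)])) (.leaf .df)))) (.node (.node (.node (.leaf .df) (.leaf .df)) (.node (.leaf (.cyc (nat_lit 19) [(nat_lit 4522), (nat_lit 4520), (nat_lit 896), (nat_lit 894), (nat_lit 1624)])) (.leaf .df))) (.node (.node (.leaf (.cyc (nat_lit 50) [(nat_lit 3615), (nat_lit 3151), (nat_lit 3275), (nat_lit 3319), (nat_lit 777)])) (.leaf .df)) (.node (.leaf (.cyc (nat_lit 48) [(nat_lit 7979), (nat_lit 5815), (nat_lit 2274)])) (.leaf .df))))))))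
noncomputable def u5P0111011 : BT Pf := (.node (.node (.node (.node (.node (.node (.node (.leaf .df) (.leaf (.cyc (nat_lit 25) [(nat_lit 1977), (nat_lit 1195), (nat_lit 4306), (nat_lit 1636), (nat_lit 2325)]))) (.node (.leaf (.cyc (nat_lit 37) [(nat_lit 483), (nat_lit 3355), (nat_lit 3356), (nat_lit 3393), (nat_lit 852)])) (.leaf .df))) (.node (.node (.leaf .df) (.leaf .df)) (.node (.leaf (.cyc (nat_lit 23) [(nat_lit 6253), (nat_lit 1693), (nat_lit 1694)])) (.leaf .df)))) (.node (.node (.node (.leaf .df) (.leaf (.cyc (nat_lit 20) [(nat_lit 8620), (nat_lit 7660), (nat_lit 2590)]))) (.node (.leaf (.cyc (nat_lit 28) [(nat_lit 889), (nat_lit 4267), (nat_lit 4552), (nat_lit 4543), (nat_lit 1312)])) (.leaf .df))) (.node (.node (.leaf (.cyc (nat_lit 28) [(nat_lit 260), (nat_lit 2989), (nat_lit 2987), (nat_lit 2989), (nat_lit 260)])) (.leaf .df)) (.node (.leaf (.cyc (nat_lit 35) [(nat_lit 2029), (nat_lit 5099), (nat_lit 3852), (nat_lit 5099), (nat_lit 2029)])) (.leaf .df))))) (.node (.node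 (.node (.node (.leaf .df) (.leaf (.cyc (nat_lit 1) [(nat_lit 8813), (nat_lit 6738), (nat_lit 2411)]))) (.node (.leaf (.cyc (nat_lit 42) [(nat_lit 1076), (nat_lit 566), (nat_lit 265), (nat_lit 267), (nat_lit 572), (nat_lit 3707), (nat_lit 572), (nat_lit 267), (nat_lit 265), (nat_lit 566), (nat_lit 1076)])) (.leaf .df))) (.node (.node (.leaf .df) (.leaf .df)) (.node (.leaf (.cyc (nat_lit 85) [(nat_lit 6198), (nat_lit 1632), (nat_lit 5176), (nat_lit 742), (nat_lit 3296), (nat_lit 357), (nat_lit 3445), (nat_lit 3981), (nat_lit 5008), (nat_lit 5009), (nat_lit 6765)])) (.leaf .df)))) (.node (.node (.node (.leaf .df) (.leaf (.cyc (nat_lit 27) [(nat_lit 2713), (nat_lit 9164), (nat_lit 2713)]))) (.node (.leaf (.cyc (nat_lit 18) [(nat_lit 1523), (nat_lit 821), (nat_lit 3375), (nat_lit 821), (nat_lit 1523)])) (.leaf .df))) (.node (.node (.leaf (.cyc (nat_lit 20) [(nat_lit 264), (nat_lit 263), (nat_lit 561)])) (.leaf .df)) (.node (.leaf (.cyc (nat_lit 15) [(nat_lit 7434), (nat_lit 5973),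 (nat_lit 2182)])) (.leaf .df)))))) (.node (.node (.node (.node (.node (.leaf .df) (.leaf (.cyc (nat_lit 4) [(nat_lit 8557), (nat_lit 8397), (nat_lit 1718), (nat_lit 5311), (nat_lit 2120)]))) (.node (.leaf (.cyc (nat_lit 27) [(nat_lit 500), (nat_lit 499), (nat_lit 968)])) (.leaf .df))) (.node (.node (.leaf .df) (.leaf .df)) (.node (.leaf (.cyc (nat_lit 20) [(nat_lit 1776), (nat_lit 4577), (nat_lit 1776)])) (.leaf .df)))) (.node (.node (.node (.leaf .df) (.leaf (.cyc (nat_lit 24) [(nat_lit 2359), (nat_lit 2358), (nat_lit 8443), (nat_lit 8333), (nat_lit 2653)]))) (.node (.leaf (.cyc (nat_lit 55) [(nat_lit 1423), (nat_lit 1424), (nat_lit 5485), (nat_lit 1424), (nat_lit 1423)])) (.leaf .df))) (.node (.node (.leaf (.cyc (nat_lit 73) [(nat_lit 150), (nat_lit 3435)])) (.leaf .df)) (.node (.leaf (.cyc (nat_lit 53) [(nat_lit 2108), (nat_lit 1329), (nat_lit 4412), (nat_lit 1329), (nat_lit 2108)])) (.leaf .df))))) (.node (.node (.node (.node (.leaf .df) (.leaf (.cyc (nat_lit 27) [(nat_lit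 2524), (nat_lit 7228), (nat_lit 2524)]))) (.node (.leaf (.cyc (nat_lit 20) [(nat_lit 1206), (nat_lit 3806), (nat_lit 1206)])) (.leaf .df))) (.node (.node (.leaf (.cyc (nat_lit 23) [(nat_lit 58), (nat_lit 2846), (nat_lit 116)])) (.leaf .df)) (.node (.leaf (.cyc (nat_lit 110) [(nat_lit 7021), (nat_lit 6012), (nat_lit 7021)])) (.leaf .df)))) (.node (.node (.node (.leaf .df) (.leaf .df)) (.node (.leaf (.cyc (nat_lit 20) [(nat_lit 1604), (nat_lit 4255), (nat_lit 1604)])) (.leaf .df))) (.node (.node (.leaf (.cyc (nat_lit 107) [(nat_lit 3949), (nat_lit 663), (nat_lit 309), (nat_lit 307), (nat_lit 660), (nat_lit 3849), (nat_lit 660), (nat_lit 307), (nat_lit 309), (nat_lit 663), (nat_lit 3949)])) (.leaf .df)) (.node (.leaf (.cyc (nat_lit 44) [(nat_lit 2139), (nat_lit 5716), (nat_lit 1510), (nat_lit 1512), (nat_lit 2254)])) (.leaf .df))))))) (.node (.node (.node (.node (.node (.node (.leaf .df) (.leaf (.cyc (nat_lit 30) [(nat_lit 2355), (nat_lit 6280), (nat_lit 6278), (nat_lit 6280), (nat_lit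 2355)]))) (.node (.leaf (.cyc (nat_lit 19) [(nat_lit 511), (nat_lit 3400), (nat_lit 3674), (nat_lit 3496), (nat_lit 917)])) (.leaf .df))) (.node (.node (.leaf .df) (.leaf .df)) (.node (.leaf (.cyc (nat_lit 56) [(nat_lit 4991), (nat_lit 4997), (nat_lit 4479), (nat_lit 977), (nat_lit 1737)])) (.leaf .df)))) (.node (.node (.node (.leaf .df) (.leaf (.cyc (nat_lit 133) [(nat_lit 2624), (nat_lit 2252), (nat_lit 7572), (nat_lit 2120), (nat_lit 5310), (nat_lit 1702), (nat_lit 6282), (nat_lit 6113), (nat_lit 5913), (nat_lit 5916), (nat_lit 8158)]))) (.node (.leaf (.cyc (nat_lit 90) [(nat_lit 1356), (nat_lit 1355), (nat_lit 5357), (nat_lit 1355), (nat_lit 1356)])) (.leaf .df))) (.node (.node (.leaf (.cyc (nat_lit 6) [(nat_lit 363), (nat_lit 3299), (nat_lit 3298), (nat_lit 3299), (nat_lit 363)])) (.leaf .df)) (.node (.leaf (.cyc (nat_lit 28) [(nat_lit 2074), (nat_lit 1289), (nat_lit 3877), (nat_lit 1289), (nat_lit 2074)])) (.leaf .df))))) (.node (.node (.node (.node (.leaf .df) (.leaf (.cyc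 (nat_lit 46) [(nat_lit 7668), (nat_lit 7665), (nat_lit 2490)]))) (.node (.leaf (.cyc (nat_lit 31) [(nat_lit 604), (nat_lit 606), (nat_lit 4828), (nat_lit 4827), (nat_lit 1140)])) (.leaf .df))) (.node (.node (.leaf (.cyc (nat_lit 10) [(nat_lit 19), (nat_lit 2766), (nat_lit 2770)])) (.leaf .df)) (.node (.leaf (.cyc (nat_lit 20) [(nat_lit 6874), (nat_lit 6873), (nat_lit 1912)])) (.leaf .df)))) (.node (.node (.node (.leaf .df) (.leaf (.cyc (nat_lit 53) [(nat_lit 2739), (nat_lit 9664), (nat_lit 9666), (nat_lit 9664), (nat_lit 2739)]))) (.node (.leaf (.cyc (nat_lit 49) [(nat_lit 5201), (nat_lit 5059), (nat_lit 1562)])) (.leaf .df))) (.node (.node (.leaf (.cyc (nat_lit 41) [(nat_lit 647), (nat_lit 3261), (nat_lit 647)])) (.leaf .df)) (.node (.leaf (.cyc (nat_lit 62) [(nat_lit 7807), (nat_lit 6591), (nat_lit 6610), (nat_lit 6611), (nat_lit 2215)])) (.leaf .df)))))) (.node (.node (.node (.node (.node (.leaf .df) (.leaf (.cyc (nat_lit 47) [(nat_lit 6880), (nat_lit 6649), (nat_lit 1805),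 (nat_lit 1804), (nat_lit 2422)]))) (.node (.leaf (.cyc (nat_lit 45) [(nat_lit 1026), (nat_lit 536), (nat_lit 3156), (nat_lit 536), (nat_lit 1026)])) (.leaf .df))) (.node (.node (.leaf .df) (.leaf .df)) (.node (.leaf (.cyc (nat_lit 27) [(nat_lit 1064), (nat_lit 1063), (nat_lit 1822)])) (.leaf .df)))) (.node (.node (.node (.leaf .df) (.leaf (.cyc (nat_lit 164) [(nat_lit 9707), (nat_lit 9155), (nat_lit 8269), (nat_lit 8268), (nat_lit 1775), (nat_lit 1776), (nat_lit 8049), (nat_lit 2256), (nat_lit 6403), (nat_lit 7383), (nat_lit 7470), (nat_lit 2093), (nat_lit 7464), (nat_lit 7547), (nat_lit 7546), (nat_lit 8823), (nat_lit 2682)]))) (.node (.leaf (.cyc (nat_lit 20) [(nat_lit 4786), (nat_lit 4107), (nat_lit 1482)])) (.leaf .df))) (.node (.node (.leaf (.cyc (nat_lit 122) [(nat_lit 304), (nat_lit 128), (nat_lit 53), (nat_lit 55), (nat_lit 134), (nat_lit 3562), (nat_lit 134), (nat_lit 55), (nat_lit 53), (nat_lit 128), (nat_lit 304)])) (.leaf .df)) (.node (.leaf (.cyc (nat_lit 20) [(nat_lit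 1378), (nat_lit 1377), (nat_lit 2147)])) (.leaf .df))))) (.node (.node (.node (.node (.leaf .df) (.leaf (.cyc (nat_lit 19) [(nat_lit 2556), (nat_lit 7449), (nat_lit 5221), (nat_lit 7449), (nat_lit 2556)]))) (.node (.leaf (.cyc (nat_lit 26) [(nat_lit 1236), (nat_lit 5041), (nat_lit 5088), (nat_lit 5084), (nat_lit 1256)])) (.leaf .df))) (.node (.node (.leaf (.cyc (nat_lit 53) [(nat_lit 190), (nat_lit 74), (nat_lit 2790), (nat_lit 74), (nat_lit 190)])) (.leaf .df)) (.node (.leaf (.cyc (nat_lit 25) [(nat_lit 1985), (nat_lit 1984), (nat_lit 7147), (nat_lit 1984), (nat_lit 1985)])) (.leaf .df)))) (.node (.node (.node (.leaf .df) (.leaf .df)) (.node (.leaf (.cyc (nat_lit 27) [(nat_lit 5874), (nat_lit 5057), (nat_lit 1646)])) (.leaf .df))) (.node (.node (.leaf (.cyc (nat_lit 72) [(nat_lit 781), (nat_lit 4077)])) (.leaf .df)) (.node (.leaf (.cyc (nat_lit 26) [(nat_lit 2291), (nat_lit 2290), (nat_lit 8170), (nat_lit 2290), (nat_lit 2291)])) (.leaf .df))))))))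
noncomputable def u5P011101 : BT Pf := .node u5P0111010 u5P0111011
noncomputable def u5P01110 : BT Pf := .node u5P011100 u5P011101
noncomputable def u5P0111100 : BT Pf := (.node (.node (.node (.node (.node (.node (.node (.leaf .df) (.leaf (.cyc (nat_lit 31) [(nat_lit 7505), (nat_lit 2095), (nat_lit 5586), (nat_lit 1599), (nat_lit 2302)]))) (.node (.leaf (.cyc (nat_lit 2) [(nat_lit 4125), (nat_lit 585), (nat_lit 272), (nat_lit 273), (nat_lit 588)])) (.leaf .df))) (.node (.node (.leaf .df) (.leaf .df)) (.node (.leaf (.cyc (nat_lit 6) [(nat_lit 1664), (nat_lit 920), (nat_lit 3502), (nat_lit 920), (nat_lit 1664)])) (.leaf .df)))) (.node (.node (.node (.leaf .df) (.leaf (.cyc (nat_lit 30) [(nat_lit 2572), (nat_lit 2111), (nat_lit 5271), (nat_lit 2111), (nat_lit 2572)]))) (.node (.leaf (.cyc (nat_lit 20) [(nat_lit 948), (nat_lit 3872), (nat_lit 1281)])) (.leaf .df))) (.node (.node (.leaf (.cyc (nat_lit 85) [(nat_lit 3023), (nat_lit 176), (nat_lit 70), (nat_lit 2795), (nat_lit 2794),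 (nat_lit 10), (nat_lit 2769), (nat_lit 37), (nat_lit 2827), (nat_lit 85), (nat_lit 216)])) (.leaf .df)) (.node (.leaf (.cyc (nat_lit 120) [(nat_lit 7138), (nat_lit 6602), (nat_lit 1805), (nat_lit 1049), (nat_lit 4475), (nat_lit 5863), (nat_lit 6682), (nat_lit 6684), (nat_lit 6354), (nat_lit 6429), (nat_lit 2001)])) (.leaf .df))))) (.node (.node (.node (.node (.leaf .df) (.leaf (.cyc (nat_lit 20) [(nat_lit 7100), (nat_lit 7065), (nat_lit 2436)]))) (.node (.leaf (.cyc (nat_lit 141) [(nat_lit 1043), (nat_lit 1044), (nat_lit 4637), (nat_lit 4636), (nat_lit 3685), (nat_lit 498), (nat_lit 3124), (nat_lit 3285), (nat_lit 3122), (nat_lit 499), (nat_lit 969)])) (.leaf .df))) (.node (.node (.leaf .df) (.leaf .df)) (.node (.leaf (.cyc (nat_lit 19) [(nat_lit 1839), (nat_lit 1077), (nat_lit 3705), (nat_lit 1077), (nat_lit 1839)])) (.leaf .df)))) (.node (.node (.node (.leaf .df) (.leaf (.cyc (nat_lit 18) [(nat_lit 2693), (nat_lit 9015), (nat_lit 8943), (nat_lit 9015), (nat_lit 2693)]))) (.node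 (.leaf (.cyc (nat_lit 47) [(nat_lit 1491), (nat_lit 5034), (nat_lit 5035), (nat_lit 5034), (nat_lit 1491)])) (.leaf .df))) (.node (.node (.leaf (.cyc (nat_lit 28) [(nat_lit 526), (nat_lit 3507), (nat_lit 3512), (nat_lit 3507), (nat_lit 526)])) (.leaf .df)) (.node (.leaf (.cyc (nat_lit 21) [(nat_lit 2159), (nat_lit 7698), (nat_lit 7702), (nat_lit 7698), (nat_lit 2159)])) (.leaf .df)))))) (.node (.node (.node (.node (.node (.leaf .df) (.leaf (.cyc (nat_lit 49) [(nat_lit 2230), (nat_lit 6312), (nat_lit 2369)]))) (.node (.leaf (.cyc (nat_lit 19) [(nat_lit 520), (nat_lit 240), (nat_lit 3107), (nat_lit 3522), (nat_lit 928)])) (.leaf .df))) (.node (.node (.leaf .df) (.leaf .df)) (.node (.leaf (.cyc (nat_lit 48) [(nat_lit 1753), (nat_lit 4519), (nat_lit 1753)])) (.leaf .df)))) (.node (.node (.node (.leaf .df) (.leaf (.cyc (nat_lit 46) [(nat_lit 9056), (nat_lit 8162), (nat_lit 2636)]))) (.node (.leaf (.cyc (nat_lit 28) [(nat_lit 1383), (nat_lit 732), (nat_lit 3271), (nat_lit 732), (nat_lit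 1383)])) (.leaf .df))) (.node (.node (.leaf (.cyc (nat_lit 50) [(nat_lit 393), (nat_lit 2981), (nat_lit 2871), (nat_lit 2981), (nat_lit 393)])) (.leaf .df)) (.node (.leaf (.cyc (nat_lit 46) [(nat_lit 6749), (nat_lit 5214), (nat_lit 2089)])) (.leaf .df))))) (.node (.node (.node (.node (.leaf .df) (.leaf (.cyc (nat_lit 16) [(nat_lit 8400), (nat_lit 8451), (nat_lit 8452), (nat_lit 6948), (nat_lit 2501)]))) (.node (.leaf (.cyc (nat_lit 16) [(nat_lit 1162), (nat_lit 616), (nat_lit 3207), (nat_lit 616), (nat_lit 1162)])) (.leaf .df))) (.node (.node (.leaf (.cyc (nat_lit 21) [(nat_lit 16), (nat_lit 17), (nat_lit 2775), (nat_lit 2774), (nat_lit 48)])) (.leaf .df)) (.node (.leaf (.cyc (nat_lit 31) [(nat_lit 6712), (nat_lit 6715), (nat_lit 1164), (nat_lit 4889), (nat_lit 1928)])) (.leaf .df)))) (.node (.node (.node (.leaf .df) (.leaf .df)) (.node (.leaf (.cyc (nat_lit 18) [(nat_lit 1058), (nat_lit 557), (nat_lit 559), (nat_lit 4217), (nat_lit 1574)])) (.leaf .df))) (.node (.node (.leaf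 (.cyc (nat_lit 50) [(nat_lit 678), (nat_lit 3273), (nat_lit 3293), (nat_lit 3273), (nat_lit 678)])) (.leaf .df)) (.node (.leaf (.cyc (nat_lit 20) [(nat_lit 1470), (nat_lit 1469), (nat_lit 2228)])) (.leaf .df))))))) (.node (.node (.node (.node (.node (.node (.leaf .df) (.leaf (.cyc (nat_lit 20) [(nat_lit 2337), (nat_lit 6139), (nat_lit 2337)]))) (.node (.leaf (.cyc (nat_lit 43) [(nat_lit 879), (nat_lit 880), (nat_lit 4253), (nat_lit 880), (nat_lit 879)])) (.leaf .df))) (.node (.node (.leaf .df) (.leaf .df)) (.node (.leaf (.cyc (nat_lit 24) [(nat_lit 1709), (nat_lit 6294), (nat_lit 6298), (nat_lit 6294), (nat_lit 1709)])) (.leaf .df)))) (.node (.node (.node (.leaf .df) (.leaf (.cyc (nat_lit 56) [(nat_lit 2604), (nat_lit 7881), (nat_lit 7145), (nat_lit 7881), (nat_lit 2604)]))) (.node (.leaf (.cyc (nat_lit 17) [(nat_lit 5276), (nat_lit 754), (nat_lit 3303), (nat_lit 354), (nat_lit 2960), (nat_lit 3438), (nat_lit 2924), (nat_lit 274), (nat_lit 590), (nat_lit 1118), (nat_lit 4953)]))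 (.leaf .df))) (.node (.node (.leaf (.cyc (nat_lit 20) [(nat_lit 304), (nat_lit 2942), (nat_lit 304)])) (.leaf .df)) (.node (.leaf (.cyc (nat_lit 41) [(nat_lit 2044), (nat_lit 5307), (nat_lit 2044)])) (.leaf .df))))) (.node (.node (.node (.node (.leaf .df) (.leaf (.cyc (nat_lit 95) [(nat_lit 2470), (nat_lit 6778), (nat_lit 4774), (nat_lit 1108), (nat_lit 584), (nat_lit 3193), (nat_lit 585), (nat_lit 1109), (nat_lit 4776), (nat_lit 1417), (nat_lit 2179)]))) (.node (.leaf (.cyc (nat_lit 30) [(nat_lit 1106), (nat_lit 1105), (nat_lit 4765), (nat_lit 1105), (nat_lit 1106)])) (.leaf .df))) (.node (.node (.leaf .df) (.leaf .df)) (.node (.leaf (.cyc (nat_lit 47) [(nat_lit 1885), (nat_lit 1884), (nat_lit 6811), (nat_lit 1884), (nat_lit 1885)])) (.leaf .df)))) (.node (.node (.node (.leaf .df) (.leaf (.cyc (nat_lit 56) [(nat_lit 2723), (nat_lit 9309), (nat_lit 7656), (nat_lit 9309), (nat_lit 2723)]))) (.node (.leaf (.cyc (nat_lit 51) [(nat_lit 1027), (nat_lit 4119), (nat_lit 407), (nat_lit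 3025), (nat_lit 182), (nat_lit 4064), (nat_lit 230), (nat_lit 229), (nat_lit 502), (nat_lit 4160), (nat_lit 1533)])) (.leaf .df))) (.node (.node (.leaf (.cyc (nat_lit 31) [(nat_lit 343), (nat_lit 142), (nat_lit 2926), (nat_lit 277), (nat_lit 599)])) (.leaf .df)) (.node (.leaf (.cyc (nat_lit 16) [(nat_lit 2195), (nat_lit 6493), (nat_lit 4863), (nat_lit 6493), (nat_lit 2195)])) (.leaf .df)))))) (.node (.node (.node (.node (.node (.leaf .df) (.leaf (.cyc (nat_lit 62) [(nat_lit 1773), (nat_lit 1016), (nat_lit 1015), (nat_lit 1771), (nat_lit 2403)]))) (.node (.leaf (.cyc (nat_lit 26) [(nat_lit 883), (nat_lit 447), (nat_lit 3135), (nat_lit 512), (nat_lit 985)])) (.leaf .df))) (.node (.node (.leaf .df) (.leaf .df)) (.node (.leaf (.cyc (nat_lit 35) [(nat_lit 1038), (nat_lit 546), (nat_lit 545), (nat_lit 1037), (nat_lit 1793)])) (.leaf .df)))) (.node (.node (.node (.leaf .df) (.leaf (.cyc (nat_lit 30) [(nat_lit 2626), (nat_lit 8506), (nat_lit 2375), (nat_lit 2374), (nat_lit 2664)]))) (.node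 (.leaf (.cyc (nat_lit 27) [(nat_lit 779), (nat_lit 778), (nat_lit 1450)])) (.leaf .df))) (.node (.node (.leaf (.cyc (nat_lit 21) [(nat_lit 443), (nat_lit 196), (nat_lit 2913), (nat_lit 246), (nat_lit 3485)])) (.leaf .df)) (.node (.leaf (.cyc (nat_lit 30) [(nat_lit 1800), (nat_lit 5318), (nat_lit 1346), (nat_lit 1345), (nat_lit 2122)])) (.leaf .df))))) (.node (.node (.node (.node (.leaf .df) (.leaf (.cyc (nat_lit 47) [(nat_lit 2535), (nat_lit 7583), (nat_lit 7580), (nat_lit 7583), (nat_lit 2535)]))) (.node (.leaf (.cyc (nat_lit 62) [(nat_lit 1226), (nat_lit 646), (nat_lit 3260), (nat_lit 646), (nat_lit 1226)])) (.leaf .df))) (.node (.node (.leaf (.cyc (nat_lit 44) [(nat_lit 162), (nat_lit 65), (nat_lit 2801), (nat_lit 65), (nat_lit 162)])) (.leaf .df)) (.node (.leaf (.cyc (nat_lit 21) [(nat_lit 1966), (nat_lit 1187), (nat_lit 3840), (nat_lit 1187), (nat_lit 1966)])) (.leaf .df)))) (.node (.node (.node (.leaf .df) (.leaf .df)) (.node (.leaf (.cyc (nat_lit 34) [(nat_lit 1618), (nat_lit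 4344), (nat_lit 4347), (nat_lit 4344), (nat_lit 1618)])) (.leaf .df))) (.node (.node (.leaf (.cyc (nat_lit 20) [(nat_lit 3631), (nat_lit 3341), (nat_lit 767)])) (.leaf .df)) (.node (.leaf (.cyc (nat_lit 89) [(nat_lit 1764), (nat_lit 4883), (nat_lit 4891), (nat_lit 1924), (nat_lit 6927), (nat_lit 5133), (nat_lit 5134), (nat_lit 5337), (nat_lit 2129), (nat_lit 7989), (nat_lit 8093)])) (.leaf .df))))))))
noncomputable def u5P0111101 : BT Pf := (.node (.node (.node (.node (.node (.node (.node (.leaf .df) (.leaf (.cyc (nat_lit 27) [(nat_lit 2109), (nat_lit 6094), (nat_lit 2322)]))) (.node (.leaf (.cyc (nat_lit 117) [(nat_lit 4169), (nat_lit 845), (nat_lit 4187), (nat_lit 845), (nat_lit 4169)])) (.leaf .df))) (.node (.node (.leaf .df) (.leaf .df)) (.node (.leaf (.cyc (nat_lit 20) [(nat_lit 1333), (nat_lit 4396), (nat_lit 1689)])) (.leaf .df)))) (.node (.node (.node (.leaf .df) (.leaf (.cyc (nat_lit 30) [(nat_lit 2584), (nat_lit 8807), (nat_lit 8805), (nat_lit 8807), (nat_lit 2584)])))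 (.node (.leaf (.cyc (nat_lit 63) [(nat_lit 1304), (nat_lit 4269), (nat_lit 4445), (nat_lit 4439), (nat_lit 1307)])) (.leaf .df))) (.node (.node (.leaf (.cyc (nat_lit 90) [(nat_lit 108), (nat_lit 107), (nat_lit 3165), (nat_lit 107), (nat_lit 108)])) (.leaf .df)) (.node (.leaf (.cyc (nat_lit 24) [(nat_lit 1397), (nat_lit 739), (nat_lit 5065), (nat_lit 5096), (nat_lit 2023)])) (.leaf .df))))) (.node (.node (.node (.node (.leaf .df) (.leaf (.cyc (nat_lit 23) [(nat_lit 2429), (nat_lit 6700), (nat_lit 2453)]))) (.node (.leaf (.cyc (nat_lit 70) [(nat_lit 4381), (nat_lit 932), (nat_lit 4389), (nat_lit 4586), (nat_lit 4699), (nat_lit 1067), (nat_lit 562), (nat_lit 3184), (nat_lit 563), (nat_lit 1068), (nat_lit 4701)])) (.leaf .df))) (.node (.node (.leaf .df) (.leaf .df)) (.node (.leaf (.cyc (nat_lit 6) [(nat_lit 1315), (nat_lit 700), (nat_lit 3719), (nat_lit 1100), (nat_lit 1862)])) (.leaf .df)))) (.node (.node (.node (.leaf .df) (.leaf (.cyc (nat_lit 28) [(nat_lit 2709), (nat_lit 9127),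 (nat_lit 8430), (nat_lit 9127), (nat_lit 2709)]))) (.node (.leaf (.cyc (nat_lit 20) [(nat_lit 820), (nat_lit 819), (nat_lit 1518)])) (.leaf .df))) (.node (.node (.leaf (.cyc (nat_lit 112) [(nat_lit 3672), (nat_lit 3593), (nat_lit 3672)])) (.leaf .df)) (.node (.leaf (.cyc (nat_lit 35) [(nat_lit 2175), (nat_lit 7425), (nat_lit 7427), (nat_lit 7425), (nat_lit 2175)])) (.leaf .df)))))) (.node (.node (.node (.node (.node (.leaf .df) (.leaf (.cyc (nat_lit 34) [(nat_lit 2385), (nat_lit 2383), (nat_lit 8534), (nat_lit 2383), (nat_lit 2385)]))) (.node (.leaf (.cyc (nat_lit 37) [(nat_lit 962), (nat_lit 4110), (nat_lit 4111), (nat_lit 4110), (nat_lit 962)])) (.leaf .df))) (.node (.node (.leaf .df) (.leaf .df)) (.node (.leaf (.cyc (nat_lit 73) [(nat_lit 1704), (nat_lit 6492)])) (.leaf .df)))) (.node (.node (.node (.leaf .df) (.leaf (.cyc (nat_lit 61) [(nat_lit 9565), (nat_lit 2649), (nat_lit 8610), (nat_lit 2384), (nat_lit 2385), (nat_lit 8541), (nat_lit 7269), (nat_lit 5641), (nat_lit 5643),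 (nat_lit 1857), (nat_lit 2459)]))) (.node (.leaf (.cyc (nat_lit 20) [(nat_lit 756), (nat_lit 755), (nat_lit 1417)])) (.leaf .df))) (.node (.node (.leaf (.cyc (nat_lit 102) [(nat_lit 374), (nat_lit 376), (nat_lit 3420), (nat_lit 376), (nat_lit 374)])) (.leaf .df)) (.node (.leaf (.cyc (nat_lit 45) [(nat_lit 1326), (nat_lit 704), (nat_lit 702), (nat_lit 1322), (nat_lit 2104)])) (.leaf .df))))) (.node (.node (.node (.node (.leaf .df) (.leaf (.cyc (nat_lit 62) [(nat_lit 7880), (nat_lit 7850), (nat_lit 7670), (nat_lit 7673), (nat_lit 2518)]))) (.node (.leaf (.cyc (nat_lit 88) [(nat_lit 4954), (nat_lit 1191), (nat_lit 4957), (nat_lit 1091), (nat_lit 1090)])) (.leaf .df))) (.node (.node (.leaf (.cyc (nat_lit 55) [(nat_lit 100), (nat_lit 101), (nat_lit 2909), (nat_lit 101), (nat_lit 100)])) (.leaf .df)) (.node (.leaf (.cyc (nat_lit 56) [(nat_lit 6044), (nat_lit 6045), (nat_lit 4980), (nat_lit 4917), (nat_lit 1945)])) (.leaf .df)))) (.node (.node (.node (.leaf .df) (.leaf .df)) (.node (.leaf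 (.cyc (nat_lit 37) [(nat_lit 1226), (nat_lit 1224), (nat_lit 5892), (nat_lit 5853), (nat_lit 1598)])) (.leaf .df))) (.node (.node (.leaf (.cyc (nat_lit 93) [(nat_lit 734), (nat_lit 3280), (nat_lit 344), (nat_lit 2953), (nat_lit 3565), (nat_lit 316), (nat_lit 3569), (nat_lit 3287), (nat_lit 612), (nat_lit 3888), (nat_lit 3887)])) (.leaf .df)) (.node (.leaf (.cyc (nat_lit 44) [(nat_lit 2249), (nat_lit 5683), (nat_lit 4679), (nat_lit 5683), (nat_lit 2249)])) (.leaf .df))))))) (.node (.node (.node (.node (.node (.node (.leaf .df) (.leaf (.cyc (nat_lit 20) [(nat_lit 1677), (nat_lit 1676), (nat_lit 2352)]))) (.node (.leaf (.cyc (nat_lit 108) [(nat_lit 472), (nat_lit 3096), (nat_lit 212), (nat_lit 83), (nat_lit 2814), (nat_lit 30), (nat_lit 29), (nat_lit 81), (nat_lit 206), (nat_lit 460), (nat_lit 4317)])) (.leaf .df))) (.node (.node (.leaf .df) (.leaf .df)) (.node (.leaf (.cyc (nat_lit 115) [(nat_lit 1359), (nat_lit 1358), (nat_lit 6365), (nat_lit 1358), (nat_lit 1359)])) (.leaf .df))))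 (.node (.node (.node (.leaf .df) (.leaf (.cyc (nat_lit 45) [(nat_lit 2620), (nat_lit 2248), (nat_lit 5681), (nat_lit 2248), (nat_lit 2620)]))) (.node (.leaf (.cyc (nat_lit 110) [(nat_lit 5341), (nat_lit 4885), (nat_lit 5341)])) (.leaf .df))) (.node (.node (.leaf (.cyc (nat_lit 105) [(nat_lit 3275), (nat_lit 3021), (nat_lit 3275)])) (.leaf .df)) (.node (.leaf (.cyc (nat_lit 4) [(nat_lit 7389), (nat_lit 6280), (nat_lit 6222), (nat_lit 6280), (nat_lit 7389)])) (.leaf .df))))) (.node (.node (.node (.node (.leaf .df) (.leaf (.cyc (nat_lit 19) [(nat_lit 2347), (nat_lit 6171), (nat_lit 1774), (nat_lit 6836), (nat_lit 2486)]))) (.node (.leaf (.cyc (nat_lit 15) [(nat_lit 602), (nat_lit 3736), (nat_lit 1130)])) (.leaf .df))) (.node (.node (.leaf (.pin (nat_lit 33) [(nat_lit 2), (nat_lit 24)] [(nat_lit 24), (nat_lit 2)])) (.leaf .df)) (.node (.leaf (.cyc (nat_lit 41) [(nat_lit 1907), (nat_lit 4843), (nat_lit 1907)])) (.leaf .df)))) (.node (.node (.node (.leaf .df) (.leaf (.cyc (nat_lit 41)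 [(nat_lit 2736), (nat_lit 9494), (nat_lit 2736)]))) (.node (.leaf (.cyc (nat_lit 46) [(nat_lit 1554), (nat_lit 4182), (nat_lit 1554)])) (.leaf .df))) (.node (.node (.leaf (.cyc (nat_lit 56) [(nat_lit 638), (nat_lit 3802), (nat_lit 3803), (nat_lit 3802), (nat_lit 638)])) (.leaf .df)) (.node (.leaf (.cyc (nat_lit 47) [(nat_lit 2211), (nat_lit 2210), (nat_lit 7899), (nat_lit 2210), (nat_lit 2211)])) (.leaf .df)))))) (.node (.node (.node (.node (.node (.leaf .df) (.leaf (.cyc (nat_lit 54) [(nat_lit 2418), (nat_lit 1794), (nat_lit 1037), (nat_lit 4012), (nat_lit 4829), (nat_lit 6473), (nat_lit 6544), (nat_lit 6545), (nat_lit 7611), (nat_lit 7613), (nat_lit 7612)]))) (.node (.leaf (.cyc (nat_lit 105) [(nat_lit 4571), (nat_lit 4508), (nat_lit 4571)])) (.leaf .df))) (.node (.node (.leaf .df) (.leaf .df)) (.node (.leaf (.cyc (nat_lit 50) [(nat_lit 1377), (nat_lit 729), (nat_lit 728), (nat_lit 4681), (nat_lit 1813)])) (.leaf .df)))) (.node (.node (.node (.leaf .df) (.leaf (.cyc (nat_lit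 44) [(nat_lit 9091), (nat_lit 9067), (nat_lit 8676), (nat_lit 2452), (nat_lit 2679)]))) (.node (.leaf (.cyc (nat_lit 46) [(nat_lit 816), (nat_lit 4103), (nat_lit 1476)])) (.leaf .df))) (.node (.node (.leaf (.cyc (nat_lit 18) [(nat_lit 496), (nat_lit 3117), (nat_lit 3000), (nat_lit 3117), (nat_lit 496)])) (.leaf .df)) (.node (.leaf (.cyc (nat_lit 40) [(nat_lit 7642), (nat_lit 5388), (nat_lit 7642)])) (.leaf .df))))) (.node (.node (.node (.node (.leaf .df) (.leaf (.cyc (nat_lit 34) [(nat_lit 2552), (nat_lit 2071), (nat_lit 5168), (nat_lit 2071), (nat_lit 2552)]))) (.node (.leaf (.cyc (nat_lit 26) [(nat_lit 1248), (nat_lit 662), (nat_lit 3241), (nat_lit 662), (nat_lit 1248)])) (.leaf .df))) (.node (.node (.leaf (.cyc (nat_lit 80) [(nat_lit 122), (nat_lit 2873), (nat_lit 3037), (nat_lit 173), (nat_lit 175)])) (.leaf .df)) (.node (.leaf (.cyc (nat_lit 56) [(nat_lit 1981), (nat_lit 1198), (nat_lit 3800), (nat_lit 1198), (nat_lit 1981)])) (.leaf .df)))) (.node (.node (.node (.leaf .df)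 (.leaf .df)) (.node (.leaf (.cyc (nat_lit 62) [(nat_lit 1639), (nat_lit 5076), (nat_lit 5074), (nat_lit 5076), (nat_lit 1639)])) (.leaf .df))) (.node (.node (.leaf (.cyc (nat_lit 72) [(nat_lit 412), (nat_lit 4052)])) (.leaf .df)) (.node (.leaf (.cyc (nat_lit 48) [(nat_lit 1573), (nat_lit 5900), (nat_lit 2287)])) (.leaf .df))))))))
noncomputable def u5P011110 : BT Pf := .node u5P0111100 u5P0111101
noncomputable def u5P0111110 : BT Pf := (.node (.node (.node (.node (.node (.node (.node (.leaf .df) (.leaf (.cyc (nat_lit 16) [(nat_lit 2285), (nat_lit 6362), (nat_lit 1755), (nat_lit 6436), (nat_lit 2313)]))) (.node (.leaf (.cyc (nat_lit 47) [(nat_lit 825), (nat_lit 4120), (nat_lit 3622), (nat_lit 4120), (nat_lit 825)])) (.leaf .df))) (.node (.node (.leaf .df) (.leaf .df)) (.node (.leaf (.cyc (nat_lit 107) [(nat_lit 1678), (nat_lit 933), (nat_lit 4387), (nat_lit 930), (nat_lit 480), (nat_lit 3103), (nat_lit 411), (nat_lit 838), (nat_lit 4172), (nat_lit 1517), (nat_lit 5725)])) (.leaf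 .df)))) (.node (.node (.node (.leaf .df) (.leaf (.cyc (nat_lit 28) [(nat_lit 2379), (nat_lit 6381), (nat_lit 1845), (nat_lit 2453), (nat_lit 9274)]))) (.node (.leaf (.cyc (nat_lit 0) [(nat_lit 1298), (nat_lit 1299), (nat_lit 5181), (nat_lit 1299), (nat_lit 1298)])) (.leaf .df))) (.node (.node (.leaf (.cyc (nat_lit 16) [(nat_lit 3075), (nat_lit 191), (nat_lit 2875), (nat_lit 97), (nat_lit 234)])) (.leaf .df)) (.node (.leaf (.cyc (nat_lit 50) [(nat_lit 2013), (nat_lit 1236), (nat_lit 3830), (nat_lit 1236), (nat_lit 2013)])) (.leaf .df))))) (.node (.node (.node (.node (.leaf .df) (.leaf (.cyc (nat_lit 28) [(nat_lit 2443), (nat_lit 6674), (nat_lit 5861), (nat_lit 6674), (nat_lit 2443)]))) (.node (.leaf (.cyc (nat_lit 133) [(nat_lit 4669), (nat_lit 559), (nat_lit 261), (nat_lit 2989), (nat_lit 2990), (nat_lit 105), (nat_lit 2841), (nat_lit 2844), (nat_lit 113), (nat_lit 270), (nat_lit 578)])) (.leaf .df))) (.node (.node (.leaf .df) (.leaf .df)) (.node (.leaf (.cyc (nat_lit 113) [(nat_lit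 6420), (nat_lit 6716)])) (.leaf .df)))) (.node (.node (.node (.leaf .df) (.leaf (.cyc (nat_lit 62) [(nat_lit 2516), (nat_lit 1989), (nat_lit 1988), (nat_lit 9040), (nat_lit 2700)]))) (.node (.leaf (.cyc (nat_lit 49) [(nat_lit 1235), (nat_lit 4368), (nat_lit 1504)])) (.leaf .df))) (.node (.node (.leaf (.cyc (nat_lit 124) [(nat_lit 551), (nat_lit 3644), (nat_lit 3418), (nat_lit 215), (nat_lit 213), (nat_lit 475)])) (.leaf .df)) (.node (.leaf (.cyc (nat_lit 56) [(nat_lit 6580), (nat_lit 6180), (nat_lit 1401), (nat_lit 1402), (nat_lit 2167)])) (.leaf .df)))))) (.node (.node (.node (.node (.node (.leaf .df) (.leaf (.cyc (nat_lit 133) [(nat_lit 8509), (nat_lit 8485), (nat_lit 7568), (nat_lit 6350), (nat_lit 6348), (nat_lit 6338), (nat_lit 6335), (nat_lit 4994), (nat_lit 4703), (nat_lit 1085), (nat_lit 1852)]))) (.node (.leaf (.cyc (nat_lit 56) [(nat_lit 944), (nat_lit 3536), (nat_lit 3421), (nat_lit 3536), (nat_lit 944)])) (.leaf .df))) (.node (.node (.leaf .df) (.leaf .df)) (.node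 (.leaf (.cyc (nat_lit 149) [(nat_lit 1192), (nat_lit 3836), (nat_lit 1237), (nat_lit 5875), (nat_lit 5874), (nat_lit 6459), (nat_lit 1767), (nat_lit 5767), (nat_lit 5638), (nat_lit 5984), (nat_lit 5983)])) (.leaf .df)))) (.node (.node (.node (.leaf .df) (.leaf (.cyc (nat_lit 54) [(nat_lit 2642), (nat_lit 2296), (nat_lit 5946), (nat_lit 5222), (nat_lit 5227), (nat_lit 6751), (nat_lit 2461), (nat_lit 9369), (nat_lit 9367), (nat_lit 9223), (nat_lit 9220)]))) (.node (.leaf (.cyc (nat_lit 16) [(nat_lit 1405), (nat_lit 3948), (nat_lit 3502), (nat_lit 3948), (nat_lit 1405)])) (.leaf .df))) (.node (.node (.leaf (.cyc (nat_lit 56) [(nat_lit 282), (nat_lit 120), (nat_lit 2873), (nat_lit 183), (nat_lit 423)])) (.leaf .df)) (.node (.leaf (.cyc (nat_lit 130) [(nat_lit 7484), (nat_lit 1759), (nat_lit 6576), (nat_lit 6574), (nat_lit 7062)])) (.leaf .df))))) (.node (.node (.node (.node (.leaf .df) (.leaf (.cyc (nat_lit 23) [(nat_lit 9021), (nat_lit 2510), (nat_lit 2511)]))) (.node (.leaf (.cyc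 (nat_lit 46) [(nat_lit 1173), (nat_lit 3984), (nat_lit 1173)])) (.leaf .df))) (.node (.node (.leaf (.cyc (nat_lit 48) [(nat_lit 78), (nat_lit 2785), (nat_lit 78)])) (.leaf .df)) (.node (.leaf (.cyc (nat_lit 5) [(nat_lit 6972), (nat_lit 1919), (nat_lit 1147), (nat_lit 4338), (nat_lit 1665)])) (.leaf .df)))) (.node (.node (.node (.leaf .df) (.leaf .df)) (.node (.leaf (.cyc (nat_lit 16) [(nat_lit 1588), (nat_lit 868), (nat_lit 3458), (nat_lit 868), (nat_lit 1588)])) (.leaf .df))) (.node (.node (.leaf (.cyc (nat_lit 37) [(nat_lit 711), (nat_lit 333), (nat_lit 3449), (nat_lit 333), (nat_lit 711)])) (.leaf .df)) (.node (.leaf (.cyc (nat_lit 110) [(nat_lit 7997), (nat_lit 6280), (nat_lit 6220)])) (.leaf .df))))))) (.node (.node (.node (.node (.node (.node (.leaf .df) (.leaf (.cyc (nat_lit 34) [(nat_lit 2344), (nat_lit 2343), (nat_lit 8379), (nat_lit 2343), (nat_lit 2344)]))) (.node (.leaf (.cyc (nat_lit 38) [(nat_lit 853), (nat_lit 3674), (nat_lit 3412), (nat_lit 3088), (nat_lit 3075),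 (nat_lit 200), (nat_lit 199), (nat_lit 3072), (nat_lit 3079), (nat_lit 453), (nat_lit 895)])) (.leaf .df))) (.node (.node (.leaf .df) (.leaf .df)) (.node (.leaf (.cyc (nat_lit 48) [(nat_lit 1723), (nat_lit 4460), (nat_lit 1723)])) (.leaf .df)))) (.node (.node (.node (.leaf .df) (.leaf (.cyc (nat_lit 22) [(nat_lit 9404), (nat_lit 8206), (nat_lit 8205), (nat_lit 2172), (nat_lit 5449), (nat_lit 2173), (nat_lit 7969), (nat_lit 2229), (nat_lit 2228), (nat_lit 2609), (nat_lit 9399)]))) (.node (.leaf (.cyc (nat_lit 37) [(nat_lit 5198), (nat_lit 5194), (nat_lit 5197), (nat_lit 4407), (nat_lit 1343)])) (.leaf .df))) (.node (.node (.leaf (.cyc (nat_lit 23) [(nat_lit 139), (nat_lit 137), (nat_lit 330)])) (.leaf .df)) (.node (.leaf (.cyc (nat_lit 165) [(nat_lit 7357), (nat_lit 7356), (nat_lit 1995), (nat_lit 4990), (nat_lit 5144), (nat_lit 6434), (nat_lit 6435), (nat_lit 1627), (nat_lit 897), (nat_lit 896), (nat_lit 4520), (nat_lit 4522), (nat_lit 4437), (nat_lit 946), (nat_lit 948), (nat_lit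 4435), (nat_lit 5150)])) (.leaf .df))))) (.node (.node (.node (.node (.leaf .df) (.leaf (.cyc (nat_lit 18) [(nat_lit 2478), (nat_lit 6787), (nat_lit 4965), (nat_lit 6787), (nat_lit 2478)]))) (.node (.leaf (.cyc (nat_lit 21) [(nat_lit 1114), (nat_lit 1111), (nat_lit 4788), (nat_lit 1111), (nat_lit 1114)])) (.leaf .df))) (.node (.node (.leaf (.pin (nat_lit 1) [] [])) (.leaf .df)) (.node (.leaf (.cyc (nat_lit 74) [(nat_lit 1891), (nat_lit 6845)])) (.leaf .df)))) (.node (.node (.node (.leaf .df) (.leaf (.cyc (nat_lit 107) [(nat_lit 2729), (nat_lit 2609), (nat_lit 7967), (nat_lit 7966), (nat_lit 5578), (nat_lit 2082), (nat_lit 7435), (nat_lit 7790), (nat_lit 2602), (nat_lit 9550), (nat_lit 9552)]))) (.node (.leaf (.cyc (nat_lit 40) [(nat_lit 5821), (nat_lit 5091), (nat_lit 5821)])) (.leaf .df))) (.node (.node (.leaf (.cyc (nat_lit 31) [(nat_lit 3768), (nat_lit 618), (nat_lit 288), (nat_lit 289), (nat_lit 621)])) (.leaf .df)) (.node (.leaf (.cyc (nat_lit 37) [(nat_lit 7615), (nat_lit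 7614), (nat_lit 5352), (nat_lit 1437), (nat_lit 2203)])) (.leaf .df)))))) (.node (.node (.node (.node (.node (.leaf .df) (.leaf (.cyc (nat_lit 81) [(nat_lit 2410), (nat_lit 6514), (nat_lit 5332), (nat_lit 2123), (nat_lit 7584), (nat_lit 1853), (nat_lit 6029), (nat_lit 2308), (nat_lit 8240), (nat_lit 8239), (nat_lit 8257)]))) (.node (.leaf (.cyc (nat_lit 16) [(nat_lit 528), (nat_lit 246), (nat_lit 3147), (nat_lit 524), (nat_lit 1006)])) (.leaf .df))) (.node (.node (.leaf .df) (.leaf .df)) (.node (.leaf (.cyc (nat_lit 101) [(nat_lit 1276), (nat_lit 1275), (nat_lit 6589), (nat_lit 1780), (nat_lit 4699)])) (.leaf .df)))) (.node (.node (.node (.leaf .df) (.leaf (.cyc (nat_lit 24) [(nat_lit 2672), (nat_lit 8702), (nat_lit 6624), (nat_lit 8702), (nat_lit 2672)]))) (.node (.leaf (.cyc (nat_lit 48) [(nat_lit 1447), (nat_lit 4088), (nat_lit 1463)])) (.leaf .df))) (.node (.node (.leaf (.cyc (nat_lit 56) [(nat_lit 3516), (nat_lit 473), (nat_lit 213), (nat_lit 214), (nat_lit 476)])) (.leaf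 .df)) (.node (.leaf (.cyc (nat_lit 48) [(nat_lit 1358), (nat_lit 5343), (nat_lit 2131)])) (.leaf .df))))) (.node (.node (.node (.node (.leaf .df) (.leaf (.cyc (nat_lit 69) [(nat_lit 2473), (nat_lit 1874), (nat_lit 4775), (nat_lit 1109), (nat_lit 4125), (nat_lit 4466), (nat_lit 4638), (nat_lit 6373), (nat_lit 7354), (nat_lit 2544), (nat_lit 9149)]))) (.node (.leaf (.cyc (nat_lit 37) [(nat_lit 1239), (nat_lit 657), (nat_lit 3441), (nat_lit 657), (nat_lit 1239)])) (.leaf .df))) (.node (.node (.leaf (.cyc (nat_lit 35) [(nat_lit 168), (nat_lit 2899), (nat_lit 2901), (nat_lit 2899), (nat_lit 168)])) (.leaf .df)) (.node (.leaf (.cyc (nat_lit 20) [(nat_lit 1974), (nat_lit 4964), (nat_lit 1974)])) (.leaf .df)))) (.node (.node (.node (.leaf .df) (.leaf .df)) (.node (.leaf (.cyc (nat_lit 54) [(nat_lit 1628), (nat_lit 897), (nat_lit 895), (nat_lit 4288), (nat_lit 4289), (nat_lit 4290), (nat_lit 4289), (nat_lit 4288), (nat_lit 895), (nat_lit 897), (nat_lit 1628)])) (.leaf .df))) (.node (.node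 (.leaf (.cyc (nat_lit 39) [(nat_lit 3850), (nat_lit 3968), (nat_lit 754), (nat_lit 753), (nat_lit 3966), (nat_lit 619), (nat_lit 620), (nat_lit 3771), (nat_lit 3629), (nat_lit 3631), (nat_lit 785)])) (.leaf .df)) (.node (.leaf (.cyc (nat_lit 15) [(nat_lit 2279), (nat_lit 5839), (nat_lit 2279)])) (.leaf .df))))))))
noncomputable def u5P0111111 : BT Pf := (.node (.node (.node (.node (.node (.node (.node (.leaf .df) (.leaf (.cyc (nat_lit 23) [(nat_lit 7625), (nat_lit 6120), (nat_lit 2330)]))) (.node (.leaf (.cyc (nat_lit 74) [(nat_lit 864), (nat_lit 4221)])) (.leaf .df))) (.node (.node (.leaf .df) (.leaf .df)) (.node (.leaf (.cyc (nat_lit 48) [(nat_lit 951), (nat_lit 4426), (nat_lit 1699)])) (.leaf .df)))) (.node (.node (.node (.leaf .df) (.leaf (.cyc (nat_lit 65) [(nat_lit 9340), (nat_lit 9157), (nat_lit 2377), (nat_lit 1733), (nat_lit 4477), (nat_lit 1734), (nat_lit 6374), (nat_lit 1537), (nat_lit 1536), (nat_lit 2270), (nat_lit 8097)]))) (.node (.leaf (.cyc (nat_lit 20) [(nat_lit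 705), (nat_lit 702), (nat_lit 1323)])) (.leaf .df))) (.node (.node (.leaf (.cyc (nat_lit 22) [(nat_lit 174), (nat_lit 2934), (nat_lit 3041), (nat_lit 99), (nat_lit 41), (nat_lit 9), (nat_lit 2763), (nat_lit 35), (nat_lit 90), (nat_lit 222), (nat_lit 3197)])) (.leaf .df)) (.node (.leaf (.cyc (nat_lit 47) [(nat_lit 1487), (nat_lit 5647), (nat_lit 7276), (nat_lit 7275), (nat_lit 2031)])) (.leaf .df))))) (.node (.node (.node (.node (.leaf .df) (.leaf (.cyc (nat_lit 35) [(nat_lit 2462), (nat_lit 8825), (nat_lit 8826), (nat_lit 8825), (nat_lit 2462)]))) (.node (.leaf (.cyc (nat_lit 85) [(nat_lit 4490), (nat_lit 983), (nat_lit 4484), (nat_lit 4487), (nat_lit 980), (nat_lit 508), (nat_lit 3126), (nat_lit 452), (nat_lit 3473), (nat_lit 575), (nat_lit 1089)])) (.leaf .df))) (.node (.node (.leaf .df) (.leaf .df)) (.node (.leaf (.cyc (nat_lit 49) [(nat_lit 1415), (nat_lit 4776), (nat_lit 1874)])) (.leaf .df)))) (.node (.node (.node (.leaf .df) (.leaf (.cyc (nat_lit 144) [(nat_lit 2706), (nat_lit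 2536), (nat_lit 9113), (nat_lit 9115), (nat_lit 8714), (nat_lit 8470), (nat_lit 6455), (nat_lit 8373), (nat_lit 9175), (nat_lit 9176), (nat_lit 2716)]))) (.node (.leaf (.cyc (nat_lit 60) [(nat_lit 5747), (nat_lit 1527), (nat_lit 5757), (nat_lit 1527), (nat_lit 5747)])) (.leaf .df))) (.node (.node (.leaf (.cyc (nat_lit 46) [(nat_lit 573), (nat_lit 3185), (nat_lit 573)])) (.leaf .df)) (.node (.leaf (.cyc (nat_lit 48) [(nat_lit 1457), (nat_lit 5483), (nat_lit 2187)])) (.leaf .df)))))) (.node (.node (.node (.node (.node (.leaf .df) (.leaf (.cyc (nat_lit 62) [(nat_lit 1762), (nat_lit 1004), (nat_lit 1003), (nat_lit 1760), (nat_lit 2394)]))) (.node (.leaf (.cyc (nat_lit 47) [(nat_lit 954), (nat_lit 490), (nat_lit 3125), (nat_lit 502), (nat_lit 975)])) (.leaf .df))) (.node (.node (.leaf .df) (.leaf .df)) (.node (.leaf (.cyc (nat_lit 20) [(nat_lit 1082), (nat_lit 4597), (nat_lit 1783)])) (.leaf .df)))) (.node (.node (.node (.leaf .df) (.leaf (.cyc (nat_lit 16) [(nat_lit 2657), (nat_lit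 8411), (nat_lit 7394), (nat_lit 8411), (nat_lit 2657)]))) (.node (.leaf (.cyc (nat_lit 63) [(nat_lit 1429), (nat_lit 5484), (nat_lit 5485), (nat_lit 5484), (nat_lit 1429)])) (.leaf .df))) (.node (.node (.leaf (.cyc (nat_lit 88) [(nat_lit 363), (nat_lit 365), (nat_lit 3451), (nat_lit 365), (nat_lit 363)])) (.leaf .df)) (.node (.leaf (.cyc (nat_lit 41) [(nat_lit 1584), (nat_lit 5294), (nat_lit 2115)])) (.leaf .df))))) (.node (.node (.node (.node (.leaf .df) (.leaf (.cyc (nat_lit 6) [(nat_lit 2527), (nat_lit 7252), (nat_lit 5590), (nat_lit 7252), (nat_lit 2527)]))) (.node (.leaf (.cyc (nat_lit 41) [(nat_lit 679), (nat_lit 3809), (nat_lit 1212)])) (.leaf .df))) (.node (.node (.leaf (.cyc (nat_lit 24) [(nat_lit 128), (nat_lit 2855), (nat_lit 2854), (nat_lit 2855), (nat_lit 128)])) (.leaf .df)) (.node (.leaf (.cyc (nat_lit 44) [(nat_lit 1183), (nat_lit 627), (nat_lit 625), (nat_lit 1178), (nat_lit 1953)])) (.leaf .df)))) (.node (.node (.node (.leaf .df) (.leaf .df)) (.node (.leaf (.cyc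 (nat_lit 19) [(nat_lit 1412), (nat_lit 752), (nat_lit 3469), (nat_lit 884), (nat_lit 1608)])) (.leaf .df))) (.node (.node (.leaf (.cyc (nat_lit 30) [(nat_lit 619), (nat_lit 618), (nat_lit 3767), (nat_lit 3469), (nat_lit 753)])) (.leaf .df)) (.node (.leaf (.cyc (nat_lit 43) [(nat_lit 2258), (nat_lit 2259), (nat_lit 8061), (nat_lit 2259), (nat_lit 2258)])) (.leaf .df))))))) (.node (.node (.node (.node (.node (.node (.leaf .df) (.leaf (.cyc (nat_lit 20) [(nat_lit 1750), (nat_lit 6717), (nat_lit 2360)]))) (.node (.leaf (.cyc (nat_lit 23) [(nat_lit 867), (nat_lit 865), (nat_lit 4349)])) (.leaf .df))) (.node (.node (.leaf .df) (.leaf .df)) (.node (.leaf (.cyc (nat_lit 31) [(nat_lit 1342), (nat_lit 4395), (nat_lit 6224), (nat_lit 6228), (nat_lit 1743)])) (.leaf .df)))) (.node (.node (.node (.leaf .df) (.leaf (.cyc (nat_lit 70) [(nat_lit 9091), (nat_lit 9094), (nat_lit 2529), (nat_lit 7255), (nat_lit 5606), (nat_lit 7926), (nat_lit 7924), (nat_lit 5733), (nat_lit 2260), (nat_lit 2627),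 (nat_lit 9467)]))) (.node (.leaf (.cyc (nat_lit 23) [(nat_lit 5369), (nat_lit 1365), (nat_lit 1368)])) (.leaf .df))) (.node (.node (.leaf (.cyc (nat_lit 30) [(nat_lit 349), (nat_lit 3085), (nat_lit 3323), (nat_lit 374), (nat_lit 375)])) (.leaf .df)) (.node (.leaf (.cyc (nat_lit 56) [(nat_lit 2079), (nat_lit 7417), (nat_lit 7418), (nat_lit 7417), (nat_lit 2079)])) (.leaf .df))))) (.node (.node (.node (.node (.leaf .df) (.leaf (.cyc (nat_lit 15) [(nat_lit 7719), (nat_lit 6915), (nat_lit 2494)]))) (.node (.leaf (.cyc (nat_lit 19) [(nat_lit 1145), (nat_lit 3749), (nat_lit 3200), (nat_lit 3749), (nat_lit 1145)])) (.leaf .df))) (.node (.node (.leaf (.cyc (nat_lit 22) [(nat_lit 2812), (nat_lit 20), (nat_lit 2797), (nat_lit 2796), (nat_lit 2773), (nat_lit 2754), (nat_lit 2766), (nat_lit 5), (nat_lit 2764), (nat_lit 2755), (nat_lit 30)])) (.leaf .df)) (.node (.leaf (.cyc (nat_lit 97) [(nat_lit 1660), (nat_lit 918), (nat_lit 465), (nat_lit 3671), (nat_lit 3100), (nat_lit 477), (nat_lit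 4018), (nat_lit 4019), (nat_lit 1458), (nat_lit 6906), (nat_lit 6908)])) (.leaf .df)))) (.node (.node (.node (.leaf .df) (.leaf (.cyc (nat_lit 44) [(nat_lit 2742), (nat_lit 2697), (nat_lit 9020), (nat_lit 2697), (nat_lit 2742)]))) (.node (.leaf (.cyc (nat_lit 119) [(nat_lit 1366), (nat_lit 725), (nat_lit 340), (nat_lit 341), (nat_lit 728), (nat_lit 3923), (nat_lit 4494), (nat_lit 984), (nat_lit 4207), (nat_lit 4208), (nat_lit 1568)])) (.leaf .df))) (.node (.node (.leaf (.cyc (nat_lit 48) [(nat_lit 3836), (nat_lit 3837), (nat_lit 3836)])) (.leaf .df)) (.node (.leaf (.cyc (nat_lit 37) [(nat_lit 1596), (nat_lit 5961), (nat_lit 5962), (nat_lit 5566), (nat_lit 2219)])) (.leaf .df)))))) (.node (.node (.node (.node (.node (.leaf .df) (.leaf (.cyc (nat_lit 20) [(nat_lit 1814), (nat_lit 1813), (nat_lit 2426)]))) (.node (.leaf (.cyc (nat_lit 19) [(nat_lit 1033), (nat_lit 3632), (nat_lit 3170), (nat_lit 3632), (nat_lit 1033)])) (.leaf .df))) (.node (.node (.leaf .df) (.leaf .df)) (.node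 (.leaf (.cyc (nat_lit 46) [(nat_lit 1827), (nat_lit 4697), (nat_lit 1827)])) (.leaf .df)))) (.node (.node (.node (.leaf .df) (.leaf (.cyc (nat_lit 15) [(nat_lit 2686), (nat_lit 8880), (nat_lit 2686)]))) (.node (.leaf (.cyc (nat_lit 10) [(nat_lit 4957), (nat_lit 5629), (nat_lit 1394)])) (.leaf .df))) (.node (.node (.leaf (.cyc (nat_lit 20) [(nat_lit 507), (nat_lit 3127), (nat_lit 507)])) (.leaf .df)) (.node (.leaf (.cyc (nat_lit 46) [(nat_lit 2151), (nat_lit 5403), (nat_lit 2151)])) (.leaf .df))))) (.node (.node (.node (.node (.leaf .df) (.leaf (.cyc (nat_lit 24) [(nat_lit 2562), (nat_lit 2091), (nat_lit 5210), (nat_lit 2091), (nat_lit 2562)]))) (.node (.leaf (.cyc (nat_lit 45) [(nat_lit 1266), (nat_lit 5105), (nat_lit 5107), (nat_lit 5105), (nat_lit 1266)])) (.leaf .df))) (.node (.node (.leaf (.cyc (nat_lit 31) [(nat_lit 198), (nat_lit 79), (nat_lit 2808), (nat_lit 79), (nat_lit 198)])) (.leaf .df)) (.node (.leaf (.cyc (nat_lit 15) [(nat_lit 1992), (nat_lit 4974), (nat_lit 1992)]))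 (.leaf .df)))) (.node (.node (.node (.leaf .df) (.leaf .df)) (.node (.leaf (.cyc (nat_lit 10) [(nat_lit 6141), (nat_lit 1314), (nat_lit 1315)])) (.leaf .df))) (.node (.node (.leaf (.cyc (nat_lit 2) [(nat_lit 4093), (nat_lit 449), (nat_lit 3072), (nat_lit 353), (nat_lit 750)])) (.leaf .df)) (.node (.leaf (.cyc (nat_lit 21) [(nat_lit 1900), (nat_lit 6834), (nat_lit 8183), (nat_lit 8180), (nat_lit 2295)])) (.leaf .df))))))))
noncomputable def u5P011111 : BT Pf := .node u5P0111110 u5P0111111
noncomputable def u5P01111 : BT Pf := .node u5P011110 u5P011111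
noncomputable def u5P0111 : BT Pf := .node u5P01110 u5P01111
noncomputable def u5P011 : BT Pf := .node u5P0110 u5P0111
noncomputable def u5P01 : BT Pf := .node u5P010 u5P011
noncomputable def u5P0 : BT Pf := .node u5P00 u5P01
noncomputable def u5P1000000 : BT Pf := (.node (.node (.node (.node (.node (.node (.node (.leaf .df) (.leaf (.cyc (nat_lit 20) [(nat_lit 1587), (nat_lit 1586), (nat_lit 2296)]))) (.node (.leaf (.cyc (nat_lit 34) [(nat_lit 398), (nat_lit 3331), (nat_lit 3329), (nat_lit 385), (nat_lit 789)])) (.leaf .df))) (.node (.node (.leaf .df) (.leaf .df)) (.node (.leaf (.cyc (nat_lit 100) [(nat_lit 6143), (nat_lit 4326), (nat_lit 4268), (nat_lit 4326), (nat_lit 6143)])) (.leaf .df)))) (.node (.node (.node (.leaf .df) (.leaf (.cyc (nat_lit 48) [(nat_lit 2564), (nat_lit 7474), (nat_lit 2564)]))) (.node (.leaf (.cyc (nat_lit 2) [(nat_lit 5119), (nat_lit 1101), (nat_lit 581), (nat_lit 583), (nat_lit 1105)])) (.leaf .df))) (.node (.node (.leaf (.cyc (nat_lit 24) [(nat_lit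 200), (nat_lit 2880), (nat_lit 2849), (nat_lit 2880), (nat_lit 200)])) (.leaf .df)) (.node (.leaf (.cyc (nat_lit 38) [(nat_lit 1672), (nat_lit 4383), (nat_lit 5891), (nat_lit 1368), (nat_lit 4836), (nat_lit 4973), (nat_lit 4978), (nat_lit 1205), (nat_lit 1206), (nat_lit 4976), (nat_lit 1992)])) (.leaf .df))))) (.node (.node (.node (.node (.leaf .df) (.leaf (.cyc (nat_lit 44) [(nat_lit 2427), (nat_lit 1814), (nat_lit 4680), (nat_lit 1814), (nat_lit 2427)]))) (.node (.leaf (.cyc (nat_lit 139) [(nat_lit 967), (nat_lit 3557), (nat_lit 3685), (nat_lit 4086), (nat_lit 4072), (nat_lit 1034), (nat_lit 4608), (nat_lit 3850), (nat_lit 4030), (nat_lit 4083), (nat_lit 3559), (nat_lit 971)])) (.leaf .df))) (.node (.node (.leaf .df) (.leaf .df)) (.node (.leaf (.cyc (nat_lit 50) [(nat_lit 5775), (nat_lit 999), (nat_lit 4382), (nat_lit 4702), (nat_lit 1828)])) (.leaf .df)))) (.node (.node (.node (.leaf .df) (.leaf (.cyc (nat_lit 44) [(nat_lit 2686), (nat_lit 8881), (nat_lit 7776), (nat_lit 8881),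 (nat_lit 2686)]))) (.node (.leaf (.cyc (nat_lit 153) [(nat_lit 1097), (nat_lit 579), (nat_lit 3714), (nat_lit 3786), (nat_lit 1089), (nat_lit 5632), (nat_lit 1142), (nat_lit 1143), (nat_lit 5609), (nat_lit 1479), (nat_lit 1478)])) (.leaf .df))) (.node (.node (.leaf (.cyc (nat_lit 34) [(nat_lit 508), (nat_lit 231), (nat_lit 2898), (nat_lit 231), (nat_lit 508)])) (.leaf .df)) (.node (.leaf (.cyc (nat_lit 27) [(nat_lit 7666), (nat_lit 7664), (nat_lit 2152)])) (.leaf .df)))))) (.node (.node (.node (.node (.node (.leaf .df) (.leaf (.cyc (nat_lit 62) [(nat_lit 1689), (nat_lit 937), (nat_lit 936), (nat_lit 1688), (nat_lit 2360)]))) (.node (.leaf (.cyc (nat_lit 85) [(nat_lit 3738), (nat_lit 340), (nat_lit 141), (nat_lit 58), (nat_lit 56), (nat_lit 136), (nat_lit 326), (nat_lit 695), (nat_lit 4352), (nat_lit 867), (nat_lit 4202)])) (.leaf .df))) (.node (.node (.leaf .df) (.leaf .df)) (.node (.leaf (.cyc (nat_lit 23) [(nat_lit 6400), (nat_lit 1743), (nat_lit 1744)])) (.leaf .df)))) (.node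 (.node (.node (.leaf .df) (.leaf (.cyc (nat_lit 34) [(nat_lit 2628), (nat_lit 2260), (nat_lit 5733), (nat_lit 2260), (nat_lit 2628)]))) (.node (.leaf (.cyc (nat_lit 34) [(nat_lit 5278), (nat_lit 1334), (nat_lit 3900), (nat_lit 725), (nat_lit 1368)])) (.leaf .df))) (.node (.node (.leaf (.cyc (nat_lit 6) [(nat_lit 158), (nat_lit 64), (nat_lit 63), (nat_lit 156), (nat_lit 377)])) (.leaf .df)) (.node (.leaf (.cyc (nat_lit 48) [(nat_lit 5458), (nat_lit 5170), (nat_lit 2080)])) (.leaf .df))))) (.node (.node (.node (.node (.leaf .df) (.leaf (.cyc (nat_lit 44) [(nat_lit 2494), (nat_lit 1919), (nat_lit 4863), (nat_lit 1919), (nat_lit 2494)]))) (.node (.leaf (.cyc (nat_lit 30) [(nat_lit 1148), (nat_lit 3923), (nat_lit 3922), (nat_lit 3923), (nat_lit 1148)])) (.leaf .df))) (.node (.node (.leaf (.cyc (nat_lit 25) [(nat_lit 31), (nat_lit 28), (nat_lit 2809), (nat_lit 28), (nat_lit 31)])) (.leaf .df)) (.node (.leaf (.cyc (nat_lit 50) [(nat_lit 5984), (nat_lit 953), (nat_lit 951), (nat_lit 6494),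 (nat_lit 1918)])) (.leaf .df)))) (.node (.node (.node (.leaf .df) (.leaf (.cyc (nat_lit 41) [(nat_lit 2743), (nat_lit 9785), (nat_lit 2743)]))) (.node (.leaf (.cyc (nat_lit 20) [(nat_lit 1367), (nat_lit 1366), (nat_lit 5888)])) (.leaf .df))) (.node (.node (.leaf (.cyc (nat_lit 40) [(nat_lit 3836), (nat_lit 631), (nat_lit 628)])) (.leaf .df)) (.node (.leaf (.cyc (nat_lit 24) [(nat_lit 2220), (nat_lit 7446), (nat_lit 7447), (nat_lit 7446), (nat_lit 2220)])) (.leaf .df))))))) (.node (.node (.node (.node (.node (.node (.leaf .df) (.leaf (.cyc (nat_lit 108) [(nat_lit 8320), (nat_lit 2035), (nat_lit 5322), (nat_lit 6047), (nat_lit 1618), (nat_lit 1617), (nat_lit 2310), (nat_lit 8279), (nat_lit 8285), (nat_lit 8276), (nat_lit 2330)]))) (.node (.leaf (.cyc (nat_lit 94) [(nat_lit 696), (nat_lit 3883), (nat_lit 4223), (nat_lit 3883), (nat_lit 696)])) (.leaf .df))) (.node (.node (.leaf .df) (.leaf .df)) (.node (.leaf (.cyc (nat_lit 45) [(nat_lit 5512), (nat_lit 1280), (nat_lit 3872), (nat_lit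 947), (nat_lit 1699)])) (.leaf .df)))) (.node (.node (.node (.leaf .df) (.leaf (.cyc (nat_lit 53) [(nat_lit 2596), (nat_lit 8853), (nat_lit 8859), (nat_lit 8853), (nat_lit 2596)]))) (.node (.leaf (.cyc (nat_lit 31) [(nat_lit 712), (nat_lit 334), (nat_lit 3262), (nat_lit 704), (nat_lit 1325)])) (.leaf .df))) (.node (.node (.leaf (.cyc (nat_lit 44) [(nat_lit 281), (nat_lit 119), (nat_lit 2848), (nat_lit 119), (nat_lit 281)])) (.leaf .df)) (.node (.leaf (.cyc (nat_lit 27) [(nat_lit 1287), (nat_lit 5101), (nat_lit 2032)])) (.leaf .df))))) (.node (.node (.node (.node (.leaf .df) (.leaf (.cyc (nat_lit 62) [(nat_lit 2463), (nat_lit 6753), (nat_lit 6725), (nat_lit 6753), (nat_lit 2463)]))) (.node (.leaf (.cyc (nat_lit 41) [(nat_lit 1090), (nat_lit 3786), (nat_lit 1090)])) (.leaf .df))) (.node (.node (.leaf .df) (.leaf .df)) (.node (.leaf (.cyc (nat_lit 37) [(nat_lit 1875), (nat_lit 5656), (nat_lit 5657), (nat_lit 5656), (nat_lit 1875)])) (.leaf .df)))) (.node (.node (.node (.leaf .df)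 (.leaf (.cyc (nat_lit 46) [(nat_lit 2615), (nat_lit 9194), (nat_lit 2717)]))) (.node (.leaf (.cyc (nat_lit 21) [(nat_lit 1528), (nat_lit 4153), (nat_lit 3640), (nat_lit 4153), (nat_lit 1528)])) (.leaf .df))) (.node (.node (.leaf (.cyc (nat_lit 97) [(nat_lit 293), (nat_lit 125), (nat_lit 124), (nat_lit 2935), (nat_lit 115), (nat_lit 48), (nat_lit 47), (nat_lit 113), (nat_lit 2923), (nat_lit 268), (nat_lit 574)])) (.leaf .df)) (.node (.leaf (.cyc (nat_lit 15) [(nat_lit 1427), (nat_lit 1426), (nat_lit 2188)])) (.leaf .df)))))) (.node (.node (.node (.node (.node (.leaf .df) (.leaf (.cyc (nat_lit 37) [(nat_lit 2395), (nat_lit 6443), (nat_lit 5895), (nat_lit 6443), (nat_lit 2395)]))) (.node (.leaf (.cyc (nat_lit 50) [(nat_lit 960), (nat_lit 492), (nat_lit 3125), (nat_lit 503), (nat_lit 977)])) (.leaf .df))) (.node (.node (.leaf .df) (.leaf .df)) (.node (.leaf (.cyc (nat_lit 5) [(nat_lit 6528), (nat_lit 1783), (nat_lit 1028), (nat_lit 4004), (nat_lit 1443)])) (.leaf .df)))) (.node (.node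 (.node (.leaf .df) (.leaf (.cyc (nat_lit 27) [(nat_lit 2658), (nat_lit 8416), (nat_lit 2658)]))) (.node (.leaf (.cyc (nat_lit 47) [(nat_lit 5199), (nat_lit 950), (nat_lit 951), (nat_lit 4430), (nat_lit 1431)])) (.leaf .df))) (.node (.node (.leaf (.cyc (nat_lit 20) [(nat_lit 195), (nat_lit 194), (nat_lit 440)])) (.leaf .df)) (.node (.leaf (.cyc (nat_lit 8) [(nat_lit 7552), (nat_lit 6719), (nat_lit 6714), (nat_lit 6719), (nat_lit 7552)])) (.leaf .df))))) (.node (.node (.node (.node (.leaf .df) (.leaf (.cyc (nat_lit 19) [(nat_lit 2528), (nat_lit 2017), (nat_lit 5081), (nat_lit 2017), (nat_lit 2528)]))) (.node (.leaf (.cyc (nat_lit 112) [(nat_lit 1189), (nat_lit 4992)])) (.leaf .df))) (.node (.node (.leaf (.cyc (nat_lit 53) [(nat_lit 61), (nat_lit 16), (nat_lit 15), (nat_lit 54), (nat_lit 129)])) (.leaf .df)) (.node (.leaf (.cyc (nat_lit 74) [(nat_lit 6840), (nat_lit 7039)])) (.leaf .df)))) (.node (.node (.node (.leaf .df) (.leaf .df)) (.node (.leaf (.cyc (nat_lit 56) [(nat_lit 5568),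 (nat_lit 1463), (nat_lit 4090), (nat_lit 885), (nat_lit 1609)])) (.leaf .df))) (.node (.node (.leaf (.cyc (nat_lit 110) [(nat_lit 3968), (nat_lit 660), (nat_lit 659)])) (.leaf .df)) (.node (.leaf (.cyc (nat_lit 18) [(nat_lit 2261), (nat_lit 1520), (nat_lit 4149), (nat_lit 1520), (nat_lit 2261)])) (.leaf .df))))))))
noncomputable def u5P1000001 : BT Pf := (.node (.node (.node (.node (.node (.node (.node (.leaf .df) (.leaf (.cyc (nat_lit 47) [(nat_lit 8238), (nat_lit 6033), (nat_lit 4520), (nat_lit 1626), (nat_lit 2314)]))) (.node (.leaf (.cyc (nat_lit 66) [(nat_lit 4160), (nat_lit 502), (nat_lit 229), (nat_lit 228), (nat_lit 499)])) (.leaf .df))) (.node (.node (.leaf .df) (.leaf .df)) (.node (.leaf (.cyc (nat_lit 20) [(nat_lit 1679), (nat_lit 4391), (nat_lit 1679)])) (.leaf .df)))) (.node (.node (.node (.leaf .df) (.leaf (.cyc (nat_lit 30) [(nat_lit 2577), (nat_lit 2123), (nat_lit 5332), (nat_lit 2123), (nat_lit 2577)]))) (.node (.leaf (.cyc (nat_lit 41) [(nat_lit 1301), (nat_lit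 4229), (nat_lit 1301)])) (.leaf .df))) (.node (.node (.leaf (.cyc (nat_lit 27) [(nat_lit 238), (nat_lit 2904), (nat_lit 238)])) (.leaf .df)) (.node (.leaf (.cyc (nat_lit 47) [(nat_lit 6652), (nat_lit 1564), (nat_lit 5873), (nat_lit 5875), (nat_lit 2014)])) (.leaf .df))))) (.node (.node (.node (.node (.leaf .df) (.leaf (.cyc (nat_lit 42) [(nat_lit 8617), (nat_lit 2405), (nat_lit 8258), (nat_lit 8259), (nat_lit 8260), (nat_lit 8099), (nat_lit 8100), (nat_lit 5814), (nat_lit 1855), (nat_lit 6730), (nat_lit 2444)]))) (.node (.leaf (.cyc (nat_lit 74) [(nat_lit 4538), (nat_lit 4671)])) (.leaf .df))) (.node (.node (.leaf .df) (.leaf .df)) (.node (.leaf (.cyc (nat_lit 50) [(nat_lit 1086), (nat_lit 572), (nat_lit 571), (nat_lit 1085), (nat_lit 1851)])) (.leaf .df)))) (.node (.node (.node (.leaf .df) (.leaf (.cyc (nat_lit 63) [(nat_lit 2701), (nat_lit 9069), (nat_lit 8287), (nat_lit 9069), (nat_lit 2701)]))) (.node (.leaf (.cyc (nat_lit 131) [(nat_lit 4944), (nat_lit 1180), (nat_lit 4930),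 (nat_lit 5288), (nat_lit 1336), (nat_lit 3901), (nat_lit 3264), (nat_lit 653), (nat_lit 4368), (nat_lit 4137), (nat_lit 1504)])) (.leaf .df))) (.node (.node (.leaf (.cyc (nat_lit 72) [(nat_lit 473), (nat_lit 3647), (nat_lit 109)])) (.leaf .df)) (.node (.leaf (.cyc (nat_lit 49) [(nat_lit 6954), (nat_lit 6952), (nat_lit 2168)])) (.leaf .df)))))) (.node (.node (.node (.node (.node (.leaf .df) (.leaf (.cyc (nat_lit 30) [(nat_lit 2377), (nat_lit 1733), (nat_lit 4477), (nat_lit 1733), (nat_lit 2377)]))) (.node (.leaf (.cyc (nat_lit 137) [(nat_lit 816), (nat_lit 4145), (nat_lit 4416), (nat_lit 4145), (nat_lit 816)])) (.leaf .df))) (.node (.node (.leaf .df) (.leaf .df)) (.node (.leaf (.cyc (nat_lit 49) [(nat_lit 1157), (nat_lit 1159), (nat_lit 6464)])) (.leaf .df)))) (.node (.node (.node (.leaf .df) (.leaf (.cyc (nat_lit 46) [(nat_lit 2643), (nat_lit 8229), (nat_lit 2643)]))) (.node (.leaf (.cyc (nat_lit 19) [(nat_lit 878), (nat_lit 3956), (nat_lit 749), (nat_lit 3947), (nat_lit 1406)]))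 (.leaf .df))) (.node (.node (.leaf (.cyc (nat_lit 48) [(nat_lit 193), (nat_lit 3042), (nat_lit 426)])) (.leaf .df)) (.node (.leaf (.cyc (nat_lit 30) [(nat_lit 2100), (nat_lit 1319), (nat_lit 3896), (nat_lit 1319), (nat_lit 2100)])) (.leaf .df))))) (.node (.node (.node (.node (.leaf .df) (.leaf (.cyc (nat_lit 15) [(nat_lit 2414), (nat_lit 7067), (nat_lit 2512)]))) (.node (.leaf (.cyc (nat_lit 6) [(nat_lit 629), (nat_lit 292), (nat_lit 3219), (nat_lit 623), (nat_lit 1174)])) (.leaf .df))) (.node (.node (.leaf (.cyc (nat_lit 20) [(nat_lit 33), (nat_lit 2807), (nat_lit 80)])) (.leaf .df)) (.node (.leaf (.cyc (nat_lit 94) [(nat_lit 1203), (nat_lit 1204), (nat_lit 6975), (nat_lit 1204), (nat_lit 1203)])) (.leaf .df)))) (.node (.node (.node (.leaf .df) (.leaf .df)) (.node (.leaf (.cyc (nat_lit 16) [(nat_lit 1589), (nat_lit 5924), (nat_lit 5925), (nat_lit 5924), (nat_lit 1589)])) (.leaf .df))) (.node (.node (.leaf (.cyc (nat_lit 62) [(nat_lit 714), (nat_lit 3264), (nat_lit 3567), (nat_lit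 3264), (nat_lit 714)])) (.leaf .df)) (.node (.leaf (.cyc (nat_lit 97) [(nat_lit 6922), (nat_lit 7744), (nat_lit 7743), (nat_lit 2167), (nat_lit 5435), (nat_lit 5233), (nat_lit 5448), (nat_lit 5449), (nat_lit 5963), (nat_lit 5964), (nat_lit 2239)])) (.leaf .df))))))) (.node (.node (.node (.node (.node (.node (.leaf .df) (.leaf (.cyc (nat_lit 16) [(nat_lit 2345), (nat_lit 1662), (nat_lit 4336), (nat_lit 1662), (nat_lit 2345)]))) (.node (.leaf (.cyc (nat_lit 58) [(nat_lit 696), (nat_lit 3883), (nat_lit 690), (nat_lit 324), (nat_lit 323), (nat_lit 3584), (nat_lit 507), (nat_lit 508), (nat_lit 4287), (nat_lit 4286), (nat_lit 4288)])) (.leaf .df))) (.node (.node (.leaf .df) (.leaf .df)) (.node (.leaf (.cyc (nat_lit 121) [(nat_lit 6336), (nat_lit 5562), (nat_lit 5564), (nat_lit 5000), (nat_lit 6184)])) (.leaf .df)))) (.node (.node (.node (.leaf .df) (.leaf (.cyc (nat_lit 35) [(nat_lit 2613), (nat_lit 8110), (nat_lit 8112), (nat_lit 8110), (nat_lit 2613)]))) (.node (.leaf (.cyc (nat_lit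 110) [(nat_lit 5312), (nat_lit 3913), (nat_lit 5312)])) (.leaf .df))) (.node (.node (.leaf (.cyc (nat_lit 49) [(nat_lit 3252), (nat_lit 3250), (nat_lit 336)])) (.leaf .df)) (.node (.leaf (.cyc (nat_lit 127) [(nat_lit 5336), (nat_lit 7360), (nat_lit 1263), (nat_lit 1262), (nat_lit 2038)])) (.leaf .df))))) (.node (.node (.node (.node (.leaf .df) (.leaf (.cyc (nat_lit 20) [(nat_lit 2479), (nat_lit 6791), (nat_lit 2479)]))) (.node (.leaf (.cyc (nat_lit 62) [(nat_lit 1114), (nat_lit 4315), (nat_lit 4314), (nat_lit 4315), (nat_lit 1114)])) (.leaf .df))) (.node (.node (.leaf (.pin (nat_lit 4) [] [])) (.leaf .df)) (.node (.leaf (.cyc (nat_lit 37) [(nat_lit 1900), (nat_lit 6146), (nat_lit 6147), (nat_lit 6146), (nat_lit 1900)])) (.leaf .df)))) (.node (.node (.node (.leaf .df) (.leaf (.cyc (nat_lit 53) [(nat_lit 2730), (nat_lit 9490), (nat_lit 9489), (nat_lit 9490), (nat_lit 2730)]))) (.node (.leaf (.cyc (nat_lit 40) [(nat_lit 5823), (nat_lit 4190), (nat_lit 5823)])) (.leaf .df))) (.node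 (.node (.leaf (.cyc (nat_lit 110) [(nat_lit 3776), (nat_lit 534), (nat_lit 533)])) (.leaf .df)) (.node (.leaf (.cyc (nat_lit 20) [(nat_lit 1894), (nat_lit 6497), (nat_lit 2204)])) (.leaf .df)))))) (.node (.node (.node (.node (.node (.leaf .df) (.leaf (.cyc (nat_lit 28) [(nat_lit 2411), (nat_lit 6521), (nat_lit 5154), (nat_lit 6521), (nat_lit 2411)]))) (.node (.leaf (.cyc (nat_lit 3) [(nat_lit 4544), (nat_lit 524), (nat_lit 525)])) (.leaf .df))) (.node (.node (.leaf .df) (.leaf .df)) (.node (.leaf (.cyc (nat_lit 20) [(nat_lit 1556), (nat_lit 4648), (nat_lit 1803)])) (.leaf .df)))) (.node (.node (.node (.leaf .df) (.leaf (.cyc (nat_lit 93) [(nat_lit 9664), (nat_lit 2672), (nat_lit 8702), (nat_lit 6624), (nat_lit 1814), (nat_lit 5918), (nat_lit 5921), (nat_lit 5920), (nat_lit 7639), (nat_lit 7641), (nat_lit 2540)]))) (.node (.leaf (.cyc (nat_lit 37) [(nat_lit 875), (nat_lit 4235), (nat_lit 4238), (nat_lit 4088), (nat_lit 1464)])) (.leaf .df))) (.node (.node (.leaf (.cyc (nat_lit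 100) [(nat_lit 3519), (nat_lit 3417), (nat_lit 3415), (nat_lit 3340), (nat_lit 3341)])) (.leaf .df)) (.node (.leaf (.cyc (nat_lit 20) [(nat_lit 2132), (nat_lit 5345), (nat_lit 2132)])) (.leaf .df))))) (.node (.node (.node (.node (.leaf .df) (.leaf (.cyc (nat_lit 25) [(nat_lit 2545), (nat_lit 7352), (nat_lit 5137), (nat_lit 7352), (nat_lit 2545)]))) (.node (.leaf (.cyc (nat_lit 35) [(nat_lit 4313), (nat_lit 910), (nat_lit 5050), (nat_lit 5049), (nat_lit 1240)])) (.leaf .df))) (.node (.node (.leaf (.cyc (nat_lit 25) [(nat_lit 170), (nat_lit 2899), (nat_lit 2902), (nat_lit 2899), (nat_lit 170)])) (.leaf .df)) (.node (.leaf (.cyc (nat_lit 133) [(nat_lit 1974), (nat_lit 1194), (nat_lit 3797), (nat_lit 632), (nat_lit 293), (nat_lit 294), (nat_lit 3763), (nat_lit 1163), (nat_lit 6547), (nat_lit 6949), (nat_lit 6944)])) (.leaf .df)))) (.node (.node (.node (.leaf .df) (.leaf .df)) (.node (.leaf (.cyc (nat_lit 31) [(nat_lit 1629), (nat_lit 4299), (nat_lit 4158), (nat_lit 4299), (nat_lit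 1629)])) (.leaf .df))) (.node (.node (.leaf (.cyc (nat_lit 112) [(nat_lit 417), (nat_lit 4032), (nat_lit 380)])) (.leaf .df)) (.node (.leaf (.cyc (nat_lit 44) [(nat_lit 6275), (nat_lit 7034), (nat_lit 8108), (nat_lit 8109), (nat_lit 2279)])) (.leaf .df))))))))
noncomputable def u5P100000 : BT Pf := .node u5P1000000 u5P1000001
noncomputable def u5P1000010 : BT Pf := (.node (.node (.node (.node (.node (.node (.node (.leaf .df) (.leaf (.cyc (nat_lit 34) [(nat_lit 7494), (nat_lit 2101), (nat_lit 5585), (nat_lit 1599), (nat_lit 2303)]))) (.node (.leaf (.cyc (nat_lit 48) [(nat_lit 803), (nat_lit 3369), (nat_lit 803)])) (.leaf .df))) (.node (.node (.leaf .df) (.leaf .df)) (.node (.leaf (.cyc (nat_lit 66) [(nat_lit 6176), (nat_lit 5838), (nat_lit 806), (nat_lit 805), (nat_lit 1499)])) (.leaf .df)))) (.node (.node (.node (.leaf .df) (.leaf (.cyc (nat_lit 61) [(nat_lit 9247), (nat_lit 2572), (nat_lit 2111), (nat_lit 5271), (nat_lit 1332), (nat_lit 707), (nat_lit 3882), (nat_lit 1302), (nat_lit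 2088), (nat_lit 7452), (nat_lit 2560)]))) (.node (.leaf (.cyc (nat_lit 107) [(nat_lit 1284), (nat_lit 682), (nat_lit 3563), (nat_lit 3558), (nat_lit 968), (nat_lit 4463), (nat_lit 968), (nat_lit 3558), (nat_lit 3563), (nat_lit 682), (nat_lit 1284)])) (.leaf .df))) (.node (.node (.leaf (.cyc (nat_lit 16) [(nat_lit 162), (nat_lit 161), (nat_lit 2982), (nat_lit 2887), (nat_lit 217)])) (.leaf .df)) (.node (.leaf (.cyc (nat_lit 15) [(nat_lit 2003), (nat_lit 5327), (nat_lit 2003)])) (.leaf .df))))) (.node (.node (.node (.node (.leaf .df) (.leaf (.cyc (nat_lit 30) [(nat_lit 2436), (nat_lit 1820), (nat_lit 4689), (nat_lit 1820), (nat_lit 2436)]))) (.node (.leaf (.cyc (nat_lit 46) [(nat_lit 967), (nat_lit 3685), (nat_lit 1046)])) (.leaf .df))) (.node (.node (.leaf .df) (.leaf .df)) (.node (.leaf (.cyc (nat_lit 62) [(nat_lit 1840), (nat_lit 1078), (nat_lit 3702), (nat_lit 1078), (nat_lit 1840)])) (.leaf .df)))) (.node (.node (.node (.leaf .df) (.leaf (.cyc (nat_lit 97) [(nat_lit 9536),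 (nat_lit 2581), (nat_lit 2135), (nat_lit 7403), (nat_lit 7680), (nat_lit 7678), (nat_lit 7677), (nat_lit 8942), (nat_lit 8943), (nat_lit 9015), (nat_lit 2693)]))) (.node (.leaf (.cyc (nat_lit 28) [(nat_lit 1119), (nat_lit 4123), (nat_lit 800), (nat_lit 801), (nat_lit 1492)])) (.leaf .df))) (.node (.node (.leaf (.cyc (nat_lit 23) [(nat_lit 247), (nat_lit 246), (nat_lit 530)])) (.leaf .df)) (.node (.leaf (.cyc (nat_lit 20) [(nat_lit 2160), (nat_lit 5421), (nat_lit 2160)])) (.leaf .df)))))) (.node (.node (.node (.node (.node (.leaf .df) (.leaf (.cyc (nat_lit 41) [(nat_lit 8472), (nat_lit 8471), (nat_lit 2370)]))) (.node (.leaf (.cyc (nat_lit 12) [(nat_lit 4384), (nat_lit 842), (nat_lit 415), (nat_lit 413), (nat_lit 841)])) (.leaf .df))) (.node (.node (.leaf .df) (.leaf .df)) (.node (.leaf (.cyc (nat_lit 15) [(nat_lit 6375), (nat_lit 6183), (nat_lit 1755)])) (.leaf .df)))) (.node (.node (.node (.leaf .df) (.leaf (.cyc (nat_lit 14) [(nat_lit 9502), (nat_lit 2519), (nat_lit 7174), (nat_lit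 2519), (nat_lit 9502)]))) (.node (.leaf (.cyc (nat_lit 102) [(nat_lit 1380), (nat_lit 1381), (nat_lit 5408), (nat_lit 1381), (nat_lit 1380)])) (.leaf .df))) (.node (.node (.leaf (.cyc (nat_lit 45) [(nat_lit 394), (nat_lit 163), (nat_lit 2868), (nat_lit 163), (nat_lit 394)])) (.leaf .df)) (.node (.leaf (.cyc (nat_lit 15) [(nat_lit 2090), (nat_lit 5207), (nat_lit 2090)])) (.leaf .df))))) (.node (.node (.node (.node (.leaf .df) (.leaf (.cyc (nat_lit 27) [(nat_lit 1980), (nat_lit 6988), (nat_lit 2502)]))) (.node (.leaf (.cyc (nat_lit 27) [(nat_lit 4896), (nat_lit 1162), (nat_lit 1163)])) (.leaf .df))) (.node (.node (.leaf (.cyc (nat_lit 43) [(nat_lit 47), (nat_lit 49), (nat_lit 2848), (nat_lit 49), (nat_lit 47)])) (.leaf .df)) (.node (.leaf (.cyc (nat_lit 26) [(nat_lit 6488), (nat_lit 4820), (nat_lit 4999), (nat_lit 4989), (nat_lit 1929)])) (.leaf .df)))) (.node (.node (.node (.leaf .df) (.leaf .df)) (.node (.leaf (.cyc (nat_lit 97) [(nat_lit 5917), (nat_lit 4603), (nat_lit 4595),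 (nat_lit 570), (nat_lit 267), (nat_lit 112), (nat_lit 110), (nat_lit 261), (nat_lit 559), (nat_lit 4217), (nat_lit 1574)])) (.leaf .df))) (.node (.node (.leaf (.cyc (nat_lit 18) [(nat_lit 681), (nat_lit 319), (nat_lit 3562), (nat_lit 319), (nat_lit 681)])) (.leaf .df)) (.node (.leaf (.cyc (nat_lit 24) [(nat_lit 2173), (nat_lit 1409), (nat_lit 4094), (nat_lit 1469), (nat_lit 2229)])) (.leaf .df))))))) (.node (.node (.node (.node (.node (.node (.leaf .df) (.leaf (.cyc (nat_lit 62) [(nat_lit 2337), (nat_lit 6140), (nat_lit 5670), (nat_lit 6140), (nat_lit 2337)]))) (.node (.leaf (.cyc (nat_lit 16) [(nat_lit 881), (nat_lit 4252), (nat_lit 4253), (nat_lit 4252), (nat_lit 881)])) (.leaf .df))) (.node (.node (.leaf .df) (.leaf .df)) (.node (.leaf (.cyc (nat_lit 97) [(nat_lit 6303), (nat_lit 5932), (nat_lit 995), (nat_lit 3598), (nat_lit 3575), (nat_lit 3142), (nat_lit 505), (nat_lit 4448), (nat_lit 961), (nat_lit 4442), (nat_lit 1710)])) (.leaf .df)))) (.node (.node (.node (.leaf .df)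 (.leaf (.cyc (nat_lit 63) [(nat_lit 9110), (nat_lit 2203), (nat_lit 7849), (nat_lit 7880), (nat_lit 2604)]))) (.node (.leaf (.cyc (nat_lit 30) [(nat_lit 1335), (nat_lit 1334), (nat_lit 5277), (nat_lit 1334), (nat_lit 1335)])) (.leaf .df))) (.node (.node (.leaf (.cyc (nat_lit 60) [(nat_lit 3227), (nat_lit 304), (nat_lit 3232), (nat_lit 304), (nat_lit 3227)])) (.leaf .df)) (.node (.leaf (.cyc (nat_lit 15) [(nat_lit 1267), (nat_lit 1266), (nat_lit 2045)])) (.leaf .df))))) (.node (.node (.node (.node (.leaf .df) (.leaf (.cyc (nat_lit 28) [(nat_lit 2471), (nat_lit 1873), (nat_lit 4770), (nat_lit 1873), (nat_lit 2471)]))) (.node (.leaf (.cyc (nat_lit 47) [(nat_lit 752), (nat_lit 354), (nat_lit 3192), (nat_lit 584), (nat_lit 1107)])) (.leaf .df))) (.node (.node (.leaf .df) (.leaf .df)) (.node (.leaf (.cyc (nat_lit 15) [(nat_lit 6638), (nat_lit 5002), (nat_lit 1886)])) (.leaf .df)))) (.node (.node (.node (.leaf .df) (.leaf (.cyc (nat_lit 83) [(nat_lit 9326), (nat_lit 8621), (nat_lit 8618),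 (nat_lit 9301), (nat_lit 9300), (nat_lit 9304), (nat_lit 2660), (nat_lit 9613), (nat_lit 9609), (nat_lit 2723), (nat_lit 9887)]))) (.node (.leaf (.cyc (nat_lit 110) [(nat_lit 5789), (nat_lit 4239), (nat_lit 879)])) (.leaf .df))) (.node (.node (.leaf (.cyc (nat_lit 126) [(nat_lit 3740), (nat_lit 598), (nat_lit 276), (nat_lit 278), (nat_lit 603), (nat_lit 3743), (nat_lit 603), (nat_lit 278), (nat_lit 276), (nat_lit 598), (nat_lit 3740)])) (.leaf .df)) (.node (.leaf (.cyc (nat_lit 62) [(nat_lit 7748), (nat_lit 7745), (nat_lit 1432), (nat_lit 1433), (nat_lit 2196)])) (.leaf .df)))))) (.node (.node (.node (.node (.node (.leaf .df) (.leaf (.cyc (nat_lit 46) [(nat_lit 8608), (nat_lit 8226), (nat_lit 8608)]))) (.node (.leaf (.cyc (nat_lit 27) [(nat_lit 516), (nat_lit 515), (nat_lit 989)])) (.leaf .df))) (.node (.node (.leaf .df) (.leaf .df)) (.node (.leaf (.cyc (nat_lit 25) [(nat_lit 1075), (nat_lit 565), (nat_lit 3638), (nat_lit 1037), (nat_lit 1795)])) (.leaf .df)))) (.node (.node (.node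 (.leaf .df) (.leaf (.cyc (nat_lit 20) [(nat_lit 2387), (nat_lit 2386), (nat_lit 2666)]))) (.node (.leaf (.cyc (nat_lit 21) [(nat_lit 4820), (nat_lit 873), (nat_lit 875), (nat_lit 4241), (nat_lit 1453)])) (.leaf .df))) (.node (.node (.leaf (.cyc (nat_lit 62) [(nat_lit 210), (nat_lit 82), (nat_lit 81), (nat_lit 206), (nat_lit 462)])) (.leaf .df)) (.node (.leaf (.cyc (nat_lit 19) [(nat_lit 2123), (nat_lit 1349), (nat_lit 3913), (nat_lit 1349), (nat_lit 2123)])) (.leaf .df))))) (.node (.node (.node (.node (.leaf .df) (.leaf (.cyc (nat_lit 56) [(nat_lit 2536), (nat_lit 2042), (nat_lit 5114), (nat_lit 2042), (nat_lit 2536)]))) (.node (.leaf (.cyc (nat_lit 31) [(nat_lit 652), (nat_lit 303), (nat_lit 3227), (nat_lit 649), (nat_lit 1229)])) (.leaf .df))) (.node (.node (.leaf (.cyc (nat_lit 53) [(nat_lit 163), (nat_lit 65), (nat_lit 2802), (nat_lit 65), (nat_lit 163)])) (.leaf .df)) (.node (.leaf (.cyc (nat_lit 62) [(nat_lit 1966), (nat_lit 5278), (nat_lit 5277), (nat_lit 5278), (nat_lit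 1966)])) (.leaf .df)))) (.node (.node (.node (.leaf .df) (.leaf .df)) (.node (.leaf (.cyc (nat_lit 94) [(nat_lit 1617), (nat_lit 1618), (nat_lit 6048), (nat_lit 1618), (nat_lit 1617)])) (.leaf .df))) (.node (.node (.leaf (.cyc (nat_lit 131) [(nat_lit 3825), (nat_lit 648), (nat_lit 301), (nat_lit 3218), (nat_lit 288), (nat_lit 123), (nat_lit 126), (nat_lit 295), (nat_lit 3625), (nat_lit 3624), (nat_lit 4000)])) (.leaf .df)) (.node (.leaf (.cyc (nat_lit 53) [(nat_lit 2270), (nat_lit 1536), (nat_lit 4164), (nat_lit 1536), (nat_lit 2270)])) (.leaf .df))))))))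
noncomputable def u5P1000011 : BT Pf := (.node (.node (.node (.node (.node (.node (.node (.leaf .df) (.leaf (.cyc (nat_lit 28) [(nat_lit 2322), (nat_lit 6095), (nat_lit 4965), (nat_lit 6095), (nat_lit 2322)]))) (.node (.leaf (.cyc (nat_lit 27) [(nat_lit 835), (nat_lit 834), (nat_lit 4192)])) (.leaf .df))) (.node (.node (.leaf .df) (.leaf .df)) (.node (.leaf (.cyc (nat_lit 158) [(nat_lit 5246), (nat_lit 4767), (nat_lit 705), (nat_lit 3262), (nat_lit 3449), (nat_lit 334), (nat_lit 713), (nat_lit 4395), (nat_lit 1689), (nat_lit 6239), (nat_lit 1148), (nat_lit 3923), (nat_lit 728), (nat_lit 341), (nat_lit 342), (nat_lit 730), (nat_lit 5379)])) (.leaf .df)))) (.node (.node (.node (.leaf .df) (.leaf (.cyc (nat_lit 24) [(nat_lit 2586), (nat_lit 7647), (nat_lit 5399), (nat_lit 7647), (nat_lit 2586)]))) (.node (.leaf (.cyc (nat_lit 18) [(nat_lit 1308), (nat_lit 1307), (nat_lit 5215), (nat_lit 1307), (nat_lit 1308)])) (.leaf .df))) (.node (.node (.leaf (.cyc (nat_lit 50) [(nat_lit 183),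 (nat_lit 72), (nat_lit 2842), (nat_lit 108), (nat_lit 253)])) (.leaf .df)) (.node (.leaf (.cyc (nat_lit 119) [(nat_lit 7262), (nat_lit 6360), (nat_lit 6630), (nat_lit 6486), (nat_lit 6474), (nat_lit 4829), (nat_lit 4013), (nat_lit 1032), (nat_lit 1789), (nat_lit 6548), (nat_lit 1983)])) (.leaf .df))))) (.node (.node (.node (.node (.leaf .df) (.leaf (.cyc (nat_lit 16) [(nat_lit 2454), (nat_lit 6720), (nat_lit 6287), (nat_lit 6720), (nat_lit 2454)]))) (.node (.leaf (.cyc (nat_lit 25) [(nat_lit 1027), (nat_lit 4119), (nat_lit 830), (nat_lit 4662), (nat_lit 1070)])) (.leaf .df))) (.node (.node (.leaf .df) (.leaf .df)) (.node (.leaf (.cyc (nat_lit 28) [(nat_lit 1853), (nat_lit 1088), (nat_lit 3723), (nat_lit 1100), (nat_lit 1863)])) (.leaf .df)))) (.node (.node (.node (.leaf .df) (.leaf (.cyc (nat_lit 35) [(nat_lit 2710), (nat_lit 9819), (nat_lit 9820), (nat_lit 9819), (nat_lit 2710)]))) (.node (.leaf (.cyc (nat_lit 24) [(nat_lit 4558), (nat_lit 4530), (nat_lit 4147), (nat_lit 819),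 (nat_lit 1519)])) (.leaf .df))) (.node (.node (.leaf (.cyc (nat_lit 21) [(nat_lit 264), (nat_lit 3670), (nat_lit 3057), (nat_lit 3670), (nat_lit 264)])) (.leaf .df)) (.node (.leaf (.cyc (nat_lit 20) [(nat_lit 1966), (nat_lit 5461), (nat_lit 2177)])) (.leaf .df)))))) (.node (.node (.node (.node (.node (.leaf .df) (.leaf (.cyc (nat_lit 21) [(nat_lit 2387), (nat_lit 6406), (nat_lit 4857), (nat_lit 6406), (nat_lit 2387)]))) (.node (.leaf (.cyc (nat_lit 7) [(nat_lit 4448), (nat_lit 4071), (nat_lit 845)])) (.leaf .df))) (.node (.node (.leaf .df) (.leaf .df)) (.node (.leaf (.cyc (nat_lit 76) [(nat_lit 6496), (nat_lit 1134), (nat_lit 597), (nat_lit 3734), (nat_lit 1125)])) (.leaf .df)))) (.node (.node (.node (.leaf .df) (.leaf (.cyc (nat_lit 63) [(nat_lit 2650), (nat_lit 8267), (nat_lit 8083), (nat_lit 8267), (nat_lit 2650)]))) (.node (.leaf (.cyc (nat_lit 41) [(nat_lit 5040), (nat_lit 3972), (nat_lit 1418)])) (.leaf .df))) (.node (.node (.leaf (.cyc (nat_lit 112) [(nat_lit 369), (nat_lit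 3424), (nat_lit 2867)])) (.leaf .df)) (.node (.leaf (.cyc (nat_lit 6) [(nat_lit 2038), (nat_lit 2039), (nat_lit 7423), (nat_lit 7421), (nat_lit 2105)])) (.leaf .df))))) (.node (.node (.node (.node (.leaf .df) (.leaf (.cyc (nat_lit 28) [(nat_lit 2519), (nat_lit 7375), (nat_lit 7374), (nat_lit 7375), (nat_lit 2519)]))) (.node (.leaf (.cyc (nat_lit 27) [(nat_lit 4348), (nat_lit 4351), (nat_lit 1194)])) (.leaf .df))) (.node (.node (.leaf (.cyc (nat_lit 46) [(nat_lit 78), (nat_lit 2837), (nat_lit 103)])) (.leaf .df)) (.node (.leaf (.cyc (nat_lit 83) [(nat_lit 1223), (nat_lit 646), (nat_lit 3766), (nat_lit 3768), (nat_lit 882), (nat_lit 5320), (nat_lit 6823), (nat_lit 6826), (nat_lit 6824), (nat_lit 1945), (nat_lit 7007)])) (.leaf .df)))) (.node (.node (.node (.leaf .df) (.leaf .df)) (.node (.leaf (.cyc (nat_lit 40) [(nat_lit 5984), (nat_lit 1598), (nat_lit 5003)])) (.leaf .df))) (.node (.node (.leaf (.cyc (nat_lit 27) [(nat_lit 736), (nat_lit 3294), (nat_lit 736)])) (.leaf .df)) (.node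 (.leaf (.cyc (nat_lit 37) [(nat_lit 2250), (nat_lit 5908), (nat_lit 5909), (nat_lit 5908), (nat_lit 2250)])) (.leaf .df))))))) (.node (.node (.node (.node (.node (.node (.leaf .df) (.leaf (.cyc (nat_lit 62) [(nat_lit 2352), (nat_lit 6203), (nat_lit 6063), (nat_lit 6203), (nat_lit 2352)]))) (.node (.leaf (.cyc (nat_lit 27) [(nat_lit 461), (nat_lit 460), (nat_lit 913)])) (.leaf .df))) (.node (.node (.leaf .df) (.leaf .df)) (.node (.leaf (.cyc (nat_lit 62) [(nat_lit 1139), (nat_lit 4819), (nat_lit 6335), (nat_lit 6338), (nat_lit 1732)])) (.leaf .df)))) (.node (.node (.node (.leaf .df) (.leaf (.cyc (nat_lit 31) [(nat_lit 2621), (nat_lit 2251), (nat_lit 5700), (nat_lit 2251), (nat_lit 2621)]))) (.node (.leaf (.cyc (nat_lit 24) [(nat_lit 1356), (nat_lit 3916), (nat_lit 3453), (nat_lit 3916), (nat_lit 1356)])) (.leaf .df))) (.node (.node (.leaf (.cyc (nat_lit 37) [(nat_lit 323), (nat_lit 135), (nat_lit 2861), (nat_lit 144), (nat_lit 349)])) (.leaf .df)) (.node (.leaf (.cyc (nat_lit 59)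 [(nat_lit 7391), (nat_lit 1655), (nat_lit 912), (nat_lit 914), (nat_lit 1657)])) (.leaf .df))))) (.node (.node (.node (.node (.leaf .df) (.leaf (.cyc (nat_lit 41) [(nat_lit 7961), (nat_lit 6838), (nat_lit 2487)]))) (.node (.leaf (.cyc (nat_lit 6) [(nat_lit 1130), (nat_lit 4573), (nat_lit 4574), (nat_lit 4573), (nat_lit 1130)])) (.leaf .df))) (.node (.node (.leaf (.pin (nat_lit 36) [(nat_lit 8), (nat_lit 27)] [(nat_lit 27), (nat_lit 8)])) (.leaf .df)) (.node (.leaf (.cyc (nat_lit 42) [(nat_lit 1908), (nat_lit 4843), (nat_lit 1906), (nat_lit 6875), (nat_lit 5328), (nat_lit 5017), (nat_lit 5328), (nat_lit 6875), (nat_lit 1906), (nat_lit 4843), (nat_lit 1908)])) (.leaf .df)))) (.node (.node (.node (.leaf .df) (.leaf (.cyc (nat_lit 6) [(nat_lit 2736), (nat_lit 2634), (nat_lit 8131), (nat_lit 2634), (nat_lit 2736)]))) (.node (.leaf (.cyc (nat_lit 18) [(nat_lit 4699), (nat_lit 4586), (nat_lit 4389), (nat_lit 4388), (nat_lit 1555)])) (.leaf .df))) (.node (.node (.leaf (.cyc (nat_lit 31)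 [(nat_lit 316), (nat_lit 133), (nat_lit 2940), (nat_lit 297), (nat_lit 641)])) (.leaf .df)) (.node (.leaf (.cyc (nat_lit 35) [(nat_lit 1465), (nat_lit 1466), (nat_lit 7667), (nat_lit 5611), (nat_lit 2212)])) (.leaf .df)))))) (.node (.node (.node (.node (.node (.leaf .df) (.leaf (.cyc (nat_lit 46) [(nat_lit 2419), (nat_lit 7082), (nat_lit 2419)]))) (.node (.leaf (.cyc (nat_lit 56) [(nat_lit 1021), (nat_lit 3618), (nat_lit 3602), (nat_lit 3618), (nat_lit 1021)])) (.leaf .df))) (.node (.node (.leaf .df) (.leaf .df)) (.node (.leaf (.cyc (nat_lit 20) [(nat_lit 1695), (nat_lit 4683), (nat_lit 1815)])) (.leaf .df)))) (.node (.node (.node (.leaf .df) (.leaf (.cyc (nat_lit 20) [(nat_lit 2680), (nat_lit 8815), (nat_lit 2680)]))) (.node (.leaf (.cyc (nat_lit 28) [(nat_lit 1477), (nat_lit 792), (nat_lit 3350), (nat_lit 792), (nat_lit 1477)])) (.leaf .df))) (.node (.node (.leaf (.cyc (nat_lit 37) [(nat_lit 497), (nat_lit 495), (nat_lit 3549), (nat_lit 495), (nat_lit 497)])) (.leaf .df)) (.node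 (.leaf (.cyc (nat_lit 23) [(nat_lit 7641), (nat_lit 2140), (nat_lit 2143)])) (.leaf .df))))) (.node (.node (.node (.node (.leaf .df) (.leaf (.cyc (nat_lit 37) [(nat_lit 2553), (nat_lit 2073), (nat_lit 5169), (nat_lit 2073), (nat_lit 2553)]))) (.node (.leaf (.cyc (nat_lit 3) [(nat_lit 5088), (nat_lit 831), (nat_lit 832)])) (.leaf .df))) (.node (.node (.leaf (.cyc (nat_lit 63) [(nat_lit 99), (nat_lit 41), (nat_lit 2789), (nat_lit 74), (nat_lit 3040)])) (.leaf .df)) (.node (.leaf (.cyc (nat_lit 2) [(nat_lit 7135), (nat_lit 6721), (nat_lit 6646), (nat_lit 6648), (nat_lit 6602)])) (.leaf .df)))) (.node (.node (.node (.leaf .df) (.leaf .df)) (.node (.leaf (.cyc (nat_lit 31) [(nat_lit 915), (nat_lit 461), (nat_lit 3479), (nat_lit 905), (nat_lit 1640)])) (.leaf .df))) (.node (.node (.leaf (.cyc (nat_lit 74) [(nat_lit 4027), (nat_lit 4055), (nat_lit 532)])) (.leaf .df)) (.node (.leaf (.cyc (nat_lit 25) [(nat_lit 2288), (nat_lit 7112), (nat_lit 7125), (nat_lit 7112), (nat_lit 2288)])) (.leaf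 .df))))))))
noncomputable def u5P100001 : BT Pf := .node u5P1000010 u5P1000011
noncomputable def u5P10000 : BT Pf := .node u5P100000 u5P100001
noncomputable def u5P1000100 : BT Pf := (.node (.node (.node (.node (.node (.node (.node (.leaf .df) (.leaf (.cyc (nat_lit 30) [(nat_lit 2299), (nat_lit 7721), (nat_lit 7720), (nat_lit 7721), (nat_lit 2299)]))) (.node (.leaf (.cyc (nat_lit 19) [(nat_lit 797), (nat_lit 393), (nat_lit 2980), (nat_lit 393), (nat_lit 797)])) (.leaf .df))) (.node (.node (.leaf .df) (.leaf .df)) (.node (.leaf (.cyc (nat_lit 109) [(nat_lit 1316), (nat_lit 1315), (nat_lit 6160), (nat_lit 1315), (nat_lit 1316)])) (.leaf .df)))) (.node (.node (.node (.leaf .df) (.leaf (.cyc (nat_lit 47) [(nat_lit 2568), (nat_lit 2567), (nat_lit 9230), (nat_lit 2567), (nat_lit 2568)]))) (.node (.leaf (.cyc (nat_lit 50) [(nat_lit 1274), (nat_lit 3861), (nat_lit 3307), (nat_lit 3861), (nat_lit 1274)])) (.leaf .df))) (.node (.node (.leaf (.cyc (nat_lit 28) [(nat_lit 84), (nat_lit 31),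 (nat_lit 29), (nat_lit 82), (nat_lit 209)])) (.leaf .df)) (.node (.leaf (.cyc (nat_lit 26) [(nat_lit 1705), (nat_lit 952), (nat_lit 953), (nat_lit 5985), (nat_lit 1997)])) (.leaf .df))))) (.node (.node (.node (.node (.leaf .df) (.leaf (.cyc (nat_lit 27) [(nat_lit 1820), (nat_lit 1819), (nat_lit 2433)]))) (.node (.leaf (.cyc (nat_lit 57) [(nat_lit 1039), (nat_lit 4074), (nat_lit 3382), (nat_lit 4121), (nat_lit 536), (nat_lit 3156), (nat_lit 536), (nat_lit 4121), (nat_lit 3382), (nat_lit 4074), (nat_lit 1039)])) (.leaf .df))) (.node (.node (.leaf .df) (.leaf .df)) (.node (.leaf (.cyc (nat_lit 48) [(nat_lit 1077), (nat_lit 4712), (nat_lit 1833)])) (.leaf .df)))) (.node (.node (.node (.leaf .df) (.leaf (.cyc (nat_lit 27) [(nat_lit 2690), (nat_lit 8922), (nat_lit 2690)]))) (.node (.leaf (.cyc (nat_lit 46) [(nat_lit 1487), (nat_lit 4111), (nat_lit 1487)])) (.leaf .df))) (.node (.node (.leaf (.cyc (nat_lit 41) [(nat_lit 519), (nat_lit 3575), (nat_lit 519)])) (.leaf .df)) (.node (.leaf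 (.cyc (nat_lit 8) [(nat_lit 7696), (nat_lit 2050), (nat_lit 5130), (nat_lit 2050), (nat_lit 7696)])) (.leaf .df)))))) (.node (.node (.node (.node (.node (.leaf .df) (.leaf (.cyc (nat_lit 31) [(nat_lit 2079), (nat_lit 6265), (nat_lit 6263), (nat_lit 1708), (nat_lit 2364)]))) (.node (.leaf (.cyc (nat_lit 89) [(nat_lit 668), (nat_lit 3245), (nat_lit 3243), (nat_lit 3229), (nat_lit 651), (nat_lit 4138), (nat_lit 810), (nat_lit 4367), (nat_lit 713), (nat_lit 3264), (nat_lit 3567), (nat_lit 652)])) (.leaf .df))) (.node (.node (.leaf .df) (.leaf .df)) (.node (.leaf (.cyc (nat_lit 46) [(nat_lit 991), (nat_lit 4511), (nat_lit 1748)])) (.leaf .df)))) (.node (.node (.node (.leaf .df) (.leaf (.cyc (nat_lit 31) [(nat_lit 2633), (nat_lit 9482), (nat_lit 9481), (nat_lit 9482), (nat_lit 2633)]))) (.node (.leaf (.cyc (nat_lit 45) [(nat_lit 1377), (nat_lit 5291), (nat_lit 5289), (nat_lit 5291), (nat_lit 1377)])) (.leaf .df))) (.node (.node (.leaf (.cyc (nat_lit 6) [(nat_lit 381), (nat_lit 2969),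 (nat_lit 2878), (nat_lit 2969), (nat_lit 381)])) (.leaf .df)) (.node (.leaf (.cyc (nat_lit 49) [(nat_lit 1305), (nat_lit 5180), (nat_lit 2085)])) (.leaf .df))))) (.node (.node (.node (.node (.leaf .df) (.leaf (.cyc (nat_lit 107) [(nat_lit 2498), (nat_lit 2497), (nat_lit 8974), (nat_lit 8601), (nat_lit 8243), (nat_lit 7114), (nat_lit 1774), (nat_lit 6171), (nat_lit 2347), (nat_lit 8394), (nat_lit 7218)]))) (.node (.leaf (.cyc (nat_lit 56) [(nat_lit 1154), (nat_lit 3758), (nat_lit 3209), (nat_lit 3758), (nat_lit 1154)])) (.leaf .df))) (.node (.node (.leaf (.cyc (nat_lit 37) [(nat_lit 41), (nat_lit 2787), (nat_lit 2786), (nat_lit 2787), (nat_lit 41)])) (.leaf .df)) (.node (.leaf (.cyc (nat_lit 15) [(nat_lit 1925), (nat_lit 4886), (nat_lit 1925)])) (.leaf .df)))) (.node (.node (.node (.leaf .df) (.leaf (.cyc (nat_lit 16) [(nat_lit 2746), (nat_lit 9860), (nat_lit 9856), (nat_lit 9860), (nat_lit 2746)]))) (.node (.leaf (.cyc (nat_lit 34) [(nat_lit 4326), (nat_lit 4443), (nat_lit 5904),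 (nat_lit 1570), (nat_lit 1571)])) (.leaf .df))) (.node (.node (.leaf (.cyc (nat_lit 37) [(nat_lit 672), (nat_lit 3247), (nat_lit 3565), (nat_lit 3247), (nat_lit 672)])) (.leaf .df)) (.node (.leaf (.cyc (nat_lit 52) [(nat_lit 1827), (nat_lit 5858), (nat_lit 7867), (nat_lit 7952), (nat_lit 2224)])) (.leaf .df))))))) (.node (.node (.node (.node (.node (.node (.leaf .df) (.leaf (.cyc (nat_lit 18) [(nat_lit 2334), (nat_lit 6136), (nat_lit 5185), (nat_lit 6136), (nat_lit 2334)]))) (.node (.leaf (.cyc (nat_lit 18) [(nat_lit 779), (nat_lit 371), (nat_lit 373), (nat_lit 780), (nat_lit 4240)])) (.leaf .df))) (.node (.node (.leaf .df) (.leaf .df)) (.node (.leaf (.cyc (nat_lit 23) [(nat_lit 1433), (nat_lit 4430), (nat_lit 1704)])) (.leaf .df)))) (.node (.node (.node (.leaf .df) (.leaf (.cyc (nat_lit 53) [(nat_lit 2600), (nat_lit 8862), (nat_lit 9077), (nat_lit 8862), (nat_lit 2600)]))) (.node (.leaf (.cyc (nat_lit 37) [(nat_lit 1331), (nat_lit 707), (nat_lit 3450), (nat_lit 707), (nat_lit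 1331)])) (.leaf .df))) (.node (.node (.leaf (.cyc (nat_lit 56) [(nat_lit 288), (nat_lit 3159), (nat_lit 3161), (nat_lit 3159), (nat_lit 288)])) (.leaf .df)) (.node (.leaf (.cyc (nat_lit 18) [(nat_lit 2000), (nat_lit 1999), (nat_lit 7193), (nat_lit 5787), (nat_lit 2036)])) (.leaf .df))))) (.node (.node (.node (.node (.leaf .df) (.leaf (.cyc (nat_lit 23) [(nat_lit 8210), (nat_lit 7960), (nat_lit 2467)]))) (.node (.leaf (.cyc (nat_lit 24) [(nat_lit 1101), (nat_lit 3721), (nat_lit 3785), (nat_lit 3721), (nat_lit 1101)])) (.leaf .df))) (.node (.node (.leaf .df) (.leaf .df)) (.node (.leaf (.cyc (nat_lit 26) [(nat_lit 1882), (nat_lit 4807), (nat_lit 4630), (nat_lit 4807), (nat_lit 1882)])) (.leaf .df)))) (.node (.node (.node (.leaf .df) (.leaf (.cyc (nat_lit 16) [(nat_lit 2720), (nat_lit 9407), (nat_lit 9405), (nat_lit 9407), (nat_lit 2720)]))) (.node (.leaf (.cyc (nat_lit 105) [(nat_lit 5776), (nat_lit 4160), (nat_lit 975)])) (.leaf .df))) (.node (.node (.leaf (.cyc (nat_lit 28) [(nat_lit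 277), (nat_lit 116), (nat_lit 115), (nat_lit 274), (nat_lit 591)])) (.leaf .df)) (.node (.leaf (.cyc (nat_lit 8) [(nat_lit 7824), (nat_lit 7249), (nat_lit 6887), (nat_lit 1910), (nat_lit 1909)])) (.leaf .df)))))) (.node (.node (.node (.node (.node (.leaf .df) (.leaf (.cyc (nat_lit 47) [(nat_lit 2399), (nat_lit 8587), (nat_lit 8590), (nat_lit 8587), (nat_lit 2399)]))) (.node (.leaf (.cyc (nat_lit 49) [(nat_lit 610), (nat_lit 609), (nat_lit 4496), (nat_lit 859)])) (.leaf .df))) (.node (.node (.leaf .df) (.leaf .df)) (.node (.leaf (.cyc (nat_lit 63) [(nat_lit 1564), (nat_lit 850), (nat_lit 848), (nat_lit 4599), (nat_lit 1788)])) (.leaf .df)))) (.node (.node (.node (.leaf .df) (.leaf (.cyc (nat_lit 45) [(nat_lit 2661), (nat_lit 8468), (nat_lit 7387), (nat_lit 8468), (nat_lit 2661)]))) (.node (.leaf (.cyc (nat_lit 15) [(nat_lit 1360), (nat_lit 4006), (nat_lit 1445)])) (.leaf .df))) (.node (.node (.leaf (.cyc (nat_lit 35) [(nat_lit 268), (nat_lit 269), (nat_lit 3188), (nat_lit 3126),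 (nat_lit 452)])) (.leaf .df)) (.node (.leaf (.cyc (nat_lit 34) [(nat_lit 1842), (nat_lit 6574), (nat_lit 7061), (nat_lit 7567), (nat_lit 7566)])) (.leaf .df))))) (.node (.node (.node (.node (.leaf .df) (.leaf (.cyc (nat_lit 37) [(nat_lit 8071), (nat_lit 7594), (nat_lit 7185), (nat_lit 7277), (nat_lit 2532)]))) (.node (.leaf (.cyc (nat_lit 6) [(nat_lit 5008), (nat_lit 758), (nat_lit 3304), (nat_lit 758), (nat_lit 5008)])) (.leaf .df))) (.node (.node (.leaf (.cyc (nat_lit 29) [(nat_lit 2960), (nat_lit 2945), (nat_lit 2943), (nat_lit 2945), (nat_lit 2960)])) (.leaf .df)) (.node (.leaf (.cyc (nat_lit 23) [(nat_lit 1898), (nat_lit 7040), (nat_lit 1960)])) (.leaf .df)))) (.node (.node (.node (.leaf .df) (.leaf .df)) (.node (.leaf (.cyc (nat_lit 16) [(nat_lit 4521), (nat_lit 4445), (nat_lit 888), (nat_lit 887), (nat_lit 1614)])) (.leaf .df))) (.node (.node (.leaf (.cyc (nat_lit 48) [(nat_lit 759), (nat_lit 3445), (nat_lit 759)])) (.leaf .df)) (.node (.leaf (.cyc (nat_lit 133) [(nat_lit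 2265), (nat_lit 5773), (nat_lit 1840), (nat_lit 6689), (nat_lit 7609), (nat_lit 2037), (nat_lit 1260), (nat_lit 669), (nat_lit 670), (nat_lit 1265), (nat_lit 2044)])) (.leaf .df))))))))
noncomputable def u5P1000101 : BT Pf := (.node (.node (.node (.node (.node (.node (.node (.leaf .df) (.leaf (.cyc (nat_lit 18) [(nat_lit 2319), (nat_lit 1632), (nat_lit 4300), (nat_lit 1632), (nat_lit 2319)]))) (.node (.leaf (.cyc (nat_lit 25) [(nat_lit 503), (nat_lit 229), (nat_lit 230), (nat_lit 505), (nat_lit 4176)])) (.leaf .df))) (.node (.node (.leaf .df) (.leaf .df)) (.node (.leaf (.cyc (nat_lit 24) [(nat_lit 1684), (nat_lit 1682), (nat_lit 6222), (nat_lit 1682), (nat_lit 1684)])) (.leaf .df)))) (.node (.node (.node (.leaf .df) (.leaf (.cyc (nat_lit 21) [(nat_lit 2581), (nat_lit 8318), (nat_lit 8321), (nat_lit 8318), (nat_lit 2581)]))) (.node (.leaf (.cyc (nat_lit 112) [(nat_lit 5196), (nat_lit 5200)])) (.leaf .df))) (.node (.node (.leaf (.cyc (nat_lit 20) [(nat_lit 248), (nat_lit 2914),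 (nat_lit 248)])) (.leaf .df)) (.node (.leaf (.cyc (nat_lit 86) [(nat_lit 7248), (nat_lit 1522), (nat_lit 1520)])) (.leaf .df))))) (.node (.node (.node (.node (.leaf .df) (.leaf (.cyc (nat_lit 20) [(nat_lit 2449), (nat_lit 6694), (nat_lit 2449)]))) (.node (.leaf (.cyc (nat_lit 63) [(nat_lit 1062), (nat_lit 561), (nat_lit 3675), (nat_lit 561), (nat_lit 1062)])) (.leaf .df))) (.node (.node (.leaf .df) (.leaf .df)) (.node (.leaf (.cyc (nat_lit 56) [(nat_lit 1793), (nat_lit 4622), (nat_lit 1478), (nat_lit 5634), (nat_lit 1858)])) (.leaf .df)))) (.node (.node (.node (.leaf .df) (.leaf (.cyc (nat_lit 20) [(nat_lit 2706), (nat_lit 9121), (nat_lit 2706)]))) (.node (.leaf (.cyc (nat_lit 15) [(nat_lit 1510), (nat_lit 4416), (nat_lit 1510)])) (.leaf .df))) (.node (.node (.leaf (.cyc (nat_lit 73) [(nat_lit 3089), (nat_lit 3655)])) (.leaf .df)) (.node (.leaf (.cyc (nat_lit 35) [(nat_lit 6326), (nat_lit 5228), (nat_lit 1313), (nat_lit 5448), (nat_lit 2172)])) (.leaf .df)))))) (.node (.node (.node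 (.node (.node (.leaf .df) (.leaf (.cyc (nat_lit 93) [(nat_lit 2382), (nat_lit 6384), (nat_lit 7974), (nat_lit 7975), (nat_lit 7978), (nat_lit 7976), (nat_lit 7978), (nat_lit 7975), (nat_lit 7974), (nat_lit 6384), (nat_lit 2382)]))) (.node (.leaf (.cyc (nat_lit 87) [(nat_lit 952), (nat_lit 489), (nat_lit 222), (nat_lit 224), (nat_lit 3139), (nat_lit 3137), (nat_lit 3139), (nat_lit 224), (nat_lit 222), (nat_lit 489), (nat_lit 952)])) (.leaf .df))) (.node (.node (.leaf .df) (.leaf .df)) (.node (.leaf (.cyc (nat_lit 73) [(nat_lit 1438), (nat_lit 6477), (nat_lit 1146)])) (.leaf .df)))) (.node (.node (.node (.leaf .df) (.leaf (.cyc (nat_lit 26) [(nat_lit 2646), (nat_lit 8279), (nat_lit 8285), (nat_lit 8279), (nat_lit 2646)]))) (.node (.leaf (.cyc (nat_lit 18) [(nat_lit 1412), (nat_lit 4769), (nat_lit 4770), (nat_lit 4769), (nat_lit 1412)])) (.leaf .df))) (.node (.node (.leaf (.cyc (nat_lit 20) [(nat_lit 437), (nat_lit 3060), (nat_lit 437)])) (.leaf .df)) (.node (.leaf (.cyc (nat_lit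 3) [(nat_lit 7504), (nat_lit 6795), (nat_lit 6796)])) (.leaf .df))))) (.node (.node (.node (.node (.leaf .df) (.leaf (.cyc (nat_lit 20) [(nat_lit 7696), (nat_lit 7344), (nat_lit 2516)]))) (.node (.leaf (.cyc (nat_lit 37) [(nat_lit 1181), (nat_lit 4619), (nat_lit 4618), (nat_lit 4619), (nat_lit 1181)])) (.leaf .df))) (.node (.node (.leaf (.cyc (nat_lit 51) [(nat_lit 95), (nat_lit 2827), (nat_lit 2826), (nat_lit 34), (nat_lit 20), (nat_lit 2778), (nat_lit 20), (nat_lit 34), (nat_lit 2826), (nat_lit 2827), (nat_lit 95)])) (.leaf .df)) (.node (.leaf (.cyc (nat_lit 21) [(nat_lit 5631), (nat_lit 4735), (nat_lit 4510), (nat_lit 4911), (nat_lit 1941)])) (.leaf .df)))) (.node (.node (.node (.leaf .df) (.leaf .df)) (.node (.leaf (.cyc (nat_lit 26) [(nat_lit 1593), (nat_lit 4238), (nat_lit 4008), (nat_lit 4238), (nat_lit 1593)])) (.leaf .df))) (.node (.node (.leaf (.cyc (nat_lit 48) [(nat_lit 344), (nat_lit 3270), (nat_lit 728)])) (.leaf .df)) (.node (.leaf (.cyc (nat_lit 30) [(nat_lit 1818),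 (nat_lit 1061), (nat_lit 4127), (nat_lit 1492), (nat_lit 2245)])) (.leaf .df))))))) (.node (.node (.node (.node (.node (.node (.leaf .df) (.leaf (.cyc (nat_lit 20) [(nat_lit 1672), (nat_lit 1671), (nat_lit 2349)]))) (.node (.leaf (.cyc (nat_lit 47) [(nat_lit 3956), (nat_lit 3486), (nat_lit 459), (nat_lit 3479), (nat_lit 903)])) (.leaf .df))) (.node (.node (.leaf .df) (.leaf .df)) (.node (.leaf (.cyc (nat_lit 144) [(nat_lit 5006), (nat_lit 1157), (nat_lit 3817), (nat_lit 4995), (nat_lit 1069), (nat_lit 1070), (nat_lit 4781), (nat_lit 1121), (nat_lit 6335), (nat_lit 6338), (nat_lit 1731)])) (.leaf .df)))) (.node (.node (.node (.leaf .df) (.leaf (.cyc (nat_lit 30) [(nat_lit 2617), (nat_lit 7998), (nat_lit 5673), (nat_lit 7998), (nat_lit 2617)]))) (.node (.leaf (.cyc (nat_lit 23) [(nat_lit 1221), (nat_lit 3906), (nat_lit 1348)])) (.leaf .df))) (.node (.node (.leaf (.cyc (nat_lit 100) [(nat_lit 2953), (nat_lit 344), (nat_lit 3280), (nat_lit 344), (nat_lit 2953), (nat_lit 317)])) (.leaf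 .df)) (.node (.leaf (.cyc (nat_lit 37) [(nat_lit 2062), (nat_lit 5148), (nat_lit 4470), (nat_lit 5148), (nat_lit 2062)])) (.leaf .df))))) (.node (.node (.node (.node (.leaf .df) (.leaf (.cyc (nat_lit 108) [(nat_lit 7466), (nat_lit 7547), (nat_lit 2114), (nat_lit 5288), (nat_lit 4930), (nat_lit 1181), (nat_lit 1956), (nat_lit 7050), (nat_lit 4947), (nat_lit 7042), (nat_lit 2483)]))) (.node (.leaf (.cyc (nat_lit 54) [(nat_lit 4815), (nat_lit 1096), (nat_lit 578), (nat_lit 3189), (nat_lit 579), (nat_lit 3787), (nat_lit 579), (nat_lit 3189), (nat_lit 578), (nat_lit 1096), (nat_lit 4815)])) (.leaf .df))) (.node (.node (.leaf (.pin (nat_lit 20) [(nat_lit 6)] [])) (.leaf .df)) (.node (.leaf (.cyc (nat_lit 30) [(nat_lit 1904), (nat_lit 4839), (nat_lit 4621), (nat_lit 4839), (nat_lit 1904)])) (.leaf .df)))) (.node (.node (.node (.leaf .df) (.leaf (.cyc (nat_lit 28) [(nat_lit 2733), (nat_lit 9448), (nat_lit 9447), (nat_lit 9448), (nat_lit 2733)]))) (.node (.leaf (.cyc (nat_lit 53) [(nat_lit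 4451), (nat_lit 4195), (nat_lit 835), (nat_lit 836), (nat_lit 1549)])) (.leaf .df))) (.node (.node (.leaf (.cyc (nat_lit 50) [(nat_lit 628), (nat_lit 292), (nat_lit 2936), (nat_lit 292), (nat_lit 628)])) (.leaf .df)) (.node (.leaf (.cyc (nat_lit 74) [(nat_lit 7885), (nat_lit 7887)])) (.leaf .df)))))) (.node (.node (.node (.node (.node (.leaf .df) (.leaf (.cyc (nat_lit 88) [(nat_lit 2414), (nat_lit 2415), (nat_lit 8656), (nat_lit 2415), (nat_lit 2414)]))) (.node (.leaf (.cyc (nat_lit 21) [(nat_lit 1011), (nat_lit 4545), (nat_lit 3954), (nat_lit 4545), (nat_lit 1011)])) (.leaf .df))) (.node (.node (.leaf .df) (.leaf .df)) (.node (.leaf (.cyc (nat_lit 16) [(nat_lit 4861), (nat_lit 6480), (nat_lit 1440), (nat_lit 6498), (nat_lit 1807)])) (.leaf .df)))) (.node (.node (.node (.leaf .df) (.leaf (.cyc (nat_lit 50) [(nat_lit 2676), (nat_lit 2444), (nat_lit 6675), (nat_lit 2444), (nat_lit 2676)]))) (.node (.leaf (.cyc (nat_lit 8) [(nat_lit 5584), (nat_lit 1296), (nat_lit 4277), (nat_lit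 1227), (nat_lit 5259)])) (.leaf .df))) (.node (.node (.leaf (.cyc (nat_lit 41) [(nat_lit 486), (nat_lit 3116), (nat_lit 486)])) (.leaf .df)) (.node (.leaf (.cyc (nat_lit 49) [(nat_lit 7583), (nat_lit 7322), (nat_lit 2138)])) (.leaf .df))))) (.node (.node (.node (.node (.leaf .df) (.leaf (.cyc (nat_lit 20) [(nat_lit 2069), (nat_lit 2067), (nat_lit 2549)]))) (.node (.leaf (.cyc (nat_lit 31) [(nat_lit 1244), (nat_lit 661), (nat_lit 3240), (nat_lit 661), (nat_lit 1244)])) (.leaf .df))) (.node (.node (.leaf (.cyc (nat_lit 27) [(nat_lit 71), (nat_lit 70), (nat_lit 177)])) (.leaf .df)) (.node (.leaf (.cyc (nat_lit 27) [(nat_lit 1622), (nat_lit 1621), (nat_lit 7120)])) (.leaf .df)))) (.node (.node (.node (.leaf .df) (.leaf .df)) (.node (.leaf (.cyc (nat_lit 37) [(nat_lit 1635), (nat_lit 5075), (nat_lit 5074), (nat_lit 5075), (nat_lit 1635)])) (.leaf .df))) (.node (.node (.leaf (.cyc (nat_lit 72) [(nat_lit 3463), (nat_lit 4039), (nat_lit 388)])) (.leaf .df)) (.node (.leaf (.cyc (nat_lit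 19) [(nat_lit 2283), (nat_lit 5849), (nat_lit 4175), (nat_lit 5849), (nat_lit 2283)])) (.leaf .df))))))))
noncomputable def u5P100010 : BT Pf := .node u5P1000100 u5P1000101
noncomputable def u5P1000110 : BT Pf := (.node (.node (.node (.node (.node (.node (.node (.leaf .df) (.leaf (.cyc (nat_lit 23) [(nat_lit 6213), (nat_lit 6033), (nat_lit 2309)]))) (.node (.leaf (.cyc (nat_lit 23) [(nat_lit 402), (nat_lit 401), (nat_lit 815)])) (.leaf .df))) (.node (.node (.leaf .df) (.leaf .df)) (.node (.leaf (.cyc (nat_lit 61) [(nat_lit 6191), (nat_lit 1673), (nat_lit 4387), (nat_lit 3526), (nat_lit 934), (nat_lit 4578), (nat_lit 4576), (nat_lit 5500), (nat_lit 1428), (nat_lit 5450), (nat_lit 6072)])) (.leaf .df)))) (.node (.node (.node (.leaf .df) (.leaf (.cyc (nat_lit 15) [(nat_lit 8551), (nat_lit 8550), (nat_lit 2574)]))) (.node (.leaf (.cyc (nat_lit 117) [(nat_lit 1289), (nat_lit 1288), (nat_lit 5168), (nat_lit 1288), (nat_lit 1289)])) (.leaf .df))) (.node (.node (.leaf (.cyc (nat_lit 88)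 [(nat_lit 226), (nat_lit 227), (nat_lit 3120), (nat_lit 227), (nat_lit 226)])) (.leaf .df)) (.node (.leaf (.cyc (nat_lit 25) [(nat_lit 6591), (nat_lit 1063), (nat_lit 1065), (nat_lit 1825), (nat_lit 7216)])) (.leaf .df))))) (.node (.node (.node (.node (.leaf .df) (.leaf (.cyc (nat_lit 107) [(nat_lit 2440), (nat_lit 2439), (nat_lit 8748), (nat_lit 8747), (nat_lit 2221), (nat_lit 7667), (nat_lit 5612), (nat_lit 6560), (nat_lit 2418), (nat_lit 8670), (nat_lit 7612)]))) (.node (.leaf (.cyc (nat_lit 25) [(nat_lit 1052), (nat_lit 3687), (nat_lit 3183), (nat_lit 3687), (nat_lit 1052)])) (.leaf .df))) (.node (.node (.leaf .df) (.leaf .df)) (.node (.leaf (.cyc (nat_lit 86) [(nat_lit 6703), (nat_lit 1700), (nat_lit 1698)])) (.leaf .df)))) (.node (.node (.node (.leaf .df) (.leaf (.cyc (nat_lit 62) [(nat_lit 2675), (nat_lit 2432), (nat_lit 2431), (nat_lit 9021), (nat_lit 2697)]))) (.node (.leaf (.cyc (nat_lit 56) [(nat_lit 1497), (nat_lit 5675), (nat_lit 5676), (nat_lit 5675), (nat_lit 1497)]))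 (.leaf .df))) (.node (.node (.leaf (.cyc (nat_lit 16) [(nat_lit 302), (nat_lit 3227), (nat_lit 3630), (nat_lit 540), (nat_lit 541)])) (.leaf .df)) (.node (.leaf (.cyc (nat_lit 23) [(nat_lit 1419), (nat_lit 5430), (nat_lit 2164)])) (.leaf .df)))))) (.node (.node (.node (.node (.node (.leaf .df) (.leaf (.cyc (nat_lit 50) [(nat_lit 2373), (nat_lit 6331), (nat_lit 5693), (nat_lit 6331), (nat_lit 2373)]))) (.node (.leaf (.cyc (nat_lit 18) [(nat_lit 942), (nat_lit 485), (nat_lit 3116), (nat_lit 485), (nat_lit 942)])) (.leaf .df))) (.node (.node (.leaf .df) (.leaf .df)) (.node (.leaf (.cyc (nat_lit 56) [(nat_lit 1763), (nat_lit 4883), (nat_lit 4884), (nat_lit 4883), (nat_lit 1763)])) (.leaf .df)))) (.node (.node (.node (.leaf .df) (.leaf (.cyc (nat_lit 166) [(nat_lit 2575), (nat_lit 9226), (nat_lit 9227), (nat_lit 9520), (nat_lit 9516), (nat_lit 9010), (nat_lit 9009), (nat_lit 7537), (nat_lit 2111), (nat_lit 2572), (nat_lit 9249)]))) (.node (.leaf (.cyc (nat_lit 34) [(nat_lit 1392),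 (nat_lit 737), (nat_lit 3453), (nat_lit 737), (nat_lit 1392)])) (.leaf .df))) (.node (.node (.leaf (.cyc (nat_lit 46) [(nat_lit 183), (nat_lit 3037), (nat_lit 405)])) (.leaf .df)) (.node (.leaf (.cyc (nat_lit 19) [(nat_lit 2095), (nat_lit 1314), (nat_lit 4283), (nat_lit 1314), (nat_lit 2095)])) (.leaf .df))))) (.node (.node (.node (.node (.leaf .df) (.leaf (.cyc (nat_lit 34) [(nat_lit 2110), (nat_lit 2109), (nat_lit 8346), (nat_lit 8348), (nat_lit 2506)]))) (.node (.leaf (.cyc (nat_lit 52) [(nat_lit 1166), (nat_lit 1167), (nat_lit 4912), (nat_lit 1167), (nat_lit 1166)])) (.leaf .df))) (.node (.node (.leaf (.cyc (nat_lit 41) [(nat_lit 63), (nat_lit 2804), (nat_lit 63)])) (.leaf .df)) (.node (.leaf (.cyc (nat_lit 56) [(nat_lit 1932), (nat_lit 5952), (nat_lit 5953), (nat_lit 5952), (nat_lit 1932)])) (.leaf .df)))) (.node (.node (.node (.leaf .df) (.leaf .df)) (.node (.leaf (.cyc (nat_lit 45) [(nat_lit 1581), (nat_lit 4348), (nat_lit 4374), (nat_lit 4348), (nat_lit 1581)])) (.leaf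 .df))) (.node (.node (.leaf (.cyc (nat_lit 15) [(nat_lit 517), (nat_lit 3254), (nat_lit 697)])) (.leaf .df)) (.node (.leaf (.cyc (nat_lit 20) [(nat_lit 7568), (nat_lit 7251), (nat_lit 2234)])) (.leaf .df))))))) (.node (.node (.node (.node (.node (.node (.leaf .df) (.leaf (.cyc (nat_lit 27) [(nat_lit 2135), (nat_lit 6148), (nat_lit 2341)]))) (.node (.leaf (.cyc (nat_lit 21) [(nat_lit 619), (nat_lit 288), (nat_lit 290), (nat_lit 3476), (nat_lit 891)])) (.leaf .df))) (.node (.node (.leaf .df) (.leaf .df)) (.node (.leaf (.cyc (nat_lit 56) [(nat_lit 1716), (nat_lit 6313), (nat_lit 6314), (nat_lit 6313), (nat_lit 1716)])) (.leaf .df)))) (.node (.node (.node (.leaf .df) (.leaf (.cyc (nat_lit 27) [(nat_lit 2260), (nat_lit 7924), (nat_lit 2608)]))) (.node (.leaf (.cyc (nat_lit 61) [(nat_lit 1339), (nat_lit 711), (nat_lit 710), (nat_lit 5052), (nat_lit 5051), (nat_lit 5078), (nat_lit 1245), (nat_lit 3994), (nat_lit 760), (nat_lit 761), (nat_lit 3992)])) (.leaf .df))) (.node (.node (.leaf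 (.cyc (nat_lit 20) [(nat_lit 138), (nat_lit 2947), (nat_lit 323)])) (.leaf .df)) (.node (.leaf (.cyc (nat_lit 42) [(nat_lit 5409), (nat_lit 1380), (nat_lit 730), (nat_lit 3271), (nat_lit 732), (nat_lit 3927), (nat_lit 3861), (nat_lit 676), (nat_lit 674), (nat_lit 1270), (nat_lit 2050)])) (.leaf .df))))) (.node (.node (.node (.node (.leaf .df) (.leaf (.cyc (nat_lit 63) [(nat_lit 8878), (nat_lit 2474), (nat_lit 1874), (nat_lit 1875), (nat_lit 2475)]))) (.node (.leaf (.cyc (nat_lit 46) [(nat_lit 600), (nat_lit 4784), (nat_lit 1086)])) (.leaf .df))) (.node (.node (.leaf .df) (.leaf .df)) (.node (.leaf (.cyc (nat_lit 37) [(nat_lit 1892), (nat_lit 6822), (nat_lit 6827), (nat_lit 6822), (nat_lit 1892)])) (.leaf .df)))) (.node (.node (.node (.leaf .df) (.leaf (.cyc (nat_lit 41) [(nat_lit 2727), (nat_lit 9333), (nat_lit 2727)]))) (.node (.leaf (.cyc (nat_lit 85) [(nat_lit 5024), (nat_lit 1043), (nat_lit 552), (nat_lit 554), (nat_lit 4073), (nat_lit 415), (nat_lit 413), (nat_lit 4121),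 (nat_lit 4119), (nat_lit 830), (nat_lit 1539)])) (.leaf .df))) (.node (.node (.leaf (.cyc (nat_lit 49) [(nat_lit 3290), (nat_lit 3289), (nat_lit 616)])) (.leaf .df)) (.node (.leaf (.cyc (nat_lit 110) [(nat_lit 7856), (nat_lit 5543), (nat_lit 2169)])) (.leaf .df)))))) (.node (.node (.node (.node (.node (.leaf .df) (.leaf (.cyc (nat_lit 26) [(nat_lit 2192), (nat_lit 5500), (nat_lit 4576), (nat_lit 1776), (nat_lit 2407)]))) (.node (.leaf (.cyc (nat_lit 28) [(nat_lit 995), (nat_lit 518), (nat_lit 3141), (nat_lit 518), (nat_lit 995)])) (.leaf .df))) (.node (.node (.leaf .df) (.leaf .df)) (.node (.leaf (.cyc (nat_lit 37) [(nat_lit 1800), (nat_lit 4983), (nat_lit 4981), (nat_lit 4983), (nat_lit 1800)])) (.leaf .df)))) (.node (.node (.node (.leaf .df) (.leaf (.cyc (nat_lit 30) [(nat_lit 2648), (nat_lit 8638), (nat_lit 2410), (nat_lit 2409), (nat_lit 2669)]))) (.node (.leaf (.cyc (nat_lit 31) [(nat_lit 1459), (nat_lit 784), (nat_lit 3337), (nat_lit 784), (nat_lit 1459)])) (.leaf .df)))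 (.node (.node (.leaf (.cyc (nat_lit 49) [(nat_lit 213), (nat_lit 3089), (nat_lit 468)])) (.leaf .df)) (.node (.leaf (.cyc (nat_lit 53) [(nat_lit 1353), (nat_lit 719), (nat_lit 718), (nat_lit 1351), (nat_lit 2127)])) (.leaf .df))))) (.node (.node (.node (.node (.leaf .df) (.leaf (.cyc (nat_lit 50) [(nat_lit 2541), (nat_lit 7336), (nat_lit 6811), (nat_lit 7336), (nat_lit 2541)]))) (.node (.leaf (.cyc (nat_lit 114) [(nat_lit 5037), (nat_lit 5039)])) (.leaf .df))) (.node (.node (.leaf (.cyc (nat_lit 73) [(nat_lit 2889), (nat_lit 2991), (nat_lit 2892)])) (.leaf .df)) (.node (.leaf (.cyc (nat_lit 25) [(nat_lit 1797), (nat_lit 6558), (nat_lit 7081), (nat_lit 7077), (nat_lit 1970)])) (.leaf .df)))) (.node (.node (.node (.leaf .df) (.leaf .df)) (.node (.leaf (.cyc (nat_lit 37) [(nat_lit 1625), (nat_lit 6018), (nat_lit 6019), (nat_lit 6018), (nat_lit 1625)])) (.leaf .df))) (.node (.node (.leaf (.cyc (nat_lit 34) [(nat_lit 740), (nat_lit 348), (nat_lit 2965), (nat_lit 373), (nat_lit 782)]))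 (.leaf .df)) (.node (.leaf (.cyc (nat_lit 45) [(nat_lit 2274), (nat_lit 1541), (nat_lit 4168), (nat_lit 1541), (nat_lit 2274)])) (.leaf .df))))))))
noncomputable def u5P1000111 : BT Pf := (.node (.node (.node (.node (.node (.node (.node (.leaf .df) (.leaf (.cyc (nat_lit 15) [(nat_lit 2150), (nat_lit 6108), (nat_lit 2326)]))) (.node (.leaf (.cyc (nat_lit 15) [(nat_lit 515), (nat_lit 3403), (nat_lit 854)])) (.leaf .df))) (.node (.node (.leaf .df) (.leaf .df)) (.node (.leaf (.cyc (nat_lit 62) [(nat_lit 1695), (nat_lit 943), (nat_lit 3535), (nat_lit 943), (nat_lit 1695)])) (.leaf .df)))) (.node (.node (.node (.leaf .df) (.leaf (.cyc (nat_lit 27) [(nat_lit 2592), (nat_lit 7663), (nat_lit 2592)]))) (.node (.leaf (.cyc (nat_lit 46) [(nat_lit 746), (nat_lit 747), (nat_lit 5232)])) (.leaf .df))) (.node (.node (.leaf (.cyc (nat_lit 63) [(nat_lit 268), (nat_lit 113), (nat_lit 2845), (nat_lit 113), (nat_lit 268)])) (.leaf .df)) (.node (.leaf (.cyc (nat_lit 18) [(nat_lit 2026), (nat_lit 1254),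 (nat_lit 1255), (nat_lit 2029), (nat_lit 7280)])) (.leaf .df))))) (.node (.node (.node (.node (.leaf .df) (.leaf (.cyc (nat_lit 46) [(nat_lit 2458), (nat_lit 6732), (nat_lit 2458)]))) (.node (.leaf (.cyc (nat_lit 46) [(nat_lit 1077), (nat_lit 3702), (nat_lit 1077)])) (.leaf .df))) (.node (.node (.leaf .df) (.leaf .df)) (.node (.leaf (.cyc (nat_lit 20) [(nat_lit 1868), (nat_lit 4758), (nat_lit 1868)])) (.leaf .df)))) (.node (.node (.node (.leaf .df) (.leaf (.cyc (nat_lit 53) [(nat_lit 2713), (nat_lit 2547), (nat_lit 7367), (nat_lit 2547), (nat_lit 2713)]))) (.node (.leaf (.cyc (nat_lit 20) [(nat_lit 1524), (nat_lit 4150), (nat_lit 1524)])) (.leaf .df))) (.node (.node (.leaf (.cyc (nat_lit 47) [(nat_lit 3645), (nat_lit 551), (nat_lit 3179), (nat_lit 265), (nat_lit 564)])) (.leaf .df)) (.node (.leaf (.cyc (nat_lit 18) [(nat_lit 2183), (nat_lit 7729), (nat_lit 7771), (nat_lit 7729), (nat_lit 2183)])) (.leaf .df)))))) (.node (.node (.node (.node (.node (.leaf .df) (.leaf (.cyc (nat_lit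 18) [(nat_lit 2243), (nat_lit 5647), (nat_lit 4532), (nat_lit 1754), (nat_lit 2391)]))) (.node (.leaf (.cyc (nat_lit 20) [(nat_lit 3858), (nat_lit 3558), (nat_lit 969)])) (.leaf .df))) (.node (.node (.leaf .df) (.leaf .df)) (.node (.leaf (.cyc (nat_lit 50) [(nat_lit 1777), (nat_lit 1022), (nat_lit 3620), (nat_lit 1022), (nat_lit 1777)])) (.leaf .df)))) (.node (.node (.node (.leaf .df) (.leaf (.cyc (nat_lit 48) [(nat_lit 2654), (nat_lit 8347), (nat_lit 2654)]))) (.node (.leaf (.cyc (nat_lit 25) [(nat_lit 1392), (nat_lit 3940), (nat_lit 5065), (nat_lit 3996), (nat_lit 1425)])) (.leaf .df))) (.node (.node (.leaf (.cyc (nat_lit 117) [(nat_lit 306), (nat_lit 2945), (nat_lit 3438), (nat_lit 2945), (nat_lit 306)])) (.leaf .df)) (.node (.leaf (.cyc (nat_lit 23) [(nat_lit 1332), (nat_lit 1330), (nat_lit 2110)])) (.leaf .df))))) (.node (.node (.node (.node (.leaf .df) (.leaf (.cyc (nat_lit 46) [(nat_lit 2525), (nat_lit 7238), (nat_lit 2525)]))) (.node (.leaf (.cyc (nat_lit 58) [(nat_lit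 1206), (nat_lit 3805), (nat_lit 424), (nat_lit 3169), (nat_lit 4063), (nat_lit 3029), (nat_lit 4063), (nat_lit 3169), (nat_lit 424), (nat_lit 3805), (nat_lit 1206)])) (.leaf .df))) (.node (.node (.leaf (.cyc (nat_lit 28) [(nat_lit 111), (nat_lit 46), (nat_lit 12), (nat_lit 49), (nat_lit 118)])) (.leaf .df)) (.node (.leaf (.cyc (nat_lit 18) [(nat_lit 1950), (nat_lit 1949), (nat_lit 7022), (nat_lit 1949), (nat_lit 1950)])) (.leaf .df)))) (.node (.node (.node (.leaf .df) (.leaf .df)) (.node (.leaf (.cyc (nat_lit 133) [(nat_lit 1604), (nat_lit 4256), (nat_lit 4448), (nat_lit 4450), (nat_lit 806), (nat_lit 4130), (nat_lit 804), (nat_lit 4097), (nat_lit 1472), (nat_lit 5589), (nat_lit 5815)])) (.leaf .df))) (.node (.node (.leaf (.cyc (nat_lit 62) [(nat_lit 747), (nat_lit 3487), (nat_lit 3491), (nat_lit 3487), (nat_lit 747)])) (.leaf .df)) (.node (.leaf (.cyc (nat_lit 21) [(nat_lit 1776), (nat_lit 1021), (nat_lit 4198), (nat_lit 1513), (nat_lit 2256)])) (.leaf .df))))))) (.node (.node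 (.node (.node (.node (.node (.leaf .df) (.leaf (.cyc (nat_lit 34) [(nat_lit 8307), (nat_lit 7486), (nat_lit 1963), (nat_lit 6232), (nat_lit 2356)]))) (.node (.leaf (.cyc (nat_lit 24) [(nat_lit 530), (nat_lit 3488), (nat_lit 3489), (nat_lit 3501), (nat_lit 920)])) (.leaf .df))) (.node (.node (.leaf .df) (.leaf .df)) (.node (.leaf (.cyc (nat_lit 47) [(nat_lit 1559), (nat_lit 844), (nat_lit 4071), (nat_lit 978), (nat_lit 1739)])) (.leaf .df)))) (.node (.node (.node (.leaf .df) (.leaf (.cyc (nat_lit 37) [(nat_lit 2625), (nat_lit 2258), (nat_lit 5728), (nat_lit 2258), (nat_lit 2625)]))) (.node (.leaf (.cyc (nat_lit 20) [(nat_lit 726), (nat_lit 724), (nat_lit 1363)])) (.leaf .df))) (.node (.node (.leaf (.cyc (nat_lit 20) [(nat_lit 154), (nat_lit 151), (nat_lit 365)])) (.leaf .df)) (.node (.leaf (.cyc (nat_lit 62) [(nat_lit 1294), (nat_lit 686), (nat_lit 685), (nat_lit 1290), (nat_lit 2075)])) (.leaf .df))))) (.node (.node (.node (.node (.leaf .df) (.leaf (.cyc (nat_lit 15) [(nat_lit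 2024), (nat_lit 6894), (nat_lit 2491)]))) (.node (.leaf (.cyc (nat_lit 104) [(nat_lit 1133), (nat_lit 1134), (nat_lit 4848), (nat_lit 1134), (nat_lit 1133)])) (.leaf .df))) (.node (.node (.leaf (.cyc (nat_lit 12) [(nat_lit 18), (nat_lit 1), (nat_lit 2759), (nat_lit 1), (nat_lit 18)])) (.leaf .df)) (.node (.leaf (.cyc (nat_lit 16) [(nat_lit 1914), (nat_lit 4859), (nat_lit 4508), (nat_lit 4859), (nat_lit 1914)])) (.leaf .df)))) (.node (.node (.node (.leaf .df) (.leaf (.cyc (nat_lit 27) [(nat_lit 2740), (nat_lit 9674), (nat_lit 2740)]))) (.node (.leaf (.cyc (nat_lit 20) [(nat_lit 850), (nat_lit 849), (nat_lit 1563)])) (.leaf .df))) (.node (.node (.leaf (.cyc (nat_lit 50) [(nat_lit 648), (nat_lit 301), (nat_lit 2941), (nat_lit 301), (nat_lit 648)])) (.leaf .df)) (.node (.leaf (.cyc (nat_lit 46) [(nat_lit 2216), (nat_lit 5554), (nat_lit 2216)])) (.leaf .df)))))) (.node (.node (.node (.node (.node (.leaf .df) (.leaf (.cyc (nat_lit 48) [(nat_lit 7709), (nat_lit 6612), (nat_lit 2423)])))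 (.node (.leaf (.cyc (nat_lit 27) [(nat_lit 1028), (nat_lit 3624), (nat_lit 1028)])) (.leaf .df))) (.node (.node (.leaf .df) (.leaf .df)) (.node (.leaf (.cyc (nat_lit 57) [(nat_lit 1822), (nat_lit 4691), (nat_lit 4661), (nat_lit 4166), (nat_lit 835), (nat_lit 4194), (nat_lit 835), (nat_lit 4166), (nat_lit 4661), (nat_lit 4691), (nat_lit 1822)])) (.leaf .df)))) (.node (.node (.node (.leaf .df) (.leaf (.cyc (nat_lit 37) [(nat_lit 2683), (nat_lit 8824), (nat_lit 7174), (nat_lit 8824), (nat_lit 2683)]))) (.node (.leaf (.cyc (nat_lit 30) [(nat_lit 1453), (nat_lit 779), (nat_lit 3354), (nat_lit 794), (nat_lit 1482)])) (.leaf .df))) (.node (.node (.leaf (.cyc (nat_lit 123) [(nat_lit 283), (nat_lit 120), (nat_lit 121), (nat_lit 3041), (nat_lit 99), (nat_lit 41), (nat_lit 2772), (nat_lit 2766), (nat_lit 36), (nat_lit 93), (nat_lit 228), (nat_lit 3122), (nat_lit 3285), (nat_lit 131), (nat_lit 133), (nat_lit 3565), (nat_lit 316)])) (.leaf .df)) (.node (.leaf (.cyc (nat_lit 63) [(nat_lit 1905),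 (nat_lit 4841), (nat_lit 1142), (nat_lit 7525), (nat_lit 2148)])) (.leaf .df))))) (.node (.node (.node (.node (.leaf .df) (.leaf (.cyc (nat_lit 21) [(nat_lit 2557), (nat_lit 8341), (nat_lit 8345), (nat_lit 8341), (nat_lit 2557)]))) (.node (.leaf (.cyc (nat_lit 31) [(nat_lit 671), (nat_lit 314), (nat_lit 313), (nat_lit 669), (nat_lit 1258)])) (.leaf .df))) (.node (.node (.leaf (.cyc (nat_lit 0) [(nat_lit 187), (nat_lit 188), (nat_lit 3056), (nat_lit 188), (nat_lit 187)])) (.leaf .df)) (.node (.leaf (.cyc (nat_lit 31) [(nat_lit 1986), (nat_lit 1200), (nat_lit 3803), (nat_lit 1200), (nat_lit 1986)])) (.leaf .df)))) (.node (.node (.node (.leaf .df) (.leaf .df)) (.node (.leaf (.cyc (nat_lit 97) [(nat_lit 1584), (nat_lit 866), (nat_lit 438), (nat_lit 3094), (nat_lit 472), (nat_lit 4318), (nat_lit 910), (nat_lit 3483), (nat_lit 3482), (nat_lit 4313), (nat_lit 1646)])) (.leaf .df))) (.node (.node (.leaf (.cyc (nat_lit 98) [(nat_lit 364), (nat_lit 365), (nat_lit 4080), (nat_lit 365), (nat_lit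 364), (nat_lit 770)])) (.leaf .df)) (.node (.leaf (.cyc (nat_lit 31) [(nat_lit 2292), (nat_lit 7018), (nat_lit 7016), (nat_lit 7018), (nat_lit 2292)])) (.leaf .df))))))))
noncomputable def u5P100011 : BT Pf := .node u5P1000110 u5P1000111
noncomputable def u5P10001 : BT Pf := .node u5P100010 u5P100011
noncomputable def u5P1000 : BT Pf := .node u5P10000 u5P10001
noncomputable def u5P1001000 : BT Pf := (.node (.node (.node (.node (.node (.node (.node (.leaf .df) (.leaf (.cyc (nat_lit 41) [(nat_lit 8200), (nat_lit 6211), (nat_lit 8200)]))) (.node (.leaf (.cyc (nat_lit 43) [(nat_lit 791), (nat_lit 792), (nat_lit 4104), (nat_lit 792), (nat_lit 791)])) (.leaf .df))) (.node (.node (.leaf .df) (.leaf .df)) (.node (.leaf (.cyc (nat_lit 37) [(nat_lit 1656), (nat_lit 4321), (nat_lit 3491), (nat_lit 4321), (nat_lit 1656)])) (.leaf .df)))) (.node (.node (.node (.leaf .df) (.leaf (.cyc (nat_lit 48) [(nat_lit 2566), (nat_lit 7531), (nat_lit 2566)]))) (.node (.leaf (.cyc (nat_lit 27) [(nat_lit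 1270), (nat_lit 4469), (nat_lit 1270)])) (.leaf .df))) (.node (.node (.leaf (.cyc (nat_lit 26) [(nat_lit 203), (nat_lit 80), (nat_lit 2809), (nat_lit 80), (nat_lit 203)])) (.leaf .df)) (.node (.leaf (.cyc (nat_lit 37) [(nat_lit 1924), (nat_lit 4882), (nat_lit 3817), (nat_lit 1212), (nat_lit 1995)])) (.leaf .df))))) (.node (.node (.node (.node (.leaf .df) (.leaf (.cyc (nat_lit 52) [(nat_lit 2428), (nat_lit 2429), (nat_lit 8712), (nat_lit 2429), (nat_lit 2428)]))) (.node (.leaf (.cyc (nat_lit 31) [(nat_lit 3789), (nat_lit 847), (nat_lit 4354), (nat_lit 4359), (nat_lit 1035)])) (.leaf .df))) (.node (.node (.leaf .df) (.leaf .df)) (.node (.leaf (.cyc (nat_lit 20) [(nat_lit 1074), (nat_lit 4710), (nat_lit 1831)])) (.leaf .df)))) (.node (.node (.node (.leaf .df) (.leaf (.cyc (nat_lit 37) [(nat_lit 9257), (nat_lit 9255), (nat_lit 2479), (nat_lit 8893), (nat_lit 2688)]))) (.node (.leaf (.cyc (nat_lit 46) [(nat_lit 1484), (nat_lit 4109), (nat_lit 1484)])) (.leaf .df))) (.node (.node (.leaf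 (.cyc (nat_lit 47) [(nat_lit 513), (nat_lit 3136), (nat_lit 2999), (nat_lit 3136), (nat_lit 513)])) (.leaf .df)) (.node (.leaf (.cyc (nat_lit 45) [(nat_lit 2153), (nat_lit 5415), (nat_lit 4941), (nat_lit 5415), (nat_lit 2153)])) (.leaf .df)))))) (.node (.node (.node (.node (.node (.leaf .df) (.leaf (.cyc (nat_lit 21) [(nat_lit 2362), (nat_lit 1693), (nat_lit 4398), (nat_lit 1693), (nat_lit 2362)]))) (.node (.leaf (.cyc (nat_lit 53) [(nat_lit 4359), (nat_lit 544), (nat_lit 3170), (nat_lit 544), (nat_lit 4359)])) (.leaf .df))) (.node (.node (.leaf .df) (.leaf .df)) (.node (.leaf (.cyc (nat_lit 31) [(nat_lit 1304), (nat_lit 691), (nat_lit 3879), (nat_lit 5204), (nat_lit 1746)])) (.leaf .df)))) (.node (.node (.node (.leaf .df) (.leaf (.cyc (nat_lit 47) [(nat_lit 2631), (nat_lit 2630), (nat_lit 9478), (nat_lit 2630), (nat_lit 2631)]))) (.node (.leaf (.cyc (nat_lit 2) [(nat_lit 5383), (nat_lit 1167), (nat_lit 618), (nat_lit 620), (nat_lit 1169)])) (.leaf .df))) (.node (.node (.leaf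 (.cyc (nat_lit 93) [(nat_lit 379), (nat_lit 156), (nat_lit 2864), (nat_lit 2793), (nat_lit 2792), (nat_lit 2781), (nat_lit 2792), (nat_lit 2793), (nat_lit 2864), (nat_lit 156), (nat_lit 379)])) (.leaf .df)) (.node (.leaf (.cyc (nat_lit 49) [(nat_lit 1632), (nat_lit 5175), (nat_lit 2082)])) (.leaf .df))))) (.node (.node (.node (.node (.leaf .df) (.leaf (.cyc (nat_lit 53) [(nat_lit 8007), (nat_lit 6293), (nat_lit 2006), (nat_lit 7211), (nat_lit 2496)]))) (.node (.leaf (.cyc (nat_lit 20) [(nat_lit 1151), (nat_lit 4499), (nat_lit 1151)])) (.leaf .df))) (.node (.node (.leaf (.cyc (nat_lit 32) [(nat_lit 34), (nat_lit 3), (nat_lit 2), (nat_lit 2757), (nat_lit 2752), (nat_lit 8), (nat_lit 2791), (nat_lit 2792), (nat_lit 23), (nat_lit 37), (nat_lit 2824)])) (.leaf .df)) (.node (.leaf (.cyc (nat_lit 77) [(nat_lit 6517), (nat_lit 5325), (nat_lit 1347), (nat_lit 715), (nat_lit 3265), (nat_lit 516), (nat_lit 4438), (nat_lit 4432), (nat_lit 4878), (nat_lit 1922), (nat_lit 6920)])) (.leaf .df))))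 (.node (.node (.node (.leaf .df) (.leaf (.cyc (nat_lit 120) [(nat_lit 9890), (nat_lit 9327), (nat_lit 9326), (nat_lit 2406), (nat_lit 8049), (nat_lit 8050), (nat_lit 9265), (nat_lit 9863), (nat_lit 9864), (nat_lit 9795), (nat_lit 2744)]))) (.node (.leaf (.cyc (nat_lit 100) [(nat_lit 5887), (nat_lit 5883), (nat_lit 1463), (nat_lit 4089), (nat_lit 884)])) (.leaf .df))) (.node (.node (.leaf (.cyc (nat_lit 18) [(nat_lit 660), (nat_lit 3418), (nat_lit 3101), (nat_lit 3418), (nat_lit 660)])) (.leaf .df)) (.node (.leaf (.cyc (nat_lit 35) [(nat_lit 2223), (nat_lit 7938), (nat_lit 7939), (nat_lit 7938), (nat_lit 2223)])) (.leaf .df))))))) (.node (.node (.node (.node (.node (.node (.leaf .df) (.leaf (.cyc (nat_lit 21) [(nat_lit 1868), (nat_lit 4757), (nat_lit 5906), (nat_lit 6125), (nat_lit 2332)]))) (.node (.leaf (.cyc (nat_lit 53) [(nat_lit 869), (nat_lit 440), (nat_lit 3063), (nat_lit 440), (nat_lit 869)])) (.leaf .df))) (.node (.node (.leaf .df) (.leaf .df)) (.node (.leaf (.cyc (nat_lit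 23) [(nat_lit 953), (nat_lit 950), (nat_lit 1702)])) (.leaf .df)))) (.node (.node (.node (.leaf .df) (.leaf (.cyc (nat_lit 53) [(nat_lit 2598), (nat_lit 2177), (nat_lit 5462), (nat_lit 2177), (nat_lit 2598)]))) (.node (.leaf (.cyc (nat_lit 128) [(nat_lit 1227), (nat_lit 4277), (nat_lit 687), (nat_lit 323), (nat_lit 324), (nat_lit 689), (nat_lit 3882), (nat_lit 3450), (nat_lit 706), (nat_lit 1329), (nat_lit 5256)])) (.leaf .df))) (.node (.node (.leaf (.cyc (nat_lit 16) [(nat_lit 286), (nat_lit 3038), (nat_lit 3021), (nat_lit 3038), (nat_lit 286)])) (.leaf .df)) (.node (.leaf (.cyc (nat_lit 23) [(nat_lit 7304), (nat_lit 2033), (nat_lit 2034)])) (.leaf .df))))) (.node (.node (.node (.node (.leaf .df) (.leaf (.cyc (nat_lit 16) [(nat_lit 7909), (nat_lit 8442), (nat_lit 8439), (nat_lit 8329), (nat_lit 2465)]))) (.node (.leaf (.cyc (nat_lit 15) [(nat_lit 578), (nat_lit 577), (nat_lit 1094)])) (.leaf .df))) (.node (.node (.leaf .df) (.leaf .df)) (.node (.leaf (.cyc (nat_lit 34) [(nat_lit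 1878), (nat_lit 4791), (nat_lit 4418), (nat_lit 4791), (nat_lit 1878)])) (.leaf .df)))) (.node (.node (.node (.leaf .df) (.leaf (.cyc (nat_lit 49) [(nat_lit 2701), (nat_lit 2702), (nat_lit 9864)]))) (.node (.leaf (.cyc (nat_lit 100) [(nat_lit 5760), (nat_lit 5768), (nat_lit 3616), (nat_lit 5768), (nat_lit 5760)])) (.leaf .df))) (.node (.node (.leaf (.cyc (nat_lit 107) [(nat_lit 581), (nat_lit 271), (nat_lit 272), (nat_lit 3192), (nat_lit 147), (nat_lit 146), (nat_lit 3072), (nat_lit 3071), (nat_lit 2923), (nat_lit 268), (nat_lit 574)])) (.leaf .df)) (.node (.leaf (.cyc (nat_lit 25) [(nat_lit 7362), (nat_lit 2055), (nat_lit 5135), (nat_lit 1427), (nat_lit 2190)])) (.leaf .df)))))) (.node (.node (.node (.node (.node (.leaf .df) (.leaf (.cyc (nat_lit 47) [(nat_lit 2397), (nat_lit 1768), (nat_lit 4565), (nat_lit 1768), (nat_lit 2397)]))) (.node (.leaf (.cyc (nat_lit 35) [(nat_lit 981), (nat_lit 3588), (nat_lit 3337), (nat_lit 3588), (nat_lit 981)])) (.leaf .df))) (.node (.node (.leaf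 .df) (.leaf .df)) (.node (.leaf (.cyc (nat_lit 24) [(nat_lit 1786), (nat_lit 4602), (nat_lit 4505), (nat_lit 4602), (nat_lit 1786)])) (.leaf .df)))) (.node (.node (.node (.leaf .df) (.leaf (.cyc (nat_lit 48) [(nat_lit 9309), (nat_lit 8467), (nat_lit 2660)]))) (.node (.leaf (.cyc (nat_lit 23) [(nat_lit 771), (nat_lit 769), (nat_lit 1438)])) (.leaf .df))) (.node (.node (.leaf (.cyc (nat_lit 118) [(nat_lit 445), (nat_lit 197), (nat_lit 78), (nat_lit 2838), (nat_lit 41), (nat_lit 2789), (nat_lit 74), (nat_lit 190), (nat_lit 3055), (nat_lit 190), (nat_lit 74), (nat_lit 2789), (nat_lit 41), (nat_lit 2838), (nat_lit 78), (nat_lit 197), (nat_lit 445)])) (.leaf .df)) (.node (.leaf (.cyc (nat_lit 41) [(nat_lit 2118), (nat_lit 5300), (nat_lit 2118)])) (.leaf .df))))) (.node (.node (.node (.node (.leaf .df) (.leaf (.cyc (nat_lit 37) [(nat_lit 2530), (nat_lit 8541), (nat_lit 8543), (nat_lit 8541), (nat_lit 2530)]))) (.node (.leaf (.cyc (nat_lit 117) [(nat_lit 1085), (nat_lit 4703), (nat_lit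 4995), (nat_lit 3817), (nat_lit 1159)])) (.leaf .df))) (.node (.node (.leaf (.cyc (nat_lit 28) [(nat_lit 133), (nat_lit 55), (nat_lit 15), (nat_lit 58), (nat_lit 142)])) (.leaf .df)) (.node (.leaf (.cyc (nat_lit 27) [(nat_lit 1956), (nat_lit 4945), (nat_lit 1956)])) (.leaf .df)))) (.node (.node (.node (.leaf .df) (.leaf .df)) (.node (.leaf (.cyc (nat_lit 140) [(nat_lit 6022), (nat_lit 4552), (nat_lit 4541), (nat_lit 4552), (nat_lit 6022)])) (.leaf .df))) (.node (.node (.leaf (.cyc (nat_lit 124) [(nat_lit 3973), (nat_lit 397), (nat_lit 166), (nat_lit 165), (nat_lit 396)])) (.leaf .df)) (.node (.leaf (.cyc (nat_lit 15) [(nat_lit 1766), (nat_lit 5760), (nat_lit 2264)])) (.leaf .df))))))))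
noncomputable def u5P1001001 : BT Pf := (.node (.node (.node (.node (.node (.node (.node (.leaf .df) (.leaf (.cyc (nat_lit 27) [(nat_lit 2166), (nat_lit 6086), (nat_lit 2317)]))) (.node (.leaf (.cyc (nat_lit 6) [(nat_lit 421), (nat_lit 182), (nat_lit 3025), (nat_lit 410), (nat_lit 834)])) (.leaf .df))) (.node (.node (.leaf .df) (.leaf .df)) (.node (.leaf (.cyc (nat_lit 21) [(nat_lit 1681), (nat_lit 4570), (nat_lit 4575), (nat_lit 4570), (nat_lit 1681)])) (.leaf .df)))) (.node (.node (.node (.leaf .df) (.leaf (.cyc (nat_lit 35) [(nat_lit 2579), (nat_lit 7614), (nat_lit 5353), (nat_lit 7614), (nat_lit 2579)]))) (.node (.leaf (.cyc (nat_lit 31) [(nat_lit 1303), (nat_lit 4222), (nat_lit 3408), (nat_lit 4222), (nat_lit 1303)])) (.leaf .df))) (.node (.node (.leaf (.cyc (nat_lit 21) [(nat_lit 232), (nat_lit 2896), (nat_lit 2836), (nat_lit 100), (nat_lit 242)])) (.leaf .df)) (.node (.leaf (.cyc (nat_lit 26) [(nat_lit 1468), (nat_lit 787), (nat_lit 3848), (nat_lit 1243), (nat_lit 2016)]))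 (.leaf .df))))) (.node (.node (.node (.node (.leaf .df) (.leaf (.cyc (nat_lit 62) [(nat_lit 2446), (nat_lit 8138), (nat_lit 8141), (nat_lit 8138), (nat_lit 2446)]))) (.node (.leaf (.cyc (nat_lit 67) [(nat_lit 3921), (nat_lit 3280), (nat_lit 3277), (nat_lit 280), (nat_lit 2930), (nat_lit 3195), (nat_lit 602), (nat_lit 4506), (nat_lit 559), (nat_lit 557), (nat_lit 1058)])) (.leaf .df))) (.node (.node (.leaf .df) (.leaf .df)) (.node (.leaf (.cyc (nat_lit 63) [(nat_lit 1569), (nat_lit 4292), (nat_lit 3715), (nat_lit 1092), (nat_lit 1855)])) (.leaf .df)))) (.node (.node (.node (.leaf .df) (.leaf (.cyc (nat_lit 27) [(nat_lit 2704), (nat_lit 9097), (nat_lit 2704)]))) (.node (.leaf (.cyc (nat_lit 37) [(nat_lit 1507), (nat_lit 4792), (nat_lit 4794), (nat_lit 4792), (nat_lit 1507)])) (.leaf .df))) (.node (.node (.leaf (.cyc (nat_lit 74) [(nat_lit 3515), (nat_lit 3649), (nat_lit 111)])) (.leaf .df)) (.node (.leaf (.cyc (nat_lit 27) [(nat_lit 1406), (nat_lit 1405), (nat_lit 2170)])) (.leaf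 .df)))))) (.node (.node (.node (.node (.node (.leaf .df) (.leaf (.cyc (nat_lit 37) [(nat_lit 2380), (nat_lit 7171), (nat_lit 7172), (nat_lit 7171), (nat_lit 2380)]))) (.node (.leaf (.cyc (nat_lit 17) [(nat_lit 930), (nat_lit 932), (nat_lit 4390), (nat_lit 844), (nat_lit 421), (nat_lit 182), (nat_lit 4050), (nat_lit 2971), (nat_lit 223), (nat_lit 490), (nat_lit 4424)])) (.leaf .df))) (.node (.node (.leaf .df) (.leaf .df)) (.node (.leaf (.cyc (nat_lit 23) [(nat_lit 1359), (nat_lit 1357), (nat_lit 6471)])) (.leaf .df)))) (.node (.node (.node (.leaf .df) (.leaf (.cyc (nat_lit 35) [(nat_lit 2645), (nat_lit 8244), (nat_lit 7727), (nat_lit 8244), (nat_lit 2645)]))) (.node (.leaf (.cyc (nat_lit 46) [(nat_lit 1409), (nat_lit 3962), (nat_lit 1409)])) (.leaf .df))) (.node (.node (.leaf (.cyc (nat_lit 16) [(nat_lit 428), (nat_lit 186), (nat_lit 2874), (nat_lit 186), (nat_lit 428)])) (.leaf .df)) (.node (.leaf (.cyc (nat_lit 5) [(nat_lit 7495), (nat_lit 1836), (nat_lit 4720), (nat_lit 1836),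 (nat_lit 7495)])) (.leaf .df))))) (.node (.node (.node (.node (.leaf .df) (.leaf (.cyc (nat_lit 62) [(nat_lit 7133), (nat_lit 6056), (nat_lit 4958), (nat_lit 1969), (nat_lit 2513)]))) (.node (.leaf (.cyc (nat_lit 21) [(nat_lit 1178), (nat_lit 3789), (nat_lit 3392), (nat_lit 3789), (nat_lit 1178)])) (.leaf .df))) (.node (.node (.leaf (.cyc (nat_lit 50) [(nat_lit 40), (nat_lit 9), (nat_lit 2763), (nat_lit 35), (nat_lit 87)])) (.leaf .df)) (.node (.leaf (.cyc (nat_lit 30) [(nat_lit 1732), (nat_lit 974), (nat_lit 3760), (nat_lit 1161), (nat_lit 1937)])) (.leaf .df)))) (.node (.node (.node (.leaf .df) (.leaf .df)) (.node (.leaf (.cyc (nat_lit 48) [(nat_lit 874), (nat_lit 4235), (nat_lit 1592)])) (.leaf .df))) (.node (.node (.leaf (.cyc (nat_lit 55) [(nat_lit 717), (nat_lit 718), (nat_lit 3911), (nat_lit 718), (nat_lit 717)])) (.leaf .df)) (.node (.leaf (.cyc (nat_lit 26) [(nat_lit 2242), (nat_lit 6813), (nat_lit 6816), (nat_lit 6813), (nat_lit 2242)])) (.leaf .df))))))) (.node (.node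 (.node (.node (.node (.node (.leaf .df) (.leaf (.cyc (nat_lit 27) [(nat_lit 1665), (nat_lit 1664), (nat_lit 2347)]))) (.node (.leaf (.cyc (nat_lit 62) [(nat_lit 751), (nat_lit 353), (nat_lit 3079), (nat_lit 453), (nat_lit 897)])) (.leaf .df))) (.node (.node (.leaf .df) (.leaf .df)) (.node (.leaf (.cyc (nat_lit 37) [(nat_lit 1727), (nat_lit 5957), (nat_lit 5959), (nat_lit 5957), (nat_lit 1727)])) (.leaf .df)))) (.node (.node (.node (.leaf .df) (.leaf (.cyc (nat_lit 27) [(nat_lit 2498), (nat_lit 7996), (nat_lit 2616)]))) (.node (.leaf (.cyc (nat_lit 136) [(nat_lit 1261), (nat_lit 4972), (nat_lit 4980), (nat_lit 5317), (nat_lit 5320), (nat_lit 4259), (nat_lit 5320), (nat_lit 5317), (nat_lit 4980), (nat_lit 4972), (nat_lit 1261)])) (.leaf .df))) (.node (.node (.leaf (.cyc (nat_lit 49) [(nat_lit 316), (nat_lit 2953), (nat_lit 343)])) (.leaf .df)) (.node (.leaf (.cyc (nat_lit 37) [(nat_lit 2060), (nat_lit 5414), (nat_lit 6872), (nat_lit 5414), (nat_lit 2060)])) (.leaf .df))))) (.node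 (.node (.node (.node (.leaf .df) (.leaf (.cyc (nat_lit 62) [(nat_lit 2481), (nat_lit 1878), (nat_lit 4790), (nat_lit 1878), (nat_lit 2481)]))) (.node (.leaf (.cyc (nat_lit 27) [(nat_lit 591), (nat_lit 590), (nat_lit 1119)])) (.leaf .df))) (.node (.node (.leaf (.pin (nat_lit 12) [] [])) (.leaf .df)) (.node (.leaf (.cyc (nat_lit 62) [(nat_lit 1902), (nat_lit 4973), (nat_lit 4978), (nat_lit 4973), (nat_lit 1902)])) (.leaf .df)))) (.node (.node (.node (.leaf .df) (.leaf (.cyc (nat_lit 27) [(nat_lit 2732), (nat_lit 9405), (nat_lit 2732)]))) (.node (.leaf (.cyc (nat_lit 49) [(nat_lit 837), (nat_lit 4170), (nat_lit 1547)])) (.leaf .df))) (.node (.node (.leaf (.cyc (nat_lit 43) [(nat_lit 3711), (nat_lit 624), (nat_lit 3784), (nat_lit 624), (nat_lit 3711)])) (.leaf .df)) (.node (.leaf (.cyc (nat_lit 7) [(nat_lit 7880), (nat_lit 7847), (nat_lit 7146)])) (.leaf .df)))))) (.node (.node (.node (.node (.node (.leaf .df) (.leaf (.cyc (nat_lit 44) [(nat_lit 2413), (nat_lit 1783), (nat_lit 4593),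 (nat_lit 1783), (nat_lit 2413)]))) (.node (.leaf (.cyc (nat_lit 15) [(nat_lit 1009), (nat_lit 3611), (nat_lit 1009)])) (.leaf .df))) (.node (.node (.leaf .df) (.leaf .df)) (.node (.leaf (.cyc (nat_lit 46) [(nat_lit 1753), (nat_lit 6423), (nat_lit 1805)])) (.leaf .df)))) (.node (.node (.node (.leaf .df) (.leaf (.cyc (nat_lit 20) [(nat_lit 8939), (nat_lit 8714), (nat_lit 2674)]))) (.node (.leaf (.cyc (nat_lit 21) [(nat_lit 1470), (nat_lit 788), (nat_lit 3351), (nat_lit 788), (nat_lit 1470)])) (.leaf .df))) (.node (.node (.leaf (.cyc (nat_lit 21) [(nat_lit 483), (nat_lit 3112), (nat_lit 3010), (nat_lit 3112), (nat_lit 483)])) (.leaf .df)) (.node (.leaf (.cyc (nat_lit 28) [(nat_lit 1608), (nat_lit 5897), (nat_lit 1362), (nat_lit 1364), (nat_lit 2135)])) (.leaf .df))))) (.node (.node (.node (.node (.leaf .df) (.leaf (.cyc (nat_lit 44) [(nat_lit 8924), (nat_lit 1937), (nat_lit 6964), (nat_lit 7722), (nat_lit 2546)]))) (.node (.leaf (.cyc (nat_lit 73) [(nat_lit 740), (nat_lit 5063)]))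 (.leaf .df))) (.node (.node (.leaf (.cyc (nat_lit 0) [(nat_lit 171), (nat_lit 172), (nat_lit 3016), (nat_lit 172), (nat_lit 171)])) (.leaf .df)) (.node (.leaf (.cyc (nat_lit 30) [(nat_lit 1976), (nat_lit 6702), (nat_lit 6704), (nat_lit 6702), (nat_lit 1976)])) (.leaf .df)))) (.node (.node (.node (.leaf .df) (.leaf .df)) (.node (.leaf (.cyc (nat_lit 26) [(nat_lit 1631), (nat_lit 1630), (nat_lit 6087), (nat_lit 1630), (nat_lit 1631)])) (.leaf .df))) (.node (.node (.leaf (.cyc (nat_lit 74) [(nat_lit 3385), (nat_lit 4035)])) (.leaf .df)) (.node (.leaf (.cyc (nat_lit 133) [(nat_lit 2281), (nat_lit 5846), (nat_lit 4182), (nat_lit 841), (nat_lit 413), (nat_lit 415), (nat_lit 4156), (nat_lit 1531), (nat_lit 7621), (nat_lit 7623), (nat_lit 7799)])) (.leaf .df))))))))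
noncomputable def u5P100100 : BT Pf := .node u5P1001000 u5P1001001
noncomputable def u5P1001010 : BT Pf := (.node (.node (.node (.node (.node (.node (.node (.leaf .df) (.leaf (.cyc (nat_lit 20) [(nat_lit 2306), (nat_lit 6011), (nat_lit 2306)]))) (.node (.leaf (.cyc (nat_lit 48) [(nat_lit 809), (nat_lit 3371), (nat_lit 809)])) (.leaf .df))) (.node (.node (.leaf .df) (.leaf .df)) (.node (.leaf (.cyc (nat_lit 2) [(nat_lit 6184), (nat_lit 4999), (nat_lit 4239), (nat_lit 880), (nat_lit 1602)])) (.leaf .df)))) (.node (.node (.node (.leaf .df) (.leaf (.cyc (nat_lit 97) [(nat_lit 9255), (nat_lit 2479), (nat_lit 1877), (nat_lit 1111), (nat_lit 1113), (nat_lit 4794), (nat_lit 4792), (nat_lit 1507), (nat_lit 5706), (nat_lit 7246), (nat_lit 2528)]))) (.node (.leaf (.cyc (nat_lit 20) [(nat_lit 685), (nat_lit 684), (nat_lit 1288)])) (.leaf .df))) (.node (.node (.leaf (.cyc (nat_lit 50) [(nat_lit 3097), (nat_lit 212), (nat_lit 2885), (nat_lit 86), (nat_lit 219)])) (.leaf .df)) (.node (.leaf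 (.cyc (nat_lit 44) [(nat_lit 1996), (nat_lit 5985), (nat_lit 1706), (nat_lit 6293), (nat_lit 2005)])) (.leaf .df))))) (.node (.node (.node (.node (.leaf .df) (.leaf (.cyc (nat_lit 62) [(nat_lit 6940), (nat_lit 6356), (nat_lit 4692), (nat_lit 1824), (nat_lit 2438)]))) (.node (.leaf (.cyc (nat_lit 56) [(nat_lit 1050), (nat_lit 555), (nat_lit 3181), (nat_lit 555), (nat_lit 1050)])) (.leaf .df))) (.node (.node (.leaf .df) (.leaf .df)) (.node (.leaf (.cyc (nat_lit 162) [(nat_lit 1177), (nat_lit 4674), (nat_lit 1053), (nat_lit 1055), (nat_lit 4669), (nat_lit 4500), (nat_lit 1151), (nat_lit 4876), (nat_lit 1843), (nat_lit 6695), (nat_lit 6696)])) (.leaf .df)))) (.node (.node (.node (.leaf .df) (.leaf (.cyc (nat_lit 26) [(nat_lit 2695), (nat_lit 9018), (nat_lit 8372), (nat_lit 9018), (nat_lit 2695)]))) (.node (.leaf (.cyc (nat_lit 40) [(nat_lit 5672), (nat_lit 4634), (nat_lit 5672)])) (.leaf .df))) (.node (.node (.leaf (.cyc (nat_lit 50) [(nat_lit 295), (nat_lit 126), (nat_lit 2918),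 (nat_lit 251), (nat_lit 537)])) (.leaf .df)) (.node (.leaf (.cyc (nat_lit 110) [(nat_lit 7719), (nat_lit 1590), (nat_lit 1589)])) (.leaf .df)))))) (.node (.node (.node (.node (.node (.leaf .df) (.leaf (.cyc (nat_lit 46) [(nat_lit 2372), (nat_lit 6327), (nat_lit 2372)]))) (.node (.leaf (.cyc (nat_lit 31) [(nat_lit 818), (nat_lit 403), (nat_lit 3112), (nat_lit 482), (nat_lit 935)])) (.leaf .df))) (.node (.node (.leaf .df) (.leaf .df)) (.node (.leaf (.cyc (nat_lit 33) [(nat_lit 6440), (nat_lit 4888), (nat_lit 4989), (nat_lit 4998), (nat_lit 1736)])) (.leaf .df)))) (.node (.node (.node (.leaf .df) (.leaf (.cyc (nat_lit 53) [(nat_lit 2638), (nat_lit 2290), (nat_lit 5937), (nat_lit 2290), (nat_lit 2638)]))) (.node (.leaf (.cyc (nat_lit 48) [(nat_lit 1387), (nat_lit 3935), (nat_lit 1387)])) (.leaf .df))) (.node (.node (.leaf (.cyc (nat_lit 25) [(nat_lit 398), (nat_lit 3332), (nat_lit 3333), (nat_lit 3332), (nat_lit 398)])) (.leaf .df)) (.node (.leaf (.cyc (nat_lit 25) [(nat_lit 1939),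 (nat_lit 4897), (nat_lit 4761), (nat_lit 5213), (nat_lit 2092)])) (.leaf .df))))) (.node (.node (.node (.node (.leaf .df) (.leaf (.cyc (nat_lit 27) [(nat_lit 2504), (nat_lit 7007), (nat_lit 2504)]))) (.node (.leaf (.cyc (nat_lit 25) [(nat_lit 1165), (nat_lit 3764), (nat_lit 3609), (nat_lit 3764), (nat_lit 1165)])) (.leaf .df))) (.node (.node (.leaf (.cyc (nat_lit 20) [(nat_lit 2832), (nat_lit 14), (nat_lit 54)])) (.leaf .df)) (.node (.leaf (.cyc (nat_lit 4) [(nat_lit 6952), (nat_lit 5543), (nat_lit 5542), (nat_lit 5543), (nat_lit 6952)])) (.leaf .df)))) (.node (.node (.node (.leaf .df) (.leaf .df)) (.node (.leaf (.cyc (nat_lit 58) [(nat_lit 1578), (nat_lit 4502), (nat_lit 4492), (nat_lit 4496), (nat_lit 3406), (nat_lit 3405), (nat_lit 3406), (nat_lit 4496), (nat_lit 4492), (nat_lit 4502), (nat_lit 1578)])) (.leaf .df))) (.node (.node (.leaf (.cyc (nat_lit 24) [(nat_lit 688), (nat_lit 3249), (nat_lit 3447), (nat_lit 3249), (nat_lit 688)])) (.leaf .df)) (.node (.leaf (.cyc (nat_lit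 55) [(nat_lit 2230), (nat_lit 2231), (nat_lit 7976), (nat_lit 2231), (nat_lit 2230)])) (.leaf .df))))))) (.node (.node (.node (.node (.node (.node (.leaf .df) (.leaf (.cyc (nat_lit 25) [(nat_lit 2103), (nat_lit 1321), (nat_lit 5234), (nat_lit 6141), (nat_lit 2339)]))) (.node (.leaf (.cyc (nat_lit 48) [(nat_lit 885), (nat_lit 3470), (nat_lit 885)])) (.leaf .df))) (.node (.node (.leaf .df) (.leaf .df)) (.node (.leaf (.cyc (nat_lit 20) [(nat_lit 962), (nat_lit 960), (nat_lit 1714)])) (.leaf .df)))) (.node (.node (.node (.leaf .df) (.leaf (.cyc (nat_lit 47) [(nat_lit 9272), (nat_lit 7564), (nat_lit 2358), (nat_lit 8442), (nat_lit 2606)]))) (.node (.leaf (.cyc (nat_lit 24) [(nat_lit 1337), (nat_lit 4408), (nat_lit 4409), (nat_lit 4408), (nat_lit 1337)])) (.leaf .df))) (.node (.node (.leaf (.cyc (nat_lit 6) [(nat_lit 308), (nat_lit 130), (nat_lit 2858), (nat_lit 130), (nat_lit 308)])) (.leaf .df)) (.node (.leaf (.cyc (nat_lit 20) [(nat_lit 2048), (nat_lit 5123), (nat_lit 2048)])) (.leaf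 .df))))) (.node (.node (.node (.node (.leaf .df) (.leaf (.cyc (nat_lit 28) [(nat_lit 2473), (nat_lit 6782), (nat_lit 5466), (nat_lit 6782), (nat_lit 2473)]))) (.node (.leaf (.cyc (nat_lit 21) [(nat_lit 1110), (nat_lit 4639), (nat_lit 4637), (nat_lit 4639), (nat_lit 1110)])) (.leaf .df))) (.node (.node (.leaf .df) (.leaf .df)) (.node (.leaf (.cyc (nat_lit 96) [(nat_lit 6823), (nat_lit 5319), (nat_lit 4753), (nat_lit 5319), (nat_lit 6823)])) (.leaf .df)))) (.node (.node (.node (.leaf .df) (.leaf (.cyc (nat_lit 44) [(nat_lit 2725), (nat_lit 9888), (nat_lit 9887), (nat_lit 9888), (nat_lit 2725)]))) (.node (.leaf (.cyc (nat_lit 21) [(nat_lit 1536), (nat_lit 5642), (nat_lit 5641), (nat_lit 5642), (nat_lit 1536)])) (.leaf .df))) (.node (.node (.leaf (.cyc (nat_lit 41) [(nat_lit 611), (nat_lit 3205), (nat_lit 611)])) (.leaf .df)) (.node (.leaf (.cyc (nat_lit 16) [(nat_lit 1437), (nat_lit 769), (nat_lit 4002), (nat_lit 1434), (nat_lit 2197)])) (.leaf .df)))))) (.node (.node (.node (.node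 (.node (.leaf .df) (.leaf (.cyc (nat_lit 28) [(nat_lit 2405), (nat_lit 8606), (nat_lit 8607), (nat_lit 8606), (nat_lit 2405)]))) (.node (.leaf (.cyc (nat_lit 37) [(nat_lit 4439), (nat_lit 693), (nat_lit 3251), (nat_lit 517), (nat_lit 993)])) (.leaf .df))) (.node (.node (.leaf .df) (.leaf .df)) (.node (.leaf (.cyc (nat_lit 46) [(nat_lit 1780), (nat_lit 4628), (nat_lit 1798)])) (.leaf .df)))) (.node (.node (.node (.leaf .df) (.leaf (.cyc (nat_lit 6) [(nat_lit 2667), (nat_lit 8629), (nat_lit 8626), (nat_lit 8629), (nat_lit 2667)]))) (.node (.leaf (.cyc (nat_lit 6) [(nat_lit 1456), (nat_lit 5068), (nat_lit 4231), (nat_lit 5068), (nat_lit 1456)])) (.leaf .df))) (.node (.node (.leaf (.cyc (nat_lit 16) [(nat_lit 464), (nat_lit 463), (nat_lit 3495), (nat_lit 463), (nat_lit 464)])) (.leaf .df)) (.node (.leaf (.cyc (nat_lit 110) [(nat_lit 7592), (nat_lit 1720), (nat_lit 1719)])) (.leaf .df))))) (.node (.node (.node (.node (.leaf .df) (.leaf (.cyc (nat_lit 19) [(nat_lit 2539), (nat_lit 2043),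 (nat_lit 5307), (nat_lit 2043), (nat_lit 2539)]))) (.node (.leaf (.cyc (nat_lit 8) [(nat_lit 5030), (nat_lit 4796), (nat_lit 4794), (nat_lit 4796), (nat_lit 5030)])) (.leaf .df))) (.node (.node (.leaf (.cyc (nat_lit 26) [(nat_lit 85), (nat_lit 33), (nat_lit 18), (nat_lit 65), (nat_lit 164)])) (.leaf .df)) (.node (.leaf (.cyc (nat_lit 49) [(nat_lit 1793), (nat_lit 1795), (nat_lit 7080)])) (.leaf .df)))) (.node (.node (.node (.leaf .df) (.leaf .df)) (.node (.leaf (.cyc (nat_lit 28) [(nat_lit 4674), (nat_lit 624), (nat_lit 3475), (nat_lit 893), (nat_lit 1622)])) (.leaf .df))) (.node (.node (.leaf (.cyc (nat_lit 20) [(nat_lit 776), (nat_lit 3314), (nat_lit 776)])) (.leaf .df)) (.node (.leaf (.cyc (nat_lit 30) [(nat_lit 2272), (nat_lit 6818), (nat_lit 6820), (nat_lit 6818), (nat_lit 2272)])) (.leaf .df))))))))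
noncomputable def u5P1001011 : BT Pf := (.node (.node (.node (.node (.node (.node (.node (.leaf .df) (.leaf (.cyc (nat_lit 19) [(nat_lit 2000), (nat_lit 6106), (nat_lit 1638), (nat_lit 6098), (nat_lit 2324)]))) (.node (.leaf (.cyc (nat_lit 27) [(nat_lit 425), (nat_lit 424), (nat_lit 847)])) (.leaf .df))) (.node (.node (.leaf .df) (.leaf .df)) (.node (.leaf (.cyc (nat_lit 34) [(nat_lit 1692), (nat_lit 938), (nat_lit 3530), (nat_lit 938), (nat_lit 1692)])) (.leaf .df)))) (.node (.node (.node (.leaf .df) (.leaf (.cyc (nat_lit 27) [(nat_lit 2589), (nat_lit 7661), (nat_lit 2589)]))) (.node (.leaf (.cyc (nat_lit 28) [(nat_lit 1311), (nat_lit 5192), (nat_lit 5193), (nat_lit 5192), (nat_lit 1311)])) (.leaf .df))) (.node (.node (.leaf (.cyc (nat_lit 71) [(nat_lit 256), (nat_lit 257), (nat_lit 3176), (nat_lit 3175), (nat_lit 2989), (nat_lit 2990), (nat_lit 3118), (nat_lit 226), (nat_lit 2997), (nat_lit 3044), (nat_lit 3174)])) (.leaf .df)) (.node (.leaf (.cyc (nat_lit 37) [(nat_lit 2027),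 (nat_lit 6664), (nat_lit 6670), (nat_lit 6664), (nat_lit 2027)])) (.leaf .df))))) (.node (.node (.node (.node (.leaf .df) (.leaf (.cyc (nat_lit 46) [(nat_lit 2456), (nat_lit 6726), (nat_lit 2456)]))) (.node (.leaf (.cyc (nat_lit 110) [(nat_lit 4712), (nat_lit 3705), (nat_lit 4712)])) (.leaf .df))) (.node (.node (.leaf .df) (.leaf .df)) (.node (.leaf (.cyc (nat_lit 6) [(nat_lit 1866), (nat_lit 1103), (nat_lit 3725), (nat_lit 1103), (nat_lit 1866)])) (.leaf .df)))) (.node (.node (.node (.leaf .df) (.leaf (.cyc (nat_lit 69) [(nat_lit 2707), (nat_lit 9637), (nat_lit 9634), (nat_lit 9633), (nat_lit 8546), (nat_lit 8622), (nat_lit 8624), (nat_lit 9462), (nat_lit 9630), (nat_lit 9831), (nat_lit 9829)]))) (.node (.leaf (.cyc (nat_lit 61) [(nat_lit 1521), (nat_lit 1522), (nat_lit 5736), (nat_lit 4556), (nat_lit 804), (nat_lit 398), (nat_lit 3332), (nat_lit 3333), (nat_lit 3334), (nat_lit 4041), (nat_lit 4042), (nat_lit 1460)])) (.leaf .df))) (.node (.node (.leaf (.cyc (nat_lit 15) [(nat_lit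 3684), (nat_lit 3641), (nat_lit 558)])) (.leaf .df)) (.node (.leaf (.cyc (nat_lit 126) [(nat_lit 7783), (nat_lit 7784), (nat_lit 2180), (nat_lit 1417), (nat_lit 1416), (nat_lit 5468), (nat_lit 1416), (nat_lit 1417), (nat_lit 2180), (nat_lit 7784), (nat_lit 7783)])) (.leaf .df)))))) (.node (.node (.node (.node (.node (.leaf .df) (.leaf (.cyc (nat_lit 26) [(nat_lit 2388), (nat_lit 1750), (nat_lit 4518), (nat_lit 1750), (nat_lit 2388)]))) (.node (.leaf (.cyc (nat_lit 15) [(nat_lit 965), (nat_lit 4069), (nat_lit 965)])) (.leaf .df))) (.node (.node (.leaf .df) (.leaf .df)) (.node (.leaf (.cyc (nat_lit 25) [(nat_lit 1771), (nat_lit 6144), (nat_lit 6145), (nat_lit 6144), (nat_lit 1771)])) (.leaf .df)))) (.node (.node (.node (.leaf .df) (.leaf (.cyc (nat_lit 46) [(nat_lit 2652), (nat_lit 8321), (nat_lit 2652)]))) (.node (.leaf (.cyc (nat_lit 62) [(nat_lit 1422), (nat_lit 4142), (nat_lit 4143), (nat_lit 4142), (nat_lit 1422)])) (.leaf .df))) (.node (.node (.leaf (.cyc (nat_lit 114) [(nat_lit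 3427), (nat_lit 3317), (nat_lit 3427), (nat_lit 368)])) (.leaf .df)) (.node (.leaf (.cyc (nat_lit 62) [(nat_lit 2106), (nat_lit 6821), (nat_lit 6820), (nat_lit 6821), (nat_lit 2106)])) (.leaf .df))))) (.node (.node (.node (.node (.leaf .df) (.leaf (.cyc (nat_lit 62) [(nat_lit 2441), (nat_lit 7216), (nat_lit 2008), (nat_lit 2009), (nat_lit 2521)]))) (.node (.leaf (.cyc (nat_lit 45) [(nat_lit 642), (nat_lit 297), (nat_lit 295), (nat_lit 637), (nat_lit 1202)])) (.leaf .df))) (.node (.node (.leaf (.cyc (nat_lit 55) [(nat_lit 106), (nat_lit 107), (nat_lit 2920), (nat_lit 107), (nat_lit 106)])) (.leaf .df)) (.node (.leaf (.cyc (nat_lit 37) [(nat_lit 1948), (nat_lit 1174), (nat_lit 3984), (nat_lit 1174), (nat_lit 1948)])) (.leaf .df)))) (.node (.node (.node (.leaf .df) (.leaf .df)) (.node (.leaf (.cyc (nat_lit 27) [(nat_lit 1602), (nat_lit 4253), (nat_lit 1602)])) (.leaf .df))) (.node (.node (.leaf (.cyc (nat_lit 26) [(nat_lit 742), (nat_lit 349), (nat_lit 2958), (nat_lit 349), (nat_lit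 742)])) (.leaf .df)) (.node (.leaf (.cyc (nat_lit 37) [(nat_lit 1558), (nat_lit 5856), (nat_lit 7862), (nat_lit 7861), (nat_lit 2253)])) (.leaf .df))))))) (.node (.node (.node (.node (.node (.node (.leaf .df) (.leaf (.cyc (nat_lit 18) [(nat_lit 2354), (nat_lit 2353), (nat_lit 8421), (nat_lit 2353), (nat_lit 2354)]))) (.node (.leaf (.cyc (nat_lit 15) [(nat_lit 528), (nat_lit 3488), (nat_lit 916)])) (.leaf .df))) (.node (.node (.leaf .df) (.leaf .df)) (.node (.leaf (.cyc (nat_lit 28) [(nat_lit 1735), (nat_lit 976), (nat_lit 3571), (nat_lit 976), (nat_lit 1735)])) (.leaf .df)))) (.node (.node (.node (.leaf .df) (.leaf (.cyc (nat_lit 3) [(nat_lit 9448), (nat_lit 2613), (nat_lit 2614)]))) (.node (.leaf (.cyc (nat_lit 47) [(nat_lit 1358), (nat_lit 1357), (nat_lit 5349), (nat_lit 1357), (nat_lit 1358)])) (.leaf .df))) (.node (.node (.leaf (.cyc (nat_lit 15) [(nat_lit 358), (nat_lit 2964), (nat_lit 358)])) (.leaf .df)) (.node (.leaf (.cyc (nat_lit 50) [(nat_lit 1291), (nat_lit 686), (nat_lit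 684), (nat_lit 1289), (nat_lit 2072)])) (.leaf .df))))) (.node (.node (.node (.node (.leaf .df) (.leaf (.cyc (nat_lit 27) [(nat_lit 2489), (nat_lit 6849), (nat_lit 2489)]))) (.node (.leaf (.cyc (nat_lit 44) [(nat_lit 602), (nat_lit 278), (nat_lit 276), (nat_lit 598), (nat_lit 1136)])) (.leaf .df))) (.node (.node (.leaf (.cyc (nat_lit 6) [(nat_lit 2791), (nat_lit 27), (nat_lit 2785), (nat_lit 27), (nat_lit 2791)])) (.leaf .df)) (.node (.leaf (.cyc (nat_lit 20) [(nat_lit 1909), (nat_lit 6877), (nat_lit 6888)])) (.leaf .df)))) (.node (.node (.node (.leaf .df) (.leaf (.cyc (nat_lit 53) [(nat_lit 2738), (nat_lit 9651), (nat_lit 9314), (nat_lit 9651), (nat_lit 2738)]))) (.node (.leaf (.cyc (nat_lit 20) [(nat_lit 866), (nat_lit 4202), (nat_lit 1561)])) (.leaf .df))) (.node (.node (.leaf (.cyc (nat_lit 5) [(nat_lit 3809), (nat_lit 3569), (nat_lit 283), (nat_lit 284), (nat_lit 614)])) (.leaf .df)) (.node (.leaf (.cyc (nat_lit 50) [(nat_lit 6711), (nat_lit 6629), (nat_lit 1452), (nat_lit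 1454), (nat_lit 2214)])) (.leaf .df)))))) (.node (.node (.node (.node (.node (.leaf .df) (.leaf (.cyc (nat_lit 46) [(nat_lit 2421), (nat_lit 6592), (nat_lit 2421)]))) (.node (.leaf (.cyc (nat_lit 34) [(nat_lit 1024), (nat_lit 534), (nat_lit 3155), (nat_lit 534), (nat_lit 1024)])) (.leaf .df))) (.node (.node (.leaf .df) (.leaf .df)) (.node (.leaf (.cyc (nat_lit 48) [(nat_lit 1817), (nat_lit 4687), (nat_lit 1817)])) (.leaf .df)))) (.node (.node (.node (.leaf .df) (.leaf (.cyc (nat_lit 28) [(nat_lit 2681), (nat_lit 2459), (nat_lit 6736), (nat_lit 2459), (nat_lit 2681)]))) (.node (.leaf (.cyc (nat_lit 19) [(nat_lit 1143), (nat_lit 4830), (nat_lit 4831), (nat_lit 4622), (nat_lit 1479)])) (.leaf .df))) (.node (.node (.leaf (.cyc (nat_lit 101) [(nat_lit 3123), (nat_lit 500), (nat_lit 3560), (nat_lit 500), (nat_lit 3123), (nat_lit 321)])) (.leaf .df)) (.node (.leaf (.cyc (nat_lit 30) [(nat_lit 7319), (nat_lit 1615), (nat_lit 4491), (nat_lit 5391), (nat_lit 2145)])) (.leaf .df))))) (.node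 (.node (.node (.node (.leaf .df) (.leaf (.cyc (nat_lit 18) [(nat_lit 2555), (nat_lit 2085), (nat_lit 5181), (nat_lit 2085), (nat_lit 2555)]))) (.node (.leaf (.cyc (nat_lit 49) [(nat_lit 738), (nat_lit 5065), (nat_lit 1253)])) (.leaf .df))) (.node (.node (.leaf (.cyc (nat_lit 44) [(nat_lit 189), (nat_lit 74), (nat_lit 2782), (nat_lit 74), (nat_lit 189)])) (.leaf .df)) (.node (.leaf (.cyc (nat_lit 16) [(nat_lit 1984), (nat_lit 1983), (nat_lit 7144), (nat_lit 1983), (nat_lit 1984)])) (.leaf .df)))) (.node (.node (.node (.leaf .df) (.leaf .df)) (.node (.leaf (.cyc (nat_lit 19) [(nat_lit 1643), (nat_lit 907), (nat_lit 3480), (nat_lit 907), (nat_lit 1643)])) (.leaf .df))) (.node (.node (.leaf (.cyc (nat_lit 128) [(nat_lit 554), (nat_lit 259), (nat_lit 3653), (nat_lit 215), (nat_lit 3417), (nat_lit 3415), (nat_lit 3340), (nat_lit 3631), (nat_lit 540), (nat_lit 4063), (nat_lit 415)])) (.leaf .df)) (.node (.leaf (.cyc (nat_lit 37) [(nat_lit 2290), (nat_lit 5935), (nat_lit 4960), (nat_lit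 5935), (nat_lit 2290)])) (.leaf .df))))))))
noncomputable def u5P100101 : BT Pf := .node u5P1001010 u5P1001011
noncomputable def u5P10010 : BT Pf := .node u5P100100 u5P100101
noncomputable def u5P1001100 : BT Pf := (.node (.node (.node (.node (.node (.node (.node (.leaf .df) (.leaf (.cyc (nat_lit 21) [(nat_lit 7069), (nat_lit 6549), (nat_lit 5360), (nat_lit 5980), (nat_lit 2301)]))) (.node (.leaf (.cyc (nat_lit 16) [(nat_lit 413), (nat_lit 179), (nat_lit 3025), (nat_lit 407), (nat_lit 4119)])) (.leaf .df))) (.node (.node (.leaf .df) (.leaf .df)) (.node (.leaf (.cyc (nat_lit 56) [(nat_lit 1216), (nat_lit 5014), (nat_lit 1640), (nat_lit 6114), (nat_lit 1662)])) (.leaf .df)))) (.node (.node (.node (.leaf .df) (.leaf (.cyc (nat_lit 21) [(nat_lit 2571), (nat_lit 7537), (nat_lit 5271), (nat_lit 7537), (nat_lit 2571)]))) (.node (.leaf (.cyc (nat_lit 44) [(nat_lit 1277), (nat_lit 3868), (nat_lit 3756), (nat_lit 3868), (nat_lit 1277)])) (.leaf .df))) (.node (.node (.leaf (.cyc (nat_lit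 84) [(nat_lit 3094), (nat_lit 193), (nat_lit 76), (nat_lit 2870), (nat_lit 168)])) (.leaf .df)) (.node (.leaf (.cyc (nat_lit 110) [(nat_lit 7191), (nat_lit 1353), (nat_lit 1352)])) (.leaf .df))))) (.node (.node (.node (.node (.leaf .df) (.leaf (.cyc (nat_lit 30) [(nat_lit 2434), (nat_lit 2433), (nat_lit 8725), (nat_lit 2433), (nat_lit 2434)]))) (.node (.leaf (.cyc (nat_lit 23) [(nat_lit 4142), (nat_lit 4141), (nat_lit 1042)])) (.leaf .df))) (.node (.node (.leaf .df) (.leaf .df)) (.node (.leaf (.cyc (nat_lit 156) [(nat_lit 6536), (nat_lit 6539), (nat_lit 1786), (nat_lit 4602), (nat_lit 4505), (nat_lit 4603), (nat_lit 4596), (nat_lit 3699), (nat_lit 1076), (nat_lit 1837), (nat_lit 6680)])) (.leaf .df)))) (.node (.node (.node (.leaf .df) (.leaf (.cyc (nat_lit 23) [(nat_lit 9752), (nat_lit 2691), (nat_lit 2692)]))) (.node (.leaf (.cyc (nat_lit 46) [(nat_lit 1490), (nat_lit 4122), (nat_lit 1490)])) (.leaf .df))) (.node (.node (.leaf (.cyc (nat_lit 62) [(nat_lit 523), (nat_lit 3144),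 (nat_lit 3077), (nat_lit 3144), (nat_lit 523)])) (.leaf .df)) (.node (.leaf (.cyc (nat_lit 156) [(nat_lit 6900), (nat_lit 6981), (nat_lit 6902), (nat_lit 7509), (nat_lit 7511), (nat_lit 7510), (nat_lit 1388), (nat_lit 3939), (nat_lit 1389), (nat_lit 2157), (nat_lit 7704)])) (.leaf .df)))))) (.node (.node (.node (.node (.node (.leaf .df) (.leaf (.cyc (nat_lit 49) [(nat_lit 7356), (nat_lit 7362), (nat_lit 2367)]))) (.node (.leaf (.cyc (nat_lit 45) [(nat_lit 809), (nat_lit 400), (nat_lit 3097), (nat_lit 472), (nat_lit 926)])) (.leaf .df))) (.node (.node (.leaf .df) (.leaf .df)) (.node (.leaf (.cyc (nat_lit 72) [(nat_lit 5934), (nat_lit 6424)])) (.leaf .df)))) (.node (.node (.node (.leaf .df) (.leaf (.cyc (nat_lit 56) [(nat_lit 2369), (nat_lit 1713), (nat_lit 5903), (nat_lit 2287), (nat_lit 2635)]))) (.node (.leaf (.cyc (nat_lit 18) [(nat_lit 1380), (nat_lit 730), (nat_lit 3271), (nat_lit 730), (nat_lit 1380)])) (.leaf .df))) (.node (.node (.leaf (.cyc (nat_lit 49) [(nat_lit 222),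 (nat_lit 2971), (nat_lit 390)])) (.leaf .df)) (.node (.leaf (.cyc (nat_lit 24) [(nat_lit 1309), (nat_lit 3885), (nat_lit 3883), (nat_lit 5184), (nat_lit 2087)])) (.leaf .df))))) (.node (.node (.node (.node (.leaf .df) (.leaf (.cyc (nat_lit 63) [(nat_lit 7094), (nat_lit 6168), (nat_lit 1662), (nat_lit 6940), (nat_lit 2500)]))) (.node (.leaf (.cyc (nat_lit 45) [(nat_lit 617), (nat_lit 287), (nat_lit 3206), (nat_lit 614), (nat_lit 1158)])) (.leaf .df))) (.node (.node (.leaf (.cyc (nat_lit 40) [(nat_lit 2840), (nat_lit 2822), (nat_lit 2840)])) (.leaf .df)) (.node (.leaf (.cyc (nat_lit 62) [(nat_lit 1926), (nat_lit 1156), (nat_lit 3759), (nat_lit 1156), (nat_lit 1926)])) (.leaf .df)))) (.node (.node (.node (.leaf .df) (.leaf (.cyc (nat_lit 48) [(nat_lit 2748), (nat_lit 9848), (nat_lit 2748)]))) (.node (.leaf (.cyc (nat_lit 46) [(nat_lit 5911), (nat_lit 4210), (nat_lit 1573)])) (.leaf .df))) (.node (.node (.leaf (.cyc (nat_lit 117) [(nat_lit 673), (nat_lit 672), (nat_lit 3862), (nat_lit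 672), (nat_lit 673)])) (.leaf .df)) (.node (.leaf (.cyc (nat_lit 106) [(nat_lit 7936), (nat_lit 2226), (nat_lit 7960), (nat_lit 1871), (nat_lit 1870)])) (.leaf .df))))))) (.node (.node (.node (.node (.node (.node (.leaf .df) (.leaf (.cyc (nat_lit 26) [(nat_lit 2335), (nat_lit 6138), (nat_lit 4378), (nat_lit 6138), (nat_lit 2335)]))) (.node (.leaf (.cyc (nat_lit 52) [(nat_lit 746), (nat_lit 3487), (nat_lit 4246), (nat_lit 3487), (nat_lit 746)])) (.leaf .df))) (.node (.node (.leaf .df) (.leaf .df)) (.node (.leaf (.cyc (nat_lit 30) [(nat_lit 1707), (nat_lit 6020), (nat_lit 6019), (nat_lit 6020), (nat_lit 1707)])) (.leaf .df)))) (.node (.node (.node (.leaf .df) (.leaf (.cyc (nat_lit 53) [(nat_lit 2461), (nat_lit 7454), (nat_lit 8598), (nat_lit 8597), (nat_lit 2602)]))) (.node (.leaf (.cyc (nat_lit 37) [(nat_lit 1333), (nat_lit 4406), (nat_lit 4399), (nat_lit 4406), (nat_lit 1333)])) (.leaf .df))) (.node (.node (.leaf (.cyc (nat_lit 20) [(nat_lit 300), (nat_lit 2941), (nat_lit 300)]))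 (.leaf .df)) (.node (.leaf (.cyc (nat_lit 53) [(nat_lit 2041), (nat_lit 7168), (nat_lit 7167), (nat_lit 7168), (nat_lit 2041)])) (.leaf .df))))) (.node (.node (.node (.node (.leaf .df) (.leaf (.cyc (nat_lit 53) [(nat_lit 2469), (nat_lit 1872), (nat_lit 4770), (nat_lit 1872), (nat_lit 2469)]))) (.node (.leaf (.cyc (nat_lit 144) [(nat_lit 4512), (nat_lit 988), (nat_lit 4485), (nat_lit 4487), (nat_lit 980), (nat_lit 508), (nat_lit 507), (nat_lit 3724), (nat_lit 582), (nat_lit 583), (nat_lit 1104)])) (.leaf .df))) (.node (.node (.leaf .df) (.leaf .df)) (.node (.leaf (.cyc (nat_lit 63) [(nat_lit 1632), (nat_lit 900), (nat_lit 898), (nat_lit 4810), (nat_lit 1884)])) (.leaf .df)))) (.node (.node (.node (.leaf .df) (.leaf (.cyc (nat_lit 48) [(nat_lit 2618), (nat_lit 9293), (nat_lit 2722)]))) (.node (.leaf (.cyc (nat_lit 102) [(nat_lit 4969), (nat_lit 1215), (nat_lit 5782), (nat_lit 1215), (nat_lit 4969)])) (.leaf .df))) (.node (.node (.leaf (.cyc (nat_lit 21) [(nat_lit 3377), (nat_lit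 423), (nat_lit 3732), (nat_lit 592), (nat_lit 595)])) (.leaf .df)) (.node (.leaf (.cyc (nat_lit 47) [(nat_lit 7097), (nat_lit 7096), (nat_lit 1918), (nat_lit 6493), (nat_lit 2194)])) (.leaf .df)))))) (.node (.node (.node (.node (.node (.leaf .df) (.leaf (.cyc (nat_lit 51) [(nat_lit 2309), (nat_lit 1614), (nat_lit 887), (nat_lit 888), (nat_lit 4326), (nat_lit 6143), (nat_lit 6145), (nat_lit 6144), (nat_lit 1770), (nat_lit 6504), (nat_lit 2401)]))) (.node (.leaf (.cyc (nat_lit 102) [(nat_lit 857), (nat_lit 858), (nat_lit 4504), (nat_lit 858), (nat_lit 857)])) (.leaf .df))) (.node (.node (.leaf .df) (.leaf .df)) (.node (.leaf (.cyc (nat_lit 34) [(nat_lit 1210), (nat_lit 639), (nat_lit 3790), (nat_lit 4617), (nat_lit 1791)])) (.leaf .df)))) (.node (.node (.node (.leaf .df) (.leaf (.cyc (nat_lit 18) [(nat_lit 2663), (nat_lit 2369), (nat_lit 6311), (nat_lit 2369), (nat_lit 2663)]))) (.node (.leaf (.cyc (nat_lit 28) [(nat_lit 1446), (nat_lit 774), (nat_lit 4080), (nat_lit 774), (nat_lit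 1446)])) (.leaf .df))) (.node (.node (.leaf (.cyc (nat_lit 63) [(nat_lit 457), (nat_lit 3323), (nat_lit 3321), (nat_lit 3323), (nat_lit 457)])) (.leaf .df)) (.node (.leaf (.cyc (nat_lit 112) [(nat_lit 2063), (nat_lit 7576)])) (.leaf .df))))) (.node (.node (.node (.node (.leaf .df) (.leaf (.cyc (nat_lit 46) [(nat_lit 2042), (nat_lit 7314), (nat_lit 2534)]))) (.node (.leaf (.cyc (nat_lit 48) [(nat_lit 1220), (nat_lit 3818), (nat_lit 1220)])) (.leaf .df))) (.node (.node (.leaf (.cyc (nat_lit 50) [(nat_lit 78), (nat_lit 27), (nat_lit 2803), (nat_lit 64), (nat_lit 157)])) (.leaf .df)) (.node (.leaf (.cyc (nat_lit 56) [(nat_lit 6647), (nat_lit 1086), (nat_lit 4729), (nat_lit 5625), (nat_lit 1964)])) (.leaf .df)))) (.node (.node (.node (.leaf .df) (.leaf .df)) (.node (.leaf (.cyc (nat_lit 20) [(nat_lit 891), (nat_lit 890), (nat_lit 1617)])) (.leaf .df))) (.node (.node (.leaf (.cyc (nat_lit 58) [(nat_lit 662), (nat_lit 3241), (nat_lit 308), (nat_lit 130), (nat_lit 54), (nat_lit 15), (nat_lit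 16), (nat_lit 62), (nat_lit 152), (nat_lit 3306), (nat_lit 761)])) (.leaf .df)) (.node (.leaf (.cyc (nat_lit 63) [(nat_lit 6566), (nat_lit 4628), (nat_lit 4586), (nat_lit 1535), (nat_lit 2268)])) (.leaf .df))))))))
noncomputable def u5P1001101 : BT Pf := (.node (.node (.node (.node (.node (.node (.node (.leaf .df) (.leaf (.cyc (nat_lit 24) [(nat_lit 6893), (nat_lit 6890), (nat_lit 5095), (nat_lit 1633), (nat_lit 2321)]))) (.node (.leaf (.cyc (nat_lit 58) [(nat_lit 3539), (nat_lit 487), (nat_lit 486), (nat_lit 3541), (nat_lit 510), (nat_lit 3589), (nat_lit 409), (nat_lit 410), (nat_lit 834), (nat_lit 4169), (nat_lit 845)])) (.leaf .df))) (.node (.node (.leaf .df) (.leaf .df)) (.node (.leaf (.cyc (nat_lit 27) [(nat_lit 1186), (nat_lit 1185), (nat_lit 6232)])) (.leaf .df)))) (.node (.node (.node (.leaf .df) (.leaf (.cyc (nat_lit 46) [(nat_lit 2583), (nat_lit 7635), (nat_lit 2583)]))) (.node (.leaf (.cyc (nat_lit 53) [(nat_lit 4443), (nat_lit 4269), (nat_lit 691), (nat_lit 692), (nat_lit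 1306)])) (.leaf .df))) (.node (.node (.leaf (.cyc (nat_lit 16) [(nat_lit 250), (nat_lit 106), (nat_lit 2843), (nat_lit 106), (nat_lit 250)])) (.leaf .df)) (.node (.leaf (.cyc (nat_lit 62) [(nat_lit 1667), (nat_lit 924), (nat_lit 4303), (nat_lit 5095), (nat_lit 2021)])) (.leaf .df))))) (.node (.node (.node (.node (.leaf .df) (.leaf (.cyc (nat_lit 46) [(nat_lit 2451), (nat_lit 6699), (nat_lit 2451)]))) (.node (.leaf (.cyc (nat_lit 63) [(nat_lit 1066), (nat_lit 4660), (nat_lit 4664), (nat_lit 4660), (nat_lit 1066)])) (.leaf .df))) (.node (.node (.leaf .df) (.leaf .df)) (.node (.leaf (.cyc (nat_lit 40) [(nat_lit 6743), (nat_lit 5969), (nat_lit 6743)])) (.leaf .df)))) (.node (.node (.node (.leaf .df) (.leaf (.cyc (nat_lit 58) [(nat_lit 2708), (nat_lit 2537), (nat_lit 9116), (nat_lit 9120), (nat_lit 9117), (nat_lit 9119), (nat_lit 9117), (nat_lit 9120), (nat_lit 9116), (nat_lit 2537), (nat_lit 2708)]))) (.node (.leaf (.cyc (nat_lit 85) [(nat_lit 1499), (nat_lit 805), (nat_lit 806),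 (nat_lit 4450), (nat_lit 4449), (nat_lit 4187), (nat_lit 4186), (nat_lit 1513), (nat_lit 5719), (nat_lit 5718), (nat_lit 1514)])) (.leaf .df))) (.node (.node (.leaf (.cyc (nat_lit 73) [(nat_lit 478), (nat_lit 3663)])) (.leaf .df)) (.node (.leaf (.cyc (nat_lit 28) [(nat_lit 2174), (nat_lit 6072), (nat_lit 6079), (nat_lit 6072), (nat_lit 2174)])) (.leaf .df)))))) (.node (.node (.node (.node (.node (.leaf .df) (.leaf (.cyc (nat_lit 37) [(nat_lit 2384), (nat_lit 6744), (nat_lit 6745), (nat_lit 6744), (nat_lit 2384)]))) (.node (.leaf (.cyc (nat_lit 37) [(nat_lit 956), (nat_lit 4424), (nat_lit 4437), (nat_lit 4424), (nat_lit 956)])) (.leaf .df))) (.node (.node (.leaf .df) (.leaf .df)) (.node (.leaf (.cyc (nat_lit 43) [(nat_lit 6181), (nat_lit 6487), (nat_lit 4847), (nat_lit 6487), (nat_lit 6181)])) (.leaf .df)))) (.node (.node (.node (.leaf .df) (.leaf (.cyc (nat_lit 62) [(nat_lit 2648), (nat_lit 9430), (nat_lit 9427), (nat_lit 9430), (nat_lit 2648)]))) (.node (.leaf (.cyc (nat_lit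 131) [(nat_lit 4928), (nat_lit 1173), (nat_lit 623), (nat_lit 3219), (nat_lit 2935), (nat_lit 3191), (nat_lit 585), (nat_lit 1109), (nat_lit 4776), (nat_lit 3970), (nat_lit 1415)])) (.leaf .df))) (.node (.node (.leaf (.cyc (nat_lit 65) [(nat_lit 3416), (nat_lit 353), (nat_lit 3079), (nat_lit 202), (nat_lit 80), (nat_lit 2809), (nat_lit 28), (nat_lit 31), (nat_lit 2818), (nat_lit 84), (nat_lit 215)])) (.leaf .df)) (.node (.leaf (.cyc (nat_lit 24) [(nat_lit 1939), (nat_lit 4898), (nat_lit 4357), (nat_lit 5244), (nat_lit 2103)])) (.leaf .df))))) (.node (.node (.node (.node (.leaf .df) (.leaf (.cyc (nat_lit 26) [(nat_lit 2198), (nat_lit 7116), (nat_lit 7161), (nat_lit 7158), (nat_lit 2517)]))) (.node (.leaf (.cyc (nat_lit 35) [(nat_lit 1118), (nat_lit 590), (nat_lit 3222), (nat_lit 629), (nat_lit 1187)])) (.leaf .df))) (.node (.node (.leaf (.cyc (nat_lit 49) [(nat_lit 76), (nat_lit 2834), (nat_lit 100)])) (.leaf .df)) (.node (.leaf (.cyc (nat_lit 62) [(nat_lit 1170), (nat_lit 620),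 (nat_lit 619), (nat_lit 1168), (nat_lit 1943)])) (.leaf .df)))) (.node (.node (.node (.leaf .df) (.leaf .df)) (.node (.leaf (.cyc (nat_lit 26) [(nat_lit 1595), (nat_lit 872), (nat_lit 3461), (nat_lit 872), (nat_lit 1595)])) (.leaf .df))) (.node (.node (.leaf (.cyc (nat_lit 52) [(nat_lit 3914), (nat_lit 732), (nat_lit 3928), (nat_lit 732), (nat_lit 3914)])) (.leaf .df)) (.node (.leaf (.cyc (nat_lit 18) [(nat_lit 1756), (nat_lit 4554), (nat_lit 4556), (nat_lit 1497), (nat_lit 2248)])) (.leaf .df))))))) (.node (.node (.node (.node (.node (.node (.leaf .df) (.leaf (.cyc (nat_lit 33) [(nat_lit 8408), (nat_lit 6198), (nat_lit 6809), (nat_lit 6810), (nat_lit 2100)]))) (.node (.leaf (.cyc (nat_lit 23) [(nat_lit 458), (nat_lit 457), (nat_lit 908)])) (.leaf .df))) (.node (.node (.leaf .df) (.leaf .df)) (.node (.leaf (.cyc (nat_lit 28) [(nat_lit 1665), (nat_lit 920), (nat_lit 919), (nat_lit 1663), (nat_lit 6359)])) (.leaf .df)))) (.node (.node (.node (.leaf .df) (.leaf (.cyc (nat_lit 30)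 [(nat_lit 2619), (nat_lit 8215), (nat_lit 8212), (nat_lit 8215), (nat_lit 2619)]))) (.node (.leaf (.cyc (nat_lit 15) [(nat_lit 731), (nat_lit 3914), (nat_lit 1352)])) (.leaf .df))) (.node (.node (.leaf (.cyc (nat_lit 100) [(nat_lit 3279), (nat_lit 3198), (nat_lit 174), (nat_lit 2934), (nat_lit 285)])) (.leaf .df)) (.node (.leaf (.cyc (nat_lit 26) [(nat_lit 2065), (nat_lit 2064), (nat_lit 7382), (nat_lit 2064), (nat_lit 2065)])) (.leaf .df))))) (.node (.node (.node (.node (.leaf .df) (.leaf (.cyc (nat_lit 21) [(nat_lit 2485), (nat_lit 6831), (nat_lit 4835), (nat_lit 6831), (nat_lit 2485)]))) (.node (.leaf (.cyc (nat_lit 20) [(nat_lit 598), (nat_lit 3734), (nat_lit 1126)])) (.leaf .df))) (.node (.node (.leaf (.pin (nat_lit 28) [(nat_lit 5), (nat_lit 19)] [(nat_lit 19), (nat_lit 5)])) (.leaf .df)) (.node (.leaf (.cyc (nat_lit 56) [(nat_lit 1140), (nat_lit 600), (nat_lit 599), (nat_lit 1137), (nat_lit 1906)])) (.leaf .df)))) (.node (.node (.node (.leaf .df) (.leaf (.cyc (nat_lit 41)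 [(nat_lit 2735), (nat_lit 9489), (nat_lit 2735)]))) (.node (.leaf (.cyc (nat_lit 20) [(nat_lit 839), (nat_lit 838), (nat_lit 1552)])) (.leaf .df))) (.node (.node (.leaf (.cyc (nat_lit 28) [(nat_lit 635), (nat_lit 294), (nat_lit 2939), (nat_lit 294), (nat_lit 635)])) (.leaf .df)) (.node (.leaf (.cyc (nat_lit 35) [(nat_lit 7723), (nat_lit 5569), (nat_lit 4241), (nat_lit 5534), (nat_lit 2210)])) (.leaf .df)))))) (.node (.node (.node (.node (.node (.leaf .df) (.leaf (.cyc (nat_lit 30) [(nat_lit 2417), (nat_lit 6553), (nat_lit 5010), (nat_lit 6553), (nat_lit 2417)]))) (.node (.leaf (.cyc (nat_lit 6) [(nat_lit 4568), (nat_lit 1016), (nat_lit 528), (nat_lit 530), (nat_lit 1018)])) (.leaf .df))) (.node (.node (.leaf .df) (.leaf .df)) (.node (.leaf (.cyc (nat_lit 48) [(nat_lit 1811), (nat_lit 4677), (nat_lit 1811)])) (.leaf .df)))) (.node (.node (.node (.leaf .df) (.leaf (.cyc (nat_lit 19) [(nat_lit 2678), (nat_lit 2451), (nat_lit 6698), (nat_lit 2451), (nat_lit 2678)]))) (.node (.leaf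 (.cyc (nat_lit 53) [(nat_lit 1014), (nat_lit 1015), (nat_lit 5575), (nat_lit 5571), (nat_lit 1474)])) (.leaf .df))) (.node (.node (.leaf (.cyc (nat_lit 63) [(nat_lit 493), (nat_lit 3139), (nat_lit 3140), (nat_lit 3139), (nat_lit 493)])) (.leaf .df)) (.node (.leaf (.cyc (nat_lit 100) [(nat_lit 7639), (nat_lit 5920), (nat_lit 5919), (nat_lit 5121), (nat_lit 7329)])) (.leaf .df))))) (.node (.node (.node (.node (.leaf .df) (.leaf (.cyc (nat_lit 56) [(nat_lit 2551), (nat_lit 8856), (nat_lit 8858), (nat_lit 8856), (nat_lit 2551)]))) (.node (.leaf (.cyc (nat_lit 31) [(nat_lit 1246), (nat_lit 3993), (nat_lit 3991), (nat_lit 3993), (nat_lit 1246)])) (.leaf .df))) (.node (.node (.leaf (.cyc (nat_lit 16) [(nat_lit 184), (nat_lit 2873), (nat_lit 2853), (nat_lit 2873), (nat_lit 184)])) (.leaf .df)) (.node (.leaf (.cyc (nat_lit 155) [(nat_lit 1957), (nat_lit 1181), (nat_lit 626), (nat_lit 627), (nat_lit 4935), (nat_lit 6697), (nat_lit 7126), (nat_lit 1938), (nat_lit 4896), (nat_lit 1869), (nat_lit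 6773)])) (.leaf .df)))) (.node (.node (.node (.leaf .df) (.leaf .df)) (.node (.leaf (.cyc (nat_lit 28) [(nat_lit 1638), (nat_lit 5076), (nat_lit 5073), (nat_lit 5076), (nat_lit 1638)])) (.leaf .df))) (.node (.node (.leaf (.cyc (nat_lit 73) [(nat_lit 4028), (nat_lit 4047), (nat_lit 446)])) (.leaf .df)) (.node (.leaf (.cyc (nat_lit 44) [(nat_lit 2285), (nat_lit 7264), (nat_lit 7263), (nat_lit 7264), (nat_lit 2285)])) (.leaf .df))))))))
noncomputable def u5P100110 : BT Pf := .node u5P1001100 u5P1001101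
noncomputable def u5P1001110 : BT Pf := (.node (.node (.node (.node (.node (.node (.node (.leaf .df) (.leaf (.cyc (nat_lit 20) [(nat_lit 2312), (nat_lit 6051), (nat_lit 2312)]))) (.node (.leaf (.cyc (nat_lit 18) [(nat_lit 547), (nat_lit 545), (nat_lit 4108), (nat_lit 3737), (nat_lit 823)])) (.leaf .df))) (.node (.node (.leaf .df) (.leaf .df)) (.node (.leaf (.cyc (nat_lit 48) [(nat_lit 1559), (nat_lit 4390), (nat_lit 1676)])) (.leaf .df)))) (.node (.node (.node (.leaf .df) (.leaf (.cyc (nat_lit 37) [(nat_lit 2576), (nat_lit 2118), (nat_lit 5299), (nat_lit 2118), (nat_lit 2576)]))) (.node (.leaf (.cyc (nat_lit 9) [(nat_lit 5175), (nat_lit 900), (nat_lit 4294), (nat_lit 4295), (nat_lit 4543)])) (.leaf .df))) (.node (.node (.leaf (.cyc (nat_lit 37) [(nat_lit 232), (nat_lit 3052), (nat_lit 3054), (nat_lit 3052), (nat_lit 232)])) (.leaf .df)) (.node (.leaf (.cyc (nat_lit 20) [(nat_lit 5112), (nat_lit 5044), (nat_lit 2012)])) (.leaf .df))))) (.node (.node (.node (.node (.leaf .df) (.leaf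 (.cyc (nat_lit 28) [(nat_lit 2442), (nat_lit 7182), (nat_lit 7180), (nat_lit 7182), (nat_lit 2442)]))) (.node (.leaf (.cyc (nat_lit 28) [(nat_lit 4663), (nat_lit 576), (nat_lit 3186), (nat_lit 576), (nat_lit 4663)])) (.leaf .df))) (.node (.node (.leaf .df) (.leaf .df)) (.node (.leaf (.cyc (nat_lit 87) [(nat_lit 1850), (nat_lit 4730), (nat_lit 1084), (nat_lit 4643), (nat_lit 4641), (nat_lit 4461), (nat_lit 4641), (nat_lit 4643), (nat_lit 1084), (nat_lit 4730), (nat_lit 1850)])) (.leaf .df)))) (.node (.node (.node (.leaf .df) (.leaf (.cyc (nat_lit 30) [(nat_lit 2699), (nat_lit 2698), (nat_lit 9782), (nat_lit 2698), (nat_lit 2699)]))) (.node (.leaf (.cyc (nat_lit 46) [(nat_lit 1503), (nat_lit 4133), (nat_lit 1503)])) (.leaf .df))) (.node (.node (.leaf (.cyc (nat_lit 20) [(nat_lit 261), (nat_lit 3175), (nat_lit 549)])) (.leaf .df)) (.node (.leaf (.cyc (nat_lit 28) [(nat_lit 2165), (nat_lit 1399), (nat_lit 3942), (nat_lit 1399), (nat_lit 2165)])) (.leaf .df)))))) (.node (.node (.node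 (.node (.node (.leaf .df) (.leaf (.cyc (nat_lit 62) [(nat_lit 2375), (nat_lit 6344), (nat_lit 5156), (nat_lit 6344), (nat_lit 2375)]))) (.node (.leaf (.cyc (nat_lit 11) [(nat_lit 4407), (nat_lit 4367), (nat_lit 3371), (nat_lit 4367), (nat_lit 4407)])) (.leaf .df))) (.node (.node (.leaf .df) (.leaf .df)) (.node (.leaf (.cyc (nat_lit 27) [(nat_lit 6456), (nat_lit 1766), (nat_lit 1767)])) (.leaf .df)))) (.node (.node (.node (.leaf .df) (.leaf (.cyc (nat_lit 16) [(nat_lit 2641), (nat_lit 8190), (nat_lit 6849), (nat_lit 8190), (nat_lit 2641)]))) (.node (.leaf (.cyc (nat_lit 50) [(nat_lit 759), (nat_lit 357), (nat_lit 3296), (nat_lit 742), (nat_lit 1400)])) (.leaf .df))) (.node (.node (.leaf (.cyc (nat_lit 41) [(nat_lit 229), (nat_lit 3031), (nat_lit 418)])) (.leaf .df)) (.node (.leaf (.cyc (nat_lit 41) [(nat_lit 2098), (nat_lit 6491), (nat_lit 2098)])) (.leaf .df))))) (.node (.node (.node (.node (.leaf .df) (.leaf (.cyc (nat_lit 19) [(nat_lit 2509), (nat_lit 1958), (nat_lit 4949),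 (nat_lit 1958), (nat_lit 2509)]))) (.node (.leaf (.cyc (nat_lit 45) [(nat_lit 1171), (nat_lit 3774), (nat_lit 3467), (nat_lit 3774), (nat_lit 1171)])) (.leaf .df))) (.node (.node (.leaf (.cyc (nat_lit 23) [(nat_lit 51), (nat_lit 2831), (nat_lit 72)])) (.leaf .df)) (.node (.leaf (.cyc (nat_lit 35) [(nat_lit 1935), (nat_lit 6964), (nat_lit 6965), (nat_lit 6964), (nat_lit 1935)])) (.leaf .df)))) (.node (.node (.node (.leaf .df) (.leaf .df)) (.node (.leaf (.cyc (nat_lit 25) [(nat_lit 1506), (nat_lit 5552), (nat_lit 5941), (nat_lit 1584), (nat_lit 1585)])) (.leaf .df))) (.node (.node (.leaf (.cyc (nat_lit 21) [(nat_lit 705), (nat_lit 3262), (nat_lit 3449), (nat_lit 3262), (nat_lit 705)])) (.leaf .df)) (.node (.leaf (.cyc (nat_lit 31) [(nat_lit 1861), (nat_lit 5633), (nat_lit 1478), (nat_lit 1479), (nat_lit 2235)])) (.leaf .df))))))) (.node (.node (.node (.node (.node (.node (.leaf .df) (.leaf (.cyc (nat_lit 19) [(nat_lit 2077), (nat_lit 1291), (nat_lit 5204), (nat_lit 6167), (nat_lit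 2343)]))) (.node (.leaf (.cyc (nat_lit 51) [(nat_lit 893), (nat_lit 3473), (nat_lit 268), (nat_lit 269), (nat_lit 576), (nat_lit 3716), (nat_lit 576), (nat_lit 269), (nat_lit 268), (nat_lit 3473), (nat_lit 893)])) (.leaf .df))) (.node (.node (.leaf .df) (.leaf .df)) (.node (.leaf (.cyc (nat_lit 44) [(nat_lit 1719), (nat_lit 5992), (nat_lit 5989), (nat_lit 5992), (nat_lit 1719)])) (.leaf .df)))) (.node (.node (.node (.leaf .df) (.leaf (.cyc (nat_lit 25) [(nat_lit 2610), (nat_lit 7968), (nat_lit 7439), (nat_lit 7968), (nat_lit 2610)]))) (.node (.leaf (.cyc (nat_lit 35) [(nat_lit 1342), (nat_lit 4407), (nat_lit 4401), (nat_lit 4407), (nat_lit 1342)])) (.leaf .df))) (.node (.node (.leaf (.cyc (nat_lit 18) [(nat_lit 299), (nat_lit 127), (nat_lit 2860), (nat_lit 137), (nat_lit 329)])) (.leaf .df)) (.node (.leaf (.cyc (nat_lit 46) [(nat_lit 2054), (nat_lit 5133), (nat_lit 2054)])) (.leaf .df))))) (.node (.node (.node (.node (.leaf .df) (.leaf (.cyc (nat_lit 24) [(nat_lit 2477), (nat_lit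 6784), (nat_lit 4780), (nat_lit 6784), (nat_lit 2477)]))) (.node (.leaf (.cyc (nat_lit 19) [(nat_lit 4180), (nat_lit 4364), (nat_lit 588), (nat_lit 586), (nat_lit 1113)])) (.leaf .df))) (.node (.node (.leaf .df) (.leaf .df)) (.node (.leaf (.cyc (nat_lit 15) [(nat_lit 1136), (nat_lit 4825), (nat_lit 1897)])) (.leaf .df)))) (.node (.node (.node (.leaf .df) (.leaf (.cyc (nat_lit 6) [(nat_lit 2728), (nat_lit 2593), (nat_lit 7663), (nat_lit 2593), (nat_lit 2728)]))) (.node (.leaf (.cyc (nat_lit 20) [(nat_lit 1542), (nat_lit 4168), (nat_lit 1542)])) (.leaf .df))) (.node (.node (.leaf (.cyc (nat_lit 20) [(nat_lit 619), (nat_lit 3217), (nat_lit 619)])) (.leaf .df)) (.node (.leaf (.cyc (nat_lit 16) [(nat_lit 6612), (nat_lit 6900), (nat_lit 7853), (nat_lit 7851), (nat_lit 2201)])) (.leaf .df)))))) (.node (.node (.node (.node (.node (.leaf .df) (.leaf (.cyc (nat_lit 28) [(nat_lit 2409), (nat_lit 1778), (nat_lit 4583), (nat_lit 1778), (nat_lit 2409)]))) (.node (.leaf (.cyc (nat_lit 53) [(nat_lit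 1001), (nat_lit 3696), (nat_lit 3701), (nat_lit 3696), (nat_lit 1001)])) (.leaf .df))) (.node (.node (.leaf .df) (.leaf .df)) (.node (.leaf (.cyc (nat_lit 67) [(nat_lit 6583), (nat_lit 6581), (nat_lit 1049), (nat_lit 4475), (nat_lit 5863), (nat_lit 1560), (nat_lit 4915), (nat_lit 5385), (nat_lit 5383), (nat_lit 4911), (nat_lit 1607)])) (.leaf .df)))) (.node (.node (.node (.leaf .df) (.leaf (.cyc (nat_lit 41) [(nat_lit 2671), (nat_lit 8703), (nat_lit 2671)]))) (.node (.leaf (.cyc (nat_lit 2) [(nat_lit 5560), (nat_lit 5506), (nat_lit 5416), (nat_lit 5506), (nat_lit 5560)])) (.leaf .df))) (.node (.node (.leaf (.cyc (nat_lit 27) [(nat_lit 471), (nat_lit 3091), (nat_lit 471)])) (.leaf .df)) (.node (.leaf (.cyc (nat_lit 71) [(nat_lit 7606), (nat_lit 7607), (nat_lit 2129), (nat_lit 5337), (nat_lit 5134), (nat_lit 5132), (nat_lit 1273), (nat_lit 2055), (nat_lit 7362), (nat_lit 6687), (nat_lit 6689)])) (.leaf .df))))) (.node (.node (.node (.node (.leaf .df) (.leaf (.cyc (nat_lit 57) [(nat_lit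 7818), (nat_lit 7819), (nat_lit 7610), (nat_lit 7986), (nat_lit 7988), (nat_lit 2144), (nat_lit 6347), (nat_lit 7085), (nat_lit 7546), (nat_lit 7548), (nat_lit 2543)]))) (.node (.leaf (.cyc (nat_lit 27) [(nat_lit 658), (nat_lit 657), (nat_lit 1238)])) (.leaf .df))) (.node (.node (.leaf (.cyc (nat_lit 76) [(nat_lit 2998), (nat_lit 75), (nat_lit 25), (nat_lit 2798), (nat_lit 66)])) (.leaf .df)) (.node (.leaf (.cyc (nat_lit 24) [(nat_lit 1847), (nat_lit 6526), (nat_lit 7095), (nat_lit 1972), (nat_lit 1973)])) (.leaf .df)))) (.node (.node (.node (.leaf .df) (.leaf .df)) (.node (.leaf (.cyc (nat_lit 56) [(nat_lit 5431), (nat_lit 1400), (nat_lit 6067), (nat_lit 6064), (nat_lit 1627)])) (.leaf .df))) (.node (.node (.leaf (.cyc (nat_lit 14) [(nat_lit 4024), (nat_lit 392), (nat_lit 160), (nat_lit 159), (nat_lit 389)])) (.leaf .df)) (.node (.leaf (.cyc (nat_lit 48) [(nat_lit 2278), (nat_lit 5834), (nat_lit 2278)])) (.leaf .df))))))))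
noncomputable def u5P1001111 : BT Pf := (.node (.node (.node (.node (.node (.node (.node (.leaf .df) (.leaf (.cyc (nat_lit 28) [(nat_lit 2328), (nat_lit 6116), (nat_lit 5342), (nat_lit 6116), (nat_lit 2328)]))) (.node (.leaf (.cyc (nat_lit 66) [(nat_lit 4216), (nat_lit 859), (nat_lit 434), (nat_lit 433), (nat_lit 856)])) (.leaf .df))) (.node (.node (.leaf .df) (.leaf .df)) (.node (.leaf (.cyc (nat_lit 30) [(nat_lit 1294), (nat_lit 5204), (nat_lit 6261), (nat_lit 1696), (nat_lit 1697)])) (.leaf .df)))) (.node (.node (.node (.leaf .df) (.leaf (.cyc (nat_lit 25) [(nat_lit 2594), (nat_lit 7677), (nat_lit 7406), (nat_lit 7677), (nat_lit 2594)]))) (.node (.leaf (.cyc (nat_lit 3) [(nat_lit 5240), (nat_lit 1258), (nat_lit 1261)])) (.leaf .df))) (.node (.node (.leaf (.cyc (nat_lit 53) [(nat_lit 272), (nat_lit 3187), (nat_lit 3186), (nat_lit 3187), (nat_lit 272)])) (.leaf .df)) (.node (.leaf (.cyc (nat_lit 58) [(nat_lit 1655), (nat_lit 5051), (nat_lit 5049), (nat_lit 3845), (nat_lit 665),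 (nat_lit 5064), (nat_lit 5066), (nat_lit 3853), (nat_lit 5099), (nat_lit 2030), (nat_lit 7288)])) (.leaf .df))))) (.node (.node (.node (.node (.leaf .df) (.leaf (.cyc (nat_lit 27) [(nat_lit 1863), (nat_lit 1862), (nat_lit 2461)]))) (.node (.leaf (.cyc (nat_lit 23) [(nat_lit 572), (nat_lit 570), (nat_lit 1083)])) (.leaf .df))) (.node (.node (.leaf .df) (.leaf .df)) (.node (.leaf (.cyc (nat_lit 44) [(nat_lit 6540), (nat_lit 4599), (nat_lit 4358), (nat_lit 1106), (nat_lit 1871)])) (.leaf .df)))) (.node (.node (.node (.leaf .df) (.leaf (.cyc (nat_lit 53) [(nat_lit 2715), (nat_lit 2549), (nat_lit 7390), (nat_lit 2549), (nat_lit 2715)]))) (.node (.leaf (.cyc (nat_lit 51) [(nat_lit 1488), (nat_lit 4112), (nat_lit 935), (nat_lit 5284), (nat_lit 1042), (nat_lit 3641), (nat_lit 560), (nat_lit 4419), (nat_lit 4682), (nat_lit 5750), (nat_lit 5752)])) (.leaf .df))) (.node (.node (.leaf (.cyc (nat_lit 55) [(nat_lit 567), (nat_lit 568), (nat_lit 3704), (nat_lit 568), (nat_lit 567)])) (.leaf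 .df)) (.node (.leaf (.cyc (nat_lit 54) [(nat_lit 2185), (nat_lit 1422), (nat_lit 5283), (nat_lit 1335), (nat_lit 1334), (nat_lit 5279), (nat_lit 5286), (nat_lit 5287), (nat_lit 4961), (nat_lit 1974), (nat_lit 7104)])) (.leaf .df)))))) (.node (.node (.node (.node (.node (.leaf .df) (.leaf (.cyc (nat_lit 23) [(nat_lit 8307), (nat_lit 7484), (nat_lit 2393)]))) (.node (.leaf (.cyc (nat_lit 90) [(nat_lit 970), (nat_lit 968), (nat_lit 4472), (nat_lit 968), (nat_lit 970)])) (.leaf .df))) (.node (.node (.leaf .df) (.leaf .df)) (.node (.leaf (.cyc (nat_lit 49) [(nat_lit 5778), (nat_lit 5792), (nat_lit 1781)])) (.leaf .df)))) (.node (.node (.node (.leaf .df) (.leaf (.cyc (nat_lit 27) [(nat_lit 2656), (nat_lit 8403), (nat_lit 2656)]))) (.node (.leaf (.cyc (nat_lit 47) [(nat_lit 1426), (nat_lit 764), (nat_lit 3307), (nat_lit 764), (nat_lit 1426)])) (.leaf .df))) (.node (.node (.leaf (.cyc (nat_lit 114) [(nat_lit 335), (nat_lit 3448)])) (.leaf .df)) (.node (.leaf (.cyc (nat_lit 25) [(nat_lit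 1791), (nat_lit 4619), (nat_lit 4930), (nat_lit 5288), (nat_lit 2114)])) (.leaf .df))))) (.node (.node (.node (.node (.leaf .df) (.leaf (.cyc (nat_lit 47) [(nat_lit 2217), (nat_lit 5942), (nat_lit 5940), (nat_lit 7239), (nat_lit 2526)]))) (.node (.leaf (.cyc (nat_lit 48) [(nat_lit 642), (nat_lit 3808), (nat_lit 1208)])) (.leaf .df))) (.node (.node (.leaf (.cyc (nat_lit 59) [(nat_lit 2935), (nat_lit 2925), (nat_lit 2920), (nat_lit 2925), (nat_lit 2935)])) (.leaf .df)) (.node (.leaf (.cyc (nat_lit 56) [(nat_lit 1952), (nat_lit 7029), (nat_lit 7030), (nat_lit 7029), (nat_lit 1952)])) (.leaf .df)))) (.node (.node (.node (.leaf .df) (.leaf .df)) (.node (.leaf (.cyc (nat_lit 27) [(nat_lit 6008), (nat_lit 1606), (nat_lit 1607)])) (.leaf .df))) (.node (.node (.leaf (.cyc (nat_lit 27) [(nat_lit 3957), (nat_lit 3416), (nat_lit 750)])) (.leaf .df)) (.node (.leaf (.cyc (nat_lit 41) [(nat_lit 2258), (nat_lit 5725), (nat_lit 2258)])) (.leaf .df))))))) (.node (.node (.node (.node (.node (.node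 (.leaf .df) (.leaf (.cyc (nat_lit 45) [(nat_lit 2358), (nat_lit 1687), (nat_lit 4394), (nat_lit 1687), (nat_lit 2358)]))) (.node (.leaf (.cyc (nat_lit 34) [(nat_lit 867), (nat_lit 438), (nat_lit 3093), (nat_lit 471), (nat_lit 924)])) (.leaf .df))) (.node (.node (.leaf .df) (.leaf .df)) (.node (.leaf (.cyc (nat_lit 46) [(nat_lit 6373), (nat_lit 4635), (nat_lit 1742)])) (.leaf .df)))) (.node (.node (.node (.leaf .df) (.leaf (.cyc (nat_lit 61) [(nat_lit 9464), (nat_lit 2626), (nat_lit 8506), (nat_lit 2375), (nat_lit 6344), (nat_lit 7292), (nat_lit 7295), (nat_lit 5822), (nat_lit 2276), (nat_lit 8964), (nat_lit 9286)]))) (.node (.leaf (.cyc (nat_lit 67) [(nat_lit 1224), (nat_lit 646), (nat_lit 299), (nat_lit 127), (nat_lit 2860), (nat_lit 139), (nat_lit 333), (nat_lit 3263), (nat_lit 341), (nat_lit 727), (nat_lit 5367)])) (.leaf .df))) (.node (.node (.leaf (.cyc (nat_lit 18) [(nat_lit 374), (nat_lit 155), (nat_lit 2865), (nat_lit 155), (nat_lit 374)])) (.leaf .df)) (.node (.leaf (.cyc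 (nat_lit 20) [(nat_lit 1294), (nat_lit 1291), (nat_lit 2078)])) (.leaf .df))))) (.node (.node (.node (.node (.leaf .df) (.leaf (.cyc (nat_lit 34) [(nat_lit 2492), (nat_lit 6895), (nat_lit 6977), (nat_lit 6895), (nat_lit 2492)]))) (.node (.leaf (.cyc (nat_lit 53) [(nat_lit 1143), (nat_lit 4841), (nat_lit 4840), (nat_lit 4841), (nat_lit 1143)])) (.leaf .df))) (.node (.node (.leaf (.cyc (nat_lit 17) [(nat_lit 2807), (nat_lit 18), (nat_lit 2801), (nat_lit 2800), (nat_lit 2770), (nat_lit 2754), (nat_lit 2766), (nat_lit 5), (nat_lit 2761), (nat_lit 2755), (nat_lit 28)])) (.leaf .df)) (.node (.leaf (.cyc (nat_lit 30) [(nat_lit 1916), (nat_lit 1145), (nat_lit 3750), (nat_lit 1145), (nat_lit 1916)])) (.leaf .df)))) (.node (.node (.node (.leaf .df) (.leaf (.cyc (nat_lit 53) [(nat_lit 2741), (nat_lit 2675), (nat_lit 8720), (nat_lit 2675), (nat_lit 2741)]))) (.node (.leaf (.cyc (nat_lit 19) [(nat_lit 1013), (nat_lit 3615), (nat_lit 3398), (nat_lit 4205), (nat_lit 1567)])) (.leaf .df))) (.node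 (.node (.leaf (.cyc (nat_lit 41) [(nat_lit 455), (nat_lit 3236), (nat_lit 655)])) (.leaf .df)) (.node (.leaf (.cyc (nat_lit 16) [(nat_lit 2218), (nat_lit 5562), (nat_lit 4461), (nat_lit 5562), (nat_lit 2218)])) (.leaf .df)))))) (.node (.node (.node (.node (.node (.leaf .df) (.leaf (.cyc (nat_lit 48) [(nat_lit 2425), (nat_lit 6619), (nat_lit 2425)]))) (.node (.leaf (.cyc (nat_lit 18) [(nat_lit 846), (nat_lit 423), (nat_lit 425), (nat_lit 848), (nat_lit 4600)])) (.leaf .df))) (.node (.node (.leaf .df) (.leaf .df)) (.node (.leaf (.cyc (nat_lit 23) [(nat_lit 6648), (nat_lit 1823), (nat_lit 1824)])) (.leaf .df)))) (.node (.node (.node (.leaf .df) (.leaf (.cyc (nat_lit 15) [(nat_lit 2685), (nat_lit 8861), (nat_lit 2685)]))) (.node (.leaf (.cyc (nat_lit 20) [(nat_lit 4952), (nat_lit 5244), (nat_lit 5624)])) (.leaf .df))) (.node (.node (.leaf (.cyc (nat_lit 115) [(nat_lit 446), (nat_lit 3138), (nat_lit 3576), (nat_lit 3138), (nat_lit 446)])) (.leaf .df)) (.node (.leaf (.cyc (nat_lit 133)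 [(nat_lit 7670), (nat_lit 7518), (nat_lit 5251), (nat_lit 6489), (nat_lit 6181), (nat_lit 6487), (nat_lit 1912), (nat_lit 6895), (nat_lit 1203), (nat_lit 1204), (nat_lit 1991)])) (.leaf .df))))) (.node (.node (.node (.node (.leaf .df) (.leaf (.cyc (nat_lit 47) [(nat_lit 2559), (nat_lit 2558), (nat_lit 9206), (nat_lit 2558), (nat_lit 2559)]))) (.node (.leaf (.cyc (nat_lit 15) [(nat_lit 1263), (nat_lit 3855), (nat_lit 1263)])) (.leaf .df))) (.node (.node (.leaf (.cyc (nat_lit 30) [(nat_lit 195), (nat_lit 2975), (nat_lit 2974), (nat_lit 2975), (nat_lit 195)])) (.leaf .df)) (.node (.leaf (.cyc (nat_lit 22) [(nat_lit 1978), (nat_lit 6411), (nat_lit 6410), (nat_lit 1746), (nat_lit 6261), (nat_lit 6260), (nat_lit 6909), (nat_lit 1917), (nat_lit 1916), (nat_lit 7159), (nat_lit 7158)])) (.leaf .df)))) (.node (.node (.node (.leaf .df) (.leaf .df)) (.node (.leaf (.cyc (nat_lit 106) [(nat_lit 1300), (nat_lit 1301), (nat_lit 6136), (nat_lit 1649), (nat_lit 1648)])) (.leaf .df))) (.node (.node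 (.leaf (.cyc (nat_lit 28) [(nat_lit 3469), (nat_lit 754), (nat_lit 3969), (nat_lit 3848), (nat_lit 786)])) (.leaf .df)) (.node (.leaf (.cyc (nat_lit 27) [(nat_lit 2252), (nat_lit 5945), (nat_lit 2294)])) (.leaf .df))))))))
noncomputable def u5P100111 : BT Pf := .node u5P1001110 u5P1001111
noncomputable def u5P10011 : BT Pf := .node u5P100110 u5P100111
noncomputable def u5P1001 : BT Pf := .node u5P10010 u5P10011
noncomputable def u5P100 : BT Pf := .node u5P1000 u5P1001
noncomputable def u5P1010000 : BT Pf := (.node (.node (.node (.node (.node (.node (.node (.leaf .df) (.leaf (.cyc (nat_lit 49) [(nat_lit 8190), (nat_lit 8192), (nat_lit 2297)]))) (.node (.leaf (.cyc (nat_lit 54) [(nat_lit 4099), (nat_lit 4100), (nat_lit 391), (nat_lit 160), (nat_lit 159), (nat_lit 3431), (nat_lit 159), (nat_lit 160), (nat_lit 391), (nat_lit 4100), (nat_lit 4099)])) (.leaf .df))) (.node (.node (.leaf .df) (.leaf .df)) (.node (.leaf (.cyc (nat_lit 47) [(nat_lit 6142), (nat_lit 1651), (nat_lit 4319),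 (nat_lit 912), (nat_lit 1654)])) (.leaf .df)))) (.node (.node (.node (.leaf .df) (.leaf (.cyc (nat_lit 61) [(nat_lit 2565), (nat_lit 7475), (nat_lit 2096), (nat_lit 1316), (nat_lit 700), (nat_lit 3719), (nat_lit 1100), (nat_lit 4760), (nat_lit 1863), (nat_lit 2463), (nat_lit 8833)]))) (.node (.leaf (.cyc (nat_lit 46) [(nat_lit 1269), (nat_lit 3865), (nat_lit 1269)])) (.leaf .df))) (.node (.node (.leaf (.cyc (nat_lit 63) [(nat_lit 201), (nat_lit 80), (nat_lit 2808), (nat_lit 80), (nat_lit 201)])) (.leaf .df)) (.node (.leaf (.cyc (nat_lit 50) [(nat_lit 1671), (nat_lit 4384), (nat_lit 4648), (nat_lit 4982), (nat_lit 1993)])) (.leaf .df))))) (.node (.node (.node (.node (.leaf .df) (.leaf (.cyc (nat_lit 47) [(nat_lit 2428), (nat_lit 6700), (nat_lit 6701), (nat_lit 6700), (nat_lit 2428)]))) (.node (.leaf (.cyc (nat_lit 113) [(nat_lit 4355), (nat_lit 4611)])) (.leaf .df))) (.node (.node (.leaf .df) (.leaf .df)) (.node (.leaf (.cyc (nat_lit 21) [(nat_lit 1082), (nat_lit 570), (nat_lit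 3695), (nat_lit 1068), (nat_lit 1829)])) (.leaf .df)))) (.node (.node (.node (.leaf .df) (.leaf (.cyc (nat_lit 16) [(nat_lit 2687), (nat_lit 8888), (nat_lit 7778), (nat_lit 8888), (nat_lit 2687)]))) (.node (.leaf (.cyc (nat_lit 24) [(nat_lit 1483), (nat_lit 4107), (nat_lit 3744), (nat_lit 4107), (nat_lit 1483)])) (.leaf .df))) (.node (.node (.leaf (.cyc (nat_lit 30) [(nat_lit 409), (nat_lit 177), (nat_lit 2900), (nat_lit 233), (nat_lit 510)])) (.leaf .df)) (.node (.leaf (.cyc (nat_lit 7) [(nat_lit 7684), (nat_lit 6890), (nat_lit 2021)])) (.leaf .df)))))) (.node (.node (.node (.node (.node (.leaf .df) (.leaf (.cyc (nat_lit 26) [(nat_lit 1957), (nat_lit 1181), (nat_lit 4930), (nat_lit 6245), (nat_lit 2361)]))) (.node (.leaf (.cyc (nat_lit 49) [(nat_lit 848), (nat_lit 851), (nat_lit 4356)])) (.leaf .df))) (.node (.node (.leaf .df) (.leaf .df)) (.node (.leaf (.cyc (nat_lit 27) [(nat_lit 1745), (nat_lit 4509), (nat_lit 1745)])) (.leaf .df)))) (.node (.node (.node (.leaf .df) (.leaf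 (.cyc (nat_lit 31) [(nat_lit 2630), (nat_lit 2277), (nat_lit 5827), (nat_lit 2277), (nat_lit 2630)]))) (.node (.leaf (.cyc (nat_lit 24) [(nat_lit 1371), (nat_lit 5361), (nat_lit 5366), (nat_lit 5361), (nat_lit 1371)])) (.leaf .df))) (.node (.node (.leaf (.cyc (nat_lit 28) [(nat_lit 378), (nat_lit 156), (nat_lit 2865), (nat_lit 156), (nat_lit 378)])) (.leaf .df)) (.node (.leaf (.cyc (nat_lit 23) [(nat_lit 1865), (nat_lit 5171), (nat_lit 2081)])) (.leaf .df))))) (.node (.node (.node (.node (.leaf .df) (.leaf (.cyc (nat_lit 14) [(nat_lit 8964), (nat_lit 2276), (nat_lit 5822), (nat_lit 2276), (nat_lit 8964)]))) (.node (.leaf (.cyc (nat_lit 34) [(nat_lit 1059), (nat_lit 1058), (nat_lit 4681), (nat_lit 3923), (nat_lit 1149)])) (.leaf .df))) (.node (.node (.leaf (.cyc (nat_lit 28) [(nat_lit 32), (nat_lit 18), (nat_lit 2802), (nat_lit 18), (nat_lit 32)])) (.leaf .df)) (.node (.leaf (.cyc (nat_lit 20) [(nat_lit 1921), (nat_lit 4867), (nat_lit 1921)])) (.leaf .df)))) (.node (.node (.node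 (.leaf .df) (.leaf (.cyc (nat_lit 48) [(nat_lit 2744), (nat_lit 9794), (nat_lit 2744)]))) (.node (.leaf (.cyc (nat_lit 94) [(nat_lit 1367), (nat_lit 1368), (nat_lit 5891), (nat_lit 5833), (nat_lit 5836)])) (.leaf .df))) (.node (.node (.leaf (.cyc (nat_lit 28) [(nat_lit 309), (nat_lit 130), (nat_lit 129), (nat_lit 306), (nat_lit 658)])) (.leaf .df)) (.node (.leaf (.cyc (nat_lit 26) [(nat_lit 7076), (nat_lit 7895), (nat_lit 2209), (nat_lit 5573), (nat_lit 2222)])) (.leaf .df))))))) (.node (.node (.node (.node (.node (.node (.leaf .df) (.leaf (.cyc (nat_lit 37) [(nat_lit 2331), (nat_lit 7812), (nat_lit 7814), (nat_lit 7812), (nat_lit 2331)]))) (.node (.leaf (.cyc (nat_lit 75) [(nat_lit 689), (nat_lit 691), (nat_lit 4227), (nat_lit 691), (nat_lit 689)])) (.leaf .df))) (.node (.node (.leaf .df) (.leaf .df)) (.node (.leaf (.cyc (nat_lit 52) [(nat_lit 1699), (nat_lit 1700), (nat_lit 6276), (nat_lit 1700), (nat_lit 1699)])) (.leaf .df)))) (.node (.node (.node (.leaf .df) (.leaf (.cyc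 (nat_lit 53) [(nat_lit 2597), (nat_lit 8881), (nat_lit 8883), (nat_lit 8881), (nat_lit 2597)]))) (.node (.leaf (.cyc (nat_lit 41) [(nat_lit 1327), (nat_lit 4767), (nat_lit 1327)])) (.leaf .df))) (.node (.node (.leaf (.cyc (nat_lit 55) [(nat_lit 282), (nat_lit 283), (nat_lit 3204), (nat_lit 283), (nat_lit 282)])) (.leaf .df)) (.node (.leaf (.cyc (nat_lit 56) [(nat_lit 2033), (nat_lit 1257), (nat_lit 3852), (nat_lit 1257), (nat_lit 2033)])) (.leaf .df))))) (.node (.node (.node (.node (.leaf .df) (.leaf (.cyc (nat_lit 47) [(nat_lit 2464), (nat_lit 7429), (nat_lit 7431), (nat_lit 7429), (nat_lit 2464)]))) (.node (.leaf (.cyc (nat_lit 20) [(nat_lit 1092), (nat_lit 3716), (nat_lit 1092)])) (.leaf .df))) (.node (.node (.leaf .df) (.leaf .df)) (.node (.leaf (.cyc (nat_lit 156) [(nat_lit 6787), (nat_lit 4960), (nat_lit 6095), (nat_lit 1634), (nat_lit 902), (nat_lit 3722), (nat_lit 4261), (nat_lit 4262), (nat_lit 1022), (nat_lit 1777), (nat_lit 6513)])) (.leaf .df)))) (.node (.node (.node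 (.leaf .df) (.leaf (.cyc (nat_lit 20) [(nat_lit 2718), (nat_lit 9198), (nat_lit 2718)]))) (.node (.leaf (.cyc (nat_lit 59) [(nat_lit 5763), (nat_lit 4786), (nat_lit 3743), (nat_lit 4786), (nat_lit 5763)])) (.leaf .df))) (.node (.node (.leaf (.cyc (nat_lit 46) [(nat_lit 577), (nat_lit 3189), (nat_lit 577)])) (.leaf .df)) (.node (.leaf (.cyc (nat_lit 19) [(nat_lit 7107), (nat_lit 6175), (nat_lit 1428), (nat_lit 1426), (nat_lit 2189)])) (.leaf .df)))))) (.node (.node (.node (.node (.node (.leaf .df) (.leaf (.cyc (nat_lit 26) [(nat_lit 2037), (nat_lit 1260), (nat_lit 1261), (nat_lit 6451), (nat_lit 2396)]))) (.node (.leaf (.cyc (nat_lit 46) [(nat_lit 4209), (nat_lit 4292), (nat_lit 980)])) (.leaf .df))) (.node (.node (.leaf .df) (.leaf .df)) (.node (.leaf (.cyc (nat_lit 23) [(nat_lit 1076), (nat_lit 4596), (nat_lit 1785)])) (.leaf .df)))) (.node (.node (.node (.leaf .df) (.leaf (.cyc (nat_lit 46) [(nat_lit 2659), (nat_lit 8462), (nat_lit 2659)]))) (.node (.leaf (.cyc (nat_lit 37)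 [(nat_lit 1435), (nat_lit 4002), (nat_lit 4082), (nat_lit 4002), (nat_lit 1435)])) (.leaf .df))) (.node (.node (.leaf (.cyc (nat_lit 6) [(nat_lit 441), (nat_lit 3340), (nat_lit 3342), (nat_lit 3340), (nat_lit 441)])) (.leaf .df)) (.node (.leaf (.cyc (nat_lit 56) [(nat_lit 1342), (nat_lit 713), (nat_lit 712), (nat_lit 1340), (nat_lit 2117)])) (.leaf .df))))) (.node (.node (.node (.node (.leaf .df) (.leaf (.cyc (nat_lit 19) [(nat_lit 2529), (nat_lit 2020), (nat_lit 5085), (nat_lit 2020), (nat_lit 2529)]))) (.node (.leaf (.cyc (nat_lit 128) [(nat_lit 976), (nat_lit 3572), (nat_lit 502), (nat_lit 3334), (nat_lit 3333), (nat_lit 3536), (nat_lit 3541), (nat_lit 510), (nat_lit 981), (nat_lit 4635), (nat_lit 4996)])) (.leaf .df))) (.node (.node (.leaf (.cyc (nat_lit 34) [(nat_lit 136), (nat_lit 2859), (nat_lit 2814), (nat_lit 2859), (nat_lit 136)])) (.leaf .df)) (.node (.leaf (.cyc (nat_lit 37) [(nat_lit 1954), (nat_lit 5697), (nat_lit 5698), (nat_lit 5697), (nat_lit 1954)])) (.leaf .df))))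 (.node (.node (.node (.leaf .df) (.leaf .df)) (.node (.leaf (.cyc (nat_lit 27) [(nat_lit 1610), (nat_lit 4265), (nat_lit 1610)])) (.leaf .df))) (.node (.node (.leaf (.cyc (nat_lit 0) [(nat_lit 3442), (nat_lit 756), (nat_lit 3972), (nat_lit 651), (nat_lit 650)])) (.leaf .df)) (.node (.leaf (.cyc (nat_lit 44) [(nat_lit 7996), (nat_lit 1921), (nat_lit 4868), (nat_lit 1527), (nat_lit 2262)])) (.leaf .df))))))))
noncomputable def u5P1010001 : BT Pf := (.node (.node (.node (.node (.node (.node (.node (.leaf .df) (.leaf (.cyc (nat_lit 12) [(nat_lit 8260), (nat_lit 8099), (nat_lit 8100), (nat_lit 5813), (nat_lit 1844)]))) (.node (.leaf (.cyc (nat_lit 37) [(nat_lit 829), (nat_lit 4119), (nat_lit 3623), (nat_lit 4119), (nat_lit 829)])) (.leaf .df))) (.node (.node (.leaf .df) (.leaf .df)) (.node (.leaf (.cyc (nat_lit 28) [(nat_lit 4522), (nat_lit 4425), (nat_lit 4387), (nat_lit 934), (nat_lit 1680)])) (.leaf .df)))) (.node (.node (.node (.leaf .df) (.leaf (.cyc (nat_lit 47) [(nat_lit 8428),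 (nat_lit 6235), (nat_lit 7519), (nat_lit 7603), (nat_lit 2578)]))) (.node (.leaf (.cyc (nat_lit 62) [(nat_lit 1302), (nat_lit 3882), (nat_lit 3450), (nat_lit 3882), (nat_lit 1302)])) (.leaf .df))) (.node (.node (.leaf (.cyc (nat_lit 55) [(nat_lit 237), (nat_lit 238), (nat_lit 3140), (nat_lit 238), (nat_lit 237)])) (.leaf .df)) (.node (.leaf (.cyc (nat_lit 31) [(nat_lit 1583), (nat_lit 5294), (nat_lit 1338), (nat_lit 5055), (nat_lit 2015)])) (.leaf .df))))) (.node (.node (.node (.node (.leaf .df) (.leaf (.cyc (nat_lit 28) [(nat_lit 2445), (nat_lit 8138), (nat_lit 8142), (nat_lit 8138), (nat_lit 2445)]))) (.node (.leaf (.cyc (nat_lit 25) [(nat_lit 1056), (nat_lit 1054), (nat_lit 4665), (nat_lit 1054), (nat_lit 1056)])) (.leaf .df))) (.node (.node (.leaf .df) (.leaf .df)) (.node (.leaf (.cyc (nat_lit 53) [(nat_lit 1853), (nat_lit 6029), (nat_lit 6032), (nat_lit 6029), (nat_lit 1853)])) (.leaf .df)))) (.node (.node (.node (.leaf .df) (.leaf (.cyc (nat_lit 23) [(nat_lit 9695), (nat_lit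 9696), (nat_lit 2703)]))) (.node (.leaf (.cyc (nat_lit 62) [(nat_lit 1505), (nat_lit 4368), (nat_lit 3828), (nat_lit 4368), (nat_lit 1505)])) (.leaf .df))) (.node (.node (.leaf (.cyc (nat_lit 112) [(nat_lit 256), (nat_lit 3648)])) (.leaf .df)) (.node (.leaf (.cyc (nat_lit 87) [(nat_lit 7748), (nat_lit 1826), (nat_lit 4693), (nat_lit 1661), (nat_lit 6168), (nat_lit 4336), (nat_lit 6168), (nat_lit 1661), (nat_lit 4693), (nat_lit 1826), (nat_lit 7748)])) (.leaf .df)))))) (.node (.node (.node (.node (.node (.leaf .df) (.leaf (.cyc (nat_lit 19) [(nat_lit 7958), (nat_lit 6823), (nat_lit 5318), (nat_lit 6382), (nat_lit 2379)]))) (.node (.leaf (.cyc (nat_lit 48) [(nat_lit 816), (nat_lit 3540), (nat_lit 945)])) (.leaf .df))) (.node (.node (.leaf .df) (.leaf .df)) (.node (.leaf (.cyc (nat_lit 73) [(nat_lit 1752), (nat_lit 6468)])) (.leaf .df)))) (.node (.node (.node (.leaf .df) (.leaf (.cyc (nat_lit 20) [(nat_lit 2644), (nat_lit 8236), (nat_lit 2644)]))) (.node (.leaf (.cyc (nat_lit 6)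 [(nat_lit 1407), (nat_lit 4327), (nat_lit 4328), (nat_lit 4327), (nat_lit 1407)])) (.leaf .df))) (.node (.node (.leaf (.cyc (nat_lit 37) [(nat_lit 220), (nat_lit 2982), (nat_lit 2972), (nat_lit 3042), (nat_lit 427)])) (.leaf .df)) (.node (.leaf (.cyc (nat_lit 124) [(nat_lit 7492), (nat_lit 1365), (nat_lit 1367), (nat_lit 5894), (nat_lit 1836)])) (.leaf .df))))) (.node (.node (.node (.node (.leaf .df) (.leaf (.cyc (nat_lit 6) [(nat_lit 8434), (nat_lit 2356), (nat_lit 6233), (nat_lit 1965), (nat_lit 2512)]))) (.node (.leaf (.cyc (nat_lit 48) [(nat_lit 1176), (nat_lit 3784), (nat_lit 1176)])) (.leaf .df))) (.node (.node (.leaf (.cyc (nat_lit 15) [(nat_lit 34), (nat_lit 2812), (nat_lit 83)])) (.leaf .df)) (.node (.leaf (.cyc (nat_lit 0) [(nat_lit 1915), (nat_lit 5520), (nat_lit 6980), (nat_lit 5520), (nat_lit 1915)])) (.leaf .df)))) (.node (.node (.node (.leaf .df) (.leaf .df)) (.node (.leaf (.cyc (nat_lit 35) [(nat_lit 5788), (nat_lit 5789), (nat_lit 873), (nat_lit 4235), (nat_lit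 1591)])) (.leaf .df))) (.node (.node (.leaf (.cyc (nat_lit 27) [(nat_lit 338), (nat_lit 337), (nat_lit 718)])) (.leaf .df)) (.node (.leaf (.cyc (nat_lit 37) [(nat_lit 2240), (nat_lit 5613), (nat_lit 6195), (nat_lit 5613), (nat_lit 2240)])) (.leaf .df))))))) (.node (.node (.node (.node (.node (.node (.leaf .df) (.leaf (.cyc (nat_lit 41) [(nat_lit 6606), (nat_lit 6359), (nat_lit 2346)]))) (.node (.leaf (.cyc (nat_lit 27) [(nat_lit 4289), (nat_lit 895), (nat_lit 896)])) (.leaf .df))) (.node (.node (.leaf .df) (.leaf .df)) (.node (.leaf (.cyc (nat_lit 30) [(nat_lit 4635), (nat_lit 4638), (nat_lit 969), (nat_lit 968), (nat_lit 1725)])) (.leaf .df)))) (.node (.node (.node (.leaf .df) (.leaf (.cyc (nat_lit 48) [(nat_lit 2397), (nat_lit 7992), (nat_lit 2615)]))) (.node (.leaf (.cyc (nat_lit 37) [(nat_lit 1152), (nat_lit 611), (nat_lit 3266), (nat_lit 715), (nat_lit 1346)])) (.leaf .df))) (.node (.node (.leaf (.cyc (nat_lit 21) [(nat_lit 284), (nat_lit 282), (nat_lit 3266), (nat_lit 336),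 (nat_lit 339)])) (.leaf .df)) (.node (.leaf (.cyc (nat_lit 25) [(nat_lit 2058), (nat_lit 1277), (nat_lit 3870), (nat_lit 1277), (nat_lit 2058)])) (.leaf .df))))) (.node (.node (.node (.node (.leaf .df) (.leaf (.cyc (nat_lit 25) [(nat_lit 2480), (nat_lit 8893), (nat_lit 8896), (nat_lit 8893), (nat_lit 2480)]))) (.node (.leaf (.cyc (nat_lit 27) [(nat_lit 1117), (nat_lit 4362), (nat_lit 1117)])) (.leaf .df))) (.node (.node (.leaf (.pin (nat_lit 8) [(nat_lit 2)] [])) (.leaf .df)) (.node (.leaf (.cyc (nat_lit 20) [(nat_lit 1620), (nat_lit 4984), (nat_lit 1902)])) (.leaf .df)))) (.node (.node (.node (.leaf .df) (.leaf (.cyc (nat_lit 18) [(nat_lit 2731), (nat_lit 9492), (nat_lit 9494), (nat_lit 9492), (nat_lit 2731)]))) (.node (.leaf (.cyc (nat_lit 62) [(nat_lit 1545), (nat_lit 5651), (nat_lit 5649), (nat_lit 5651), (nat_lit 1545)])) (.leaf .df))) (.node (.node (.leaf (.cyc (nat_lit 21) [(nat_lit 622), (nat_lit 621), (nat_lit 3779), (nat_lit 621), (nat_lit 622)])) (.leaf .df)) (.node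 (.leaf (.cyc (nat_lit 15) [(nat_lit 1901), (nat_lit 6474), (nat_lit 2205)])) (.leaf .df)))))) (.node (.node (.node (.node (.node (.leaf .df) (.leaf (.cyc (nat_lit 6) [(nat_lit 2412), (nat_lit 6524), (nat_lit 6430), (nat_lit 6524), (nat_lit 2412)]))) (.node (.leaf (.cyc (nat_lit 58) [(nat_lit 1008), (nat_lit 4544), (nat_lit 748), (nat_lit 3301), (nat_lit 327), (nat_lit 2949), (nat_lit 327), (nat_lit 3301), (nat_lit 748), (nat_lit 4544), (nat_lit 1008)])) (.leaf .df))) (.node (.node (.leaf .df) (.leaf .df)) (.node (.leaf (.cyc (nat_lit 62) [(nat_lit 1803), (nat_lit 4982), (nat_lit 4981), (nat_lit 4982), (nat_lit 1803)])) (.leaf .df)))) (.node (.node (.node (.leaf .df) (.leaf (.cyc (nat_lit 20) [(nat_lit 2673), (nat_lit 8712), (nat_lit 2673)]))) (.node (.leaf (.cyc (nat_lit 44) [(nat_lit 1448), (nat_lit 776), (nat_lit 3348), (nat_lit 787), (nat_lit 1466)])) (.leaf .df))) (.node (.node (.leaf (.cyc (nat_lit 48) [(nat_lit 240), (nat_lit 3108), (nat_lit 481)])) (.leaf .df)) (.node (.leaf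 (.cyc (nat_lit 46) [(nat_lit 5775), (nat_lit 5360), (nat_lit 2134)])) (.leaf .df))))) (.node (.node (.node (.node (.leaf .df) (.leaf (.cyc (nat_lit 94) [(nat_lit 2377), (nat_lit 2378), (nat_lit 9156), (nat_lit 2378), (nat_lit 2377)]))) (.node (.leaf (.cyc (nat_lit 30) [(nat_lit 1242), (nat_lit 658), (nat_lit 3441), (nat_lit 658), (nat_lit 1242)])) (.leaf .df))) (.node (.node (.leaf (.cyc (nat_lit 28) [(nat_lit 171), (nat_lit 2981), (nat_lit 2980), (nat_lit 2981), (nat_lit 171)])) (.leaf .df)) (.node (.leaf (.cyc (nat_lit 2) [(nat_lit 7107), (nat_lit 6208), (nat_lit 1678), (nat_lit 4569), (nat_lit 1774)])) (.leaf .df)))) (.node (.node (.node (.leaf .df) (.leaf .df)) (.node (.leaf (.cyc (nat_lit 21) [(nat_lit 1630), (nat_lit 1629), (nat_lit 6083), (nat_lit 1629), (nat_lit 1630)])) (.leaf .df))) (.node (.node (.leaf (.cyc (nat_lit 114) [(nat_lit 181), (nat_lit 4033), (nat_lit 383)])) (.leaf .df)) (.node (.leaf (.cyc (nat_lit 20) [(nat_lit 2281), (nat_lit 5845), (nat_lit 2281)]))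 (.leaf .df))))))))
noncomputable def u5P101000 : BT Pf := .node u5P1010000 u5P1010001
noncomputable def u5P1010010 : BT Pf := (.node (.node (.node (.node (.node (.node (.node (.leaf .df) (.leaf (.cyc (nat_lit 26) [(nat_lit 2304), (nat_lit 1600), (nat_lit 4254), (nat_lit 1600), (nat_lit 2304)]))) (.node (.leaf (.cyc (nat_lit 53) [(nat_lit 807), (nat_lit 399), (nat_lit 3005), (nat_lit 399), (nat_lit 807)])) (.leaf .df))) (.node (.node (.leaf .df) (.leaf .df)) (.node (.leaf (.cyc (nat_lit 105) [(nat_lit 6180), (nat_lit 5247), (nat_lit 1326)])) (.leaf .df)))) (.node (.node (.node (.leaf .df) (.leaf (.cyc (nat_lit 60) [(nat_lit 8900), (nat_lit 2572), (nat_lit 9248), (nat_lit 2572), (nat_lit 8900)]))) (.node (.leaf (.cyc (nat_lit 28) [(nat_lit 1287), (nat_lit 683), (nat_lit 3563), (nat_lit 683), (nat_lit 1287)])) (.leaf .df))) (.node (.node (.leaf (.cyc (nat_lit 18) [(nat_lit 218), (nat_lit 2887), (nat_lit 2888), (nat_lit 2887), (nat_lit 218)])) (.leaf .df)) (.node (.leaf (.cyc (nat_lit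 18) [(nat_lit 2004), (nat_lit 6044), (nat_lit 6046), (nat_lit 6044), (nat_lit 2004)])) (.leaf .df))))) (.node (.node (.node (.node (.leaf .df) (.leaf (.cyc (nat_lit 50) [(nat_lit 7948), (nat_lit 6411), (nat_lit 1978), (nat_lit 7161), (nat_lit 2437)]))) (.node (.leaf (.cyc (nat_lit 23) [(nat_lit 1034), (nat_lit 4086), (nat_lit 1047)])) (.leaf .df))) (.node (.node (.leaf .df) (.leaf .df)) (.node (.leaf (.cyc (nat_lit 23) [(nat_lit 1760), (nat_lit 6576), (nat_lit 1842)])) (.leaf .df)))) (.node (.node (.node (.leaf .df) (.leaf (.cyc (nat_lit 70) [(nat_lit 9687), (nat_lit 9690), (nat_lit 2678), (nat_lit 8794), (nat_lit 8578), (nat_lit 9016), (nat_lit 2508), (nat_lit 7053), (nat_lit 2509), (nat_lit 2694), (nat_lit 9763)]))) (.node (.leaf (.cyc (nat_lit 19) [(nat_lit 1416), (nat_lit 755), (nat_lit 3442), (nat_lit 802), (nat_lit 1493)])) (.leaf .df))) (.node (.node (.leaf (.cyc (nat_lit 53) [(nat_lit 534), (nat_lit 248), (nat_lit 2915), (nat_lit 248), (nat_lit 534)])) (.leaf .df)) (.node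 (.leaf (.cyc (nat_lit 28) [(nat_lit 7716), (nat_lit 1889), (nat_lit 4823), (nat_lit 1889), (nat_lit 7716)])) (.leaf .df)))))) (.node (.node (.node (.node (.node (.leaf .df) (.leaf (.cyc (nat_lit 41) [(nat_lit 8181), (nat_lit 8182), (nat_lit 2371)]))) (.node (.leaf (.cyc (nat_lit 34) [(nat_lit 827), (nat_lit 406), (nat_lit 3102), (nat_lit 480), (nat_lit 932)])) (.leaf .df))) (.node (.node (.leaf .df) (.leaf .df)) (.node (.leaf (.cyc (nat_lit 27) [(nat_lit 1001), (nat_lit 1000), (nat_lit 1756)])) (.leaf .df)))) (.node (.node (.node (.leaf .df) (.leaf (.cyc (nat_lit 53) [(nat_lit 8589), (nat_lit 2053), (nat_lit 2052), (nat_lit 8162), (nat_lit 2637)]))) (.node (.leaf (.cyc (nat_lit 23) [(nat_lit 5385), (nat_lit 5384), (nat_lit 1385)])) (.leaf .df))) (.node (.node (.leaf (.cyc (nat_lit 46) [(nat_lit 216), (nat_lit 2985), (nat_lit 395)])) (.leaf .df)) (.node (.leaf (.cyc (nat_lit 6) [(nat_lit 2090), (nat_lit 7441), (nat_lit 7442), (nat_lit 7441), (nat_lit 2090)])) (.leaf .df))))) (.node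 (.node (.node (.node (.leaf .df) (.leaf (.cyc (nat_lit 28) [(nat_lit 2502), (nat_lit 7126), (nat_lit 6695), (nat_lit 7126), (nat_lit 2502)]))) (.node (.leaf (.cyc (nat_lit 63) [(nat_lit 1164), (nat_lit 3765), (nat_lit 3523), (nat_lit 3765), (nat_lit 1164)])) (.leaf .df))) (.node (.node (.leaf (.cyc (nat_lit 42) [(nat_lit 51), (nat_lit 13), (nat_lit 2758), (nat_lit 2771), (nat_lit 27), (nat_lit 2785), (nat_lit 27), (nat_lit 2771), (nat_lit 2758), (nat_lit 13), (nat_lit 51)])) (.leaf .df)) (.node (.leaf (.cyc (nat_lit 49) [(nat_lit 1928), (nat_lit 1929), (nat_lit 6948)])) (.leaf .df)))) (.node (.node (.node (.leaf .df) (.leaf .df)) (.node (.leaf (.cyc (nat_lit 37) [(nat_lit 1576), (nat_lit 5748), (nat_lit 5758), (nat_lit 5748), (nat_lit 1576)])) (.leaf .df))) (.node (.node (.leaf (.cyc (nat_lit 45) [(nat_lit 684), (nat_lit 3777), (nat_lit 3620), (nat_lit 3777), (nat_lit 684)])) (.leaf .df)) (.node (.leaf (.cyc (nat_lit 27) [(nat_lit 2231), (nat_lit 5587), (nat_lit 2231)])) (.leaf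 .df))))))) (.node (.node (.node (.node (.node (.node (.leaf .df) (.leaf (.cyc (nat_lit 97) [(nat_lit 7897), (nat_lit 7726), (nat_lit 6501), (nat_lit 1768), (nat_lit 1014), (nat_lit 1015), (nat_lit 6144), (nat_lit 1652), (nat_lit 4320), (nat_lit 1651), (nat_lit 2338)]))) (.node (.leaf (.cyc (nat_lit 16) [(nat_lit 3720), (nat_lit 3257), (nat_lit 3766), (nat_lit 3768), (nat_lit 882)])) (.leaf .df))) (.node (.node (.leaf .df) (.leaf .df)) (.node (.leaf (.cyc (nat_lit 45) [(nat_lit 1712), (nat_lit 4443), (nat_lit 4268), (nat_lit 4443), (nat_lit 1712)])) (.leaf .df)))) (.node (.node (.node (.leaf .df) (.leaf (.cyc (nat_lit 45) [(nat_lit 2605), (nat_lit 7894), (nat_lit 7431), (nat_lit 7894), (nat_lit 2605)]))) (.node (.leaf (.cyc (nat_lit 56) [(nat_lit 1336), (nat_lit 4408), (nat_lit 4401), (nat_lit 4408), (nat_lit 1336)])) (.leaf .df))) (.node (.node (.leaf (.cyc (nat_lit 63) [(nat_lit 305), (nat_lit 2945), (nat_lit 2863), (nat_lit 2945), (nat_lit 305)])) (.leaf .df)) (.node (.leaf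 (.cyc (nat_lit 62) [(nat_lit 2046), (nat_lit 5121), (nat_lit 4765), (nat_lit 5121), (nat_lit 2046)])) (.leaf .df))))) (.node (.node (.node (.node (.leaf .df) (.leaf (.cyc (nat_lit 0) [(nat_lit 2471), (nat_lit 2472), (nat_lit 8868), (nat_lit 2472), (nat_lit 2471)]))) (.node (.leaf (.cyc (nat_lit 30) [(nat_lit 685), (nat_lit 3777), (nat_lit 4262), (nat_lit 4260), (nat_lit 1108)])) (.leaf .df))) (.node (.node (.leaf .df) (.leaf .df)) (.node (.leaf (.cyc (nat_lit 145) [(nat_lit 5249), (nat_lit 712), (nat_lit 334), (nat_lit 139), (nat_lit 57), (nat_lit 58), (nat_lit 142), (nat_lit 343), (nat_lit 3742), (nat_lit 4819), (nat_lit 1886)])) (.leaf .df)))) (.node (.node (.node (.leaf .df) (.leaf (.cyc (nat_lit 26) [(nat_lit 9668), (nat_lit 2540), (nat_lit 7641), (nat_lit 2584), (nat_lit 2724)]))) (.node (.leaf (.cyc (nat_lit 6) [(nat_lit 1534), (nat_lit 827), (nat_lit 3378), (nat_lit 827), (nat_lit 1534)])) (.leaf .df))) (.node (.node (.leaf (.cyc (nat_lit 15) [(nat_lit 281), (nat_lit 3196),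 (nat_lit 605)])) (.leaf .df)) (.node (.leaf (.cyc (nat_lit 4) [(nat_lit 7841), (nat_lit 1826), (nat_lit 1065), (nat_lit 1064), (nat_lit 1824)])) (.leaf .df)))))) (.node (.node (.node (.node (.node (.leaf .df) (.leaf (.cyc (nat_lit 62) [(nat_lit 7046), (nat_lit 6960), (nat_lit 8482), (nat_lit 8483), (nat_lit 2404)]))) (.node (.leaf (.cyc (nat_lit 58) [(nat_lit 4516), (nat_lit 990), (nat_lit 515), (nat_lit 3265), (nat_lit 3266), (nat_lit 3205), (nat_lit 3266), (nat_lit 3265), (nat_lit 515), (nat_lit 990), (nat_lit 4516)])) (.leaf .df))) (.node (.node (.leaf .df) (.leaf .df)) (.node (.leaf (.cyc (nat_lit 80) [(nat_lit 1794), (nat_lit 1793), (nat_lit 6564), (nat_lit 1793), (nat_lit 1794)])) (.leaf .df)))) (.node (.node (.node (.leaf .df) (.leaf (.cyc (nat_lit 23) [(nat_lit 2537), (nat_lit 2536), (nat_lit 9636)]))) (.node (.leaf (.cyc (nat_lit 47) [(nat_lit 1455), (nat_lit 780), (nat_lit 4078), (nat_lit 780), (nat_lit 1455)])) (.leaf .df))) (.node (.node (.leaf (.cyc (nat_lit 49) [(nat_lit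 3117), (nat_lit 3086), (nat_lit 463)])) (.leaf .df)) (.node (.leaf (.cyc (nat_lit 6) [(nat_lit 6922), (nat_lit 6516), (nat_lit 5312), (nat_lit 1350), (nat_lit 2125)])) (.leaf .df))))) (.node (.node (.node (.node (.leaf .df) (.leaf (.cyc (nat_lit 15) [(nat_lit 2044), (nat_lit 2043), (nat_lit 2538)]))) (.node (.leaf (.cyc (nat_lit 48) [(nat_lit 653), (nat_lit 3826), (nat_lit 1231)])) (.leaf .df))) (.node (.node (.leaf (.cyc (nat_lit 67) [(nat_lit 68), (nat_lit 20), (nat_lit 13), (nat_lit 2831), (nat_lit 2830), (nat_lit 2877), (nat_lit 2976), (nat_lit 2978), (nat_lit 163), (nat_lit 161), (nat_lit 2980)])) (.leaf .df)) (.node (.leaf (.cyc (nat_lit 48) [(nat_lit 1190), (nat_lit 4954), (nat_lit 1968)])) (.leaf .df)))) (.node (.node (.node (.leaf .df) (.leaf .df)) (.node (.leaf (.cyc (nat_lit 18) [(nat_lit 1500), (nat_lit 805), (nat_lit 807), (nat_lit 1502), (nat_lit 6052)])) (.leaf .df))) (.node (.node (.leaf (.cyc (nat_lit 7) [(nat_lit 4004), (nat_lit 537), (nat_lit 539)])) (.leaf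 .df)) (.node (.leaf (.cyc (nat_lit 4) [(nat_lit 8100), (nat_lit 5814), (nat_lit 4742), (nat_lit 1117), (nat_lit 1882)])) (.leaf .df))))))))
noncomputable def u5P1010011 : BT Pf := (.node (.node (.node (.node (.node (.node (.node (.leaf .df) (.leaf (.cyc (nat_lit 14) [(nat_lit 8292), (nat_lit 7759), (nat_lit 2171), (nat_lit 5443), (nat_lit 2021)]))) (.node (.leaf (.cyc (nat_lit 52) [(nat_lit 838), (nat_lit 4170), (nat_lit 4194), (nat_lit 4170), (nat_lit 838)])) (.leaf .df))) (.node (.node (.leaf .df) (.leaf .df)) (.node (.leaf (.cyc (nat_lit 32) [(nat_lit 5288), (nat_lit 5287), (nat_lit 4348), (nat_lit 865), (nat_lit 438), (nat_lit 3356), (nat_lit 3355), (nat_lit 483), (nat_lit 938), (nat_lit 1690), (nat_lit 6243)])) (.leaf .df)))) (.node (.node (.node (.leaf .df) (.leaf (.cyc (nat_lit 28) [(nat_lit 2587), (nat_lit 2143), (nat_lit 5382), (nat_lit 2143), (nat_lit 2587)]))) (.node (.leaf (.cyc (nat_lit 34) [(nat_lit 1309), (nat_lit 1308), (nat_lit 5219), (nat_lit 1308), (nat_lit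 1309)])) (.leaf .df))) (.node (.node (.leaf (.cyc (nat_lit 62) [(nat_lit 112), (nat_lit 46), (nat_lit 45), (nat_lit 108), (nat_lit 255)])) (.leaf .df)) (.node (.leaf (.cyc (nat_lit 86) [(nat_lit 7268), (nat_lit 1537), (nat_lit 5642)])) (.leaf .df))))) (.node (.node (.node (.node (.leaf .df) (.leaf (.cyc (nat_lit 46) [(nat_lit 2455), (nat_lit 6725), (nat_lit 2455)]))) (.node (.leaf (.cyc (nat_lit 112) [(nat_lit 997), (nat_lit 4708)])) (.leaf .df))) (.node (.node (.leaf .df) (.leaf .df)) (.node (.leaf (.cyc (nat_lit 110) [(nat_lit 6755), (nat_lit 1284), (nat_lit 5148)])) (.leaf .df)))) (.node (.node (.node (.leaf .df) (.leaf (.cyc (nat_lit 34) [(nat_lit 2711), (nat_lit 2539), (nat_lit 7325), (nat_lit 2539), (nat_lit 2711)]))) (.node (.leaf (.cyc (nat_lit 94) [(nat_lit 1518), (nat_lit 1519), (nat_lit 5732), (nat_lit 1519), (nat_lit 1518)])) (.leaf .df))) (.node (.node (.leaf (.cyc (nat_lit 53) [(nat_lit 498), (nat_lit 227), (nat_lit 3659), (nat_lit 259), (nat_lit 553)])) (.leaf .df))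 (.node (.leaf (.cyc (nat_lit 56) [(nat_lit 2179), (nat_lit 5470), (nat_lit 3974), (nat_lit 5470), (nat_lit 2179)])) (.leaf .df)))))) (.node (.node (.node (.node (.node (.leaf .df) (.leaf (.cyc (nat_lit 23) [(nat_lit 8081), (nat_lit 7328), (nat_lit 2388)]))) (.node (.leaf (.cyc (nat_lit 75) [(nat_lit 945), (nat_lit 4185), (nat_lit 4449), (nat_lit 961), (nat_lit 960)])) (.leaf .df))) (.node (.node (.leaf .df) (.leaf .df)) (.node (.leaf (.cyc (nat_lit 31) [(nat_lit 1612), (nat_lit 4552), (nat_lit 4542), (nat_lit 1014), (nat_lit 1768)])) (.leaf .df)))) (.node (.node (.node (.leaf .df) (.leaf (.cyc (nat_lit 25) [(nat_lit 2651), (nat_lit 8265), (nat_lit 7740), (nat_lit 8265), (nat_lit 2651)]))) (.node (.leaf (.cyc (nat_lit 63) [(nat_lit 1421), (nat_lit 5136), (nat_lit 5138), (nat_lit 5136), (nat_lit 1421)])) (.leaf .df))) (.node (.node (.leaf (.cyc (nat_lit 114) [(nat_lit 370), (nat_lit 3425), (nat_lit 154)])) (.leaf .df)) (.node (.leaf (.cyc (nat_lit 114) [(nat_lit 1913), (nat_lit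 7524)])) (.leaf .df))))) (.node (.node (.node (.node (.leaf .df) (.leaf (.cyc (nat_lit 44) [(nat_lit 2520), (nat_lit 8954), (nat_lit 8952), (nat_lit 8954), (nat_lit 2520)]))) (.node (.leaf (.cyc (nat_lit 75) [(nat_lit 1193), (nat_lit 1194), (nat_lit 4964), (nat_lit 1194), (nat_lit 1193)])) (.leaf .df))) (.node (.node (.leaf (.cyc (nat_lit 34) [(nat_lit 105), (nat_lit 2844), (nat_lit 2849), (nat_lit 2844), (nat_lit 105)])) (.leaf .df)) (.node (.leaf (.cyc (nat_lit 37) [(nat_lit 1947), (nat_lit 4923), (nat_lit 4647), (nat_lit 4923), (nat_lit 1947)])) (.leaf .df)))) (.node (.node (.node (.leaf .df) (.leaf .df)) (.node (.leaf (.cyc (nat_lit 48) [(nat_lit 1601), (nat_lit 4253), (nat_lit 1601)])) (.leaf .df))) (.node (.node (.leaf (.cyc (nat_lit 53) [(nat_lit 737), (nat_lit 3926), (nat_lit 3925), (nat_lit 3926), (nat_lit 737)])) (.leaf .df)) (.node (.leaf (.cyc (nat_lit 18) [(nat_lit 2252), (nat_lit 5702), (nat_lit 5042), (nat_lit 5702), (nat_lit 2252)])) (.leaf .df))))))) (.node (.node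 (.node (.node (.node (.node (.leaf .df) (.leaf (.cyc (nat_lit 58) [(nat_lit 8420), (nat_lit 2066), (nat_lit 5336), (nat_lit 2128), (nat_lit 7605), (nat_lit 7604), (nat_lit 7605), (nat_lit 2128), (nat_lit 5336), (nat_lit 2066), (nat_lit 8420)]))) (.node (.leaf (.cyc (nat_lit 55) [(nat_lit 912), (nat_lit 913), (nat_lit 4324), (nat_lit 913), (nat_lit 912)])) (.leaf .df))) (.node (.node (.leaf .df) (.leaf .df)) (.node (.leaf (.cyc (nat_lit 24) [(nat_lit 4996), (nat_lit 4997), (nat_lit 976), (nat_lit 975), (nat_lit 1734)])) (.leaf .df)))) (.node (.node (.node (.leaf .df) (.leaf (.cyc (nat_lit 34) [(nat_lit 2622), (nat_lit 2251), (nat_lit 5701), (nat_lit 2251), (nat_lit 2622)]))) (.node (.leaf (.cyc (nat_lit 107) [(nat_lit 5347), (nat_lit 1157), (nat_lit 614), (nat_lit 3206), (nat_lit 287), (nat_lit 3214), (nat_lit 287), (nat_lit 3206), (nat_lit 614), (nat_lit 1157), (nat_lit 5347)])) (.leaf .df))) (.node (.node (.leaf (.cyc (nat_lit 62) [(nat_lit 327), (nat_lit 136), (nat_lit 2861),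 (nat_lit 145), (nat_lit 352)])) (.leaf .df)) (.node (.leaf (.cyc (nat_lit 27) [(nat_lit 2071), (nat_lit 5163), (nat_lit 2071)])) (.leaf .df))))) (.node (.node (.node (.node (.leaf .df) (.leaf (.cyc (nat_lit 24) [(nat_lit 2459), (nat_lit 6734), (nat_lit 4842), (nat_lit 6841), (nat_lit 2488)]))) (.node (.leaf (.cyc (nat_lit 48) [(nat_lit 600), (nat_lit 3739), (nat_lit 1134)])) (.leaf .df))) (.node (.node (.leaf (.cyc (nat_lit 3) [(nat_lit 24), (nat_lit 2757), (nat_lit 9)])) (.leaf .df)) (.node (.leaf (.cyc (nat_lit 25) [(nat_lit 6821), (nat_lit 1886), (nat_lit 4819), (nat_lit 1138), (nat_lit 1910)])) (.leaf .df)))) (.node (.node (.node (.leaf .df) (.leaf (.cyc (nat_lit 38) [(nat_lit 9802), (nat_lit 2704), (nat_lit 2530), (nat_lit 7269), (nat_lit 5640), (nat_lit 1860), (nat_lit 6745), (nat_lit 8237), (nat_lit 2644), (nat_lit 9544), (nat_lit 2737)]))) (.node (.leaf (.cyc (nat_lit 45) [(nat_lit 1559), (nat_lit 5795), (nat_lit 5794), (nat_lit 5795), (nat_lit 1559)])) (.leaf .df))) (.node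 (.node (.leaf (.cyc (nat_lit 114) [(nat_lit 640), (nat_lit 3812)])) (.leaf .df)) (.node (.leaf (.cyc (nat_lit 61) [(nat_lit 2213), (nat_lit 1451), (nat_lit 1450), (nat_lit 5536), (nat_lit 7805), (nat_lit 2186), (nat_lit 6627), (nat_lit 1815), (nat_lit 4869), (nat_lit 1921), (nat_lit 7212)])) (.leaf .df)))))) (.node (.node (.node (.node (.node (.leaf .df) (.leaf (.cyc (nat_lit 18) [(nat_lit 2420), (nat_lit 6570), (nat_lit 5496), (nat_lit 6570), (nat_lit 2420)]))) (.node (.leaf (.cyc (nat_lit 48) [(nat_lit 684), (nat_lit 3776), (nat_lit 1023)])) (.leaf .df))) (.node (.node (.leaf .df) (.leaf .df)) (.node (.leaf (.cyc (nat_lit 85) [(nat_lit 5427), (nat_lit 1396), (nat_lit 5422), (nat_lit 5494), (nat_lit 1391), (nat_lit 1392), (nat_lit 5489), (nat_lit 6626), (nat_lit 6628), (nat_lit 1454), (nat_lit 1452)])) (.leaf .df)))) (.node (.node (.node (.leaf .df) (.leaf (.cyc (nat_lit 62) [(nat_lit 2680), (nat_lit 8812), (nat_lit 8784), (nat_lit 8812), (nat_lit 2680)]))) (.node (.leaf (.cyc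 (nat_lit 7) [(nat_lit 5600), (nat_lit 4457), (nat_lit 5600)])) (.leaf .df))) (.node (.node (.leaf (.cyc (nat_lit 28) [(nat_lit 498), (nat_lit 3202), (nat_lit 3205), (nat_lit 3202), (nat_lit 498)])) (.leaf .df)) (.node (.leaf (.cyc (nat_lit 46) [(nat_lit 2144), (nat_lit 5398), (nat_lit 2144)])) (.leaf .df))))) (.node (.node (.node (.node (.leaf .df) (.leaf (.cyc (nat_lit 56) [(nat_lit 2554), (nat_lit 8377), (nat_lit 8376), (nat_lit 8377), (nat_lit 2554)]))) (.node (.leaf (.cyc (nat_lit 45) [(nat_lit 1249), (nat_lit 3949), (nat_lit 3950), (nat_lit 3949), (nat_lit 1249)])) (.leaf .df))) (.node (.node (.leaf (.cyc (nat_lit 27) [(nat_lit 187), (nat_lit 2874), (nat_lit 187)])) (.leaf .df)) (.node (.leaf (.cyc (nat_lit 56) [(nat_lit 1983), (nat_lit 6530), (nat_lit 5518), (nat_lit 6530), (nat_lit 1983)])) (.leaf .df)))) (.node (.node (.node (.leaf .df) (.leaf .df)) (.node (.leaf (.cyc (nat_lit 3) [(nat_lit 6116), (nat_lit 1354), (nat_lit 1356)])) (.leaf .df))) (.node (.node (.leaf (.cyc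 (nat_lit 72) [(nat_lit 4065), (nat_lit 3619), (nat_lit 4065)])) (.leaf .df)) (.node (.leaf (.cyc (nat_lit 31) [(nat_lit 7833), (nat_lit 7834), (nat_lit 5980), (nat_lit 5931), (nat_lit 2289)])) (.leaf .df))))))))
noncomputable def u5P101001 : BT Pf := .node u5P1010010 u5P1010011
noncomputable def u5P10100 : BT Pf := .node u5P101000 u5P101001
noncomputable def u5P1010100 : BT Pf := (.node (.node (.node (.node (.node (.node (.node (.leaf .df) (.leaf (.cyc (nat_lit 47) [(nat_lit 2238), (nat_lit 5964), (nat_lit 1592), (nat_lit 1591), (nat_lit 2300)]))) (.node (.leaf (.cyc (nat_lit 44) [(nat_lit 535), (nat_lit 249), (nat_lit 2990), (nat_lit 396), (nat_lit 799)])) (.leaf .df))) (.node (.node (.leaf .df) (.leaf .df)) (.node (.leaf (.cyc (nat_lit 20) [(nat_lit 982), (nat_lit 4334), (nat_lit 1659)])) (.leaf .df)))) (.node (.node (.node (.leaf .df) (.leaf (.cyc (nat_lit 21) [(nat_lit 2570), (nat_lit 7535), (nat_lit 5670), (nat_lit 7535), (nat_lit 2570)]))) (.node (.leaf (.cyc (nat_lit 27)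 [(nat_lit 1276), (nat_lit 3866), (nat_lit 1276)])) (.leaf .df))) (.node (.node (.leaf (.cyc (nat_lit 83) [(nat_lit 193), (nat_lit 2905), (nat_lit 2986), (nat_lit 2983), (nat_lit 68), (nat_lit 20), (nat_lit 2812), (nat_lit 2814), (nat_lit 83), (nat_lit 211), (nat_lit 3091)])) (.leaf .df)) (.node (.leaf (.cyc (nat_lit 49) [(nat_lit 6436), (nat_lit 6060), (nat_lit 1999)])) (.leaf .df))))) (.node (.node (.node (.node (.leaf .df) (.leaf (.cyc (nat_lit 46) [(nat_lit 8723), (nat_lit 8438), (nat_lit 8723)]))) (.node (.leaf (.cyc (nat_lit 58) [(nat_lit 4628), (nat_lit 1025), (nat_lit 535), (nat_lit 3158), (nat_lit 249), (nat_lit 2917), (nat_lit 249), (nat_lit 3158), (nat_lit 535), (nat_lit 1025), (nat_lit 4628)])) (.leaf .df))) (.node (.node (.leaf .df) (.leaf .df)) (.node (.leaf (.cyc (nat_lit 47) [(nat_lit 5823), (nat_lit 1546), (nat_lit 5889), (nat_lit 5894), (nat_lit 1835)])) (.leaf .df)))) (.node (.node (.node (.leaf .df) (.leaf (.cyc (nat_lit 35) [(nat_lit 2691), (nat_lit 9682),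 (nat_lit 9683), (nat_lit 9682), (nat_lit 2691)]))) (.node (.leaf (.cyc (nat_lit 34) [(nat_lit 1488), (nat_lit 797), (nat_lit 3358), (nat_lit 797), (nat_lit 1488)])) (.leaf .df))) (.node (.node (.leaf (.cyc (nat_lit 24) [(nat_lit 3507), (nat_lit 244), (nat_lit 2911), (nat_lit 240), (nat_lit 521)])) (.leaf .df)) (.node (.leaf (.cyc (nat_lit 34) [(nat_lit 5926), (nat_lit 5098), (nat_lit 5097), (nat_lit 5419), (nat_lit 2156)])) (.leaf .df)))))) (.node (.node (.node (.node (.node (.leaf .df) (.leaf (.cyc (nat_lit 26) [(nat_lit 2365), (nat_lit 6301), (nat_lit 5219), (nat_lit 6301), (nat_lit 2365)]))) (.node (.leaf (.cyc (nat_lit 80) [(nat_lit 714), (nat_lit 712), (nat_lit 4372), (nat_lit 712), (nat_lit 714)])) (.leaf .df))) (.node (.node (.leaf .df) (.leaf .df)) (.node (.leaf (.cyc (nat_lit 37) [(nat_lit 1294), (nat_lit 5202), (nat_lit 4511), (nat_lit 4513), (nat_lit 1750)])) (.leaf .df)))) (.node (.node (.node (.leaf .df) (.leaf (.cyc (nat_lit 24) [(nat_lit 2634), (nat_lit 2280), (nat_lit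 5842), (nat_lit 2280), (nat_lit 2634)]))) (.node (.leaf (.cyc (nat_lit 54) [(nat_lit 5396), (nat_lit 5102), (nat_lit 5101), (nat_lit 3875), (nat_lit 1287), (nat_lit 5158), (nat_lit 1287), (nat_lit 3875), (nat_lit 5101), (nat_lit 5102), (nat_lit 5396)])) (.leaf .df))) (.node (.node (.leaf (.cyc (nat_lit 27) [(nat_lit 159), (nat_lit 158), (nat_lit 385)])) (.leaf .df)) (.node (.leaf (.cyc (nat_lit 18) [(nat_lit 2086), (nat_lit 1300), (nat_lit 4229), (nat_lit 1300), (nat_lit 2086)])) (.leaf .df))))) (.node (.node (.node (.node (.leaf .df) (.leaf (.cyc (nat_lit 133) [(nat_lit 2499), (nat_lit 6921), (nat_lit 8001), (nat_lit 8021), (nat_lit 2247), (nat_lit 5680), (nat_lit 4131), (nat_lit 1058), (nat_lit 1814), (nat_lit 6624), (nat_lit 2427)]))) (.node (.leaf (.cyc (nat_lit 55) [(nat_lit 1154), (nat_lit 1155), (nat_lit 4884), (nat_lit 1155), (nat_lit 1154)])) (.leaf .df))) (.node (.node (.leaf (.cyc (nat_lit 39) [(nat_lit 27), (nat_lit 2791), (nat_lit 2793), (nat_lit 2792), (nat_lit 23),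 (nat_lit 6), (nat_lit 7), (nat_lit 2770), (nat_lit 2754), (nat_lit 2773), (nat_lit 43)])) (.leaf .df)) (.node (.leaf (.cyc (nat_lit 108) [(nat_lit 5415), (nat_lit 6872), (nat_lit 1385), (nat_lit 733), (nat_lit 3273), (nat_lit 3569), (nat_lit 283), (nat_lit 284), (nat_lit 615), (nat_lit 1160), (nat_lit 6932)])) (.leaf .df)))) (.node (.node (.node (.leaf .df) (.leaf (.cyc (nat_lit 46) [(nat_lit 2747), (nat_lit 9827), (nat_lit 2747)]))) (.node (.leaf (.cyc (nat_lit 63) [(nat_lit 1572), (nat_lit 4210), (nat_lit 3511), (nat_lit 4210), (nat_lit 1572)])) (.leaf .df))) (.node (.node (.leaf (.cyc (nat_lit 8) [(nat_lit 3859), (nat_lit 357), (nat_lit 148), (nat_lit 149), (nat_lit 360)])) (.leaf .df)) (.node (.leaf (.cyc (nat_lit 50) [(nat_lit 2225), (nat_lit 1468), (nat_lit 4091), (nat_lit 1468), (nat_lit 2225)])) (.leaf .df))))))) (.node (.node (.node (.node (.node (.node (.leaf .df) (.leaf (.cyc (nat_lit 23) [(nat_lit 2087), (nat_lit 6136), (nat_lit 2335)]))) (.node (.leaf (.cyc (nat_lit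 55) [(nat_lit 3486), (nat_lit 878), (nat_lit 4244), (nat_lit 878), (nat_lit 3486)])) (.leaf .df))) (.node (.node (.leaf .df) (.leaf .df)) (.node (.leaf (.cyc (nat_lit 40) [(nat_lit 6291), (nat_lit 1226), (nat_lit 1223)])) (.leaf .df)))) (.node (.node (.node (.leaf .df) (.leaf (.cyc (nat_lit 53) [(nat_lit 2601), (nat_lit 8890), (nat_lit 8891), (nat_lit 8890), (nat_lit 2601)]))) (.node (.leaf (.cyc (nat_lit 104) [(nat_lit 730), (nat_lit 3914), (nat_lit 5268), (nat_lit 3914), (nat_lit 730)])) (.leaf .df))) (.node (.node (.leaf (.cyc (nat_lit 24) [(nat_lit 291), (nat_lit 3159), (nat_lit 3168), (nat_lit 3159), (nat_lit 291)])) (.leaf .df)) (.node (.leaf (.cyc (nat_lit 23) [(nat_lit 1265), (nat_lit 1262), (nat_lit 2039)])) (.leaf .df))))) (.node (.node (.node (.node (.leaf .df) (.leaf (.cyc (nat_lit 63) [(nat_lit 2175), (nat_lit 1413), (nat_lit 4769), (nat_lit 1872), (nat_lit 2468)]))) (.node (.leaf (.cyc (nat_lit 23) [(nat_lit 979), (nat_lit 3724), (nat_lit 1103)])) (.leaf .df))) (.node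 (.node (.leaf .df) (.leaf .df)) (.node (.leaf (.cyc (nat_lit 47) [(nat_lit 1883), (nat_lit 1118), (nat_lit 3728), (nat_lit 1118), (nat_lit 1883)])) (.leaf .df)))) (.node (.node (.node (.leaf .df) (.leaf (.cyc (nat_lit 18) [(nat_lit 2721), (nat_lit 9285), (nat_lit 8430), (nat_lit 9285), (nat_lit 2721)]))) (.node (.leaf (.cyc (nat_lit 155) [(nat_lit 1215), (nat_lit 5015), (nat_lit 905), (nat_lit 906), (nat_lit 4310), (nat_lit 1031), (nat_lit 5527), (nat_lit 5779), (nat_lit 1284), (nat_lit 4470), (nat_lit 1285)])) (.leaf .df))) (.node (.node (.leaf (.cyc (nat_lit 58) [(nat_lit 3732), (nat_lit 3629), (nat_lit 3630), (nat_lit 301), (nat_lit 300), (nat_lit 3261), (nat_lit 300), (nat_lit 301), (nat_lit 3630), (nat_lit 3629), (nat_lit 3732)])) (.leaf .df)) (.node (.leaf (.cyc (nat_lit 41) [(nat_lit 7806), (nat_lit 5549), (nat_lit 2193)])) (.leaf .df)))))) (.node (.node (.node (.node (.node (.leaf .df) (.leaf (.cyc (nat_lit 46) [(nat_lit 7790), (nat_lit 7436), (nat_lit 2400)]))) (.node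 (.leaf (.cyc (nat_lit 74) [(nat_lit 4215), (nat_lit 4497)])) (.leaf .df))) (.node (.node (.leaf .df) (.leaf .df)) (.node (.leaf (.cyc (nat_lit 23) [(nat_lit 6546), (nat_lit 1788), (nat_lit 1790)])) (.leaf .df)))) (.node (.node (.node (.leaf .df) (.leaf (.cyc (nat_lit 19) [(nat_lit 9584), (nat_lit 9582), (nat_lit 9453), (nat_lit 9451), (nat_lit 2662)]))) (.node (.leaf (.cyc (nat_lit 106) [(nat_lit 5519), (nat_lit 1445), (nat_lit 5524), (nat_lit 1445), (nat_lit 5519)])) (.leaf .df))) (.node (.node (.leaf (.cyc (nat_lit 27) [(nat_lit 454), (nat_lit 3080), (nat_lit 454)])) (.leaf .df)) (.node (.leaf (.cyc (nat_lit 21) [(nat_lit 1864), (nat_lit 5319), (nat_lit 1346), (nat_lit 1344), (nat_lit 2121)])) (.leaf .df))))) (.node (.node (.node (.node (.leaf .df) (.leaf (.cyc (nat_lit 41) [(nat_lit 2412), (nat_lit 7302), (nat_lit 2533)]))) (.node (.leaf (.cyc (nat_lit 125) [(nat_lit 5005), (nat_lit 1218), (nat_lit 5011), (nat_lit 3906), (nat_lit 3908), (nat_lit 716), (nat_lit 3731), (nat_lit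 3733), (nat_lit 3732), (nat_lit 423), (nat_lit 3377), (nat_lit 823), (nat_lit 4154), (nat_lit 526), (nat_lit 527), (nat_lit 4309), (nat_lit 906), (nat_lit 905)])) (.leaf .df))) (.node (.node (.leaf (.cyc (nat_lit 62) [(nat_lit 143), (nat_lit 58), (nat_lit 16), (nat_lit 62), (nat_lit 154)])) (.leaf .df)) (.node (.leaf (.cyc (nat_lit 83) [(nat_lit 1799), (nat_lit 4640), (nat_lit 3773), (nat_lit 621), (nat_lit 3219), (nat_lit 292), (nat_lit 628), (nat_lit 3793), (nat_lit 1185), (nat_lit 1962), (nat_lit 7060)])) (.leaf .df)))) (.node (.node (.node (.leaf .df) (.leaf .df)) (.node (.leaf (.cyc (nat_lit 46) [(nat_lit 1616), (nat_lit 4270), (nat_lit 1616)])) (.leaf .df))) (.node (.node (.leaf (.cyc (nat_lit 28) [(nat_lit 760), (nat_lit 3306), (nat_lit 3432), (nat_lit 3306), (nat_lit 760)])) (.leaf .df)) (.node (.leaf (.cyc (nat_lit 28) [(nat_lit 2266), (nat_lit 5792), (nat_lit 4590), (nat_lit 5792), (nat_lit 2266)])) (.leaf .df))))))))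
noncomputable def u5P1010101 : BT Pf := (.node (.node (.node (.node (.node (.node (.node (.leaf .df) (.leaf (.cyc (nat_lit 18) [(nat_lit 2320), (nat_lit 6093), (nat_lit 4583), (nat_lit 6093), (nat_lit 2320)]))) (.node (.leaf (.cyc (nat_lit 28) [(nat_lit 4180), (nat_lit 4142), (nat_lit 3995), (nat_lit 4142), (nat_lit 4180)])) (.leaf .df))) (.node (.node (.leaf .df) (.leaf .df)) (.node (.leaf (.cyc (nat_lit 94) [(nat_lit 1683), (nat_lit 1684), (nat_lit 6227), (nat_lit 4502), (nat_lit 1578)])) (.leaf .df)))) (.node (.node (.node (.leaf .df) (.leaf (.cyc (nat_lit 18) [(nat_lit 8468), (nat_lit 7386), (nat_lit 5859), (nat_lit 7631), (nat_lit 2582)]))) (.node (.leaf (.cyc (nat_lit 49) [(nat_lit 925), (nat_lit 3884), (nat_lit 1304)])) (.leaf .df))) (.node (.node (.leaf (.cyc (nat_lit 21) [(nat_lit 249), (nat_lit 3118), (nat_lit 3121), (nat_lit 3118), (nat_lit 249)])) (.leaf .df)) (.node (.leaf (.cyc (nat_lit 48) [(nat_lit 2010), (nat_lit 5087), (nat_lit 2020)])) (.leaf .df))))) (.node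 (.node (.node (.node (.leaf .df) (.leaf (.cyc (nat_lit 62) [(nat_lit 7665), (nat_lit 6868), (nat_lit 1841), (nat_lit 1842), (nat_lit 2449)]))) (.node (.leaf (.cyc (nat_lit 23) [(nat_lit 4690), (nat_lit 1062), (nat_lit 1065)])) (.leaf .df))) (.node (.node (.leaf .df) (.leaf .df)) (.node (.leaf (.cyc (nat_lit 37) [(nat_lit 1859), (nat_lit 5640), (nat_lit 5641), (nat_lit 5640), (nat_lit 1859)])) (.leaf .df)))) (.node (.node (.node (.leaf .df) (.leaf (.cyc (nat_lit 18) [(nat_lit 2707), (nat_lit 9637), (nat_lit 9634), (nat_lit 9637), (nat_lit 2707)]))) (.node (.leaf (.cyc (nat_lit 20) [(nat_lit 1512), (nat_lit 4416), (nat_lit 1512)])) (.leaf .df))) (.node (.node (.leaf (.cyc (nat_lit 74) [(nat_lit 3643), (nat_lit 3660), (nat_lit 235)])) (.leaf .df)) (.node (.leaf (.cyc (nat_lit 34) [(nat_lit 5799), (nat_lit 5633), (nat_lit 5965), (nat_lit 5963), (nat_lit 2173)])) (.leaf .df)))))) (.node (.node (.node (.node (.node (.leaf .df) (.leaf (.cyc (nat_lit 19) [(nat_lit 2383), (nat_lit 1739),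 (nat_lit 4482), (nat_lit 1739), (nat_lit 2383)]))) (.node (.leaf (.cyc (nat_lit 60) [(nat_lit 946), (nat_lit 948), (nat_lit 4436), (nat_lit 948), (nat_lit 946)])) (.leaf .df))) (.node (.node (.leaf .df) (.leaf .df)) (.node (.leaf (.cyc (nat_lit 73) [(nat_lit 1141), (nat_lit 6483)])) (.leaf .df)))) (.node (.node (.node (.leaf .df) (.leaf (.cyc (nat_lit 85) [(nat_lit 9398), (nat_lit 2609), (nat_lit 7968), (nat_lit 7439), (nat_lit 2084), (nat_lit 6155), (nat_lit 6153), (nat_lit 8227), (nat_lit 8246), (nat_lit 8248), (nat_lit 2647)]))) (.node (.leaf (.cyc (nat_lit 24) [(nat_lit 5278), (nat_lit 5276), (nat_lit 754), (nat_lit 752), (nat_lit 1414)])) (.leaf .df))) (.node (.node (.leaf (.cyc (nat_lit 109) [(nat_lit 210), (nat_lit 208), (nat_lit 3412), (nat_lit 208), (nat_lit 210)])) (.leaf .df)) (.node (.leaf (.cyc (nat_lit 19) [(nat_lit 6179), (nat_lit 6180), (nat_lit 1324), (nat_lit 5244), (nat_lit 2102)])) (.leaf .df))))) (.node (.node (.node (.node (.leaf .df) (.leaf (.cyc (nat_lit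 23) [(nat_lit 2493), (nat_lit 7159), (nat_lit 2517)]))) (.node (.leaf (.cyc (nat_lit 55) [(nat_lit 1182), (nat_lit 1184), (nat_lit 4948), (nat_lit 1184), (nat_lit 1182)])) (.leaf .df))) (.node (.node (.leaf (.cyc (nat_lit 47) [(nat_lit 96), (nat_lit 2896), (nat_lit 2897), (nat_lit 2896), (nat_lit 96)])) (.leaf .df)) (.node (.leaf (.cyc (nat_lit 48) [(nat_lit 5978), (nat_lit 5975), (nat_lit 1942)])) (.leaf .df)))) (.node (.node (.node (.leaf .df) (.leaf .df)) (.node (.leaf (.cyc (nat_lit 157) [(nat_lit 5972), (nat_lit 1420), (nat_lit 758), (nat_lit 757), (nat_lit 1419)])) (.leaf .df))) (.node (.node (.leaf (.cyc (nat_lit 41) [(nat_lit 731), (nat_lit 3271), (nat_lit 731)])) (.leaf .df)) (.node (.leaf (.cyc (nat_lit 6) [(nat_lit 7999), (nat_lit 5721), (nat_lit 1499), (nat_lit 5680), (nat_lit 2247)])) (.leaf .df))))))) (.node (.node (.node (.node (.node (.node (.leaf .df) (.leaf (.cyc (nat_lit 49) [(nat_lit 7376), (nat_lit 7169), (nat_lit 2350)]))) (.node (.leaf (.cyc (nat_lit 21)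 [(nat_lit 527), (nat_lit 3492), (nat_lit 462), (nat_lit 3479), (nat_lit 906)])) (.leaf .df))) (.node (.node (.leaf .df) (.leaf .df)) (.node (.leaf (.cyc (nat_lit 49) [(nat_lit 1663), (nat_lit 1662), (nat_lit 6356), (nat_lit 1722)])) (.leaf .df)))) (.node (.node (.node (.leaf .df) (.leaf (.cyc (nat_lit 45) [(nat_lit 2618), (nat_lit 9191), (nat_lit 9189), (nat_lit 9191), (nat_lit 2618)]))) (.node (.leaf (.cyc (nat_lit 47) [(nat_lit 724), (nat_lit 340), (nat_lit 3267), (nat_lit 717), (nat_lit 1349)])) (.leaf .df))) (.node (.node (.leaf (.cyc (nat_lit 74) [(nat_lit 312), (nat_lit 3284)])) (.leaf .df)) (.node (.leaf (.cyc (nat_lit 121) [(nat_lit 7380), (nat_lit 7356), (nat_lit 7178), (nat_lit 7356), (nat_lit 7380)])) (.leaf .df))))) (.node (.node (.node (.node (.leaf .df) (.leaf (.cyc (nat_lit 47) [(nat_lit 2484), (nat_lit 8910), (nat_lit 8912), (nat_lit 8910), (nat_lit 2484)]))) (.node (.leaf (.cyc (nat_lit 45) [(nat_lit 1122), (nat_lit 591), (nat_lit 3439), (nat_lit 591), (nat_lit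 1122)])) (.leaf .df))) (.node (.node (.leaf (.pin (nat_lit 24) [(nat_lit 10)] [])) (.leaf .df)) (.node (.leaf (.cyc (nat_lit 35) [(nat_lit 1905), (nat_lit 1136), (nat_lit 3745), (nat_lit 1136), (nat_lit 1905)])) (.leaf .df)))) (.node (.node (.node (.leaf .df) (.leaf (.cyc (nat_lit 53) [(nat_lit 2734), (nat_lit 9495), (nat_lit 9494), (nat_lit 9495), (nat_lit 2734)]))) (.node (.leaf (.cyc (nat_lit 15) [(nat_lit 1550), (nat_lit 4174), (nat_lit 1550)])) (.leaf .df))) (.node (.node (.leaf (.cyc (nat_lit 26) [(nat_lit 632), (nat_lit 3713), (nat_lit 3785), (nat_lit 3713), (nat_lit 632)])) (.leaf .df)) (.node (.leaf (.cyc (nat_lit 25) [(nat_lit 2209), (nat_lit 1448), (nat_lit 4011), (nat_lit 1448), (nat_lit 2209)])) (.leaf .df)))))) (.node (.node (.node (.node (.node (.leaf .df) (.leaf (.cyc (nat_lit 6) [(nat_lit 2416), (nat_lit 1785), (nat_lit 4594), (nat_lit 1785), (nat_lit 2416)]))) (.node (.leaf (.cyc (nat_lit 19) [(nat_lit 1014), (nat_lit 4329), (nat_lit 4330), (nat_lit 4329), (nat_lit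 1014)])) (.leaf .df))) (.node (.node (.leaf .df) (.leaf .df)) (.node (.leaf (.cyc (nat_lit 20) [(nat_lit 1809), (nat_lit 4656), (nat_lit 1809)])) (.leaf .df)))) (.node (.node (.node (.leaf .df) (.leaf (.cyc (nat_lit 28) [(nat_lit 2677), (nat_lit 9504), (nat_lit 9505), (nat_lit 9504), (nat_lit 2677)]))) (.node (.leaf (.cyc (nat_lit 62) [(nat_lit 1472), (nat_lit 789), (nat_lit 3351), (nat_lit 789), (nat_lit 1472)])) (.leaf .df))) (.node (.node (.leaf (.cyc (nat_lit 43) [(nat_lit 3132), (nat_lit 402), (nat_lit 3540), (nat_lit 487), (nat_lit 486)])) (.leaf .df)) (.node (.leaf (.cyc (nat_lit 16) [(nat_lit 2139), (nat_lit 7631), (nat_lit 7632), (nat_lit 7631), (nat_lit 2139)])) (.leaf .df))))) (.node (.node (.node (.node (.leaf .df) (.leaf (.cyc (nat_lit 27) [(nat_lit 2550), (nat_lit 7394), (nat_lit 2550)]))) (.node (.leaf (.cyc (nat_lit 23) [(nat_lit 5076), (nat_lit 1244), (nat_lit 1245)])) (.leaf .df))) (.node (.node (.leaf (.cyc (nat_lit 31) [(nat_lit 179), (nat_lit 71), (nat_lit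 2779), (nat_lit 71), (nat_lit 179)])) (.leaf .df)) (.node (.leaf (.cyc (nat_lit 100) [(nat_lit 7110), (nat_lit 7124), (nat_lit 4946), (nat_lit 7124), (nat_lit 7110)])) (.leaf .df)))) (.node (.node (.node (.leaf .df) (.leaf .df)) (.node (.leaf (.cyc (nat_lit 19) [(nat_lit 1218), (nat_lit 5014), (nat_lit 905), (nat_lit 903), (nat_lit 1637)])) (.leaf .df))) (.node (.node (.leaf (.cyc (nat_lit 114) [(nat_lit 543), (nat_lit 4044), (nat_lit 414)])) (.leaf .df)) (.node (.leaf (.cyc (nat_lit 56) [(nat_lit 2284), (nat_lit 6130), (nat_lit 6127), (nat_lit 6130), (nat_lit 2284)])) (.leaf .df))))))))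
noncomputable def u5P101010 : BT Pf := .node u5P1010100 u5P1010101
noncomputable def u5P1010110 : BT Pf := (.node (.node (.node (.node (.node (.node (.node (.leaf .df) (.leaf (.cyc (nat_lit 19) [(nat_lit 2310), (nat_lit 6041), (nat_lit 4274), (nat_lit 6041), (nat_lit 2310)]))) (.node (.leaf (.cyc (nat_lit 30) [(nat_lit 820), (nat_lit 403), (nat_lit 3010), (nat_lit 403), (nat_lit 820)])) (.leaf .df))) (.node (.node (.leaf .df) (.leaf .df)) (.node (.leaf (.cyc (nat_lit 56) [(nat_lit 1674), (nat_lit 6189), (nat_lit 6192), (nat_lit 6189), (nat_lit 1674)])) (.leaf .df)))) (.node (.node (.node (.leaf .df) (.leaf (.cyc (nat_lit 18) [(nat_lit 2575), (nat_lit 9226), (nat_lit 9227), (nat_lit 9226), (nat_lit 2575)]))) (.node (.leaf (.cyc (nat_lit 23) [(nat_lit 688), (nat_lit 687), (nat_lit 1296)])) (.leaf .df))) (.node (.node (.leaf (.cyc (nat_lit 15) [(nat_lit 223), (nat_lit 3002), (nat_lit 229)])) (.leaf .df)) (.node (.leaf (.cyc (nat_lit 50) [(nat_lit 2010), (nat_lit 1234), (nat_lit 3827),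 (nat_lit 1234), (nat_lit 2010)])) (.leaf .df))))) (.node (.node (.node (.node (.leaf .df) (.leaf (.cyc (nat_lit 30) [(nat_lit 2441), (nat_lit 2440), (nat_lit 8754), (nat_lit 2440), (nat_lit 2441)]))) (.node (.leaf (.cyc (nat_lit 64) [(nat_lit 4166), (nat_lit 835), (nat_lit 4195), (nat_lit 806), (nat_lit 399), (nat_lit 3005), (nat_lit 3003), (nat_lit 260), (nat_lit 556), (nat_lit 1054), (nat_lit 4660)])) (.leaf .df))) (.node (.node (.leaf .df) (.leaf .df)) (.node (.leaf (.cyc (nat_lit 41) [(nat_lit 1849), (nat_lit 4730), (nat_lit 1849)])) (.leaf .df)))) (.node (.node (.node (.leaf .df) (.leaf (.cyc (nat_lit 107) [(nat_lit 2698), (nat_lit 9022), (nat_lit 8718), (nat_lit 8717), (nat_lit 8017), (nat_lit 8605), (nat_lit 8607), (nat_lit 9563), (nat_lit 9632), (nat_lit 9753), (nat_lit 9755)]))) (.node (.leaf (.cyc (nat_lit 50) [(nat_lit 1498), (nat_lit 5680), (nat_lit 5681), (nat_lit 5680), (nat_lit 1498)])) (.leaf .df))) (.node (.node (.leaf (.cyc (nat_lit 21) [(nat_lit 383), (nat_lit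 380), (nat_lit 3631), (nat_lit 540), (nat_lit 543)])) (.leaf .df)) (.node (.leaf (.cyc (nat_lit 27) [(nat_lit 5655), (nat_lit 6194), (nat_lit 2165)])) (.leaf .df)))))) (.node (.node (.node (.node (.node (.leaf .df) (.leaf (.cyc (nat_lit 28) [(nat_lit 2374), (nat_lit 6344), (nat_lit 5496), (nat_lit 6344), (nat_lit 2374)]))) (.node (.leaf (.cyc (nat_lit 113) [(nat_lit 941), (nat_lit 4404)])) (.leaf .df))) (.node (.node (.leaf .df) (.leaf .df)) (.node (.leaf (.cyc (nat_lit 34) [(nat_lit 1764), (nat_lit 1005), (nat_lit 3609), (nat_lit 1005), (nat_lit 1764)])) (.leaf .df)))) (.node (.node (.node (.leaf .df) (.leaf (.cyc (nat_lit 45) [(nat_lit 2640), (nat_lit 2294), (nat_lit 5944), (nat_lit 2294), (nat_lit 2640)]))) (.node (.leaf (.cyc (nat_lit 46) [(nat_lit 1398), (nat_lit 3943), (nat_lit 1398)])) (.leaf .df))) (.node (.node (.leaf (.cyc (nat_lit 27) [(nat_lit 411), (nat_lit 3027), (nat_lit 411)])) (.leaf .df)) (.node (.leaf (.cyc (nat_lit 56) [(nat_lit 7010), (nat_lit 1223), (nat_lit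 3895), (nat_lit 1317), (nat_lit 2097)])) (.leaf .df))))) (.node (.node (.node (.node (.leaf .df) (.leaf (.cyc (nat_lit 15) [(nat_lit 1959), (nat_lit 1958), (nat_lit 2508)]))) (.node (.leaf (.cyc (nat_lit 20) [(nat_lit 1152), (nat_lit 3772), (nat_lit 1170)])) (.leaf .df))) (.node (.node (.leaf (.cyc (nat_lit 27) [(nat_lit 36), (nat_lit 19), (nat_lit 66)])) (.leaf .df)) (.node (.leaf (.cyc (nat_lit 18) [(nat_lit 1933), (nat_lit 1932), (nat_lit 6963), (nat_lit 1932), (nat_lit 1933)])) (.leaf .df)))) (.node (.node (.node (.leaf .df) (.leaf .df)) (.node (.leaf (.cyc (nat_lit 17) [(nat_lit 5940), (nat_lit 1509), (nat_lit 4144), (nat_lit 5070), (nat_lit 5071), (nat_lit 5090), (nat_lit 5083), (nat_lit 5088), (nat_lit 5040), (nat_lit 4138), (nat_lit 5552)])) (.leaf .df))) (.node (.node (.leaf (.cyc (nat_lit 18) [(nat_lit 699), (nat_lit 3876), (nat_lit 3877), (nat_lit 3876), (nat_lit 699)])) (.leaf .df)) (.node (.leaf (.cyc (nat_lit 166) [(nat_lit 7608), (nat_lit 7655), (nat_lit 7988),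 (nat_lit 2234), (nat_lit 2233), (nat_lit 7984), (nat_lit 1774), (nat_lit 4570), (nat_lit 1680), (nat_lit 6215), (nat_lit 6509)])) (.leaf .df))))))) (.node (.node (.node (.node (.node (.node (.leaf .df) (.leaf (.cyc (nat_lit 18) [(nat_lit 6456), (nat_lit 6125), (nat_lit 5905), (nat_lit 1657), (nat_lit 2342)]))) (.node (.leaf (.cyc (nat_lit 29) [(nat_lit 4276), (nat_lit 619), (nat_lit 3218), (nat_lit 300), (nat_lit 647)])) (.leaf .df))) (.node (.node (.leaf .df) (.leaf .df)) (.node (.leaf (.cyc (nat_lit 30) [(nat_lit 1689), (nat_lit 4395), (nat_lit 1343), (nat_lit 5311), (nat_lit 1717)])) (.leaf .df)))) (.node (.node (.node (.leaf .df) (.leaf (.cyc (nat_lit 56) [(nat_lit 2609), (nat_lit 7966), (nat_lit 5577), (nat_lit 7966), (nat_lit 2609)]))) (.node (.leaf (.cyc (nat_lit 50) [(nat_lit 1275), (nat_lit 677), (nat_lit 4370), (nat_lit 3903), (nat_lit 1340)])) (.leaf .df))) (.node (.node (.leaf (.cyc (nat_lit 41) [(nat_lit 326), (nat_lit 2949), (nat_lit 326)])) (.leaf .df)) (.node (.leaf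 (.cyc (nat_lit 28) [(nat_lit 7346), (nat_lit 2050), (nat_lit 1270), (nat_lit 1271), (nat_lit 2052)])) (.leaf .df))))) (.node (.node (.node (.node (.leaf .df) (.leaf (.cyc (nat_lit 18) [(nat_lit 2476), (nat_lit 2475), (nat_lit 8883), (nat_lit 2475), (nat_lit 2476)]))) (.node (.leaf (.cyc (nat_lit 15) [(nat_lit 587), (nat_lit 586), (nat_lit 1112)])) (.leaf .df))) (.node (.node (.leaf .df) (.leaf .df)) (.node (.leaf (.cyc (nat_lit 21) [(nat_lit 1894), (nat_lit 6616), (nat_lit 6615), (nat_lit 6616), (nat_lit 1894)])) (.leaf .df)))) (.node (.node (.node (.leaf .df) (.leaf (.cyc (nat_lit 15) [(nat_lit 2728), (nat_lit 9334), (nat_lit 2728)]))) (.node (.leaf (.cyc (nat_lit 37) [(nat_lit 1080), (nat_lit 3703), (nat_lit 3695), (nat_lit 4662), (nat_lit 1540)])) (.leaf .df))) (.node (.node (.leaf (.cyc (nat_lit 46) [(nat_lit 3522), (nat_lit 3215), (nat_lit 617)])) (.leaf .df)) (.node (.leaf (.cyc (nat_lit 147) [(nat_lit 6401), (nat_lit 6402), (nat_lit 1744), (nat_lit 6165), (nat_lit 6495),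 (nat_lit 1437), (nat_lit 769), (nat_lit 4002), (nat_lit 1436), (nat_lit 2200), (nat_lit 7859)])) (.leaf .df)))))) (.node (.node (.node (.node (.node (.leaf .df) (.leaf (.cyc (nat_lit 86) [(nat_lit 8628), (nat_lit 8048), (nat_lit 8555)]))) (.node (.leaf (.cyc (nat_lit 30) [(nat_lit 3868), (nat_lit 3757), (nat_lit 3208), (nat_lit 520), (nat_lit 998)])) (.leaf .df))) (.node (.node (.leaf .df) (.leaf .df)) (.node (.leaf (.cyc (nat_lit 28) [(nat_lit 1049), (nat_lit 554), (nat_lit 553), (nat_lit 1047), (nat_lit 1801)])) (.leaf .df)))) (.node (.node (.node (.leaf .df) (.leaf (.cyc (nat_lit 8) [(nat_lit 9651), (nat_lit 2586), (nat_lit 2142), (nat_lit 2143), (nat_lit 2588)]))) (.node (.leaf (.cyc (nat_lit 48) [(nat_lit 1461), (nat_lit 4029), (nat_lit 1461)])) (.leaf .df))) (.node (.node (.leaf (.cyc (nat_lit 27) [(nat_lit 470), (nat_lit 3413), (nat_lit 470)])) (.leaf .df)) (.node (.leaf (.cyc (nat_lit 26) [(nat_lit 2128), (nat_lit 1351), (nat_lit 3912), (nat_lit 1351), (nat_lit 2128)]))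 (.leaf .df))))) (.node (.node (.node (.node (.leaf .df) (.leaf (.cyc (nat_lit 34) [(nat_lit 2192), (nat_lit 1428), (nat_lit 5135), (nat_lit 7342), (nat_lit 2542)]))) (.node (.leaf (.cyc (nat_lit 35) [(nat_lit 1235), (nat_lit 5029), (nat_lit 5031), (nat_lit 5029), (nat_lit 1235)])) (.leaf .df))) (.node (.node (.leaf (.cyc (nat_lit 49) [(nat_lit 97), (nat_lit 2996), (nat_lit 91)])) (.leaf .df)) (.node (.leaf (.cyc (nat_lit 48) [(nat_lit 1972), (nat_lit 4959), (nat_lit 1972)])) (.leaf .df)))) (.node (.node (.node (.leaf .df) (.leaf .df)) (.node (.leaf (.cyc (nat_lit 49) [(nat_lit 898), (nat_lit 4294), (nat_lit 1626)])) (.leaf .df))) (.node (.node (.leaf (.cyc (nat_lit 50) [(nat_lit 783), (nat_lit 376), (nat_lit 2966), (nat_lit 376), (nat_lit 783)])) (.leaf .df)) (.node (.leaf (.cyc (nat_lit 19) [(nat_lit 2006), (nat_lit 1223), (nat_lit 1225), (nat_lit 5821), (nat_lit 2276)])) (.leaf .df))))))))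
noncomputable def u5P1010111 : BT Pf := (.node (.node (.node (.node (.node (.node (.node (.leaf .df) (.leaf (.cyc (nat_lit 53) [(nat_lit 6762), (nat_lit 6107), (nat_lit 1638), (nat_lit 1639), (nat_lit 2327)]))) (.node (.leaf (.cyc (nat_lit 23) [(nat_lit 435), (nat_lit 433), (nat_lit 858)])) (.leaf .df))) (.node (.node (.leaf .df) (.leaf .df)) (.node (.leaf (.cyc (nat_lit 97) [(nat_lit 986), (nat_lit 514), (nat_lit 235), (nat_lit 97), (nat_lit 2995), (nat_lit 90), (nat_lit 223), (nat_lit 3538), (nat_lit 3537), (nat_lit 944), (nat_lit 1696)])) (.leaf .df)))) (.node (.node (.node (.leaf .df) (.leaf (.cyc (nat_lit 55) [(nat_lit 2591), (nat_lit 2592), (nat_lit 9332), (nat_lit 2592), (nat_lit 2591)]))) (.node (.leaf (.cyc (nat_lit 62) [(nat_lit 1316), (nat_lit 700), (nat_lit 3256), (nat_lit 700), (nat_lit 1316)])) (.leaf .df))) (.node (.node (.leaf (.cyc (nat_lit 26) [(nat_lit 270), (nat_lit 113), (nat_lit 2849), (nat_lit 113), (nat_lit 270)])) (.leaf .df)) (.node (.leaf (.cyc (nat_lit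 40) [(nat_lit 7284), (nat_lit 1635), (nat_lit 1634)])) (.leaf .df))))) (.node (.node (.node (.node (.leaf .df) (.leaf (.cyc (nat_lit 26) [(nat_lit 2459), (nat_lit 1857), (nat_lit 4747), (nat_lit 1857), (nat_lit 2459)]))) (.node (.leaf (.cyc (nat_lit 48) [(nat_lit 571), (nat_lit 3703), (nat_lit 1079)])) (.leaf .df))) (.node (.node (.leaf .df) (.leaf .df)) (.node (.leaf (.cyc (nat_lit 62) [(nat_lit 1869), (nat_lit 4761), (nat_lit 4512), (nat_lit 4761), (nat_lit 1869)])) (.leaf .df)))) (.node (.node (.node (.leaf .df) (.leaf (.cyc (nat_lit 53) [(nat_lit 2714), (nat_lit 2548), (nat_lit 7374), (nat_lit 2548), (nat_lit 2714)]))) (.node (.leaf (.cyc (nat_lit 34) [(nat_lit 1525), (nat_lit 1523), (nat_lit 5744), (nat_lit 1523), (nat_lit 1525)])) (.leaf .df))) (.node (.node (.leaf (.cyc (nat_lit 75) [(nat_lit 564), (nat_lit 566), (nat_lit 3700), (nat_lit 566), (nat_lit 564)])) (.leaf .df)) (.node (.leaf (.cyc (nat_lit 19) [(nat_lit 2184), (nat_lit 5978), (nat_lit 5976), (nat_lit 5978),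 (nat_lit 2184)])) (.leaf .df)))))) (.node (.node (.node (.node (.node (.leaf .df) (.leaf (.cyc (nat_lit 23) [(nat_lit 8027), (nat_lit 8025), (nat_lit 2392)]))) (.node (.leaf (.cyc (nat_lit 106) [(nat_lit 674), (nat_lit 675), (nat_lit 4468), (nat_lit 675), (nat_lit 674)])) (.leaf .df))) (.node (.node (.leaf .df) (.leaf .df)) (.node (.leaf (.cyc (nat_lit 3) [(nat_lit 6516), (nat_lit 1344), (nat_lit 1347)])) (.leaf .df)))) (.node (.node (.node (.leaf .df) (.leaf (.cyc (nat_lit 50) [(nat_lit 2654), (nat_lit 8346), (nat_lit 7536), (nat_lit 8346), (nat_lit 2654)]))) (.node (.leaf (.cyc (nat_lit 7) [(nat_lit 5426), (nat_lit 5492), (nat_lit 5426)])) (.leaf .df))) (.node (.node (.leaf (.cyc (nat_lit 61) [(nat_lit 357), (nat_lit 148), (nat_lit 147), (nat_lit 2961), (nat_lit 355), (nat_lit 3440), (nat_lit 355), (nat_lit 2961), (nat_lit 147), (nat_lit 148), (nat_lit 357)])) (.leaf .df)) (.node (.leaf (.cyc (nat_lit 63) [(nat_lit 2112), (nat_lit 1333), (nat_lit 4411), (nat_lit 1333), (nat_lit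 2112)])) (.leaf .df))))) (.node (.node (.node (.node (.leaf .df) (.leaf (.cyc (nat_lit 122) [(nat_lit 8862), (nat_lit 8867), (nat_lit 9072), (nat_lit 9076), (nat_lit 9073), (nat_lit 9075), (nat_lit 9073), (nat_lit 9076), (nat_lit 9072), (nat_lit 8867), (nat_lit 8862)]))) (.node (.leaf (.cyc (nat_lit 5) [(nat_lit 4979), (nat_lit 1152), (nat_lit 3753), (nat_lit 1152), (nat_lit 4979)])) (.leaf .df))) (.node (.node (.leaf (.cyc (nat_lit 27) [(nat_lit 121), (nat_lit 2853), (nat_lit 121)])) (.leaf .df)) (.node (.leaf (.cyc (nat_lit 20) [(nat_lit 1177), (nat_lit 1176), (nat_lit 1951)])) (.leaf .df)))) (.node (.node (.node (.leaf .df) (.leaf .df)) (.node (.leaf (.cyc (nat_lit 16) [(nat_lit 4836), (nat_lit 1365), (nat_lit 5370), (nat_lit 4911), (nat_lit 1606)])) (.leaf .df))) (.node (.node (.leaf (.cyc (nat_lit 30) [(nat_lit 747), (nat_lit 351), (nat_lit 352), (nat_lit 749), (nat_lit 3955)])) (.leaf .df)) (.node (.leaf (.cyc (nat_lit 37) [(nat_lit 7744), (nat_lit 6922), (nat_lit 8001),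 (nat_lit 7999), (nat_lit 2257)])) (.leaf .df))))))) (.node (.node (.node (.node (.node (.node (.leaf .df) (.leaf (.cyc (nat_lit 31) [(nat_lit 2357), (nat_lit 6237), (nat_lit 6131), (nat_lit 6237), (nat_lit 2357)]))) (.node (.leaf (.cyc (nat_lit 6) [(nat_lit 921), (nat_lit 3507), (nat_lit 3149), (nat_lit 3507), (nat_lit 921)])) (.leaf .df))) (.node (.node (.leaf .df) (.leaf .df)) (.node (.leaf (.cyc (nat_lit 47) [(nat_lit 1741), (nat_lit 4757), (nat_lit 4758), (nat_lit 4757), (nat_lit 1741)])) (.leaf .df)))) (.node (.node (.node (.leaf .df) (.leaf (.cyc (nat_lit 28) [(nat_lit 9386), (nat_lit 8214), (nat_lit 8215), (nat_lit 8524), (nat_lit 9459)]))) (.node (.leaf (.cyc (nat_lit 40) [(nat_lit 5364), (nat_lit 5080), (nat_lit 5364)])) (.leaf .df))) (.node (.node (.leaf (.cyc (nat_lit 0) [(nat_lit 367), (nat_lit 368), (nat_lit 3316), (nat_lit 368), (nat_lit 367)])) (.leaf .df)) (.node (.leaf (.cyc (nat_lit 110) [(nat_lit 7412), (nat_lit 5905), (nat_lit 1658)])) (.leaf .df))))) (.node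 (.node (.node (.node (.leaf .df) (.leaf (.cyc (nat_lit 17) [(nat_lit 8945), (nat_lit 7896), (nat_lit 7897), (nat_lit 7723), (nat_lit 5569), (nat_lit 5955), (nat_lit 6915), (nat_lit 8738), (nat_lit 8736), (nat_lit 8735), (nat_lit 2491)]))) (.node (.leaf (.cyc (nat_lit 49) [(nat_lit 4217), (nat_lit 4506), (nat_lit 1142)])) (.leaf .df))) (.node (.node (.leaf (.cyc (nat_lit 7) [(nat_lit 6), (nat_lit 2762), (nat_lit 6)])) (.leaf .df)) (.node (.leaf (.cyc (nat_lit 19) [(nat_lit 1915), (nat_lit 4860), (nat_lit 4504), (nat_lit 4860), (nat_lit 1915)])) (.leaf .df)))) (.node (.node (.node (.leaf .df) (.leaf (.cyc (nat_lit 28) [(nat_lit 2740), (nat_lit 9816), (nat_lit 9817), (nat_lit 9816), (nat_lit 2740)]))) (.node (.leaf (.cyc (nat_lit 44) [(nat_lit 5869), (nat_lit 1561), (nat_lit 4201), (nat_lit 850), (nat_lit 1565)])) (.leaf .df))) (.node (.node (.leaf (.cyc (nat_lit 45) [(nat_lit 653), (nat_lit 303), (nat_lit 2942), (nat_lit 303), (nat_lit 653)])) (.leaf .df)) (.node (.leaf (.cyc (nat_lit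 46) [(nat_lit 2217), (nat_lit 5556), (nat_lit 2217)])) (.leaf .df)))))) (.node (.node (.node (.node (.node (.leaf .df) (.leaf (.cyc (nat_lit 30) [(nat_lit 2424), (nat_lit 7837), (nat_lit 7843), (nat_lit 7837), (nat_lit 2424)]))) (.node (.leaf (.cyc (nat_lit 19) [(nat_lit 1028), (nat_lit 537), (nat_lit 538), (nat_lit 1029), (nat_lit 4595)])) (.leaf .df))) (.node (.node (.leaf .df) (.leaf .df)) (.node (.leaf (.cyc (nat_lit 63) [(nat_lit 6630), (nat_lit 6285), (nat_lit 6358), (nat_lit 4692), (nat_lit 1823)])) (.leaf .df)))) (.node (.node (.node (.leaf .df) (.leaf (.cyc (nat_lit 41) [(nat_lit 2684), (nat_lit 8859), (nat_lit 2684)]))) (.node (.leaf (.cyc (nat_lit 72) [(nat_lit 1249), (nat_lit 5619)])) (.leaf .df))) (.node (.node (.leaf (.cyc (nat_lit 34) [(nat_lit 503), (nat_lit 3385), (nat_lit 3388), (nat_lit 3385), (nat_lit 503)])) (.leaf .df)) (.node (.leaf (.cyc (nat_lit 48) [(nat_lit 7344), (nat_lit 7345), (nat_lit 2149)])) (.leaf .df))))) (.node (.node (.node (.node (.leaf .df)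 (.leaf (.cyc (nat_lit 31) [(nat_lit 2558), (nat_lit 2088), (nat_lit 5190), (nat_lit 2088), (nat_lit 2558)]))) (.node (.leaf (.cyc (nat_lit 45) [(nat_lit 1259), (nat_lit 669), (nat_lit 3246), (nat_lit 669), (nat_lit 1259)])) (.leaf .df))) (.node (.node (.leaf (.cyc (nat_lit 25) [(nat_lit 167), (nat_lit 2869), (nat_lit 2996), (nat_lit 2875), (nat_lit 192)])) (.leaf .df)) (.node (.leaf (.cyc (nat_lit 34) [(nat_lit 1989), (nat_lit 1200), (nat_lit 3804), (nat_lit 1200), (nat_lit 1989)])) (.leaf .df)))) (.node (.node (.node (.leaf .df) (.leaf .df)) (.node (.leaf (.cyc (nat_lit 49) [(nat_lit 1111), (nat_lit 4315), (nat_lit 1648)])) (.leaf .df))) (.node (.node (.leaf (.cyc (nat_lit 1) [(nat_lit 4031), (nat_lit 3630), (nat_lit 649)])) (.leaf .df)) (.node (.leaf (.cyc (nat_lit 25) [(nat_lit 2019), (nat_lit 2018), (nat_lit 7249), (nat_lit 5943), (nat_lit 2293)])) (.leaf .df))))))))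
noncomputable def u5P101011 : BT Pf := .node u5P1010110 u5P1010111
noncomputable def u5P10101 : BT Pf := .node u5P101010 u5P101011
noncomputable def u5P1010 : BT Pf := .node u5P10100 u5P10101
noncomputable def u5P1011000 : BT Pf := (.node (.node (.node (.node (.node (.node (.node (.leaf .df) (.leaf (.cyc (nat_lit 53) [(nat_lit 8003), (nat_lit 1667), (nat_lit 4345), (nat_lit 1587), (nat_lit 2298)]))) (.node (.leaf (.cyc (nat_lit 63) [(nat_lit 795), (nat_lit 4100), (nat_lit 4101), (nat_lit 4100), (nat_lit 795)])) (.leaf .df))) (.node (.node (.leaf .df) (.leaf .df)) (.node (.leaf (.cyc (nat_lit 157) [(nat_lit 6156), (nat_lit 4440), (nat_lit 4225), (nat_lit 4440), (nat_lit 6156)])) (.leaf .df)))) (.node (.node (.node (.leaf .df) (.leaf (.cyc (nat_lit 31) [(nat_lit 2567), (nat_lit 2108), (nat_lit 5255), (nat_lit 2108), (nat_lit 2567)]))) (.node (.leaf (.cyc (nat_lit 53) [(nat_lit 1272), (nat_lit 3858), (nat_lit 3563), (nat_lit 3858), (nat_lit 1272)])) (.leaf .df))) (.node (.node (.leaf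 (.cyc (nat_lit 41) [(nat_lit 144), (nat_lit 2883), (nat_lit 205)])) (.leaf .df)) (.node (.leaf (.cyc (nat_lit 16) [(nat_lit 6671), (nat_lit 5784), (nat_lit 4985), (nat_lit 1213), (nat_lit 1996)])) (.leaf .df))))) (.node (.node (.node (.node (.leaf .df) (.leaf (.cyc (nat_lit 20) [(nat_lit 1818), (nat_lit 1817), (nat_lit 2431)]))) (.node (.leaf (.cyc (nat_lit 26) [(nat_lit 1036), (nat_lit 544), (nat_lit 3172), (nat_lit 544), (nat_lit 1036)])) (.leaf .df))) (.node (.node (.leaf .df) (.leaf .df)) (.node (.leaf (.cyc (nat_lit 100) [(nat_lit 6665), (nat_lit 6318), (nat_lit 6319), (nat_lit 6318), (nat_lit 6665)])) (.leaf .df)))) (.node (.node (.node (.leaf .df) (.leaf (.cyc (nat_lit 27) [(nat_lit 2689), (nat_lit 8904), (nat_lit 2689)]))) (.node (.leaf (.cyc (nat_lit 18) [(nat_lit 1007), (nat_lit 524), (nat_lit 4061), (nat_lit 795), (nat_lit 1485)])) (.leaf .df))) (.node (.node (.leaf (.cyc (nat_lit 16) [(nat_lit 517), (nat_lit 237), (nat_lit 2904), (nat_lit 237), (nat_lit 517)])) (.leaf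 .df)) (.node (.leaf (.cyc (nat_lit 8) [(nat_lit 7691), (nat_lit 6902), (nat_lit 6981), (nat_lit 6902), (nat_lit 7691)])) (.leaf .df)))))) (.node (.node (.node (.node (.node (.leaf .df) (.leaf (.cyc (nat_lit 27) [(nat_lit 8156), (nat_lit 7911), (nat_lit 2363)]))) (.node (.leaf (.cyc (nat_lit 29) [(nat_lit 4360), (nat_lit 544), (nat_lit 254), (nat_lit 255), (nat_lit 546)])) (.leaf .df))) (.node (.node (.leaf .df) (.leaf .df)) (.node (.leaf (.cyc (nat_lit 25) [(nat_lit 1747), (nat_lit 986), (nat_lit 3680), (nat_lit 986), (nat_lit 1747)])) (.leaf .df)))) (.node (.node (.node (.leaf .df) (.leaf (.cyc (nat_lit 15) [(nat_lit 9484), (nat_lit 8526), (nat_lit 9484)]))) (.node (.leaf (.cyc (nat_lit 23) [(nat_lit 729), (nat_lit 727), (nat_lit 1375)])) (.leaf .df))) (.node (.node (.leaf (.cyc (nat_lit 56) [(nat_lit 362), (nat_lit 151), (nat_lit 2867), (nat_lit 157), (nat_lit 380)])) (.leaf .df)) (.node (.leaf (.cyc (nat_lit 46) [(nat_lit 2084), (nat_lit 5182), (nat_lit 2084)])) (.leaf .df)))))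 (.node (.node (.node (.node (.leaf .df) (.leaf (.cyc (nat_lit 63) [(nat_lit 7530), (nat_lit 1578), (nat_lit 4866), (nat_lit 1921), (nat_lit 2497)]))) (.node (.leaf (.cyc (nat_lit 62) [(nat_lit 1151), (nat_lit 610), (nat_lit 3201), (nat_lit 610), (nat_lit 1151)])) (.leaf .df))) (.node (.node (.leaf (.cyc (nat_lit 35) [(nat_lit 39), (nat_lit 2791), (nat_lit 2781), (nat_lit 2791), (nat_lit 39)])) (.leaf .df)) (.node (.leaf (.cyc (nat_lit 20) [(nat_lit 6440), (nat_lit 4883), (nat_lit 1924)])) (.leaf .df)))) (.node (.node (.node (.leaf .df) (.leaf (.cyc (nat_lit 44) [(nat_lit 2745), (nat_lit 2706), (nat_lit 9122), (nat_lit 2706), (nat_lit 2745)]))) (.node (.leaf (.cyc (nat_lit 53) [(nat_lit 1570), (nat_lit 4292), (nat_lit 3585), (nat_lit 4292), (nat_lit 1570)])) (.leaf .df))) (.node (.node (.leaf (.cyc (nat_lit 28) [(nat_lit 667), (nat_lit 3242), (nat_lit 3562), (nat_lit 3242), (nat_lit 667)])) (.leaf .df)) (.node (.leaf (.cyc (nat_lit 46) [(nat_lit 7855), (nat_lit 5574), (nat_lit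 2224)])) (.leaf .df))))))) (.node (.node (.node (.node (.node (.node (.leaf .df) (.leaf (.cyc (nat_lit 19) [(nat_lit 7907), (nat_lit 6143), (nat_lit 5905), (nat_lit 6134), (nat_lit 2333)]))) (.node (.leaf (.cyc (nat_lit 58) [(nat_lit 776), (nat_lit 3362), (nat_lit 3359), (nat_lit 3239), (nat_lit 3644), (nat_lit 4031), (nat_lit 3631), (nat_lit 3340), (nat_lit 441), (nat_lit 3461), (nat_lit 872)])) (.leaf .df))) (.node (.node (.leaf .df) (.leaf .df)) (.node (.leaf (.cyc (nat_lit 117) [(nat_lit 1397), (nat_lit 5418), (nat_lit 6284), (nat_lit 6168), (nat_lit 1663)])) (.leaf .df)))) (.node (.node (.node (.leaf .df) (.leaf (.cyc (nat_lit 53) [(nat_lit 2599), (nat_lit 2178), (nat_lit 5466), (nat_lit 2178), (nat_lit 2599)]))) (.node (.leaf (.cyc (nat_lit 56) [(nat_lit 1244), (nat_lit 4616), (nat_lit 709), (nat_lit 3899), (nat_lit 1330)])) (.leaf .df))) (.node (.node (.leaf (.cyc (nat_lit 27) [(nat_lit 3212), (nat_lit 286), (nat_lit 287)])) (.leaf .df)) (.node (.leaf (.cyc (nat_lit 87)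 [(nat_lit 1809), (nat_lit 4658), (nat_lit 4655), (nat_lit 917), (nat_lit 3499), (nat_lit 464), (nat_lit 466), (nat_lit 919), (nat_lit 1662), (nat_lit 7307), (nat_lit 7308)])) (.leaf .df))))) (.node (.node (.node (.node (.leaf .df) (.leaf (.cyc (nat_lit 18) [(nat_lit 2466), (nat_lit 8329), (nat_lit 8330), (nat_lit 8329), (nat_lit 2466)]))) (.node (.leaf (.cyc (nat_lit 20) [(nat_lit 582), (nat_lit 580), (nat_lit 1099)])) (.leaf .df))) (.node (.node (.leaf .df) (.leaf .df)) (.node (.leaf (.cyc (nat_lit 15) [(nat_lit 1880), (nat_lit 4804), (nat_lit 1880)])) (.leaf .df)))) (.node (.node (.node (.leaf .df) (.leaf (.cyc (nat_lit 44) [(nat_lit 2719), (nat_lit 9399), (nat_lit 9398), (nat_lit 9399), (nat_lit 2719)]))) (.node (.leaf (.cyc (nat_lit 77) [(nat_lit 4722), (nat_lit 3709), (nat_lit 569), (nat_lit 266), (nat_lit 3173), (nat_lit 547), (nat_lit 4153), (nat_lit 823), (nat_lit 824), (nat_lit 1530), (nat_lit 5772)])) (.leaf .df))) (.node (.node (.leaf (.cyc (nat_lit 37) [(nat_lit 582),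 (nat_lit 3190), (nat_lit 2952), (nat_lit 3190), (nat_lit 582)])) (.leaf .df)) (.node (.leaf (.cyc (nat_lit 52) [(nat_lit 7809), (nat_lit 2190), (nat_lit 7819), (nat_lit 2037), (nat_lit 7310)])) (.leaf .df)))))) (.node (.node (.node (.node (.node (.leaf .df) (.leaf (.cyc (nat_lit 34) [(nat_lit 7350), (nat_lit 1615), (nat_lit 6027), (nat_lit 6501), (nat_lit 2398)]))) (.node (.leaf (.cyc (nat_lit 19) [(nat_lit 984), (nat_lit 4207), (nat_lit 4208), (nat_lit 4207), (nat_lit 984)])) (.leaf .df))) (.node (.node (.leaf .df) (.leaf .df)) (.node (.leaf (.cyc (nat_lit 18) [(nat_lit 1787), (nat_lit 5528), (nat_lit 4892), (nat_lit 5528), (nat_lit 1787)])) (.leaf .df)))) (.node (.node (.node (.leaf .df) (.leaf (.cyc (nat_lit 50) [(nat_lit 2660), (nat_lit 9304), (nat_lit 9302), (nat_lit 9304), (nat_lit 2660)]))) (.node (.leaf (.cyc (nat_lit 44) [(nat_lit 1442), (nat_lit 4004), (nat_lit 3624), (nat_lit 4004), (nat_lit 1442)])) (.leaf .df))) (.node (.node (.leaf (.cyc (nat_lit 31) [(nat_lit 354),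 (nat_lit 147), (nat_lit 146), (nat_lit 3072), (nat_lit 448)])) (.leaf .df)) (.node (.leaf (.cyc (nat_lit 37) [(nat_lit 2119), (nat_lit 1341), (nat_lit 4372), (nat_lit 1341), (nat_lit 2119)])) (.leaf .df))))) (.node (.node (.node (.node (.leaf .df) (.leaf (.cyc (nat_lit 53) [(nat_lit 8023), (nat_lit 8022), (nat_lit 2026), (nat_lit 2027), (nat_lit 2531)]))) (.node (.leaf (.cyc (nat_lit 20) [(nat_lit 643), (nat_lit 642), (nat_lit 1214)])) (.leaf .df))) (.node (.node (.leaf (.cyc (nat_lit 61) [(nat_lit 145), (nat_lit 2861), (nat_lit 2859), (nat_lit 30), (nat_lit 31), (nat_lit 2817), (nat_lit 31), (nat_lit 30), (nat_lit 2859), (nat_lit 2861), (nat_lit 145)])) (.leaf .df)) (.node (.leaf (.cyc (nat_lit 50) [(nat_lit 1958), (nat_lit 7032), (nat_lit 7033), (nat_lit 7032), (nat_lit 1958)])) (.leaf .df)))) (.node (.node (.node (.leaf .df) (.leaf .df)) (.node (.leaf (.cyc (nat_lit 46) [(nat_lit 4736), (nat_lit 4491), (nat_lit 1613)])) (.leaf .df))) (.node (.node (.leaf (.cyc (nat_lit 23)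 [(nat_lit 357), (nat_lit 356), (nat_lit 758)])) (.leaf .df)) (.node (.leaf (.cyc (nat_lit 3) [(nat_lit 8076), (nat_lit 7313), (nat_lit 7196)])) (.leaf .df))))))))
noncomputable def u5P1011001 : BT Pf := (.node (.node (.node (.node (.node (.node (.node (.leaf .df) (.leaf (.cyc (nat_lit 41) [(nat_lit 2318), (nat_lit 6088), (nat_lit 2318)]))) (.node (.leaf (.cyc (nat_lit 57) [(nat_lit 4172), (nat_lit 819), (nat_lit 403), (nat_lit 3112), (nat_lit 482), (nat_lit 3527), (nat_lit 482), (nat_lit 3112), (nat_lit 403), (nat_lit 819), (nat_lit 4172)])) (.leaf .df))) (.node (.node (.leaf .df) (.leaf .df)) (.node (.leaf (.cyc (nat_lit 47) [(nat_lit 1682), (nat_lit 935), (nat_lit 3527), (nat_lit 935), (nat_lit 1682)])) (.leaf .df)))) (.node (.node (.node (.leaf .df) (.leaf (.cyc (nat_lit 35) [(nat_lit 8008), (nat_lit 1658), (nat_lit 1657), (nat_lit 7991), (nat_lit 2580)]))) (.node (.leaf (.cyc (nat_lit 46) [(nat_lit 4408), (nat_lit 5052), (nat_lit 5195)])) (.leaf .df))) (.node (.node (.leaf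 (.cyc (nat_lit 48) [(nat_lit 244), (nat_lit 2912), (nat_lit 244)])) (.leaf .df)) (.node (.leaf (.cyc (nat_lit 46) [(nat_lit 2017), (nat_lit 5082), (nat_lit 2017)])) (.leaf .df))))) (.node (.node (.node (.node (.leaf .df) (.leaf (.cyc (nat_lit 30) [(nat_lit 2448), (nat_lit 1839), (nat_lit 4721), (nat_lit 1839), (nat_lit 2448)]))) (.node (.leaf (.cyc (nat_lit 48) [(nat_lit 1060), (nat_lit 4419), (nat_lit 1060)])) (.leaf .df))) (.node (.node (.leaf .df) (.leaf .df)) (.node (.leaf (.cyc (nat_lit 28) [(nat_lit 1839), (nat_lit 4724), (nat_lit 6020), (nat_lit 6016), (nat_lit 1856)])) (.leaf .df)))) (.node (.node (.node (.leaf .df) (.leaf (.cyc (nat_lit 18) [(nat_lit 2705), (nat_lit 2536), (nat_lit 7323), (nat_lit 2536), (nat_lit 2705)]))) (.node (.leaf (.cyc (nat_lit 19) [(nat_lit 1508), (nat_lit 5704), (nat_lit 5706), (nat_lit 5704), (nat_lit 1508)])) (.leaf .df))) (.node (.node (.leaf (.cyc (nat_lit 74) [(nat_lit 3506), (nat_lit 3652), (nat_lit 187)])) (.leaf .df)) (.node (.leaf (.cyc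 (nat_lit 20) [(nat_lit 2171), (nat_lit 5442), (nat_lit 2171)])) (.leaf .df)))))) (.node (.node (.node (.node (.node (.leaf .df) (.leaf (.cyc (nat_lit 35) [(nat_lit 2381), (nat_lit 8143), (nat_lit 8144), (nat_lit 8143), (nat_lit 2381)]))) (.node (.leaf (.cyc (nat_lit 120) [(nat_lit 769), (nat_lit 364), (nat_lit 151), (nat_lit 3428), (nat_lit 2867), (nat_lit 159), (nat_lit 4059), (nat_lit 224), (nat_lit 222), (nat_lit 489), (nat_lit 951)])) (.leaf .df))) (.node (.node (.leaf .df) (.leaf .df)) (.node (.leaf (.cyc (nat_lit 112) [(nat_lit 4828), (nat_lit 6476), (nat_lit 5513)])) (.leaf .df)))) (.node (.node (.node (.leaf .df) (.leaf (.cyc (nat_lit 70) [(nat_lit 9367), (nat_lit 7795), (nat_lit 2183), (nat_lit 7729), (nat_lit 7771), (nat_lit 2164), (nat_lit 6043), (nat_lit 6049), (nat_lit 2310), (nat_lit 2645), (nat_lit 9546)]))) (.node (.leaf (.cyc (nat_lit 6) [(nat_lit 1411), (nat_lit 4297), (nat_lit 4296), (nat_lit 4297), (nat_lit 1411)])) (.leaf .df))) (.node (.node (.leaf (.cyc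 (nat_lit 41) [(nat_lit 434), (nat_lit 3056), (nat_lit 434)])) (.leaf .df)) (.node (.leaf (.cyc (nat_lit 26) [(nat_lit 6318), (nat_lit 1074), (nat_lit 1075), (nat_lit 1836), (nat_lit 7498)])) (.leaf .df))))) (.node (.node (.node (.node (.leaf .df) (.leaf (.cyc (nat_lit 6) [(nat_lit 8746), (nat_lit 7952), (nat_lit 7868), (nat_lit 7137), (nat_lit 2514)]))) (.node (.leaf (.cyc (nat_lit 10) [(nat_lit 4940), (nat_lit 4803), (nat_lit 4940)])) (.leaf .df))) (.node (.node (.leaf (.cyc (nat_lit 48) [(nat_lit 2881), (nat_lit 2827), (nat_lit 94)])) (.leaf .df)) (.node (.leaf (.cyc (nat_lit 34) [(nat_lit 1221), (nat_lit 644), (nat_lit 3761), (nat_lit 1163), (nat_lit 1939)])) (.leaf .df)))) (.node (.node (.node (.leaf .df) (.leaf .df)) (.node (.leaf (.cyc (nat_lit 49) [(nat_lit 1478), (nat_lit 1481), (nat_lit 5964)])) (.leaf .df))) (.node (.node (.leaf (.cyc (nat_lit 53) [(nat_lit 681), (nat_lit 3288), (nat_lit 338), (nat_lit 339), (nat_lit 722)])) (.leaf .df)) (.node (.leaf (.cyc (nat_lit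 21) [(nat_lit 2244), (nat_lit 5647), (nat_lit 4111), (nat_lit 5647), (nat_lit 2244)])) (.leaf .df))))))) (.node (.node (.node (.node (.node (.node (.leaf .df) (.leaf (.cyc (nat_lit 41) [(nat_lit 7761), (nat_lit 8003), (nat_lit 2348)]))) (.node (.leaf (.cyc (nat_lit 35) [(nat_lit 457), (nat_lit 205), (nat_lit 204), (nat_lit 455), (nat_lit 901)])) (.leaf .df))) (.node (.node (.leaf .df) (.leaf .df)) (.node (.leaf (.cyc (nat_lit 18) [(nat_lit 1729), (nat_lit 5966), (nat_lit 5968), (nat_lit 5966), (nat_lit 1729)])) (.leaf .df)))) (.node (.node (.node (.leaf .df) (.leaf (.cyc (nat_lit 107) [(nat_lit 2616), (nat_lit 7994), (nat_lit 7943), (nat_lit 7942), (nat_lit 2376), (nat_lit 9027), (nat_lit 9026), (nat_lit 9025), (nat_lit 8651), (nat_lit 8695), (nat_lit 8693)]))) (.node (.leaf (.cyc (nat_lit 58) [(nat_lit 5324), (nat_lit 1022), (nat_lit 533), (nat_lit 3155), (nat_lit 248), (nat_lit 2915), (nat_lit 248), (nat_lit 3155), (nat_lit 533), (nat_lit 1022), (nat_lit 5324)])) (.leaf .df)))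 (.node (.node (.leaf (.cyc (nat_lit 99) [(nat_lit 344), (nat_lit 142), (nat_lit 143), (nat_lit 346), (nat_lit 3276), (nat_lit 3020), (nat_lit 174), (nat_lit 69), (nat_lit 2797), (nat_lit 2796), (nat_lit 2773), (nat_lit 2772), (nat_lit 40), (nat_lit 2995), (nat_lit 90), (nat_lit 222), (nat_lit 3197)])) (.leaf .df)) (.node (.leaf (.cyc (nat_lit 47) [(nat_lit 6062), (nat_lit 946), (nat_lit 3872), (nat_lit 1279), (nat_lit 2061)])) (.leaf .df))))) (.node (.node (.node (.node (.leaf .df) (.leaf (.cyc (nat_lit 45) [(nat_lit 2482), (nat_lit 7041), (nat_lit 4946), (nat_lit 7041), (nat_lit 2482)]))) (.node (.leaf (.cyc (nat_lit 20) [(nat_lit 1120), (nat_lit 3728), (nat_lit 1120)])) (.leaf .df))) (.node (.node (.leaf (.pin (nat_lit 16) [] [])) (.leaf .df)) (.node (.leaf (.cyc (nat_lit 62) [(nat_lit 1903), (nat_lit 6588), (nat_lit 6592), (nat_lit 6588), (nat_lit 1903)])) (.leaf .df)))) (.node (.node (.node (.leaf .df) (.leaf (.cyc (nat_lit 28) [(nat_lit 2732), (nat_lit 9406), (nat_lit 9213),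 (nat_lit 9406), (nat_lit 2732)]))) (.node (.leaf (.cyc (nat_lit 80) [(nat_lit 1501), (nat_lit 4195), (nat_lit 1547), (nat_lit 5836), (nat_lit 1072), (nat_lit 1074)])) (.leaf .df))) (.node (.node (.leaf (.cyc (nat_lit 16) [(nat_lit 424), (nat_lit 423), (nat_lit 3771), (nat_lit 3770), (nat_lit 625)])) (.leaf .df)) (.node (.leaf (.cyc (nat_lit 31) [(nat_lit 2083), (nat_lit 1298), (nat_lit 5173), (nat_lit 5581), (nat_lit 2208)])) (.leaf .df)))))) (.node (.node (.node (.node (.node (.leaf .df) (.leaf (.cyc (nat_lit 6) [(nat_lit 2414), (nat_lit 1784), (nat_lit 4593), (nat_lit 1784), (nat_lit 2414)]))) (.node (.leaf (.cyc (nat_lit 27) [(nat_lit 4556), (nat_lit 1009), (nat_lit 1010)])) (.leaf .df))) (.node (.node (.leaf .df) (.leaf .df)) (.node (.leaf (.cyc (nat_lit 20) [(nat_lit 1806), (nat_lit 4649), (nat_lit 1806)])) (.leaf .df)))) (.node (.node (.node (.leaf .df) (.leaf (.cyc (nat_lit 48) [(nat_lit 9318), (nat_lit 8769), (nat_lit 2676)]))) (.node (.leaf (.cyc (nat_lit 141) [(nat_lit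 5173), (nat_lit 1298), (nat_lit 5182), (nat_lit 5580), (nat_lit 1470), (nat_lit 4093), (nat_lit 4090), (nat_lit 786), (nat_lit 787), (nat_lit 1466), (nat_lit 5573)])) (.leaf .df))) (.node (.node (.leaf (.cyc (nat_lit 53) [(nat_lit 484), (nat_lit 220), (nat_lit 2888), (nat_lit 220), (nat_lit 484)])) (.leaf .df)) (.node (.leaf (.cyc (nat_lit 53) [(nat_lit 1370), (nat_lit 726), (nat_lit 725), (nat_lit 1367), (nat_lit 2136)])) (.leaf .df))))) (.node (.node (.node (.node (.leaf .df) (.leaf (.cyc (nat_lit 20) [(nat_lit 2062), (nat_lit 2061), (nat_lit 2548)]))) (.node (.leaf (.cyc (nat_lit 20) [(nat_lit 662), (nat_lit 3846), (nat_lit 1243)])) (.leaf .df))) (.node (.node (.leaf (.cyc (nat_lit 37) [(nat_lit 175), (nat_lit 3011), (nat_lit 3017), (nat_lit 3011), (nat_lit 175)])) (.leaf .df)) (.node (.leaf (.cyc (nat_lit 20) [(nat_lit 7116), (nat_lit 1978), (nat_lit 1979)])) (.leaf .df)))) (.node (.node (.node (.leaf .df) (.leaf .df)) (.node (.leaf (.cyc (nat_lit 47) [(nat_lit 1023), (nat_lit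 3775), (nat_lit 3478), (nat_lit 901), (nat_lit 1633)])) (.leaf .df))) (.node (.node (.leaf (.cyc (nat_lit 114) [(nat_lit 383), (nat_lit 4037)])) (.leaf .df)) (.node (.leaf (.cyc (nat_lit 63) [(nat_lit 2282), (nat_lit 1552), (nat_lit 4173), (nat_lit 1552), (nat_lit 2282)])) (.leaf .df))))))))
noncomputable def u5P101100 : BT Pf := .node u5P1011000 u5P1011001
noncomputable def u5P1011010 : BT Pf := (.node (.node (.node (.node (.node (.node (.node (.leaf .df) (.leaf (.cyc (nat_lit 34) [(nat_lit 1860), (nat_lit 1095), (nat_lit 4266), (nat_lit 1610), (nat_lit 2307)]))) (.node (.leaf (.cyc (nat_lit 16) [(nat_lit 3684), (nat_lit 509), (nat_lit 3132), (nat_lit 401), (nat_lit 813)])) (.leaf .df))) (.node (.node (.leaf .df) (.leaf .df)) (.node (.leaf (.cyc (nat_lit 20) [(nat_lit 931), (nat_lit 930), (nat_lit 1673)])) (.leaf .df)))) (.node (.node (.node (.leaf .df) (.leaf (.cyc (nat_lit 19) [(nat_lit 2573), (nat_lit 7540), (nat_lit 7315), (nat_lit 7540), (nat_lit 2573)]))) (.node (.leaf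 (.cyc (nat_lit 23) [(nat_lit 1227), (nat_lit 4278), (nat_lit 1290)])) (.leaf .df))) (.node (.node (.leaf (.cyc (nat_lit 47) [(nat_lit 117), (nat_lit 2847), (nat_lit 2994), (nat_lit 91), (nat_lit 225)])) (.leaf .df)) (.node (.leaf (.cyc (nat_lit 31) [(nat_lit 2007), (nat_lit 1228), (nat_lit 3824), (nat_lit 1228), (nat_lit 2007)])) (.leaf .df))))) (.node (.node (.node (.node (.leaf .df) (.leaf (.cyc (nat_lit 29) [(nat_lit 8746), (nat_lit 7949), (nat_lit 7856), (nat_lit 5540), (nat_lit 7753)]))) (.node (.leaf (.cyc (nat_lit 20) [(nat_lit 556), (nat_lit 555), (nat_lit 1051)])) (.leaf .df))) (.node (.node (.leaf .df) (.leaf .df)) (.node (.leaf (.cyc (nat_lit 19) [(nat_lit 1845), (nat_lit 1081), (nat_lit 3709), (nat_lit 1081), (nat_lit 1845)])) (.leaf .df)))) (.node (.node (.node (.leaf .df) (.leaf (.cyc (nat_lit 107) [(nat_lit 2696), (nat_lit 2510), (nat_lit 7058), (nat_lit 1961), (nat_lit 1184), (nat_lit 1182), (nat_lit 4949), (nat_lit 1958), (nat_lit 2509), (nat_lit 2694), (nat_lit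 9763)]))) (.node (.leaf (.cyc (nat_lit 62) [(nat_lit 1496), (nat_lit 4423), (nat_lit 4422), (nat_lit 4423), (nat_lit 1496)])) (.leaf .df))) (.node (.node (.leaf (.cyc (nat_lit 49) [(nat_lit 423), (nat_lit 3169), (nat_lit 540)])) (.leaf .df)) (.node (.leaf (.cyc (nat_lit 34) [(nat_lit 2162), (nat_lit 7694), (nat_lit 7697), (nat_lit 7694), (nat_lit 2162)])) (.leaf .df)))))) (.node (.node (.node (.node (.node (.leaf .df) (.leaf (.cyc (nat_lit 48) [(nat_lit 7969), (nat_lit 7764), (nat_lit 2373)]))) (.node (.leaf (.cyc (nat_lit 48) [(nat_lit 3615), (nat_lit 3531), (nat_lit 939)])) (.leaf .df))) (.node (.node (.leaf .df) (.leaf .df)) (.node (.leaf (.cyc (nat_lit 45) [(nat_lit 1131), (nat_lit 1132), (nat_lit 4984), (nat_lit 4540), (nat_lit 1761)])) (.leaf .df)))) (.node (.node (.node (.leaf .df) (.leaf (.cyc (nat_lit 18) [(nat_lit 2639), (nat_lit 8171), (nat_lit 6793), (nat_lit 8171), (nat_lit 2639)]))) (.node (.leaf (.cyc (nat_lit 69) [(nat_lit 5420), (nat_lit 1390), (nat_lit 737),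 (nat_lit 3916), (nat_lit 1355), (nat_lit 5344), (nat_lit 1355), (nat_lit 3916), (nat_lit 737), (nat_lit 1390), (nat_lit 5420)])) (.leaf .df))) (.node (.node (.leaf (.cyc (nat_lit 48) [(nat_lit 174), (nat_lit 3011), (nat_lit 404)])) (.leaf .df)) (.node (.leaf (.cyc (nat_lit 93) [(nat_lit 2093), (nat_lit 1309), (nat_lit 3885), (nat_lit 3883), (nat_lit 4223), (nat_lit 1303), (nat_lit 5197), (nat_lit 4409), (nat_lit 4408), (nat_lit 1337), (nat_lit 7299)])) (.leaf .df))))) (.node (.node (.node (.node (.leaf .df) (.leaf (.cyc (nat_lit 28) [(nat_lit 2498), (nat_lit 7212), (nat_lit 2006), (nat_lit 7009), (nat_lit 2504)]))) (.node (.leaf (.cyc (nat_lit 47) [(nat_lit 1166), (nat_lit 3768), (nat_lit 3467), (nat_lit 3768), (nat_lit 1166)])) (.leaf .df))) (.node (.node (.leaf (.cyc (nat_lit 46) [(nat_lit 56), (nat_lit 16), (nat_lit 59)])) (.leaf .df)) (.node (.leaf (.cyc (nat_lit 19) [(nat_lit 1931), (nat_lit 1930), (nat_lit 6953), (nat_lit 1930), (nat_lit 1931)])) (.leaf .df)))) (.node (.node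 (.node (.leaf .df) (.leaf .df)) (.node (.leaf (.cyc (nat_lit 2) [(nat_lit 5931), (nat_lit 999), (nat_lit 520), (nat_lit 521), (nat_lit 1001)])) (.leaf .df))) (.node (.node (.leaf (.cyc (nat_lit 15) [(nat_lit 326), (nat_lit 325), (nat_lit 693)])) (.leaf .df)) (.node (.leaf (.cyc (nat_lit 41) [(nat_lit 2233), (nat_lit 5603), (nat_lit 2233)])) (.leaf .df))))))) (.node (.node (.node (.node (.node (.node (.leaf .df) (.leaf (.cyc (nat_lit 18) [(nat_lit 2340), (nat_lit 8359), (nat_lit 8362), (nat_lit 8359), (nat_lit 2340)]))) (.node (.leaf (.cyc (nat_lit 44) [(nat_lit 4228), (nat_lit 436), (nat_lit 3075), (nat_lit 450), (nat_lit 888)])) (.leaf .df))) (.node (.node (.leaf .df) (.leaf .df)) (.node (.leaf (.cyc (nat_lit 62) [(nat_lit 1714), (nat_lit 4481), (nat_lit 4480), (nat_lit 4481), (nat_lit 1714)])) (.leaf .df)))) (.node (.node (.node (.leaf .df) (.leaf (.cyc (nat_lit 19) [(nat_lit 2607), (nat_lit 2216), (nat_lit 5553), (nat_lit 2216), (nat_lit 2607)]))) (.node (.leaf (.cyc (nat_lit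 63) [(nat_lit 5282), (nat_lit 1335), (nat_lit 709), (nat_lit 711), (nat_lit 1338)])) (.leaf .df))) (.node (.node (.leaf (.cyc (nat_lit 6) [(nat_lit 311), (nat_lit 2946), (nat_lit 2932), (nat_lit 2946), (nat_lit 311)])) (.leaf .df)) (.node (.leaf (.cyc (nat_lit 56) [(nat_lit 2007), (nat_lit 5100), (nat_lit 2029), (nat_lit 7283), (nat_lit 2049)])) (.leaf .df))))) (.node (.node (.node (.node (.leaf .df) (.leaf (.cyc (nat_lit 0) [(nat_lit 2473), (nat_lit 2474), (nat_lit 8876), (nat_lit 2474), (nat_lit 2473)]))) (.node (.leaf (.cyc (nat_lit 78) [(nat_lit 591), (nat_lit 3194), (nat_lit 274), (nat_lit 3191), (nat_lit 585), (nat_lit 1110), (nat_lit 4779), (nat_lit 829), (nat_lit 830), (nat_lit 4662), (nat_lit 1070)])) (.leaf .df))) (.node (.node (.leaf .df) (.leaf .df)) (.node (.leaf (.cyc (nat_lit 25) [(nat_lit 5585), (nat_lit 877), (nat_lit 3730), (nat_lit 1123), (nat_lit 1889)])) (.leaf .df)))) (.node (.node (.node (.leaf .df) (.leaf (.cyc (nat_lit 16) [(nat_lit 2726), (nat_lit 9652),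 (nat_lit 9164), (nat_lit 9652), (nat_lit 2726)]))) (.node (.leaf (.cyc (nat_lit 51) [(nat_lit 1538), (nat_lit 4165), (nat_lit 5038), (nat_lit 654), (nat_lit 3231), (nat_lit 3230), (nat_lit 3231), (nat_lit 654), (nat_lit 5038), (nat_lit 4165), (nat_lit 1538)])) (.leaf .df))) (.node (.node (.leaf (.cyc (nat_lit 45) [(nat_lit 285), (nat_lit 121), (nat_lit 120), (nat_lit 283), (nat_lit 612)])) (.leaf .df)) (.node (.leaf (.cyc (nat_lit 25) [(nat_lit 6902), (nat_lit 7516), (nat_lit 7850), (nat_lit 2197), (nat_lit 2198)])) (.leaf .df)))))) (.node (.node (.node (.node (.node (.leaf .df) (.leaf (.cyc (nat_lit 67) [(nat_lit 8618), (nat_lit 2365), (nat_lit 1708), (nat_lit 6263), (nat_lit 6265), (nat_lit 7409), (nat_lit 8234), (nat_lit 8235), (nat_lit 8050), (nat_lit 8049), (nat_lit 2406)]))) (.node (.leaf (.cyc (nat_lit 47) [(nat_lit 4337), (nat_lit 3617), (nat_lit 3152), (nat_lit 3598), (nat_lit 994)])) (.leaf .df))) (.node (.node (.leaf .df) (.leaf .df)) (.node (.leaf (.cyc (nat_lit 46)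 [(nat_lit 1799), (nat_lit 4637), (nat_lit 1799)])) (.leaf .df)))) (.node (.node (.node (.leaf .df) (.leaf (.cyc (nat_lit 47) [(nat_lit 2668), (nat_lit 8565), (nat_lit 8006), (nat_lit 8565), (nat_lit 2668)]))) (.node (.leaf (.cyc (nat_lit 14) [(nat_lit 5546), (nat_lit 5104), (nat_lit 767), (nat_lit 766), (nat_lit 1432)])) (.leaf .df))) (.node (.node (.leaf (.cyc (nat_lit 20) [(nat_lit 210), (nat_lit 207), (nat_lit 466)])) (.leaf .df)) (.node (.leaf (.cyc (nat_lit 51) [(nat_lit 1760), (nat_lit 1758), (nat_lit 6710), (nat_lit 1849), (nat_lit 6469), (nat_lit 991), (nat_lit 992), (nat_lit 4519), (nat_lit 6290), (nat_lit 7594), (nat_lit 7596)])) (.leaf .df))))) (.node (.node (.node (.node (.leaf .df) (.leaf (.cyc (nat_lit 48) [(nat_lit 2422), (nat_lit 7334), (nat_lit 2541)]))) (.node (.leaf (.cyc (nat_lit 44) [(nat_lit 654), (nat_lit 304), (nat_lit 302), (nat_lit 651), (nat_lit 1233)])) (.leaf .df))) (.node (.node (.leaf (.cyc (nat_lit 70) [(nat_lit 110), (nat_lit 46), (nat_lit 12),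 (nat_lit 2774), (nat_lit 4), (nat_lit 5), (nat_lit 19), (nat_lit 2799), (nat_lit 66), (nat_lit 165), (nat_lit 2987)])) (.leaf .df)) (.node (.leaf (.cyc (nat_lit 23) [(nat_lit 7076), (nat_lit 1967), (nat_lit 1969)])) (.leaf .df)))) (.node (.node (.node (.leaf .df) (.leaf .df)) (.node (.leaf (.cyc (nat_lit 27) [(nat_lit 6020), (nat_lit 6018), (nat_lit 1624)])) (.leaf .df))) (.node (.node (.leaf (.cyc (nat_lit 47) [(nat_lit 4005), (nat_lit 772), (nat_lit 3313), (nat_lit 371), (nat_lit 777)])) (.leaf .df)) (.node (.leaf (.cyc (nat_lit 63) [(nat_lit 1548), (nat_lit 836), (nat_lit 4166), (nat_lit 1540), (nat_lit 2273)])) (.leaf .df))))))))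
noncomputable def u5P1011011 : BT Pf := (.node (.node (.node (.node (.node (.node (.node (.leaf .df) (.leaf (.cyc (nat_lit 24) [(nat_lit 2110), (nat_lit 5261), (nat_lit 5076), (nat_lit 6098), (nat_lit 2325)]))) (.node (.leaf (.cyc (nat_lit 20) [(nat_lit 427), (nat_lit 426), (nat_lit 852)])) (.leaf .df))) (.node (.node (.leaf .df) (.leaf .df)) (.node (.leaf (.cyc (nat_lit 11) [(nat_lit 6251), (nat_lit 1356), (nat_lit 721), (nat_lit 723), (nat_lit 1360)])) (.leaf .df)))) (.node (.node (.node (.leaf .df) (.leaf (.cyc (nat_lit 40) [(nat_lit 9323), (nat_lit 9156), (nat_lit 9323)]))) (.node (.leaf (.cyc (nat_lit 19) [(nat_lit 1312), (nat_lit 3889), (nat_lit 3596), (nat_lit 3889), (nat_lit 1312)])) (.leaf .df))) (.node (.node (.leaf (.cyc (nat_lit 18) [(nat_lit 260), (nat_lit 3003), (nat_lit 3005), (nat_lit 3003), (nat_lit 260)])) (.leaf .df)) (.node (.leaf (.cyc (nat_lit 25) [(nat_lit 1997), (nat_lit 1996), (nat_lit 7182), (nat_lit 6664), (nat_lit 2028)])) (.leaf .df))))) (.node (.node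 (.node (.node (.leaf .df) (.leaf (.cyc (nat_lit 31) [(nat_lit 1858), (nat_lit 1095), (nat_lit 1093), (nat_lit 1856), (nat_lit 2457)]))) (.node (.leaf (.cyc (nat_lit 34) [(nat_lit 4573), (nat_lit 4108), (nat_lit 3638), (nat_lit 566), (nat_lit 1076)])) (.leaf .df))) (.node (.node (.leaf .df) (.leaf .df)) (.node (.leaf (.cyc (nat_lit 7) [(nat_lit 6764), (nat_lit 1208), (nat_lit 1209)])) (.leaf .df)))) (.node (.node (.node (.leaf .df) (.leaf (.cyc (nat_lit 28) [(nat_lit 2712), (nat_lit 9668), (nat_lit 9333), (nat_lit 9668), (nat_lit 2712)]))) (.node (.leaf (.cyc (nat_lit 27) [(nat_lit 5632), (nat_lit 4855), (nat_lit 1523)])) (.leaf .df))) (.node (.node (.leaf (.cyc (nat_lit 19) [(nat_lit 559), (nat_lit 3641), (nat_lit 3642), (nat_lit 3641), (nat_lit 559)])) (.leaf .df)) (.node (.leaf (.cyc (nat_lit 25) [(nat_lit 2181), (nat_lit 2180), (nat_lit 7787), (nat_lit 2180), (nat_lit 2181)])) (.leaf .df)))))) (.node (.node (.node (.node (.node (.leaf .df) (.leaf (.cyc (nat_lit 6) [(nat_lit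 2348), (nat_lit 7257), (nat_lit 7256), (nat_lit 6454), (nat_lit 2390)]))) (.node (.leaf (.cyc (nat_lit 48) [(nat_lit 967), (nat_lit 3555), (nat_lit 967)])) (.leaf .df))) (.node (.node (.leaf .df) (.leaf .df)) (.node (.leaf (.cyc (nat_lit 27) [(nat_lit 1680), (nat_lit 4578), (nat_lit 1775)])) (.leaf .df)))) (.node (.node (.node (.leaf .df) (.leaf (.cyc (nat_lit 23) [(nat_lit 2506), (nat_lit 8335), (nat_lit 2653)]))) (.node (.leaf (.cyc (nat_lit 54) [(nat_lit 1424), (nat_lit 763), (nat_lit 3987), (nat_lit 3994), (nat_lit 661), (nat_lit 3240), (nat_lit 661), (nat_lit 3994), (nat_lit 3987), (nat_lit 763), (nat_lit 1424)])) (.leaf .df))) (.node (.node (.leaf (.cyc (nat_lit 113) [(nat_lit 372), (nat_lit 3434)])) (.leaf .df)) (.node (.leaf (.cyc (nat_lit 27) [(nat_lit 2108), (nat_lit 5258), (nat_lit 2108)])) (.leaf .df))))) (.node (.node (.node (.node (.leaf .df) (.leaf (.cyc (nat_lit 53) [(nat_lit 2322), (nat_lit 7285), (nat_lit 2011), (nat_lit 2012), (nat_lit 2523)]))) (.node (.leaf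 (.cyc (nat_lit 28) [(nat_lit 1132), (nat_lit 4353), (nat_lit 847), (nat_lit 3805), (nat_lit 1205)])) (.leaf .df))) (.node (.node (.leaf (.cyc (nat_lit 53) [(nat_lit 107), (nat_lit 45), (nat_lit 12), (nat_lit 48), (nat_lit 115)])) (.leaf .df)) (.node (.leaf (.cyc (nat_lit 131) [(nat_lit 6004), (nat_lit 1605), (nat_lit 883), (nat_lit 882), (nat_lit 4261), (nat_lit 3720), (nat_lit 701), (nat_lit 1317), (nat_lit 5239), (nat_lit 4933), (nat_lit 1949)])) (.leaf .df)))) (.node (.node (.node (.leaf .df) (.leaf .df)) (.node (.leaf (.cyc (nat_lit 62) [(nat_lit 1603), (nat_lit 880), (nat_lit 3466), (nat_lit 880), (nat_lit 1603)])) (.leaf .df))) (.node (.node (.leaf (.cyc (nat_lit 31) [(nat_lit 663), (nat_lit 309), (nat_lit 2956), (nat_lit 351), (nat_lit 745)])) (.leaf .df)) (.node (.leaf (.cyc (nat_lit 16) [(nat_lit 2002), (nat_lit 6354), (nat_lit 7987), (nat_lit 7986), (nat_lit 2254)])) (.leaf .df))))))) (.node (.node (.node (.node (.node (.node (.leaf .df) (.leaf (.cyc (nat_lit 37) [(nat_lit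 2355), (nat_lit 6220), (nat_lit 5673), (nat_lit 6220), (nat_lit 2355)]))) (.node (.leaf (.cyc (nat_lit 27) [(nat_lit 465), (nat_lit 464), (nat_lit 917)])) (.leaf .df))) (.node (.node (.leaf .df) (.leaf .df)) (.node (.leaf (.cyc (nat_lit 49) [(nat_lit 4727), (nat_lit 4481), (nat_lit 1737)])) (.leaf .df)))) (.node (.node (.node (.leaf .df) (.leaf (.cyc (nat_lit 30) [(nat_lit 8559), (nat_lit 8558), (nat_lit 7572), (nat_lit 2252), (nat_lit 2624)]))) (.node (.leaf (.cyc (nat_lit 43) [(nat_lit 5343), (nat_lit 1359), (nat_lit 5356), (nat_lit 1359), (nat_lit 5343)])) (.leaf .df))) (.node (.node (.leaf (.cyc (nat_lit 15) [(nat_lit 152), (nat_lit 151), (nat_lit 363)])) (.leaf .df)) (.node (.leaf (.cyc (nat_lit 18) [(nat_lit 2074), (nat_lit 5164), (nat_lit 4283), (nat_lit 5164), (nat_lit 2074)])) (.leaf .df))))) (.node (.node (.node (.node (.leaf .df) (.leaf (.cyc (nat_lit 48) [(nat_lit 2490), (nat_lit 6869), (nat_lit 2490)]))) (.node (.leaf (.cyc (nat_lit 30) [(nat_lit 1139), (nat_lit 3742),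 (nat_lit 3292), (nat_lit 3742), (nat_lit 1139)])) (.leaf .df))) (.node (.node (.leaf (.cyc (nat_lit 9) [(nat_lit 20), (nat_lit 3), (nat_lit 2759), (nat_lit 3), (nat_lit 20)])) (.leaf .df)) (.node (.leaf (.cyc (nat_lit 6) [(nat_lit 6822), (nat_lit 1893), (nat_lit 6835), (nat_lit 6369), (nat_lit 1911)])) (.leaf .df)))) (.node (.node (.node (.leaf .df) (.leaf (.cyc (nat_lit 18) [(nat_lit 2739), (nat_lit 9661), (nat_lit 9319), (nat_lit 9661), (nat_lit 2739)]))) (.node (.leaf (.cyc (nat_lit 61) [(nat_lit 5868), (nat_lit 1561), (nat_lit 847), (nat_lit 3392), (nat_lit 3805), (nat_lit 3807), (nat_lit 3634), (nat_lit 4135), (nat_lit 4134), (nat_lit 814), (nat_lit 1509)])) (.leaf .df))) (.node (.node (.leaf (.cyc (nat_lit 15) [(nat_lit 647), (nat_lit 3225), (nat_lit 647)])) (.leaf .df)) (.node (.leaf (.cyc (nat_lit 30) [(nat_lit 2215), (nat_lit 1458), (nat_lit 4019), (nat_lit 1458), (nat_lit 2215)])) (.leaf .df)))))) (.node (.node (.node (.node (.node (.leaf .df) (.leaf (.cyc (nat_lit 46)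 [(nat_lit 7088), (nat_lit 6600), (nat_lit 2422)]))) (.node (.leaf (.cyc (nat_lit 46) [(nat_lit 1026), (nat_lit 3623), (nat_lit 1026)])) (.leaf .df))) (.node (.node (.leaf .df) (.leaf .df)) (.node (.leaf (.cyc (nat_lit 28) [(nat_lit 6288), (nat_lit 6284), (nat_lit 1661), (nat_lit 4690), (nat_lit 1820)])) (.leaf .df)))) (.node (.node (.node (.leaf .df) (.leaf (.cyc (nat_lit 28) [(nat_lit 9149), (nat_lit 8812), (nat_lit 8813), (nat_lit 2460), (nat_lit 2682)]))) (.node (.leaf (.cyc (nat_lit 25) [(nat_lit 949), (nat_lit 488), (nat_lit 3353), (nat_lit 793), (nat_lit 1481)])) (.leaf .df))) (.node (.node (.leaf (.cyc (nat_lit 114) [(nat_lit 318), (nat_lit 3564)])) (.leaf .df)) (.node (.leaf (.cyc (nat_lit 35) [(nat_lit 2146), (nat_lit 5392), (nat_lit 5126), (nat_lit 5392), (nat_lit 2146)])) (.leaf .df))))) (.node (.node (.node (.node (.leaf .df) (.leaf (.cyc (nat_lit 18) [(nat_lit 2556), (nat_lit 8341), (nat_lit 8344), (nat_lit 8341), (nat_lit 2556)]))) (.node (.leaf (.cyc (nat_lit 25)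 [(nat_lit 683), (nat_lit 320), (nat_lit 3242), (nat_lit 666), (nat_lit 1256)])) (.leaf .df))) (.node (.node (.leaf (.cyc (nat_lit 18) [(nat_lit 185), (nat_lit 2873), (nat_lit 121), (nat_lit 3040), (nat_lit 190)])) (.leaf .df)) (.node (.leaf (.cyc (nat_lit 24) [(nat_lit 1985), (nat_lit 6530), (nat_lit 6982), (nat_lit 6530), (nat_lit 1985)])) (.leaf .df)))) (.node (.node (.node (.leaf .df) (.leaf .df)) (.node (.leaf (.cyc (nat_lit 3) [(nat_lit 6124), (nat_lit 1569), (nat_lit 1571)])) (.leaf .df))) (.node (.node (.leaf (.cyc (nat_lit 132) [(nat_lit 373), (nat_lit 154), (nat_lit 2867), (nat_lit 160), (nat_lit 4058), (nat_lit 103), (nat_lit 43), (nat_lit 2773), (nat_lit 2760), (nat_lit 2773), (nat_lit 43), (nat_lit 103), (nat_lit 4058), (nat_lit 160), (nat_lit 2867), (nat_lit 154), (nat_lit 373), (nat_lit 781)])) (.leaf .df)) (.node (.leaf (.cyc (nat_lit 25) [(nat_lit 2110), (nat_lit 6094), (nat_lit 6095), (nat_lit 5935), (nat_lit 2291)])) (.leaf .df))))))))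
noncomputable def u5P101101 : BT Pf := .node u5P1011010 u5P1011011
noncomputable def u5P10110 : BT Pf := .node u5P101100 u5P101101
noncomputable def u5P1011100 : BT Pf := (.node (.node (.node (.node (.node (.node (.node (.leaf .df) (.leaf (.cyc (nat_lit 35) [(nat_lit 2302), (nat_lit 5986), (nat_lit 4244), (nat_lit 5986), (nat_lit 2302)]))) (.node (.leaf (.cyc (nat_lit 110) [(nat_lit 4124), (nat_lit 800), (nat_lit 799)])) (.leaf .df))) (.node (.node (.leaf .df) (.leaf .df)) (.node (.leaf (.cyc (nat_lit 44) [(nat_lit 1664), (nat_lit 4338), (nat_lit 4508), (nat_lit 4338), (nat_lit 1664)])) (.leaf .df)))) (.node (.node (.node (.leaf .df) (.leaf (.cyc (nat_lit 20) [(nat_lit 2572), (nat_lit 7538), (nat_lit 2572)]))) (.node (.leaf (.cyc (nat_lit 27) [(nat_lit 681), (nat_lit 680), (nat_lit 1280)])) (.leaf .df))) (.node (.node (.leaf (.cyc (nat_lit 30) [(nat_lit 215), (nat_lit 84), (nat_lit 2818), (nat_lit 84), (nat_lit 215)])) (.leaf .df)) (.node (.leaf (.cyc (nat_lit 90) [(nat_lit 1957),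 (nat_lit 1956), (nat_lit 7196), (nat_lit 2000), (nat_lit 6060)])) (.leaf .df))))) (.node (.node (.node (.node (.leaf .df) (.leaf (.cyc (nat_lit 26) [(nat_lit 8395), (nat_lit 7615), (nat_lit 8730), (nat_lit 2434), (nat_lit 2435)]))) (.node (.leaf (.cyc (nat_lit 53) [(nat_lit 1044), (nat_lit 3683), (nat_lit 3586), (nat_lit 3683), (nat_lit 1044)])) (.leaf .df))) (.node (.node (.leaf .df) (.leaf .df)) (.node (.leaf (.cyc (nat_lit 62) [(nat_lit 1838), (nat_lit 1076), (nat_lit 3699), (nat_lit 1076), (nat_lit 1838)])) (.leaf .df)))) (.node (.node (.node (.leaf .df) (.leaf (.cyc (nat_lit 27) [(nat_lit 2509), (nat_lit 2508), (nat_lit 2693)]))) (.node (.leaf (.cyc (nat_lit 46) [(nat_lit 1060), (nat_lit 4127), (nat_lit 1491)])) (.leaf .df))) (.node (.node (.leaf (.cyc (nat_lit 18) [(nat_lit 526), (nat_lit 3492), (nat_lit 3490), (nat_lit 3492), (nat_lit 526)])) (.leaf .df)) (.node (.leaf (.cyc (nat_lit 20) [(nat_lit 7705), (nat_lit 2157), (nat_lit 2159)])) (.leaf .df)))))) (.node (.node (.node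 (.node (.node (.leaf .df) (.leaf (.cyc (nat_lit 25) [(nat_lit 2368), (nat_lit 6307), (nat_lit 6040), (nat_lit 6307), (nat_lit 2368)]))) (.node (.leaf (.cyc (nat_lit 27) [(nat_lit 480), (nat_lit 479), (nat_lit 928)])) (.leaf .df))) (.node (.node (.leaf .df) (.leaf .df)) (.node (.leaf (.cyc (nat_lit 90) [(nat_lit 1219), (nat_lit 1218), (nat_lit 6428), (nat_lit 1218), (nat_lit 1219)])) (.leaf .df)))) (.node (.node (.node (.leaf .df) (.leaf (.cyc (nat_lit 48) [(nat_lit 2636), (nat_lit 8161), (nat_lit 2636)]))) (.node (.leaf (.cyc (nat_lit 53) [(nat_lit 1255), (nat_lit 5084), (nat_lit 5298), (nat_lit 5296), (nat_lit 1383)])) (.leaf .df))) (.node (.node (.leaf (.cyc (nat_lit 47) [(nat_lit 393), (nat_lit 161), (nat_lit 2868), (nat_lit 161), (nat_lit 393)])) (.leaf .df)) (.node (.leaf (.cyc (nat_lit 48) [(nat_lit 2089), (nat_lit 5206), (nat_lit 2089)])) (.leaf .df))))) (.node (.node (.node (.node (.leaf .df) (.leaf (.cyc (nat_lit 41) [(nat_lit 7934), (nat_lit 6947), (nat_lit 2501)])))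 (.node (.leaf (.cyc (nat_lit 15) [(nat_lit 856), (nat_lit 3762), (nat_lit 1162)])) (.leaf .df))) (.node (.node (.leaf (.cyc (nat_lit 16) [(nat_lit 47), (nat_lit 2774), (nat_lit 2806), (nat_lit 2774), (nat_lit 47)])) (.leaf .df)) (.node (.leaf (.cyc (nat_lit 45) [(nat_lit 1927), (nat_lit 5347), (nat_lit 5349), (nat_lit 5347), (nat_lit 1927)])) (.leaf .df)))) (.node (.node (.node (.leaf .df) (.leaf (.cyc (nat_lit 50) [(nat_lit 2748), (nat_lit 9851), (nat_lit 9478), (nat_lit 9851), (nat_lit 2748)]))) (.node (.leaf (.cyc (nat_lit 27) [(nat_lit 857), (nat_lit 856), (nat_lit 1574)])) (.leaf .df))) (.node (.node (.leaf (.cyc (nat_lit 47) [(nat_lit 678), (nat_lit 316), (nat_lit 3282), (nat_lit 316), (nat_lit 678)])) (.leaf .df)) (.node (.leaf (.cyc (nat_lit 40) [(nat_lit 7964), (nat_lit 6026), (nat_lit 7964)])) (.leaf .df))))))) (.node (.node (.node (.node (.node (.node (.leaf .df) (.leaf (.cyc (nat_lit 5) [(nat_lit 8348), (nat_lit 1954), (nat_lit 4943), (nat_lit 1954), (nat_lit 8348)])))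 (.node (.leaf (.cyc (nat_lit 42) [(nat_lit 880), (nat_lit 4239), (nat_lit 873), (nat_lit 442), (nat_lit 3340), (nat_lit 3342), (nat_lit 3340), (nat_lit 442), (nat_lit 873), (nat_lit 4239), (nat_lit 880)])) (.leaf .df))) (.node (.node (.leaf .df) (.leaf .df)) (.node (.leaf (.cyc (nat_lit 53) [(nat_lit 1308), (nat_lit 4439), (nat_lit 955), (nat_lit 956), (nat_lit 1708)])) (.leaf .df)))) (.node (.node (.node (.leaf .df) (.leaf (.cyc (nat_lit 49) [(nat_lit 9051), (nat_lit 9054), (nat_lit 2604)]))) (.node (.leaf (.cyc (nat_lit 40) [(nat_lit 5276), (nat_lit 3975), (nat_lit 5276)])) (.leaf .df))) (.node (.node (.leaf (.cyc (nat_lit 6) [(nat_lit 132), (nat_lit 55), (nat_lit 53), (nat_lit 128), (nat_lit 302)])) (.leaf .df)) (.node (.leaf (.cyc (nat_lit 50) [(nat_lit 2043), (nat_lit 1265), (nat_lit 3855), (nat_lit 1265), (nat_lit 2043)])) (.leaf .df))))) (.node (.node (.node (.node (.leaf .df) (.leaf (.cyc (nat_lit 24) [(nat_lit 2470), (nat_lit 6778), (nat_lit 4774), (nat_lit 6778), (nat_lit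 2470)]))) (.node (.leaf (.cyc (nat_lit 97) [(nat_lit 4764), (nat_lit 1030), (nat_lit 538), (nat_lit 3162), (nat_lit 3166), (nat_lit 255), (nat_lit 546), (nat_lit 4365), (nat_lit 588), (nat_lit 3726), (nat_lit 1105)])) (.leaf .df))) (.node (.node (.leaf .df) (.leaf .df)) (.node (.leaf (.cyc (nat_lit 46) [(nat_lit 5646), (nat_lit 4810), (nat_lit 1885)])) (.leaf .df)))) (.node (.node (.node (.leaf .df) (.leaf (.cyc (nat_lit 50) [(nat_lit 2722), (nat_lit 9292), (nat_lit 8091), (nat_lit 9292), (nat_lit 2722)]))) (.node (.leaf (.cyc (nat_lit 25) [(nat_lit 4999), (nat_lit 4998), (nat_lit 976), (nat_lit 4160), (nat_lit 1533)])) (.leaf .df))) (.node (.node (.leaf (.cyc (nat_lit 0) [(nat_lit 597), (nat_lit 598), (nat_lit 3740), (nat_lit 598), (nat_lit 597)])) (.leaf .df)) (.node (.leaf (.cyc (nat_lit 41) [(nat_lit 6612), (nat_lit 6182), (nat_lit 2195)])) (.leaf .df)))))) (.node (.node (.node (.node (.node (.leaf .df) (.leaf (.cyc (nat_lit 21) [(nat_lit 2245), (nat_lit 7335), (nat_lit 8600),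 (nat_lit 8599), (nat_lit 2403)]))) (.node (.leaf (.cyc (nat_lit 25) [(nat_lit 985), (nat_lit 4484), (nat_lit 4487), (nat_lit 4484), (nat_lit 985)])) (.leaf .df))) (.node (.node (.leaf .df) (.leaf .df)) (.node (.leaf (.cyc (nat_lit 45) [(nat_lit 1792), (nat_lit 4839), (nat_lit 4852), (nat_lit 4839), (nat_lit 1792)])) (.leaf .df)))) (.node (.node (.node (.leaf .df) (.leaf (.cyc (nat_lit 20) [(nat_lit 2664), (nat_lit 8500), (nat_lit 2664)]))) (.node (.leaf (.cyc (nat_lit 15) [(nat_lit 778), (nat_lit 777), (nat_lit 1449)])) (.leaf .df))) (.node (.node (.leaf (.cyc (nat_lit 95) [(nat_lit 3484), (nat_lit 275), (nat_lit 116), (nat_lit 48), (nat_lit 2774), (nat_lit 2775), (nat_lit 64), (nat_lit 157), (nat_lit 2969), (nat_lit 2913), (nat_lit 246)])) (.leaf .df)) (.node (.leaf (.cyc (nat_lit 37) [(nat_lit 2122), (nat_lit 5314), (nat_lit 3908), (nat_lit 5314), (nat_lit 2122)])) (.leaf .df))))) (.node (.node (.node (.node (.leaf .df) (.leaf (.cyc (nat_lit 46) [(nat_lit 2535), (nat_lit 7321),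 (nat_lit 2535)]))) (.node (.leaf (.cyc (nat_lit 21) [(nat_lit 1226), (nat_lit 3895), (nat_lit 3896), (nat_lit 3895), (nat_lit 1226)])) (.leaf .df))) (.node (.node (.leaf (.cyc (nat_lit 15) [(nat_lit 162), (nat_lit 2868), (nat_lit 162)])) (.leaf .df)) (.node (.leaf (.cyc (nat_lit 26) [(nat_lit 1790), (nat_lit 4599), (nat_lit 4357), (nat_lit 4952), (nat_lit 1965)])) (.leaf .df)))) (.node (.node (.node (.leaf .df) (.leaf .df)) (.node (.leaf (.cyc (nat_lit 24) [(nat_lit 4973), (nat_lit 4984), (nat_lit 892), (nat_lit 890), (nat_lit 1618)])) (.leaf .df))) (.node (.node (.leaf (.cyc (nat_lit 27) [(nat_lit 766), (nat_lit 3312), (nat_lit 766)])) (.leaf .df)) (.node (.leaf (.cyc (nat_lit 92) [(nat_lit 2269), (nat_lit 5799), (nat_lit 1097), (nat_lit 3718), (nat_lit 4676), (nat_lit 898), (nat_lit 3477), (nat_lit 4294), (nat_lit 4520), (nat_lit 6213), (nat_lit 6509)])) (.leaf .df))))))))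
noncomputable def u5P1011101 : BT Pf := (.node (.node (.node (.node (.node (.node (.node (.leaf .df) (.leaf (.cyc (nat_lit 102) [(nat_lit 2320), (nat_lit 2321), (nat_lit 8284), (nat_lit 2321), (nat_lit 2320)]))) (.node (.leaf (.cyc (nat_lit 60) [(nat_lit 844), (nat_lit 845), (nat_lit 4188), (nat_lit 845), (nat_lit 844)])) (.leaf .df))) (.node (.node (.leaf .df) (.leaf .df)) (.node (.leaf (.cyc (nat_lit 110) [(nat_lit 6236), (nat_lit 1687), (nat_lit 1686)])) (.leaf .df)))) (.node (.node (.node (.leaf .df) (.leaf (.cyc (nat_lit 20) [(nat_lit 2145), (nat_lit 7639), (nat_lit 2584)]))) (.node (.leaf (.cyc (nat_lit 35) [(nat_lit 988), (nat_lit 515), (nat_lit 3252), (nat_lit 693), (nat_lit 1307)])) (.leaf .df))) (.node (.node (.leaf (.cyc (nat_lit 73) [(nat_lit 252), (nat_lit 3164)])) (.leaf .df)) (.node (.leaf (.cyc (nat_lit 23) [(nat_lit 6991), (nat_lit 7101), (nat_lit 2023)])) (.leaf .df))))) (.node (.node (.node (.node (.leaf .df) (.leaf (.cyc (nat_lit 30) [(nat_lit 2452), (nat_lit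 1845), (nat_lit 4726), (nat_lit 1845), (nat_lit 2452)]))) (.node (.leaf (.cyc (nat_lit 31) [(nat_lit 1068), (nat_lit 563), (nat_lit 3681), (nat_lit 563), (nat_lit 1068)])) (.leaf .df))) (.node (.node (.leaf .df) (.leaf .df)) (.node (.leaf (.cyc (nat_lit 15) [(nat_lit 5213), (nat_lit 4763), (nat_lit 1862)])) (.leaf .df)))) (.node (.node (.node (.leaf .df) (.leaf (.cyc (nat_lit 19) [(nat_lit 2709), (nat_lit 9125), (nat_lit 7326), (nat_lit 9125), (nat_lit 2709)]))) (.node (.leaf (.cyc (nat_lit 31) [(nat_lit 1517), (nat_lit 4172), (nat_lit 4173), (nat_lit 4172), (nat_lit 1517)])) (.leaf .df))) (.node (.node (.leaf (.cyc (nat_lit 73) [(nat_lit 432), (nat_lit 3669)])) (.leaf .df)) (.node (.leaf (.cyc (nat_lit 56) [(nat_lit 2175), (nat_lit 5458), (nat_lit 3965), (nat_lit 5458), (nat_lit 2175)])) (.leaf .df)))))) (.node (.node (.node (.node (.node (.leaf .df) (.leaf (.cyc (nat_lit 25) [(nat_lit 7269), (nat_lit 5640), (nat_lit 1860), (nat_lit 6744), (nat_lit 2385)]))) (.node (.leaf (.cyc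 (nat_lit 18) [(nat_lit 955), (nat_lit 490), (nat_lit 491), (nat_lit 958), (nat_lit 4443)])) (.leaf .df))) (.node (.node (.leaf .df) (.leaf .df)) (.node (.leaf (.cyc (nat_lit 112) [(nat_lit 6289), (nat_lit 6492)])) (.leaf .df)))) (.node (.node (.node (.leaf .df) (.leaf (.cyc (nat_lit 62) [(nat_lit 2649), (nat_lit 2316), (nat_lit 6083), (nat_lit 2316), (nat_lit 2649)]))) (.node (.leaf (.cyc (nat_lit 28) [(nat_lit 1416), (nat_lit 4776), (nat_lit 4775), (nat_lit 4776), (nat_lit 1416)])) (.leaf .df))) (.node (.node (.leaf (.cyc (nat_lit 111) [(nat_lit 378), (nat_lit 3327), (nat_lit 3420), (nat_lit 3327), (nat_lit 378)])) (.leaf .df)) (.node (.leaf (.cyc (nat_lit 47) [(nat_lit 6165), (nat_lit 1743), (nat_lit 7499), (nat_lit 7496), (nat_lit 2104)])) (.leaf .df))))) (.node (.node (.node (.node (.leaf .df) (.leaf (.cyc (nat_lit 30) [(nat_lit 2518), (nat_lit 8651), (nat_lit 8657), (nat_lit 8651), (nat_lit 2518)]))) (.node (.leaf (.cyc (nat_lit 87) [(nat_lit 1091), (nat_lit 3786), (nat_lit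 3714), (nat_lit 579), (nat_lit 4812), (nat_lit 4705), (nat_lit 4781), (nat_lit 591), (nat_lit 3222), (nat_lit 630), (nat_lit 1191)])) (.leaf .df))) (.node (.node (.leaf (.cyc (nat_lit 54) [(nat_lit 101), (nat_lit 2836), (nat_lit 2835), (nat_lit 26), (nat_lit 25), (nat_lit 2783), (nat_lit 25), (nat_lit 26), (nat_lit 2835), (nat_lit 2836), (nat_lit 101)])) (.leaf .df)) (.node (.leaf (.cyc (nat_lit 62) [(nat_lit 1944), (nat_lit 5385), (nat_lit 5388), (nat_lit 5385), (nat_lit 1944)])) (.leaf .df)))) (.node (.node (.node (.leaf .df) (.leaf .df)) (.node (.leaf (.cyc (nat_lit 25) [(nat_lit 1486), (nat_lit 5607), (nat_lit 5965), (nat_lit 5961), (nat_lit 1597)])) (.leaf .df))) (.node (.node (.leaf (.cyc (nat_lit 37) [(nat_lit 734), (nat_lit 3921), (nat_lit 3922), (nat_lit 3921), (nat_lit 734)])) (.leaf .df)) (.node (.leaf (.cyc (nat_lit 41) [(nat_lit 2249), (nat_lit 5686), (nat_lit 2249)])) (.leaf .df))))))) (.node (.node (.node (.node (.node (.node (.leaf .df) (.leaf (.cyc (nat_lit 62)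 [(nat_lit 1677), (nat_lit 932), (nat_lit 931), (nat_lit 1675), (nat_lit 2351)]))) (.node (.leaf (.cyc (nat_lit 6) [(nat_lit 460), (nat_lit 206), (nat_lit 205), (nat_lit 458), (nat_lit 910)])) (.leaf .df))) (.node (.node (.leaf .df) (.leaf .df)) (.node (.leaf (.cyc (nat_lit 102) [(nat_lit 5354), (nat_lit 1397), (nat_lit 6360), (nat_lit 1397), (nat_lit 5354)])) (.leaf .df)))) (.node (.node (.node (.leaf .df) (.leaf (.cyc (nat_lit 47) [(nat_lit 2620), (nat_lit 8025), (nat_lit 6438), (nat_lit 8025), (nat_lit 2620)]))) (.node (.leaf (.cyc (nat_lit 35) [(nat_lit 1154), (nat_lit 613), (nat_lit 3269), (nat_lit 721), (nat_lit 1354)])) (.leaf .df))) (.node (.node (.leaf (.cyc (nat_lit 104) [(nat_lit 343), (nat_lit 344), (nat_lit 3278), (nat_lit 344), (nat_lit 343)])) (.leaf .df)) (.node (.leaf (.cyc (nat_lit 50) [(nat_lit 1701), (nat_lit 949), (nat_lit 3872), (nat_lit 1282), (nat_lit 2067)])) (.leaf .df))))) (.node (.node (.node (.node (.leaf .df) (.leaf (.cyc (nat_lit 18) [(nat_lit 8225),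 (nat_lit 7500), (nat_lit 1899), (nat_lit 6834), (nat_lit 2486)]))) (.node (.leaf (.cyc (nat_lit 30) [(nat_lit 4012), (nat_lit 4108), (nat_lit 595), (nat_lit 594), (nat_lit 1129)])) (.leaf .df))) (.node (.node (.leaf (.pin (nat_lit 32) [(nat_lit 6), (nat_lit 23)] [(nat_lit 23), (nat_lit 6)])) (.leaf .df)) (.node (.leaf (.cyc (nat_lit 15) [(nat_lit 1138), (nat_lit 1137), (nat_lit 1907)])) (.leaf .df)))) (.node (.node (.node (.leaf .df) (.leaf (.cyc (nat_lit 15) [(nat_lit 2736), (nat_lit 9493), (nat_lit 2736)]))) (.node (.leaf (.cyc (nat_lit 35) [(nat_lit 5000), (nat_lit 4998), (nat_lit 4479), (nat_lit 4177), (nat_lit 1553)])) (.leaf .df))) (.node (.node (.leaf (.cyc (nat_lit 49) [(nat_lit 3789), (nat_lit 3790), (nat_lit 638)])) (.leaf .df)) (.node (.leaf (.cyc (nat_lit 46) [(nat_lit 2211), (nat_lit 5536), (nat_lit 2211)])) (.leaf .df)))))) (.node (.node (.node (.node (.node (.leaf .df) (.leaf (.cyc (nat_lit 53) [(nat_lit 6842), (nat_lit 6843), (nat_lit 4831), (nat_lit 1794), (nat_lit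 2418)]))) (.node (.leaf (.cyc (nat_lit 62) [(nat_lit 595), (nat_lit 3484), (nat_lit 3485), (nat_lit 530), (nat_lit 1020)])) (.leaf .df))) (.node (.node (.leaf .df) (.leaf .df)) (.node (.leaf (.cyc (nat_lit 48) [(nat_lit 1813), (nat_lit 4680), (nat_lit 1813)])) (.leaf .df)))) (.node (.node (.node (.leaf .df) (.leaf (.cyc (nat_lit 41) [(nat_lit 2679), (nat_lit 8797), (nat_lit 2679)]))) (.node (.leaf (.cyc (nat_lit 48) [(nat_lit 1476), (nat_lit 4104), (nat_lit 1476)])) (.leaf .df))) (.node (.node (.leaf (.cyc (nat_lit 40) [(nat_lit 3546), (nat_lit 3121), (nat_lit 3546)])) (.leaf .df)) (.node (.leaf (.cyc (nat_lit 17) [(nat_lit 7642), (nat_lit 5385), (nat_lit 4915), (nat_lit 4601), (nat_lit 4764), (nat_lit 5121), (nat_lit 7329), (nat_lit 7641), (nat_lit 7640), (nat_lit 2140), (nat_lit 2141)])) (.leaf .df))))) (.node (.node (.node (.node (.leaf .df) (.leaf (.cyc (nat_lit 24) [(nat_lit 2552), (nat_lit 8856), (nat_lit 9078), (nat_lit 8856), (nat_lit 2552)]))) (.node (.leaf (.cyc (nat_lit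 34) [(nat_lit 1248), (nat_lit 3993), (nat_lit 3992), (nat_lit 3993), (nat_lit 1248)])) (.leaf .df))) (.node (.node (.leaf (.cyc (nat_lit 79) [(nat_lit 3019), (nat_lit 102), (nat_lit 43), (nat_lit 2773), (nat_lit 2770), (nat_lit 26), (nat_lit 2784), (nat_lit 76), (nat_lit 3035), (nat_lit 3036), (nat_lit 184)])) (.leaf .df)) (.node (.leaf (.cyc (nat_lit 53) [(nat_lit 7120), (nat_lit 1979), (nat_lit 1196), (nat_lit 1197), (nat_lit 1980)])) (.leaf .df)))) (.node (.node (.node (.leaf .df) (.leaf .df)) (.node (.leaf (.cyc (nat_lit 21) [(nat_lit 1639), (nat_lit 5077), (nat_lit 5080), (nat_lit 5077), (nat_lit 1639)])) (.leaf .df))) (.node (.node (.leaf (.cyc (nat_lit 74) [(nat_lit 3380), (nat_lit 4051)])) (.leaf .df)) (.node (.leaf (.cyc (nat_lit 26) [(nat_lit 1908), (nat_lit 5623), (nat_lit 5056), (nat_lit 5882), (nat_lit 2286)])) (.leaf .df))))))))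
noncomputable def u5P101110 : BT Pf := .node u5P1011100 u5P1011101
noncomputable def u5P1011110 : BT Pf := (.node (.node (.node (.node (.node (.node (.node (.leaf .df) (.leaf (.cyc (nat_lit 41) [(nat_lit 7129), (nat_lit 7197), (nat_lit 2313)]))) (.node (.leaf (.cyc (nat_lit 48) [(nat_lit 825), (nat_lit 3378), (nat_lit 825)])) (.leaf .df))) (.node (.node (.leaf .df) (.leaf .df)) (.node (.leaf (.cyc (nat_lit 18) [(nat_lit 5720), (nat_lit 4427), (nat_lit 4387), (nat_lit 933), (nat_lit 1678)])) (.leaf .df)))) (.node (.node (.node (.leaf .df) (.leaf (.cyc (nat_lit 76) [(nat_lit 9274), (nat_lit 9272), (nat_lit 7567), (nat_lit 7059), (nat_lit 2471)]))) (.node (.leaf (.cyc (nat_lit 58) [(nat_lit 1299), (nat_lit 688), (nat_lit 3297), (nat_lit 742), (nat_lit 3945), (nat_lit 3944), (nat_lit 3945), (nat_lit 742), (nat_lit 3297), (nat_lit 688), (nat_lit 1299)])) (.leaf .df))) (.node (.node (.leaf (.cyc (nat_lit 19) [(nat_lit 233), (nat_lit 96), (nat_lit 2828), (nat_lit 96), (nat_lit 233)]))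 (.leaf .df)) (.node (.leaf (.cyc (nat_lit 47) [(nat_lit 2013), (nat_lit 5803), (nat_lit 5805), (nat_lit 5803), (nat_lit 2013)])) (.leaf .df))))) (.node (.node (.node (.node (.leaf .df) (.leaf (.cyc (nat_lit 19) [(nat_lit 2443), (nat_lit 1833), (nat_lit 4713), (nat_lit 1833), (nat_lit 2443)]))) (.node (.leaf (.cyc (nat_lit 53) [(nat_lit 559), (nat_lit 261), (nat_lit 260), (nat_lit 556), (nat_lit 1055)])) (.leaf .df))) (.node (.node (.leaf .df) (.leaf .df)) (.node (.leaf (.cyc (nat_lit 72) [(nat_lit 1749), (nat_lit 6716)])) (.leaf .df)))) (.node (.node (.node (.leaf .df) (.leaf (.cyc (nat_lit 30) [(nat_lit 2700), (nat_lit 9059), (nat_lit 9061), (nat_lit 9059), (nat_lit 2700)]))) (.node (.leaf (.cyc (nat_lit 104) [(nat_lit 1502), (nat_lit 1503), (nat_lit 5692), (nat_lit 1503), (nat_lit 1502)])) (.leaf .df))) (.node (.node (.leaf (.cyc (nat_lit 7) [(nat_lit 3644), (nat_lit 307), (nat_lit 310)])) (.leaf .df)) (.node (.leaf (.cyc (nat_lit 49) [(nat_lit 5537), (nat_lit 6488), (nat_lit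 2167)])) (.leaf .df)))))) (.node (.node (.node (.node (.node (.leaf .df) (.leaf (.cyc (nat_lit 53) [(nat_lit 8485), (nat_lit 7568), (nat_lit 1729), (nat_lit 1730), (nat_lit 2376)]))) (.node (.leaf (.cyc (nat_lit 49) [(nat_lit 509), (nat_lit 3541), (nat_lit 944)])) (.leaf .df))) (.node (.node (.leaf .df) (.leaf .df)) (.node (.leaf (.cyc (nat_lit 28) [(nat_lit 1019), (nat_lit 530), (nat_lit 529), (nat_lit 5768), (nat_lit 1767)])) (.leaf .df)))) (.node (.node (.node (.leaf .df) (.leaf (.cyc (nat_lit 53) [(nat_lit 2642), (nat_lit 2296), (nat_lit 5947), (nat_lit 2296), (nat_lit 2642)]))) (.node (.leaf (.cyc (nat_lit 15) [(nat_lit 748), (nat_lit 3947), (nat_lit 1405)])) (.leaf .df))) (.node (.node (.leaf (.cyc (nat_lit 41) [(nat_lit 421), (nat_lit 3032), (nat_lit 421)])) (.leaf .df)) (.node (.leaf (.cyc (nat_lit 37) [(nat_lit 2099), (nat_lit 1318), (nat_lit 3896), (nat_lit 1318), (nat_lit 2099)])) (.leaf .df))))) (.node (.node (.node (.node (.leaf .df) (.leaf (.cyc (nat_lit 83) [(nat_lit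 8717), (nat_lit 6635), (nat_lit 6802), (nat_lit 8910), (nat_lit 8911), (nat_lit 2483), (nat_lit 2482), (nat_lit 8914), (nat_lit 8906), (nat_lit 2510), (nat_lit 9020)]))) (.node (.leaf (.cyc (nat_lit 52) [(nat_lit 1171), (nat_lit 1172), (nat_lit 4924), (nat_lit 1172), (nat_lit 1171)])) (.leaf .df))) (.node (.node (.leaf (.cyc (nat_lit 49) [(nat_lit 39), (nat_lit 27), (nat_lit 77)])) (.leaf .df)) (.node (.leaf (.cyc (nat_lit 50) [(nat_lit 1936), (nat_lit 6959), (nat_lit 6957), (nat_lit 6959), (nat_lit 1936)])) (.leaf .df)))) (.node (.node (.node (.leaf .df) (.leaf .df)) (.node (.leaf (.cyc (nat_lit 37) [(nat_lit 1587), (nat_lit 4352), (nat_lit 4291), (nat_lit 4352), (nat_lit 1587)])) (.leaf .df))) (.node (.node (.leaf (.cyc (nat_lit 27) [(nat_lit 334), (nat_lit 333), (nat_lit 710)])) (.leaf .df)) (.node (.leaf (.cyc (nat_lit 48) [(nat_lit 1701), (nat_lit 5613), (nat_lit 2238)])) (.leaf .df))))))) (.node (.node (.node (.node (.node (.node (.leaf .df) (.leaf (.cyc (nat_lit 24) [(nat_lit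 7363), (nat_lit 7164), (nat_lit 1747), (nat_lit 6167), (nat_lit 2344)]))) (.node (.leaf (.cyc (nat_lit 50) [(nat_lit 894), (nat_lit 453), (nat_lit 3078), (nat_lit 453), (nat_lit 894)])) (.leaf .df))) (.node (.node (.leaf .df) (.leaf .df)) (.node (.leaf (.cyc (nat_lit 31) [(nat_lit 1201), (nat_lit 637), (nat_lit 3554), (nat_lit 966), (nat_lit 1722)])) (.leaf .df)))) (.node (.node (.node (.leaf .df) (.leaf (.cyc (nat_lit 37) [(nat_lit 2612), (nat_lit 8488), (nat_lit 8489), (nat_lit 8488), (nat_lit 2612)]))) (.node (.leaf (.cyc (nat_lit 20) [(nat_lit 714), (nat_lit 713), (nat_lit 1343)])) (.leaf .df))) (.node (.node (.leaf (.cyc (nat_lit 98) [(nat_lit 300), (nat_lit 299), (nat_lit 3260), (nat_lit 299), (nat_lit 300)])) (.leaf .df)) (.node (.leaf (.cyc (nat_lit 59) [(nat_lit 7356), (nat_lit 1995), (nat_lit 4991), (nat_lit 1800), (nat_lit 6579)])) (.leaf .df))))) (.node (.node (.node (.node (.leaf .df) (.leaf (.cyc (nat_lit 27) [(nat_lit 1877), (nat_lit 1876), (nat_lit 2478)]))) (.node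 (.leaf (.cyc (nat_lit 20) [(nat_lit 589), (nat_lit 586), (nat_lit 1114)])) (.leaf .df))) (.node (.node (.leaf (.pin (nat_lit 0) [] [])) (.leaf .df)) (.node (.leaf (.cyc (nat_lit 121) [(nat_lit 6795), (nat_lit 6844), (nat_lit 6616), (nat_lit 1125), (nat_lit 1124), (nat_lit 1891)])) (.leaf .df)))) (.node (.node (.node (.leaf .df) (.leaf (.cyc (nat_lit 28) [(nat_lit 2729), (nat_lit 9557), (nat_lit 9556), (nat_lit 9557), (nat_lit 2729)]))) (.node (.leaf (.cyc (nat_lit 56) [(nat_lit 5810), (nat_lit 1539), (nat_lit 4166), (nat_lit 833), (nat_lit 1543)])) (.leaf .df))) (.node (.node (.leaf (.cyc (nat_lit 35) [(nat_lit 584), (nat_lit 3191), (nat_lit 2935), (nat_lit 3219), (nat_lit 621)])) (.leaf .df)) (.node (.leaf (.cyc (nat_lit 20) [(nat_lit 2064), (nat_lit 5512), (nat_lit 2203)])) (.leaf .df)))))) (.node (.node (.node (.node (.node (.leaf .df) (.leaf (.cyc (nat_lit 62) [(nat_lit 2410), (nat_lit 1778), (nat_lit 4582), (nat_lit 1778), (nat_lit 2410)]))) (.node (.leaf (.cyc (nat_lit 15)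 [(nat_lit 1006), (nat_lit 3610), (nat_lit 1006)])) (.leaf .df))) (.node (.node (.leaf .df) (.leaf .df)) (.node (.leaf (.cyc (nat_lit 153) [(nat_lit 1780), (nat_lit 4699), (nat_lit 5857), (nat_lit 1555), (nat_lit 4648), (nat_lit 1802), (nat_lit 6587), (nat_lit 4839), (nat_lit 1792), (nat_lit 6557), (nat_lit 6556)])) (.leaf .df)))) (.node (.node (.node (.leaf .df) (.leaf (.cyc (nat_lit 23) [(nat_lit 9653), (nat_lit 2670), (nat_lit 2672)]))) (.node (.leaf (.cyc (nat_lit 26) [(nat_lit 1462), (nat_lit 4030), (nat_lit 3850), (nat_lit 4030), (nat_lit 1462)])) (.leaf .df))) (.node (.node (.leaf (.cyc (nat_lit 41) [(nat_lit 226), (nat_lit 3098), (nat_lit 474)])) (.leaf .df)) (.node (.leaf (.cyc (nat_lit 26) [(nat_lit 2130), (nat_lit 7601), (nat_lit 7602), (nat_lit 7601), (nat_lit 2130)])) (.leaf .df))))) (.node (.node (.node (.node (.leaf .df) (.leaf (.cyc (nat_lit 31) [(nat_lit 2447), (nat_lit 1839), (nat_lit 6372), (nat_lit 7354), (nat_lit 2544)]))) (.node (.leaf (.cyc (nat_lit 20) [(nat_lit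 1239), (nat_lit 3842), (nat_lit 1239)])) (.leaf .df))) (.node (.node (.leaf (.cyc (nat_lit 34) [(nat_lit 167), (nat_lit 66), (nat_lit 2799), (nat_lit 66), (nat_lit 167)])) (.leaf .df)) (.node (.leaf (.cyc (nat_lit 21) [(nat_lit 1252), (nat_lit 4612), (nat_lit 4952), (nat_lit 1964), (nat_lit 7100)])) (.leaf .df)))) (.node (.node (.node (.leaf .df) (.leaf .df)) (.node (.leaf (.cyc (nat_lit 28) [(nat_lit 1628), (nat_lit 4297), (nat_lit 3963), (nat_lit 4297), (nat_lit 1628)])) (.leaf .df))) (.node (.node (.leaf (.cyc (nat_lit 27) [(nat_lit 785), (nat_lit 3342), (nat_lit 785)])) (.leaf .df)) (.node (.leaf (.cyc (nat_lit 50) [(nat_lit 2278), (nat_lit 5833), (nat_lit 4174), (nat_lit 5833), (nat_lit 2278)])) (.leaf .df))))))))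
noncomputable def u5P1011111 : BT Pf := (.node (.node (.node (.node (.node (.node (.node (.leaf .df) (.leaf (.cyc (nat_lit 30) [(nat_lit 2329), (nat_lit 1643), (nat_lit 4311), (nat_lit 1643), (nat_lit 2329)]))) (.node (.leaf (.cyc (nat_lit 65) [(nat_lit 3883), (nat_lit 326), (nat_lit 136), (nat_lit 2861), (nat_lit 2883), (nat_lit 81), (nat_lit 82), (nat_lit 208), (nat_lit 3088), (nat_lit 436), (nat_lit 864), (nat_lit 4220)])) (.leaf .df))) (.node (.node (.leaf .df) (.leaf .df)) (.node (.leaf (.cyc (nat_lit 107) [(nat_lit 6268), (nat_lit 6033), (nat_lit 4522), (nat_lit 6062), (nat_lit 1624), (nat_lit 4284), (nat_lit 1624), (nat_lit 6062), (nat_lit 4522), (nat_lit 6033), (nat_lit 6268)])) (.leaf .df)))) (.node (.node (.node (.leaf .df) (.leaf (.cyc (nat_lit 30) [(nat_lit 2595), (nat_lit 2166), (nat_lit 5432), (nat_lit 2166), (nat_lit 2595)]))) (.node (.leaf (.cyc (nat_lit 96) [(nat_lit 5244), (nat_lit 4612), (nat_lit 664), (nat_lit 663), (nat_lit 1249)])) (.leaf .df))) (.node (.node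 (.leaf (.cyc (nat_lit 63) [(nat_lit 222), (nat_lit 90), (nat_lit 2847), (nat_lit 119), (nat_lit 280)])) (.leaf .df)) (.node (.leaf (.cyc (nat_lit 46) [(nat_lit 2013), (nat_lit 5102), (nat_lit 2031)])) (.leaf .df))))) (.node (.node (.node (.node (.leaf .df) (.leaf (.cyc (nat_lit 49) [(nat_lit 7584), (nat_lit 6753), (nat_lit 2462)]))) (.node (.leaf (.cyc (nat_lit 25) [(nat_lit 1088), (nat_lit 3892), (nat_lit 4282), (nat_lit 3892), (nat_lit 1088)])) (.leaf .df))) (.node (.node (.leaf .df) (.leaf .df)) (.node (.leaf (.cyc (nat_lit 25) [(nat_lit 1873), (nat_lit 4918), (nat_lit 4925), (nat_lit 4918), (nat_lit 1873)])) (.leaf .df)))) (.node (.node (.node (.leaf .df) (.leaf (.cyc (nat_lit 46) [(nat_lit 2655), (nat_lit 9175), (nat_lit 2716)]))) (.node (.leaf (.cyc (nat_lit 93) [(nat_lit 1527), (nat_lit 822), (nat_lit 404), (nat_lit 3013), (nat_lit 3017), (nat_lit 3012), (nat_lit 3017), (nat_lit 3013), (nat_lit 404), (nat_lit 822), (nat_lit 1527)])) (.leaf .df))) (.node (.node (.leaf (.cyc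 (nat_lit 90) [(nat_lit 569), (nat_lit 568), (nat_lit 3708), (nat_lit 568), (nat_lit 569)])) (.leaf .df)) (.node (.leaf (.cyc (nat_lit 6) [(nat_lit 5534), (nat_lit 1454), (nat_lit 6628), (nat_lit 6627), (nat_lit 2186)])) (.leaf .df)))))) (.node (.node (.node (.node (.node (.leaf .df) (.leaf (.cyc (nat_lit 30) [(nat_lit 2394), (nat_lit 8231), (nat_lit 8232), (nat_lit 8231), (nat_lit 2394)]))) (.node (.leaf (.cyc (nat_lit 46) [(nat_lit 975), (nat_lit 3572), (nat_lit 975)])) (.leaf .df))) (.node (.node (.leaf .df) (.leaf .df)) (.node (.leaf (.cyc (nat_lit 95) [(nat_lit 6524), (nat_lit 1753), (nat_lit 992), (nat_lit 4511), (nat_lit 5201), (nat_lit 5198), (nat_lit 1702), (nat_lit 6283), (nat_lit 6284), (nat_lit 5418), (nat_lit 1396)])) (.leaf .df)))) (.node (.node (.node (.leaf .df) (.leaf (.cyc (nat_lit 41) [(nat_lit 2657), (nat_lit 8412), (nat_lit 2657)]))) (.node (.leaf (.cyc (nat_lit 35) [(nat_lit 1429), (nat_lit 5404), (nat_lit 5407), (nat_lit 5404), (nat_lit 1429)])) (.leaf .df)))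 (.node (.node (.leaf (.cyc (nat_lit 43) [(nat_lit 347), (nat_lit 2965), (nat_lit 3437), (nat_lit 2965), (nat_lit 347)])) (.leaf .df)) (.node (.leaf (.cyc (nat_lit 15) [(nat_lit 2115), (nat_lit 5292), (nat_lit 2115)])) (.leaf .df))))) (.node (.node (.node (.node (.leaf .df) (.leaf (.cyc (nat_lit 16) [(nat_lit 2527), (nat_lit 7246), (nat_lit 5705), (nat_lit 7246), (nat_lit 2527)]))) (.node (.leaf (.cyc (nat_lit 46) [(nat_lit 1158), (nat_lit 3817), (nat_lit 1211)])) (.leaf .df))) (.node (.node (.leaf (.cyc (nat_lit 56) [(nat_lit 127), (nat_lit 2855), (nat_lit 2851), (nat_lit 2855), (nat_lit 127)])) (.leaf .df)) (.node (.leaf (.cyc (nat_lit 41) [(nat_lit 1953), (nat_lit 4938), (nat_lit 1953)])) (.leaf .df)))) (.node (.node (.node (.leaf .df) (.leaf .df)) (.node (.leaf (.cyc (nat_lit 27) [(nat_lit 1608), (nat_lit 4263), (nat_lit 1608)])) (.leaf .df))) (.node (.node (.leaf (.cyc (nat_lit 21) [(nat_lit 753), (nat_lit 354), (nat_lit 2961), (nat_lit 354), (nat_lit 753)])) (.leaf .df))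 (.node (.leaf (.cyc (nat_lit 82) [(nat_lit 2259), (nat_lit 6206), (nat_lit 6208), (nat_lit 6176), (nat_lit 5838), (nat_lit 806), (nat_lit 4130), (nat_lit 5675), (nat_lit 5677), (nat_lit 5731), (nat_lit 8059)])) (.leaf .df))))))) (.node (.node (.node (.node (.node (.node (.leaf .df) (.leaf (.cyc (nat_lit 25) [(nat_lit 2359), (nat_lit 6236), (nat_lit 6132), (nat_lit 6236), (nat_lit 2359)]))) (.node (.leaf (.cyc (nat_lit 70) [(nat_lit 634), (nat_lit 294), (nat_lit 2939), (nat_lit 2938), (nat_lit 2859), (nat_lit 2814), (nat_lit 83), (nat_lit 212), (nat_lit 472), (nat_lit 925), (nat_lit 4348)])) (.leaf .df))) (.node (.node (.leaf .df) (.leaf .df)) (.node (.leaf (.cyc (nat_lit 35) [(nat_lit 1743), (nat_lit 6258), (nat_lit 6259), (nat_lit 6258), (nat_lit 1743)])) (.leaf .df)))) (.node (.node (.node (.leaf .df) (.leaf (.cyc (nat_lit 69) [(nat_lit 2601), (nat_lit 8870), (nat_lit 8868), (nat_lit 8866), (nat_lit 2261), (nat_lit 1520), (nat_lit 4149), (nat_lit 5726), (nat_lit 2260), (nat_lit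 2627), (nat_lit 9467)]))) (.node (.leaf (.cyc (nat_lit 11) [(nat_lit 5371), (nat_lit 892), (nat_lit 3472), (nat_lit 892), (nat_lit 5371)])) (.leaf .df))) (.node (.node (.leaf (.cyc (nat_lit 21) [(nat_lit 375), (nat_lit 155), (nat_lit 2866), (nat_lit 155), (nat_lit 375)])) (.leaf .df)) (.node (.leaf (.cyc (nat_lit 49) [(nat_lit 7408), (nat_lit 7409), (nat_lit 2079)])) (.leaf .df))))) (.node (.node (.node (.node (.leaf .df) (.leaf (.cyc (nat_lit 42) [(nat_lit 6973), (nat_lit 6972), (nat_lit 8950), (nat_lit 8953), (nat_lit 2492), (nat_lit 2491), (nat_lit 8949), (nat_lit 8946), (nat_lit 7159), (nat_lit 6905), (nat_lit 2493)]))) (.node (.leaf (.cyc (nat_lit 27) [(nat_lit 606), (nat_lit 605), (nat_lit 1145)])) (.leaf .df))) (.node (.node (.leaf (.cyc (nat_lit 21) [(nat_lit 30), (nat_lit 2755), (nat_lit 2764), (nat_lit 2755), (nat_lit 30)])) (.leaf .df)) (.node (.leaf (.cyc (nat_lit 107) [(nat_lit 6908), (nat_lit 6906), (nat_lit 1458), (nat_lit 783), (nat_lit 3420), (nat_lit 3327), (nat_lit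 378), (nat_lit 3536), (nat_lit 3537), (nat_lit 944), (nat_lit 1696)])) (.leaf .df)))) (.node (.node (.node (.leaf .df) (.leaf (.cyc (nat_lit 16) [(nat_lit 2742), (nat_lit 9855), (nat_lit 9852), (nat_lit 9855), (nat_lit 2742)]))) (.node (.leaf (.cyc (nat_lit 63) [(nat_lit 1568), (nat_lit 853), (nat_lit 3401), (nat_lit 853), (nat_lit 1568)])) (.leaf .df))) (.node (.node (.leaf (.cyc (nat_lit 42) [(nat_lit 656), (nat_lit 3236), (nat_lit 204), (nat_lit 2883), (nat_lit 145), (nat_lit 2957), (nat_lit 145), (nat_lit 2883), (nat_lit 204), (nat_lit 3236), (nat_lit 656)])) (.leaf .df)) (.node (.leaf (.cyc (nat_lit 21) [(nat_lit 2219), (nat_lit 5568), (nat_lit 4288), (nat_lit 5568), (nat_lit 2219)])) (.leaf .df)))))) (.node (.node (.node (.node (.node (.leaf .df) (.leaf (.cyc (nat_lit 50) [(nat_lit 2425), (nat_lit 7539), (nat_lit 7538), (nat_lit 7539), (nat_lit 2425)]))) (.node (.leaf (.cyc (nat_lit 18) [(nat_lit 800), (nat_lit 3977), (nat_lit 650), (nat_lit 3633), (nat_lit 1033)])) (.leaf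 .df))) (.node (.node (.leaf .df) (.leaf .df)) (.node (.leaf (.cyc (nat_lit 48) [(nat_lit 1827), (nat_lit 4696), (nat_lit 1827)])) (.leaf .df)))) (.node (.node (.node (.leaf .df) (.leaf (.cyc (nat_lit 6) [(nat_lit 2685), (nat_lit 2470), (nat_lit 6779), (nat_lit 2470), (nat_lit 2685)]))) (.node (.leaf (.cyc (nat_lit 72) [(nat_lit 1393), (nat_lit 5628)])) (.leaf .df))) (.node (.node (.leaf (.cyc (nat_lit 53) [(nat_lit 506), (nat_lit 3142), (nat_lit 3575), (nat_lit 3142), (nat_lit 506)])) (.leaf .df)) (.node (.leaf (.cyc (nat_lit 48) [(nat_lit 7668), (nat_lit 7664), (nat_lit 2151)])) (.leaf .df))))) (.node (.node (.node (.node (.leaf .df) (.leaf (.cyc (nat_lit 31) [(nat_lit 2561), (nat_lit 9210), (nat_lit 9209), (nat_lit 9210), (nat_lit 2561)]))) (.node (.leaf (.cyc (nat_lit 47) [(nat_lit 1266), (nat_lit 671), (nat_lit 3283), (nat_lit 671), (nat_lit 1266)])) (.leaf .df))) (.node (.node (.leaf (.cyc (nat_lit 35) [(nat_lit 104), (nat_lit 44), (nat_lit 2810), (nat_lit 2879), (nat_lit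 198)])) (.leaf .df)) (.node (.leaf (.cyc (nat_lit 15) [(nat_lit 1991), (nat_lit 5786), (nat_lit 1991)])) (.leaf .df)))) (.node (.node (.node (.leaf .df) (.leaf .df)) (.node (.leaf (.cyc (nat_lit 35) [(nat_lit 5586), (nat_lit 877), (nat_lit 3486), (nat_lit 911), (nat_lit 1651)])) (.leaf .df))) (.node (.node (.leaf (.cyc (nat_lit 31) [(nat_lit 4090), (nat_lit 786), (nat_lit 384), (nat_lit 385), (nat_lit 788)])) (.leaf .df)) (.node (.leaf (.cyc (nat_lit 20) [(nat_lit 2295), (nat_lit 5944), (nat_lit 2295)])) (.leaf .df))))))))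
noncomputable def u5P101111 : BT Pf := .node u5P1011110 u5P1011111
noncomputable def u5P10111 : BT Pf := .node u5P101110 u5P101111
noncomputable def u5P1011 : BT Pf := .node u5P10110 u5P10111
noncomputable def u5P101 : BT Pf := .node u5P1010 u5P1011
noncomputable def u5P10 : BT Pf := .node u5P100 u5P101
noncomputable def u5P1100000 : BT Pf := (.node (.node (.node (.node (.node (.node (.node (.leaf .df) (.leaf (.cyc (nat_lit 37) [(nat_lit 2296), (nat_lit 5946), (nat_lit 5222), (nat_lit 5946), (nat_lit 2296)]))) (.node (.leaf (.cyc (nat_lit 41) [(nat_lit 791), (nat_lit 3350), (nat_lit 791)])) (.leaf .df))) (.node (.node (.leaf .df) (.leaf .df)) (.node (.leaf (.cyc (nat_lit 26) [(nat_lit 1653), (nat_lit 1652), (nat_lit 6145), (nat_lit 1652), (nat_lit 1653)])) (.leaf .df)))) (.node (.node (.node (.leaf .df) (.leaf (.cyc (nat_lit 47) [(nat_lit 2564), (nat_lit 2563), (nat_lit 9216), (nat_lit 2563), (nat_lit 2564)]))) (.node (.leaf (.cyc (nat_lit 51) [(nat_lit 1268), (nat_lit 1267),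 (nat_lit 5120), (nat_lit 679), (nat_lit 3273), (nat_lit 3293), (nat_lit 3273), (nat_lit 679), (nat_lit 5120), (nat_lit 1267), (nat_lit 1268)])) (.leaf .df))) (.node (.node (.leaf (.cyc (nat_lit 82) [(nat_lit 200), (nat_lit 2880), (nat_lit 2849), (nat_lit 47), (nat_lit 2774), (nat_lit 2806), (nat_lit 35), (nat_lit 2994), (nat_lit 2996), (nat_lit 2875), (nat_lit 191)])) (.leaf .df)) (.node (.leaf (.cyc (nat_lit 48) [(nat_lit 6382), (nat_lit 4983), (nat_lit 1993)])) (.leaf .df))))) (.node (.node (.node (.node (.leaf .df) (.leaf (.cyc (nat_lit 48) [(nat_lit 2428), (nat_lit 6631), (nat_lit 2428)]))) (.node (.leaf (.cyc (nat_lit 140) [(nat_lit 4607), (nat_lit 4608), (nat_lit 660), (nat_lit 307), (nat_lit 309), (nat_lit 664)])) (.leaf .df))) (.node (.node (.leaf .df) (.leaf .df)) (.node (.leaf (.cyc (nat_lit 59) [(nat_lit 6656), (nat_lit 5627), (nat_lit 738), (nat_lit 3936), (nat_lit 1386)])) (.leaf .df)))) (.node (.node (.node (.leaf .df) (.leaf (.cyc (nat_lit 15) [(nat_lit 2687), (nat_lit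 8889), (nat_lit 2687)]))) (.node (.leaf (.cyc (nat_lit 100) [(nat_lit 5614), (nat_lit 1041), (nat_lit 4075), (nat_lit 1041), (nat_lit 5614)])) (.leaf .df))) (.node (.node (.leaf (.cyc (nat_lit 20) [(nat_lit 510), (nat_lit 3133), (nat_lit 510)])) (.leaf .df)) (.node (.leaf (.cyc (nat_lit 28) [(nat_lit 2152), (nat_lit 6928), (nat_lit 6926), (nat_lit 6928), (nat_lit 2152)])) (.leaf .df)))))) (.node (.node (.node (.node (.node (.leaf .df) (.leaf (.cyc (nat_lit 23) [(nat_lit 1692), (nat_lit 1690), (nat_lit 2361)]))) (.node (.leaf (.cyc (nat_lit 116) [(nat_lit 851), (nat_lit 4201), (nat_lit 4353), (nat_lit 3738), (nat_lit 3900)])) (.leaf .df))) (.node (.node (.leaf .df) (.leaf .df)) (.node (.leaf (.cyc (nat_lit 34) [(nat_lit 5718), (nat_lit 4393), (nat_lit 1684), (nat_lit 6228), (nat_lit 1744)])) (.leaf .df)))) (.node (.node (.node (.leaf .df) (.leaf (.cyc (nat_lit 56) [(nat_lit 2629), (nat_lit 8886), (nat_lit 8885), (nat_lit 8886), (nat_lit 2629)]))) (.node (.leaf (.cyc (nat_lit 63)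 [(nat_lit 730), (nat_lit 342), (nat_lit 340), (nat_lit 726), (nat_lit 1369)])) (.leaf .df))) (.node (.node (.leaf (.cyc (nat_lit 14) [(nat_lit 3330), (nat_lit 169), (nat_lit 67), (nat_lit 66), (nat_lit 166)])) (.leaf .df)) (.node (.leaf (.cyc (nat_lit 47) [(nat_lit 2080), (nat_lit 5171), (nat_lit 4755), (nat_lit 5171), (nat_lit 2080)])) (.leaf .df))))) (.node (.node (.node (.node (.leaf .df) (.leaf (.cyc (nat_lit 48) [(nat_lit 2495), (nat_lit 6916), (nat_lit 2495)]))) (.node (.leaf (.cyc (nat_lit 24) [(nat_lit 1149), (nat_lit 3910), (nat_lit 3912), (nat_lit 3910), (nat_lit 1149)])) (.leaf .df))) (.node (.node (.leaf (.cyc (nat_lit 27) [(nat_lit 2), (nat_lit 1), (nat_lit 32)])) (.leaf .df)) (.node (.leaf (.cyc (nat_lit 20) [(nat_lit 6914), (nat_lit 1918), (nat_lit 1919)])) (.leaf .df)))) (.node (.node (.node (.leaf .df) (.leaf (.cyc (nat_lit 44) [(nat_lit 2743), (nat_lit 2699), (nat_lit 9024), (nat_lit 2699), (nat_lit 2743)]))) (.node (.leaf (.cyc (nat_lit 114) [(nat_lit 1551),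 (nat_lit 5890)])) (.leaf .df))) (.node (.node (.leaf (.cyc (nat_lit 16) [(nat_lit 657), (nat_lit 3835), (nat_lit 3837), (nat_lit 3835), (nat_lit 657)])) (.leaf .df)) (.node (.leaf (.cyc (nat_lit 18) [(nat_lit 2221), (nat_lit 7667), (nat_lit 5612), (nat_lit 7667), (nat_lit 2221)])) (.leaf .df))))))) (.node (.node (.node (.node (.node (.node (.leaf .df) (.leaf (.cyc (nat_lit 20) [(nat_lit 6729), (nat_lit 6123), (nat_lit 2331)]))) (.node (.leaf (.cyc (nat_lit 72) [(nat_lit 4226), (nat_lit 4219), (nat_lit 4226)])) (.leaf .df))) (.node (.node (.leaf .df) (.leaf .df)) (.node (.leaf (.cyc (nat_lit 1) [(nat_lit 6274), (nat_lit 1499), (nat_lit 1500)])) (.leaf .df)))) (.node (.node (.node (.leaf .df) (.leaf (.cyc (nat_lit 27) [(nat_lit 2597), (nat_lit 7776), (nat_lit 2597)]))) (.node (.leaf (.cyc (nat_lit 46) [(nat_lit 1326), (nat_lit 4768), (nat_lit 1326)])) (.leaf .df))) (.node (.node (.leaf (.cyc (nat_lit 27) [(nat_lit 283), (nat_lit 2932), (nat_lit 283)])) (.leaf .df)) (.node (.leaf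 (.cyc (nat_lit 53) [(nat_lit 5291), (nat_lit 1378), (nat_lit 5396), (nat_lit 5102), (nat_lit 2032)])) (.leaf .df))))) (.node (.node (.node (.node (.leaf .df) (.leaf (.cyc (nat_lit 60) [(nat_lit 2462), (nat_lit 2463), (nat_lit 8834), (nat_lit 2463), (nat_lit 2462)]))) (.node (.leaf (.cyc (nat_lit 21) [(nat_lit 1091), (nat_lit 3714), (nat_lit 3189), (nat_lit 3714), (nat_lit 1091)])) (.leaf .df))) (.node (.node (.leaf .df) (.leaf .df)) (.node (.leaf (.cyc (nat_lit 16) [(nat_lit 5935), (nat_lit 5936), (nat_lit 1112), (nat_lit 1111), (nat_lit 1876)])) (.leaf .df)))) (.node (.node (.node (.leaf .df) (.leaf (.cyc (nat_lit 144) [(nat_lit 2699), (nat_lit 9022), (nat_lit 2431), (nat_lit 2432), (nat_lit 8719), (nat_lit 2236), (nat_lit 5610), (nat_lit 2235), (nat_lit 9194), (nat_lit 9195), (nat_lit 2717)]))) (.node (.leaf (.cyc (nat_lit 23) [(nat_lit 1041), (nat_lit 4153), (nat_lit 1529)])) (.leaf .df))) (.node (.node (.leaf (.cyc (nat_lit 23) [(nat_lit 508), (nat_lit 3188), (nat_lit 576)]))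 (.leaf .df)) (.node (.leaf (.cyc (nat_lit 140) [(nat_lit 7809), (nat_lit 6667), (nat_lit 6665), (nat_lit 5902), (nat_lit 6123)])) (.leaf .df)))))) (.node (.node (.node (.node (.node (.leaf .df) (.leaf (.cyc (nat_lit 23) [(nat_lit 1764), (nat_lit 1763), (nat_lit 2396)]))) (.node (.leaf (.cyc (nat_lit 25) [(nat_lit 979), (nat_lit 3583), (nat_lit 3339), (nat_lit 3583), (nat_lit 979)])) (.leaf .df))) (.node (.node (.leaf .df) (.leaf .df)) (.node (.leaf (.cyc (nat_lit 23) [(nat_lit 6524), (nat_lit 1782), (nat_lit 1784)])) (.leaf .df)))) (.node (.node (.node (.leaf .df) (.leaf (.cyc (nat_lit 65) [(nat_lit 9371), (nat_lit 8782), (nat_lit 2448), (nat_lit 1839), (nat_lit 4721), (nat_lit 4724), (nat_lit 6061), (nat_lit 6203), (nat_lit 2352), (nat_lit 2658), (nat_lit 9602)]))) (.node (.leaf (.cyc (nat_lit 31) [(nat_lit 1434), (nat_lit 768), (nat_lit 3311), (nat_lit 768), (nat_lit 1434)])) (.leaf .df))) (.node (.node (.leaf (.cyc (nat_lit 15) [(nat_lit 3416), (nat_lit 3415), (nat_lit 441)]))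 (.leaf .df)) (.node (.leaf (.cyc (nat_lit 25) [(nat_lit 2116), (nat_lit 2115), (nat_lit 7553), (nat_lit 2115), (nat_lit 2116)])) (.leaf .df))))) (.node (.node (.node (.node (.leaf .df) (.leaf (.cyc (nat_lit 27) [(nat_lit 2522), (nat_lit 7253), (nat_lit 2529)]))) (.node (.leaf (.cyc (nat_lit 73) [(nat_lit 4955), (nat_lit 4992)])) (.leaf .df))) (.node (.node (.leaf (.cyc (nat_lit 15) [(nat_lit 57), (nat_lit 56), (nat_lit 135)])) (.leaf .df)) (.node (.leaf (.cyc (nat_lit 80) [(nat_lit 7038), (nat_lit 7040), (nat_lit 1126), (nat_lit 1124), (nat_lit 1892)])) (.leaf .df)))) (.node (.node (.node (.leaf .df) (.leaf .df)) (.node (.leaf (.cyc (nat_lit 40) [(nat_lit 6017), (nat_lit 4288), (nat_lit 6017)])) (.leaf .df))) (.node (.node (.leaf (.cyc (nat_lit 62) [(nat_lit 756), (nat_lit 355), (nat_lit 2961), (nat_lit 355), (nat_lit 756)])) (.leaf .df)) (.node (.leaf (.cyc (nat_lit 28) [(nat_lit 2261), (nat_lit 7249), (nat_lit 7247), (nat_lit 7249), (nat_lit 2261)])) (.leaf .df))))))))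
noncomputable def u5P1100001 : BT Pf := (.node (.node (.node (.node (.node (.node (.node (.leaf .df) (.leaf (.cyc (nat_lit 30) [(nat_lit 2315), (nat_lit 6071), (nat_lit 4678), (nat_lit 6071), (nat_lit 2315)]))) (.node (.leaf (.cyc (nat_lit 52) [(nat_lit 825), (nat_lit 827), (nat_lit 4162), (nat_lit 827), (nat_lit 825)])) (.leaf .df))) (.node (.node (.leaf .df) (.leaf .df)) (.node (.leaf (.cyc (nat_lit 30) [(nat_lit 1679), (nat_lit 1678), (nat_lit 6207), (nat_lit 1678), (nat_lit 1679)])) (.leaf .df)))) (.node (.node (.node (.leaf .df) (.leaf (.cyc (nat_lit 61) [(nat_lit 9282), (nat_lit 2577), (nat_lit 2123), (nat_lit 5332), (nat_lit 7404), (nat_lit 2073), (nat_lit 1289), (nat_lit 1288), (nat_lit 2071), (nat_lit 7398), (nat_lit 2552)]))) (.node (.leaf (.cyc (nat_lit 20) [(nat_lit 692), (nat_lit 689), (nat_lit 1302)])) (.leaf .df))) (.node (.node (.leaf (.cyc (nat_lit 53) [(nat_lit 224), (nat_lit 90), (nat_lit 2995), (nat_lit 98), (nat_lit 238)])) (.leaf .df)) (.node (.leaf (.cyc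 (nat_lit 50) [(nat_lit 2001), (nat_lit 1219), (nat_lit 5014), (nat_lit 5048), (nat_lit 2014)])) (.leaf .df))))) (.node (.node (.node (.node (.leaf .df) (.leaf (.cyc (nat_lit 18) [(nat_lit 2445), (nat_lit 6677), (nat_lit 5824), (nat_lit 6677), (nat_lit 2445)]))) (.node (.leaf (.cyc (nat_lit 111) [(nat_lit 4540), (nat_lit 4279), (nat_lit 4674), (nat_lit 1053), (nat_lit 1055)])) (.leaf .df))) (.node (.node (.leaf .df) (.leaf .df)) (.node (.leaf (.cyc (nat_lit 44) [(nat_lit 1852), (nat_lit 5001), (nat_lit 4890), (nat_lit 5001), (nat_lit 1852)])) (.leaf .df)))) (.node (.node (.node (.leaf .df) (.leaf (.cyc (nat_lit 34) [(nat_lit 2702), (nat_lit 2523), (nat_lit 7227), (nat_lit 2523), (nat_lit 2702)]))) (.node (.leaf (.cyc (nat_lit 20) [(nat_lit 810), (nat_lit 809), (nat_lit 1505)])) (.leaf .df))) (.node (.node (.leaf (.cyc (nat_lit 74) [(nat_lit 3098), (nat_lit 3647), (nat_lit 258)])) (.leaf .df)) (.node (.leaf (.cyc (nat_lit 31) [(nat_lit 2168), (nat_lit 5543), (nat_lit 5541), (nat_lit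 5543), (nat_lit 2168)])) (.leaf .df)))))) (.node (.node (.node (.node (.node (.leaf .df) (.leaf (.cyc (nat_lit 25) [(nat_lit 2378), (nat_lit 8082), (nat_lit 8085), (nat_lit 8082), (nat_lit 2378)]))) (.node (.leaf (.cyc (nat_lit 116) [(nat_lit 560), (nat_lit 558), (nat_lit 4415), (nat_lit 558), (nat_lit 560)])) (.leaf .df))) (.node (.node (.leaf .df) (.leaf .df)) (.node (.leaf (.cyc (nat_lit 112) [(nat_lit 1751), (nat_lit 6466)])) (.leaf .df)))) (.node (.node (.node (.leaf .df) (.leaf (.cyc (nat_lit 45) [(nat_lit 2643), (nat_lit 8228), (nat_lit 6199), (nat_lit 8228), (nat_lit 2643)]))) (.node (.leaf (.cyc (nat_lit 41) [(nat_lit 1250), (nat_lit 3949), (nat_lit 1407)])) (.leaf .df))) (.node (.node (.leaf (.cyc (nat_lit 50) [(nat_lit 426), (nat_lit 3043), (nat_lit 2973), (nat_lit 3043), (nat_lit 426)])) (.leaf .df)) (.node (.leaf (.cyc (nat_lit 19) [(nat_lit 2101), (nat_lit 5243), (nat_lit 4412), (nat_lit 5243), (nat_lit 2101)])) (.leaf .df))))) (.node (.node (.node (.node (.leaf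 .df) (.leaf (.cyc (nat_lit 16) [(nat_lit 8507), (nat_lit 6693), (nat_lit 8220), (nat_lit 8217), (nat_lit 2512)]))) (.node (.leaf (.cyc (nat_lit 51) [(nat_lit 4930), (nat_lit 4619), (nat_lit 1035), (nat_lit 4360), (nat_lit 4126), (nat_lit 4116), (nat_lit 4126), (nat_lit 4360), (nat_lit 1035), (nat_lit 4619), (nat_lit 4930)])) (.leaf .df))) (.node (.node (.leaf (.cyc (nat_lit 30) [(nat_lit 2861), (nat_lit 2859), (nat_lit 30), (nat_lit 29), (nat_lit 81)])) (.leaf .df)) (.node (.leaf (.cyc (nat_lit 159) [(nat_lit 1446), (nat_lit 4006), (nat_lit 1361), (nat_lit 6549), (nat_lit 6970), (nat_lit 6978), (nat_lit 6970), (nat_lit 6549), (nat_lit 1361), (nat_lit 4006), (nat_lit 1446)])) (.leaf .df)))) (.node (.node (.node (.leaf .df) (.leaf .df)) (.node (.leaf (.cyc (nat_lit 28) [(nat_lit 4240), (nat_lit 5068), (nat_lit 869), (nat_lit 870), (nat_lit 1590)])) (.leaf .df))) (.node (.node (.leaf (.cyc (nat_lit 19) [(nat_lit 716), (nat_lit 3731), (nat_lit 3733), (nat_lit 3731), (nat_lit 716)]))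 (.leaf .df)) (.node (.leaf (.cyc (nat_lit 130) [(nat_lit 8002), (nat_lit 2239), (nat_lit 5964), (nat_lit 5963), (nat_lit 2172)])) (.leaf .df))))))) (.node (.node (.node (.node (.node (.node (.leaf .df) (.leaf (.cyc (nat_lit 6) [(nat_lit 2345), (nat_lit 6356), (nat_lit 4460), (nat_lit 6356), (nat_lit 2345)]))) (.node (.leaf (.cyc (nat_lit 60) [(nat_lit 695), (nat_lit 696), (nat_lit 4290), (nat_lit 696), (nat_lit 695)])) (.leaf .df))) (.node (.node (.leaf .df) (.leaf .df)) (.node (.leaf (.cyc (nat_lit 20) [(nat_lit 1725), (nat_lit 4464), (nat_lit 1725)])) (.leaf .df)))) (.node (.node (.node (.leaf .df) (.leaf (.cyc (nat_lit 24) [(nat_lit 2614), (nat_lit 7979), (nat_lit 5589), (nat_lit 7979), (nat_lit 2614)]))) (.node (.leaf (.cyc (nat_lit 18) [(nat_lit 1345), (nat_lit 1344), (nat_lit 5313), (nat_lit 1344), (nat_lit 1345)])) (.leaf .df))) (.node (.node (.leaf (.cyc (nat_lit 15) [(nat_lit 141), (nat_lit 140), (nat_lit 337)])) (.leaf .df)) (.node (.leaf (.cyc (nat_lit 49) [(nat_lit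 1429), (nat_lit 5143), (nat_lit 2056)])) (.leaf .df))))) (.node (.node (.node (.node (.leaf .df) (.leaf (.cyc (nat_lit 30) [(nat_lit 2479), (nat_lit 1877), (nat_lit 4788), (nat_lit 1877), (nat_lit 2479)]))) (.node (.leaf (.cyc (nat_lit 56) [(nat_lit 1115), (nat_lit 4364), (nat_lit 4178), (nat_lit 4364), (nat_lit 1115)])) (.leaf .df))) (.node (.node (.leaf (.pin (nat_lit 6) [(nat_lit 0)] [])) (.leaf .df)) (.node (.leaf (.cyc (nat_lit 16) [(nat_lit 1901), (nat_lit 6473), (nat_lit 5356), (nat_lit 6473), (nat_lit 1901)])) (.leaf .df)))) (.node (.node (.node (.leaf .df) (.leaf (.cyc (nat_lit 107) [(nat_lit 2730), (nat_lit 9558), (nat_lit 9556), (nat_lit 2647), (nat_lit 2311), (nat_lit 6050), (nat_lit 4914), (nat_lit 1942), (nat_lit 2503), (nat_lit 9572), (nat_lit 9574)]))) (.node (.leaf (.cyc (nat_lit 21) [(nat_lit 1545), (nat_lit 1543), (nat_lit 5822), (nat_lit 1543), (nat_lit 1545)])) (.leaf .df))) (.node (.node (.leaf (.cyc (nat_lit 5) [(nat_lit 3774), (nat_lit 447), (nat_lit 3070),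 (nat_lit 447), (nat_lit 3774)])) (.leaf .df)) (.node (.leaf (.cyc (nat_lit 30) [(nat_lit 2204), (nat_lit 6496), (nat_lit 4838), (nat_lit 6496), (nat_lit 2204)])) (.leaf .df)))))) (.node (.node (.node (.node (.node (.leaf .df) (.leaf (.cyc (nat_lit 16) [(nat_lit 2412), (nat_lit 1782), (nat_lit 4593), (nat_lit 1782), (nat_lit 2412)]))) (.node (.leaf (.cyc (nat_lit 21) [(nat_lit 1008), (nat_lit 524), (nat_lit 3148), (nat_lit 524), (nat_lit 1008)])) (.leaf .df))) (.node (.node (.leaf .df) (.leaf .df)) (.node (.leaf (.cyc (nat_lit 37) [(nat_lit 1578), (nat_lit 861), (nat_lit 3686), (nat_lit 1048), (nat_lit 1803)])) (.leaf .df)))) (.node (.node (.node (.leaf .df) (.leaf (.cyc (nat_lit 102) [(nat_lit 2592), (nat_lit 2593), (nat_lit 9666), (nat_lit 2593), (nat_lit 2592)]))) (.node (.leaf (.cyc (nat_lit 63) [(nat_lit 790), (nat_lit 386), (nat_lit 384), (nat_lit 787), (nat_lit 1465)])) (.leaf .df))) (.node (.node (.leaf (.cyc (nat_lit 16) [(nat_lit 479), (nat_lit 3103), (nat_lit 3027),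 (nat_lit 3103), (nat_lit 479)])) (.leaf .df)) (.node (.leaf (.cyc (nat_lit 18) [(nat_lit 2133), (nat_lit 6254), (nat_lit 6500), (nat_lit 6254), (nat_lit 2133)])) (.leaf .df))))) (.node (.node (.node (.node (.leaf .df) (.leaf (.cyc (nat_lit 97) [(nat_lit 2318), (nat_lit 6089), (nat_lit 6088), (nat_lit 8262), (nat_lit 8610), (nat_lit 2384), (nat_lit 6744), (nat_lit 6745), (nat_lit 8237), (nat_lit 8514), (nat_lit 9154)]))) (.node (.leaf (.cyc (nat_lit 50) [(nat_lit 849), (nat_lit 4615), (nat_lit 664), (nat_lit 3845), (nat_lit 1241)])) (.leaf .df))) (.node (.node (.leaf (.cyc (nat_lit 27) [(nat_lit 69), (nat_lit 68), (nat_lit 171)])) (.leaf .df)) (.node (.leaf (.cyc (nat_lit 31) [(nat_lit 6177), (nat_lit 6274), (nat_lit 6703), (nat_lit 6702), (nat_lit 1975)])) (.leaf .df)))) (.node (.node (.node (.leaf .df) (.leaf .df)) (.node (.leaf (.cyc (nat_lit 40) [(nat_lit 6080), (nat_lit 4550), (nat_lit 6080)])) (.leaf .df))) (.node (.node (.leaf (.cyc (nat_lit 113) [(nat_lit 418), (nat_lit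 4033), (nat_lit 381)])) (.leaf .df)) (.node (.leaf (.cyc (nat_lit 48) [(nat_lit 2280), (nat_lit 5840), (nat_lit 2280)])) (.leaf .df))))))))
noncomputable def u5P110000 : BT Pf := .node u5P1100000 u5P1100001
noncomputable def u5P1100010 : BT Pf := (.node (.node (.node (.node (.node (.node (.node (.leaf .df) (.leaf (.cyc (nat_lit 23) [(nat_lit 6155), (nat_lit 7888), (nat_lit 2304)]))) (.node (.leaf (.cyc (nat_lit 63) [(nat_lit 557), (nat_lit 261), (nat_lit 3003), (nat_lit 399), (nat_lit 805)])) (.leaf .df))) (.node (.node (.leaf .df) (.leaf .df)) (.node (.leaf (.cyc (nat_lit 31) [(nat_lit 1401), (nat_lit 743), (nat_lit 3520), (nat_lit 927), (nat_lit 1668)])) (.leaf .df)))) (.node (.node (.node (.leaf .df) (.leaf (.cyc (nat_lit 52) [(nat_lit 2559), (nat_lit 2560), (nat_lit 9250), (nat_lit 2560), (nat_lit 2559)]))) (.node (.leaf (.cyc (nat_lit 23) [(nat_lit 683), (nat_lit 682), (nat_lit 1285)])) (.leaf .df))) (.node (.node (.leaf (.cyc (nat_lit 4) [(nat_lit 3106), (nat_lit 190), (nat_lit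 3039), (nat_lit 3019), (nat_lit 2911)])) (.leaf .df)) (.node (.leaf (.cyc (nat_lit 6) [(nat_lit 2003), (nat_lit 1221), (nat_lit 3818), (nat_lit 1221), (nat_lit 2003)])) (.leaf .df))))) (.node (.node (.node (.node (.leaf .df) (.leaf (.cyc (nat_lit 46) [(nat_lit 8314), (nat_lit 7158), (nat_lit 2437)]))) (.node (.leaf (.cyc (nat_lit 45) [(nat_lit 571), (nat_lit 267), (nat_lit 3179), (nat_lit 553), (nat_lit 1046)])) (.leaf .df))) (.node (.node (.leaf .df) (.leaf .df)) (.node (.leaf (.cyc (nat_lit 21) [(nat_lit 1096), (nat_lit 4672), (nat_lit 1003), (nat_lit 6576), (nat_lit 1841)])) (.leaf .df)))) (.node (.node (.node (.leaf .df) (.leaf (.cyc (nat_lit 31) [(nat_lit 2694), (nat_lit 2509), (nat_lit 7052), (nat_lit 2509), (nat_lit 2694)]))) (.node (.leaf (.cyc (nat_lit 75) [(nat_lit 1491), (nat_lit 1492), (nat_lit 5666), (nat_lit 1492), (nat_lit 1491)])) (.leaf .df))) (.node (.node (.leaf (.cyc (nat_lit 19) [(nat_lit 532), (nat_lit 3152), (nat_lit 3575), (nat_lit 3152), (nat_lit 532)]))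 (.leaf .df)) (.node (.leaf (.cyc (nat_lit 37) [(nat_lit 7492), (nat_lit 5370), (nat_lit 1941), (nat_lit 6996), (nat_lit 2160)])) (.leaf .df)))))) (.node (.node (.node (.node (.node (.leaf .df) (.leaf (.cyc (nat_lit 6) [(nat_lit 6506), (nat_lit 6208), (nat_lit 6176), (nat_lit 6318), (nat_lit 2370)]))) (.node (.leaf (.cyc (nat_lit 45) [(nat_lit 481), (nat_lit 218), (nat_lit 216), (nat_lit 480), (nat_lit 930)])) (.leaf .df))) (.node (.node (.leaf .df) (.leaf .df)) (.node (.leaf (.cyc (nat_lit 44) [(nat_lit 6193), (nat_lit 1673), (nat_lit 4386), (nat_lit 998), (nat_lit 1755)])) (.leaf .df)))) (.node (.node (.node (.leaf .df) (.leaf (.cyc (nat_lit 18) [(nat_lit 2637), (nat_lit 8575), (nat_lit 8573), (nat_lit 8575), (nat_lit 2637)]))) (.node (.leaf (.cyc (nat_lit 21) [(nat_lit 1384), (nat_lit 5384), (nat_lit 5388), (nat_lit 5384), (nat_lit 1384)])) (.leaf .df))) (.node (.node (.leaf (.cyc (nat_lit 3) [(nat_lit 3362), (nat_lit 366), (nat_lit 3306)])) (.leaf .df)) (.node (.leaf (.cyc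 (nat_lit 16) [(nat_lit 2090), (nat_lit 1305), (nat_lit 4224), (nat_lit 1305), (nat_lit 2090)])) (.leaf .df))))) (.node (.node (.node (.node (.leaf .df) (.leaf (.cyc (nat_lit 19) [(nat_lit 2502), (nat_lit 6987), (nat_lit 5922), (nat_lit 6987), (nat_lit 2502)]))) (.node (.leaf (.cyc (nat_lit 56) [(nat_lit 1164), (nat_lit 617), (nat_lit 3214), (nat_lit 617), (nat_lit 1164)])) (.leaf .df))) (.node (.node (.leaf (.cyc (nat_lit 16) [(nat_lit 50), (nat_lit 2831), (nat_lit 2780), (nat_lit 2831), (nat_lit 50)])) (.leaf .df)) (.node (.leaf (.cyc (nat_lit 14) [(nat_lit 6945), (nat_lit 5435), (nat_lit 5233), (nat_lit 5231), (nat_lit 1596)])) (.leaf .df)))) (.node (.node (.node (.leaf .df) (.leaf .df)) (.node (.leaf (.cyc (nat_lit 20) [(nat_lit 5520), (nat_lit 4860), (nat_lit 1576)])) (.leaf .df))) (.node (.node (.leaf (.cyc (nat_lit 26) [(nat_lit 683), (nat_lit 3858), (nat_lit 3867), (nat_lit 3858), (nat_lit 683)])) (.leaf .df)) (.node (.leaf (.cyc (nat_lit 102) [(nat_lit 2227), (nat_lit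 2229), (nat_lit 7970), (nat_lit 2229), (nat_lit 2227)])) (.leaf .df))))))) (.node (.node (.node (.node (.node (.node (.leaf .df) (.leaf (.cyc (nat_lit 18) [(nat_lit 2338), (nat_lit 1651), (nat_lit 4320), (nat_lit 1651), (nat_lit 2338)]))) (.node (.leaf (.cyc (nat_lit 15) [(nat_lit 882), (nat_lit 3467), (nat_lit 882)])) (.leaf .df))) (.node (.node (.leaf .df) (.leaf .df)) (.node (.leaf (.cyc (nat_lit 48) [(nat_lit 1616), (nat_lit 4444), (nat_lit 1712)])) (.leaf .df)))) (.node (.node (.node (.leaf .df) (.leaf (.cyc (nat_lit 46) [(nat_lit 8115), (nat_lit 7895), (nat_lit 2605)]))) (.node (.leaf (.cyc (nat_lit 147) [(nat_lit 5282), (nat_lit 4112), (nat_lit 937), (nat_lit 4396), (nat_lit 4230), (nat_lit 4406), (nat_lit 4400), (nat_lit 4128), (nat_lit 4796), (nat_lit 4793), (nat_lit 4142)])) (.leaf .df))) (.node (.node (.leaf (.cyc (nat_lit 56) [(nat_lit 305), (nat_lit 2944), (nat_lit 2920), (nat_lit 2944), (nat_lit 305)])) (.leaf .df)) (.node (.leaf (.cyc (nat_lit 21) [(nat_lit 2046),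 (nat_lit 5120), (nat_lit 3871), (nat_lit 5120), (nat_lit 2046)])) (.leaf .df))))) (.node (.node (.node (.node (.leaf .df) (.leaf (.cyc (nat_lit 62) [(nat_lit 8862), (nat_lit 2470), (nat_lit 1872), (nat_lit 1873), (nat_lit 2472)]))) (.node (.leaf (.cyc (nat_lit 21) [(nat_lit 1108), (nat_lit 584), (nat_lit 3193), (nat_lit 584), (nat_lit 1108)])) (.leaf .df))) (.node (.node (.leaf .df) (.leaf .df)) (.node (.leaf (.cyc (nat_lit 16) [(nat_lit 6810), (nat_lit 1884), (nat_lit 4809), (nat_lit 1121), (nat_lit 1886)])) (.leaf .df)))) (.node (.node (.node (.leaf .df) (.leaf (.cyc (nat_lit 24) [(nat_lit 2724), (nat_lit 9309), (nat_lit 7658), (nat_lit 9309), (nat_lit 2724)]))) (.node (.leaf (.cyc (nat_lit 41) [(nat_lit 4390), (nat_lit 4389), (nat_lit 1534)])) (.leaf .df))) (.node (.node (.leaf (.cyc (nat_lit 56) [(nat_lit 3290), (nat_lit 3279), (nat_lit 280), (nat_lit 3196), (nat_lit 604)])) (.leaf .df)) (.node (.leaf (.cyc (nat_lit 88) [(nat_lit 2195), (nat_lit 2196), (nat_lit 7842), (nat_lit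 2196), (nat_lit 2195)])) (.leaf .df)))))) (.node (.node (.node (.node (.node (.leaf .df) (.leaf (.cyc (nat_lit 21) [(nat_lit 8453), (nat_lit 8451), (nat_lit 8399), (nat_lit 8398), (nat_lit 2404)]))) (.node (.leaf (.cyc (nat_lit 55) [(nat_lit 988), (nat_lit 989), (nat_lit 4514), (nat_lit 989), (nat_lit 988)])) (.leaf .df))) (.node (.node (.leaf .df) (.leaf .df)) (.node (.leaf (.cyc (nat_lit 87) [(nat_lit 1796), (nat_lit 4626), (nat_lit 1038), (nat_lit 1039), (nat_lit 4807), (nat_lit 4805), (nat_lit 4807), (nat_lit 1039), (nat_lit 1038), (nat_lit 4626), (nat_lit 1796)])) (.leaf .df)))) (.node (.node (.node (.leaf .df) (.leaf (.cyc (nat_lit 105) [(nat_lit 9633), (nat_lit 8548), (nat_lit 2583)]))) (.node (.leaf (.cyc (nat_lit 34) [(nat_lit 1389), (nat_lit 736), (nat_lit 3319), (nat_lit 779), (nat_lit 1454)])) (.leaf .df))) (.node (.node (.leaf (.cyc (nat_lit 0) [(nat_lit 461), (nat_lit 462), (nat_lit 3490), (nat_lit 462), (nat_lit 461)])) (.leaf .df)) (.node (.leaf (.cyc (nat_lit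 16) [(nat_lit 7465), (nat_lit 7464), (nat_lit 5220), (nat_lit 5334), (nat_lit 2125)])) (.leaf .df))))) (.node (.node (.node (.node (.leaf .df) (.leaf (.cyc (nat_lit 24) [(nat_lit 2537), (nat_lit 2042), (nat_lit 5308), (nat_lit 2042), (nat_lit 2537)]))) (.node (.leaf (.cyc (nat_lit 21) [(nat_lit 1230), (nat_lit 1229), (nat_lit 5026), (nat_lit 1229), (nat_lit 1230)])) (.leaf .df))) (.node (.node (.leaf (.cyc (nat_lit 66) [(nat_lit 2976), (nat_lit 77), (nat_lit 2785), (nat_lit 77), (nat_lit 2976)])) (.leaf .df)) (.node (.leaf (.cyc (nat_lit 31) [(nat_lit 5374), (nat_lit 5377), (nat_lit 1187), (nat_lit 1188), (nat_lit 1967)])) (.leaf .df)))) (.node (.node (.node (.leaf .df) (.leaf .df)) (.node (.leaf (.cyc (nat_lit 24) [(nat_lit 1619), (nat_lit 6041), (nat_lit 6049), (nat_lit 6041), (nat_lit 1619)])) (.leaf .df))) (.node (.node (.leaf (.cyc (nat_lit 19) [(nat_lit 768), (nat_lit 3309), (nat_lit 3432), (nat_lit 3309), (nat_lit 768)])) (.leaf .df)) (.node (.leaf (.cyc (nat_lit 37) [(nat_lit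 2245), (nat_lit 5664), (nat_lit 1904), (nat_lit 6867), (nat_lit 2271)])) (.leaf .df))))))))
noncomputable def u5P1100011 : BT Pf := (.node (.node (.node (.node (.node (.node (.node (.leaf .df) (.leaf (.cyc (nat_lit 35) [(nat_lit 7400), (nat_lit 5446), (nat_lit 4305), (nat_lit 1636), (nat_lit 2323)]))) (.node (.leaf (.cyc (nat_lit 44) [(nat_lit 806), (nat_lit 399), (nat_lit 3061), (nat_lit 437), (nat_lit 4193)])) (.leaf .df))) (.node (.node (.leaf .df) (.leaf .df)) (.node (.leaf (.cyc (nat_lit 31) [(nat_lit 1690), (nat_lit 938), (nat_lit 3529), (nat_lit 938), (nat_lit 1690)])) (.leaf .df)))) (.node (.node (.node (.leaf .df) (.leaf (.cyc (nat_lit 27) [(nat_lit 2587), (nat_lit 7650), (nat_lit 2587)]))) (.node (.leaf (.cyc (nat_lit 11) [(nat_lit 5216), (nat_lit 3888), (nat_lit 3756), (nat_lit 3888), (nat_lit 5216)])) (.leaf .df))) (.node (.node (.leaf (.cyc (nat_lit 16) [(nat_lit 254), (nat_lit 3162), (nat_lit 3167), (nat_lit 3162), (nat_lit 254)])) (.leaf .df)) (.node (.leaf (.cyc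 (nat_lit 44) [(nat_lit 2024), (nat_lit 6874), (nat_lit 6876), (nat_lit 6874), (nat_lit 2024)])) (.leaf .df))))) (.node (.node (.node (.node (.leaf .df) (.leaf (.cyc (nat_lit 6) [(nat_lit 2454), (nat_lit 6721), (nat_lit 4732), (nat_lit 6721), (nat_lit 2454)]))) (.node (.leaf (.cyc (nat_lit 107) [(nat_lit 4706), (nat_lit 4704), (nat_lit 928), (nat_lit 3522), (nat_lit 3107), (nat_lit 99), (nat_lit 2838), (nat_lit 78), (nat_lit 197), (nat_lit 444), (nat_lit 4239)])) (.leaf .df))) (.node (.node (.leaf .df) (.leaf .df)) (.node (.leaf (.cyc (nat_lit 37) [(nat_lit 5779), (nat_lit 5341), (nat_lit 5780), (nat_lit 5106), (nat_lit 1864)])) (.leaf .df)))) (.node (.node (.node (.leaf .df) (.leaf (.cyc (nat_lit 63) [(nat_lit 2710), (nat_lit 9130), (nat_lit 8771), (nat_lit 9130), (nat_lit 2710)]))) (.node (.leaf (.cyc (nat_lit 105) [(nat_lit 5729), (nat_lit 4557), (nat_lit 5675)])) (.leaf .df))) (.node (.node (.leaf (.cyc (nat_lit 79) [(nat_lit 3586), (nat_lit 509), (nat_lit 233), (nat_lit 2900),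 (nat_lit 70), (nat_lit 21), (nat_lit 36), (nat_lit 91), (nat_lit 3659), (nat_lit 259), (nat_lit 552)])) (.leaf .df)) (.node (.leaf (.cyc (nat_lit 20) [(nat_lit 1948), (nat_lit 5464), (nat_lit 2178)])) (.leaf .df)))))) (.node (.node (.node (.node (.node (.leaf .df) (.leaf (.cyc (nat_lit 62) [(nat_lit 2387), (nat_lit 6407), (nat_lit 5930), (nat_lit 6407), (nat_lit 2387)]))) (.node (.leaf (.cyc (nat_lit 4) [(nat_lit 4450), (nat_lit 961), (nat_lit 492), (nat_lit 491), (nat_lit 959)])) (.leaf .df))) (.node (.node (.leaf .df) (.leaf .df)) (.node (.leaf (.cyc (nat_lit 115) [(nat_lit 1692), (nat_lit 1691), (nat_lit 6470), (nat_lit 1691), (nat_lit 1692)])) (.leaf .df)))) (.node (.node (.node (.leaf .df) (.leaf (.cyc (nat_lit 70) [(nat_lit 8998), (nat_lit 7798), (nat_lit 2184), (nat_lit 1421), (nat_lit 3986), (nat_lit 5433), (nat_lit 6086), (nat_lit 6087), (nat_lit 2317), (nat_lit 2650), (nat_lit 9568)]))) (.node (.leaf (.cyc (nat_lit 38) [(nat_lit 1239), (nat_lit 1238), (nat_lit 5052),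 (nat_lit 1337), (nat_lit 5290), (nat_lit 1232), (nat_lit 3973), (nat_lit 3442), (nat_lit 756), (nat_lit 3971), (nat_lit 1418)])) (.leaf .df))) (.node (.node (.leaf (.cyc (nat_lit 113) [(nat_lit 3315), (nat_lit 3425), (nat_lit 152)])) (.leaf .df)) (.node (.leaf (.cyc (nat_lit 1) [(nat_lit 7522), (nat_lit 2105), (nat_lit 6241)])) (.leaf .df))))) (.node (.node (.node (.node (.leaf .df) (.leaf (.cyc (nat_lit 41) [(nat_lit 2515), (nat_lit 7198), (nat_lit 2520)]))) (.node (.leaf (.cyc (nat_lit 28) [(nat_lit 1194), (nat_lit 632), (nat_lit 3223), (nat_lit 632), (nat_lit 1194)])) (.leaf .df))) (.node (.node (.leaf (.cyc (nat_lit 31) [(nat_lit 104), (nat_lit 2844), (nat_lit 2845), (nat_lit 2844), (nat_lit 104)])) (.leaf .df)) (.node (.leaf (.cyc (nat_lit 20) [(nat_lit 1947), (nat_lit 4924), (nat_lit 1947)])) (.leaf .df)))) (.node (.node (.node (.leaf .df) (.leaf .df)) (.node (.leaf (.cyc (nat_lit 20) [(nat_lit 1600), (nat_lit 4250), (nat_lit 1600)])) (.leaf .df))) (.node (.node (.leaf (.cyc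 (nat_lit 53) [(nat_lit 736), (nat_lit 3276), (nat_lit 3020), (nat_lit 3276), (nat_lit 736)])) (.leaf .df)) (.node (.leaf (.cyc (nat_lit 62) [(nat_lit 2250), (nat_lit 6331), (nat_lit 6332), (nat_lit 6331), (nat_lit 2250)])) (.leaf .df))))))) (.node (.node (.node (.node (.node (.node (.leaf .df) (.leaf (.cyc (nat_lit 56) [(nat_lit 2353), (nat_lit 8414), (nat_lit 8415), (nat_lit 8414), (nat_lit 2353)]))) (.node (.leaf (.cyc (nat_lit 28) [(nat_lit 913), (nat_lit 4317), (nat_lit 4316), (nat_lit 4317), (nat_lit 913)])) (.leaf .df))) (.node (.node (.leaf .df) (.leaf .df)) (.node (.leaf (.cyc (nat_lit 19) [(nat_lit 1733), (nat_lit 975), (nat_lit 3571), (nat_lit 975), (nat_lit 1733)])) (.leaf .df)))) (.node (.node (.node (.leaf .df) (.leaf (.cyc (nat_lit 69) [(nat_lit 2600), (nat_lit 2179), (nat_lit 5471), (nat_lit 5470), (nat_lit 3972), (nat_lit 4138), (nat_lit 4139), (nat_lit 5699), (nat_lit 2251), (nat_lit 2621), (nat_lit 9441)]))) (.node (.leaf (.cyc (nat_lit 31) [(nat_lit 1157), (nat_lit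 614), (nat_lit 3269), (nat_lit 722), (nat_lit 1357)])) (.leaf .df))) (.node (.node (.leaf (.cyc (nat_lit 50) [(nat_lit 151), (nat_lit 62), (nat_lit 59), (nat_lit 145), (nat_lit 350)])) (.leaf .df)) (.node (.leaf (.cyc (nat_lit 21) [(nat_lit 2070), (nat_lit 5155), (nat_lit 3875), (nat_lit 5155), (nat_lit 2070)])) (.leaf .df))))) (.node (.node (.node (.node (.leaf .df) (.leaf (.cyc (nat_lit 38) [(nat_lit 8609), (nat_lit 2402), (nat_lit 2403), (nat_lit 8606), (nat_lit 8202), (nat_lit 1898), (nat_lit 1126), (nat_lit 1125), (nat_lit 1894), (nat_lit 7502), (nat_lit 2487)]))) (.node (.leaf (.cyc (nat_lit 46) [(nat_lit 1131), (nat_lit 3746), (nat_lit 1131)])) (.leaf .df))) (.node (.node (.leaf (.cyc (nat_lit 1) [(nat_lit 25), (nat_lit 2770), (nat_lit 2772)])) (.leaf .df)) (.node (.leaf (.cyc (nat_lit 23) [(nat_lit 6585), (nat_lit 6010), (nat_lit 1910)])) (.leaf .df)))) (.node (.node (.node (.leaf .df) (.leaf (.cyc (nat_lit 41) [(nat_lit 2737), (nat_lit 9543), (nat_lit 2737)]))) (.node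 (.leaf (.cyc (nat_lit 58) [(nat_lit 5716), (nat_lit 5715), (nat_lit 5283), (nat_lit 4142), (nat_lit 4143), (nat_lit 4180), (nat_lit 840), (nat_lit 841), (nat_lit 4385), (nat_lit 4384), (nat_lit 1556)])) (.leaf .df))) (.node (.node (.leaf (.cyc (nat_lit 48) [(nat_lit 3747), (nat_lit 3810), (nat_lit 3747)])) (.leaf .df)) (.node (.leaf (.cyc (nat_lit 36) [(nat_lit 1652), (nat_lit 911), (nat_lit 3485), (nat_lit 529), (nat_lit 4106), (nat_lit 794), (nat_lit 3354), (nat_lit 778), (nat_lit 1451), (nat_lit 5535), (nat_lit 2212)])) (.leaf .df)))))) (.node (.node (.node (.node (.node (.leaf .df) (.leaf (.cyc (nat_lit 50) [(nat_lit 2238), (nat_lit 1481), (nat_lit 4622), (nat_lit 1795), (nat_lit 2419)]))) (.node (.leaf (.cyc (nat_lit 23) [(nat_lit 924), (nat_lit 3778), (nat_lit 1022)])) (.leaf .df))) (.node (.node (.leaf .df) (.leaf .df)) (.node (.leaf (.cyc (nat_lit 62) [(nat_lit 5682), (nat_lit 5680), (nat_lit 4131), (nat_lit 1059), (nat_lit 1815)])) (.leaf .df)))) (.node (.node (.node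 (.leaf .df) (.leaf (.cyc (nat_lit 37) [(nat_lit 9686), (nat_lit 9682), (nat_lit 9007), (nat_lit 8814), (nat_lit 2680)]))) (.node (.leaf (.cyc (nat_lit 55) [(nat_lit 5596), (nat_lit 1477), (nat_lit 5602), (nat_lit 1477), (nat_lit 5596)])) (.leaf .df))) (.node (.node (.leaf (.cyc (nat_lit 27) [(nat_lit 498), (nat_lit 3120), (nat_lit 498)])) (.leaf .df)) (.node (.leaf (.cyc (nat_lit 84) [(nat_lit 7649), (nat_lit 7329), (nat_lit 5120), (nat_lit 5144), (nat_lit 2057)])) (.leaf .df))))) (.node (.node (.node (.node (.leaf .df) (.leaf (.cyc (nat_lit 62) [(nat_lit 2553), (nat_lit 7404), (nat_lit 5332), (nat_lit 7404), (nat_lit 2553)]))) (.node (.leaf (.cyc (nat_lit 117) [(nat_lit 5020), (nat_lit 1230), (nat_lit 5090), (nat_lit 1230), (nat_lit 5020)])) (.leaf .df))) (.node (.node (.leaf (.cyc (nat_lit 28) [(nat_lit 2975), (nat_lit 2877), (nat_lit 2830), (nat_lit 72), (nat_lit 185)])) (.leaf .df)) (.node (.leaf (.cyc (nat_lit 24) [(nat_lit 1982), (nat_lit 1198), (nat_lit 3801), (nat_lit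 1198), (nat_lit 1982)])) (.leaf .df)))) (.node (.node (.node (.leaf .df) (.leaf .df)) (.node (.leaf (.cyc (nat_lit 15) [(nat_lit 1588), (nat_lit 4308), (nat_lit 1641)])) (.leaf .df))) (.node (.node (.leaf (.cyc (nat_lit 74) [(nat_lit 506), (nat_lit 4057)])) (.leaf .df)) (.node (.leaf (.cyc (nat_lit 49) [(nat_lit 6100), (nat_lit 5933), (nat_lit 2289)])) (.leaf .df))))))))
noncomputable def u5P110001 : BT Pf := .node u5P1100010 u5P1100011
noncomputable def u5P11000 : BT Pf := .node u5P110000 u5P110001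
noncomputable def u5P1100100 : BT Pf := (.node (.node (.node (.node (.node (.node (.node (.leaf .df) (.leaf (.cyc (nat_lit 48) [(nat_lit 1726), (nat_lit 5957), (nat_lit 2300)]))) (.node (.leaf (.cyc (nat_lit 19) [(nat_lit 798), (nat_lit 395), (nat_lit 2984), (nat_lit 395), (nat_lit 798)])) (.leaf .df))) (.node (.node (.leaf .df) (.leaf .df)) (.node (.leaf (.cyc (nat_lit 44) [(nat_lit 916), (nat_lit 462), (nat_lit 460), (nat_lit 914), (nat_lit 1658)])) (.leaf .df)))) (.node (.node (.node (.leaf .df) (.leaf (.cyc (nat_lit 34) [(nat_lit 2569), (nat_lit 2108), (nat_lit 5256), (nat_lit 2108), (nat_lit 2569)]))) (.node (.leaf (.cyc (nat_lit 104) [(nat_lit 1273), (nat_lit 1274), (nat_lit 5138), (nat_lit 1274), (nat_lit 1273)])) (.leaf .df))) (.node (.node (.leaf (.cyc (nat_lit 35) [(nat_lit 211), (nat_lit 83), (nat_lit 2813), (nat_lit 83), (nat_lit 211)])) (.leaf .df)) (.node (.leaf (.cyc (nat_lit 44) [(nat_lit 1998), (nat_lit 5006), (nat_lit 4887), (nat_lit 5006), (nat_lit 1998)]))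 (.leaf .df))))) (.node (.node (.node (.node (.leaf .df) (.leaf (.cyc (nat_lit 10) [(nat_lit 8721), (nat_lit 7065), (nat_lit 8436)]))) (.node (.leaf (.cyc (nat_lit 25) [(nat_lit 569), (nat_lit 266), (nat_lit 3173), (nat_lit 546), (nat_lit 1040)])) (.leaf .df))) (.node (.node (.leaf .df) (.leaf .df)) (.node (.leaf (.cyc (nat_lit 20) [(nat_lit 1834), (nat_lit 4716), (nat_lit 1834)])) (.leaf .df)))) (.node (.node (.node (.leaf .df) (.leaf (.cyc (nat_lit 54) [(nat_lit 2690), (nat_lit 2485), (nat_lit 8282), (nat_lit 8283), (nat_lit 8284), (nat_lit 8280), (nat_lit 2409), (nat_lit 2669), (nat_lit 9687), (nat_lit 9691), (nat_lit 9182)]))) (.node (.leaf (.cyc (nat_lit 50) [(nat_lit 833), (nat_lit 410), (nat_lit 4060), (nat_lit 796), (nat_lit 1487)])) (.leaf .df))) (.node (.node (.leaf (.cyc (nat_lit 6) [(nat_lit 519), (nat_lit 239), (nat_lit 2904), (nat_lit 239), (nat_lit 519)])) (.leaf .df)) (.node (.leaf (.cyc (nat_lit 24) [(nat_lit 2156), (nat_lit 2154), (nat_lit 7693), (nat_lit 2154),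 (nat_lit 2156)])) (.leaf .df)))))) (.node (.node (.node (.node (.node (.leaf .df) (.leaf (.cyc (nat_lit 87) [(nat_lit 2145), (nat_lit 5391), (nat_lit 983), (nat_lit 984), (nat_lit 6227), (nat_lit 6226), (nat_lit 1697), (nat_lit 6265), (nat_lit 2079), (nat_lit 8465), (nat_lit 8466)]))) (.node (.leaf (.cyc (nat_lit 114) [(nat_lit 668), (nat_lit 4369)])) (.leaf .df))) (.node (.node (.leaf .df) (.leaf .df)) (.node (.leaf (.cyc (nat_lit 2) [(nat_lit 6418), (nat_lit 1702), (nat_lit 4428), (nat_lit 964), (nat_lit 1720)])) (.leaf .df)))) (.node (.node (.node (.leaf .df) (.leaf (.cyc (nat_lit 8) [(nat_lit 9490), (nat_lit 2610), (nat_lit 2228), (nat_lit 2229), (nat_lit 2611)]))) (.node (.leaf (.cyc (nat_lit 62) [(nat_lit 1378), (nat_lit 729), (nat_lit 3272), (nat_lit 729), (nat_lit 1378)])) (.leaf .df))) (.node (.node (.leaf (.cyc (nat_lit 56) [(nat_lit 384), (nat_lit 3343), (nat_lit 3344), (nat_lit 3343), (nat_lit 384)])) (.leaf .df)) (.node (.leaf (.cyc (nat_lit 63) [(nat_lit 5586), (nat_lit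 5584), (nat_lit 5173), (nat_lit 1299), (nat_lit 2085)])) (.leaf .df))))) (.node (.node (.node (.node (.leaf .df) (.leaf (.cyc (nat_lit 37) [(nat_lit 2499), (nat_lit 1922), (nat_lit 4880), (nat_lit 1922), (nat_lit 2499)]))) (.node (.leaf (.cyc (nat_lit 19) [(nat_lit 1005), (nat_lit 3607), (nat_lit 3212), (nat_lit 3758), (nat_lit 1155)])) (.leaf .df))) (.node (.node (.leaf (.cyc (nat_lit 25) [(nat_lit 38), (nat_lit 2769), (nat_lit 10), (nat_lit 42), (nat_lit 2834)])) (.leaf .df)) (.node (.leaf (.cyc (nat_lit 16) [(nat_lit 1449), (nat_lit 4013), (nat_lit 1031), (nat_lit 5528), (nat_lit 1925)])) (.leaf .df)))) (.node (.node (.node (.leaf .df) (.leaf (.cyc (nat_lit 6) [(nat_lit 2746), (nat_lit 9816), (nat_lit 9674), (nat_lit 9816), (nat_lit 2746)]))) (.node (.leaf (.cyc (nat_lit 49) [(nat_lit 1313), (nat_lit 4211), (nat_lit 1572)])) (.leaf .df))) (.node (.node (.leaf (.cyc (nat_lit 39) [(nat_lit 357), (nat_lit 2962), (nat_lit 3447), (nat_lit 138), (nat_lit 2860), (nat_lit 2856), (nat_lit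 128), (nat_lit 302), (nat_lit 3229), (nat_lit 315), (nat_lit 676)])) (.leaf .df)) (.node (.leaf (.cyc (nat_lit 47) [(nat_lit 2225), (nat_lit 7936), (nat_lit 7937), (nat_lit 7936), (nat_lit 2225)])) (.leaf .df))))))) (.node (.node (.node (.node (.node (.node (.leaf .df) (.leaf (.cyc (nat_lit 53) [(nat_lit 2251), (nat_lit 1505), (nat_lit 4377), (nat_lit 6138), (nat_lit 2334)]))) (.node (.leaf (.cyc (nat_lit 28) [(nat_lit 878), (nat_lit 3730), (nat_lit 3733), (nat_lit 3730), (nat_lit 878)])) (.leaf .df))) (.node (.node (.leaf .df) (.leaf .df)) (.node (.leaf (.cyc (nat_lit 15) [(nat_lit 5982), (nat_lit 5984), (nat_lit 1706)])) (.leaf .df)))) (.node (.node (.node (.leaf .df) (.leaf (.cyc (nat_lit 27) [(nat_lit 2601), (nat_lit 7789), (nat_lit 2601)]))) (.node (.leaf (.cyc (nat_lit 24) [(nat_lit 720), (nat_lit 3267), (nat_lit 3263), (nat_lit 3899), (nat_lit 1332)])) (.leaf .df))) (.node (.node (.leaf (.cyc (nat_lit 27) [(nat_lit 124), (nat_lit 123), (nat_lit 289)])) (.leaf .df)) (.node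 (.leaf (.cyc (nat_lit 41) [(nat_lit 2038), (nat_lit 5115), (nat_lit 2038)])) (.leaf .df))))) (.node (.node (.node (.node (.leaf .df) (.leaf (.cyc (nat_lit 58) [(nat_lit 2070), (nat_lit 1285), (nat_lit 5148), (nat_lit 5783), (nat_lit 6764), (nat_lit 1867), (nat_lit 1868), (nat_lit 6770), (nat_lit 1871), (nat_lit 2467), (nat_lit 8850)]))) (.node (.leaf (.cyc (nat_lit 19) [(nat_lit 1102), (nat_lit 4749), (nat_lit 4752), (nat_lit 4749), (nat_lit 1102)])) (.leaf .df))) (.node (.node (.leaf .df) (.leaf .df)) (.node (.leaf (.cyc (nat_lit 48) [(nat_lit 5461), (nat_lit 4953), (nat_lit 1883)])) (.leaf .df)))) (.node (.node (.node (.leaf .df) (.leaf (.cyc (nat_lit 6) [(nat_lit 2720), (nat_lit 2562), (nat_lit 7462), (nat_lit 2562), (nat_lit 2720)]))) (.node (.leaf (.cyc (nat_lit 154) [(nat_lit 1284), (nat_lit 1283), (nat_lit 5154), (nat_lit 5151), (nat_lit 5778), (nat_lit 1532), (nat_lit 4299), (nat_lit 899), (nat_lit 454), (nat_lit 3081), (nat_lit 3143), (nat_lit 523), (nat_lit 1005), (nat_lit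 4883), (nat_lit 1155), (nat_lit 3759), (nat_lit 1154)])) (.leaf .df))) (.node (.node (.leaf (.cyc (nat_lit 56) [(nat_lit 336), (nat_lit 140), (nat_lit 2926), (nat_lit 275), (nat_lit 592)])) (.leaf .df)) (.node (.leaf (.cyc (nat_lit 25) [(nat_lit 2192), (nat_lit 6666), (nat_lit 6669), (nat_lit 6666), (nat_lit 2192)])) (.leaf .df)))))) (.node (.node (.node (.node (.node (.leaf .df) (.leaf (.cyc (nat_lit 50) [(nat_lit 2399), (nat_lit 1769), (nat_lit 4565), (nat_lit 1769), (nat_lit 2399)]))) (.node (.leaf (.cyc (nat_lit 72) [(nat_lit 4497), (nat_lit 4214), (nat_lit 4497)])) (.leaf .df))) (.node (.node (.leaf .df) (.leaf .df)) (.node (.leaf (.cyc (nat_lit 46) [(nat_lit 4898), (nat_lit 4599), (nat_lit 1789)])) (.leaf .df)))) (.node (.node (.node (.leaf .df) (.leaf (.cyc (nat_lit 27) [(nat_lit 2662), (nat_lit 8477), (nat_lit 2662)]))) (.node (.leaf (.cyc (nat_lit 6) [(nat_lit 1445), (nat_lit 774), (nat_lit 3451), (nat_lit 774), (nat_lit 1445)])) (.leaf .df))) (.node (.node (.leaf (.cyc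 (nat_lit 119) [(nat_lit 3259), (nat_lit 329), (nat_lit 137), (nat_lit 2860), (nat_lit 2855), (nat_lit 2850), (nat_lit 2826), (nat_lit 2823), (nat_lit 2881), (nat_lit 202), (nat_lit 452)])) (.leaf .df)) (.node (.leaf (.cyc (nat_lit 24) [(nat_lit 2120), (nat_lit 5309), (nat_lit 3905), (nat_lit 5309), (nat_lit 2120)])) (.leaf .df))))) (.node (.node (.node (.node (.leaf .df) (.leaf (.cyc (nat_lit 81) [(nat_lit 2532), (nat_lit 7277), (nat_lit 7185), (nat_lit 7591), (nat_lit 7587), (nat_lit 6989), (nat_lit 6427), (nat_lit 2003), (nat_lit 8913), (nat_lit 9032), (nat_lit 9030)]))) (.node (.leaf (.cyc (nat_lit 53) [(nat_lit 644), (nat_lit 298), (nat_lit 297), (nat_lit 643), (nat_lit 1218)])) (.leaf .df))) (.node (.node (.leaf (.cyc (nat_lit 30) [(nat_lit 148), (nat_lit 147), (nat_lit 2961), (nat_lit 147), (nat_lit 148)])) (.leaf .df)) (.node (.leaf (.cyc (nat_lit 56) [(nat_lit 6780), (nat_lit 5461), (nat_lit 1187), (nat_lit 4950), (nat_lit 1962)])) (.leaf .df)))) (.node (.node (.node (.leaf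 .df) (.leaf .df)) (.node (.leaf (.cyc (nat_lit 18) [(nat_lit 5311), (nat_lit 4455), (nat_lit 889), (nat_lit 887), (nat_lit 1615)])) (.leaf .df))) (.node (.node (.leaf (.cyc (nat_lit 27) [(nat_lit 359), (nat_lit 358), (nat_lit 760)])) (.leaf .df)) (.node (.leaf (.cyc (nat_lit 18) [(nat_lit 2266), (nat_lit 5778), (nat_lit 5154), (nat_lit 5778), (nat_lit 2266)])) (.leaf .df))))))))
noncomputable def u5P1100101 : BT Pf := (.node (.node (.node (.node (.node (.node (.node (.leaf .df) (.leaf (.cyc (nat_lit 28) [(nat_lit 2319), (nat_lit 7433), (nat_lit 7435), (nat_lit 7433), (nat_lit 2319)]))) (.node (.leaf (.cyc (nat_lit 37) [(nat_lit 4135), (nat_lit 541), (nat_lit 4063), (nat_lit 413), (nat_lit 840)])) (.leaf .df))) (.node (.node (.leaf .df) (.leaf .df)) (.node (.leaf (.cyc (nat_lit 108) [(nat_lit 984), (nat_lit 512), (nat_lit 3135), (nat_lit 3069), (nat_lit 3119), (nat_lit 3121), (nat_lit 3668), (nat_lit 549), (nat_lit 1042), (nat_lit 5284), (nat_lit 1684)])) (.leaf .df)))) (.node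 (.node (.node (.leaf .df) (.leaf (.cyc (nat_lit 62) [(nat_lit 2581), (nat_lit 7625), (nat_lit 6015), (nat_lit 7625), (nat_lit 2581)]))) (.node (.leaf (.cyc (nat_lit 1) [(nat_lit 986), (nat_lit 987), (nat_lit 5202), (nat_lit 1293)])) (.leaf .df))) (.node (.node (.leaf (.cyc (nat_lit 62) [(nat_lit 248), (nat_lit 3119), (nat_lit 3121), (nat_lit 3119), (nat_lit 248)])) (.leaf .df)) (.node (.leaf (.cyc (nat_lit 51) [(nat_lit 1475), (nat_lit 4102), (nat_lit 790), (nat_lit 791), (nat_lit 4105), (nat_lit 4098), (nat_lit 832), (nat_lit 5739), (nat_lit 7248), (nat_lit 2018), (nat_lit 2019)])) (.leaf .df))))) (.node (.node (.node (.node (.leaf .df) (.leaf (.cyc (nat_lit 37) [(nat_lit 8475), (nat_lit 2371), (nat_lit 8509), (nat_lit 8507), (nat_lit 2449)]))) (.node (.leaf (.cyc (nat_lit 15) [(nat_lit 562), (nat_lit 3694), (nat_lit 1063)])) (.leaf .df))) (.node (.node (.leaf .df) (.leaf .df)) (.node (.leaf (.cyc (nat_lit 40) [(nat_lit 6737), (nat_lit 6564), (nat_lit 6737)])) (.leaf .df))))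 (.node (.node (.node (.leaf .df) (.leaf (.cyc (nat_lit 30) [(nat_lit 2706), (nat_lit 2705), (nat_lit 9808), (nat_lit 2705), (nat_lit 2706)]))) (.node (.leaf (.cyc (nat_lit 6) [(nat_lit 5283), (nat_lit 4142), (nat_lit 813), (nat_lit 815), (nat_lit 1510)])) (.leaf .df))) (.node (.node (.leaf (.cyc (nat_lit 72) [(nat_lit 3551), (nat_lit 3657), (nat_lit 263)])) (.leaf .df)) (.node (.leaf (.cyc (nat_lit 23) [(nat_lit 7762), (nat_lit 2172), (nat_lit 2173)])) (.leaf .df)))))) (.node (.node (.node (.node (.node (.leaf .df) (.leaf (.cyc (nat_lit 27) [(nat_lit 8237), (nat_lit 6744), (nat_lit 2383)]))) (.node (.leaf (.cyc (nat_lit 98) [(nat_lit 948), (nat_lit 947), (nat_lit 4434), (nat_lit 947), (nat_lit 948)])) (.leaf .df))) (.node (.node (.leaf .df) (.leaf .df)) (.node (.leaf (.cyc (nat_lit 73) [(nat_lit 1404), (nat_lit 6479), (nat_lit 1141)])) (.leaf .df)))) (.node (.node (.node (.leaf .df) (.leaf (.cyc (nat_lit 46) [(nat_lit 9497), (nat_lit 9500), (nat_lit 2647)]))) (.node (.leaf (.cyc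 (nat_lit 140) [(nat_lit 5458), (nat_lit 3966), (nat_lit 3769), (nat_lit 3966), (nat_lit 5458)])) (.leaf .df))) (.node (.node (.leaf (.cyc (nat_lit 93) [(nat_lit 437), (nat_lit 192), (nat_lit 75), (nat_lit 2788), (nat_lit 2786), (nat_lit 2783), (nat_lit 2786), (nat_lit 2788), (nat_lit 75), (nat_lit 192), (nat_lit 437)])) (.leaf .df)) (.node (.leaf (.cyc (nat_lit 27) [(nat_lit 1322), (nat_lit 1321), (nat_lit 2102)])) (.leaf .df))))) (.node (.node (.node (.node (.leaf .df) (.leaf (.cyc (nat_lit 37) [(nat_lit 7691), (nat_lit 7516), (nat_lit 7670), (nat_lit 7669), (nat_lit 2516)]))) (.node (.leaf (.cyc (nat_lit 28) [(nat_lit 1184), (nat_lit 4935), (nat_lit 4934), (nat_lit 4935), (nat_lit 1184)])) (.leaf .df))) (.node (.node (.leaf (.cyc (nat_lit 48) [(nat_lit 2870), (nat_lit 2835), (nat_lit 96)])) (.leaf .df)) (.node (.leaf (.cyc (nat_lit 62) [(nat_lit 1464), (nat_lit 4089), (nat_lit 3767), (nat_lit 1167), (nat_lit 1941)])) (.leaf .df)))) (.node (.node (.node (.leaf .df) (.leaf .df))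 (.node (.leaf (.cyc (nat_lit 63) [(nat_lit 1594), (nat_lit 872), (nat_lit 3460), (nat_lit 872), (nat_lit 1594)])) (.leaf .df))) (.node (.node (.leaf (.cyc (nat_lit 45) [(nat_lit 3910), (nat_lit 718), (nat_lit 3267), (nat_lit 341), (nat_lit 728)])) (.leaf .df)) (.node (.leaf (.cyc (nat_lit 15) [(nat_lit 2247), (nat_lit 5681), (nat_lit 2247)])) (.leaf .df))))))) (.node (.node (.node (.node (.node (.node (.leaf .df) (.leaf (.cyc (nat_lit 37) [(nat_lit 2349), (nat_lit 6186), (nat_lit 5854), (nat_lit 6186), (nat_lit 2349)]))) (.node (.leaf (.cyc (nat_lit 95) [(nat_lit 4306), (nat_lit 633), (nat_lit 294), (nat_lit 125), (nat_lit 52), (nat_lit 54), (nat_lit 130), (nat_lit 307), (nat_lit 3239), (nat_lit 440), (nat_lit 868)])) (.leaf .df))) (.node (.node (.leaf .df) (.leaf .df)) (.node (.leaf (.cyc (nat_lit 52) [(nat_lit 1724), (nat_lit 1723), (nat_lit 6338), (nat_lit 1731), (nat_lit 6353), (nat_lit 6169)])) (.leaf .df)))) (.node (.node (.node (.leaf .df) (.leaf (.cyc (nat_lit 46) [(nat_lit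 2618), (nat_lit 8009), (nat_lit 2618)]))) (.node (.leaf (.cyc (nat_lit 34) [(nat_lit 992), (nat_lit 516), (nat_lit 3265), (nat_lit 716), (nat_lit 1348)])) (.leaf .df))) (.node (.node (.leaf (.cyc (nat_lit 10) [(nat_lit 3247), (nat_lit 3282), (nat_lit 3247)])) (.leaf .df)) (.node (.leaf (.cyc (nat_lit 37) [(nat_lit 7343), (nat_lit 5343), (nat_lit 3917), (nat_lit 5149), (nat_lit 2064)])) (.leaf .df))))) (.node (.node (.node (.node (.leaf .df) (.leaf (.cyc (nat_lit 48) [(nat_lit 8717), (nat_lit 6802), (nat_lit 2484)]))) (.node (.leaf (.cyc (nat_lit 49) [(nat_lit 599), (nat_lit 3729), (nat_lit 1121)])) (.leaf .df))) (.node (.node (.leaf (.pin (nat_lit 22) [(nat_lit 8)] [])) (.leaf .df)) (.node (.leaf (.cyc (nat_lit 61) [(nat_lit 6866), (nat_lit 1904), (nat_lit 4839), (nat_lit 4621), (nat_lit 1036), (nat_lit 4360), (nat_lit 4126), (nat_lit 4117), (nat_lit 4118), (nat_lit 829), (nat_lit 1538)])) (.leaf .df)))) (.node (.node (.node (.leaf .df) (.leaf (.cyc (nat_lit 27) [(nat_lit 2734),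 (nat_lit 9412), (nat_lit 2734)]))) (.node (.leaf (.cyc (nat_lit 54) [(nat_lit 1549), (nat_lit 836), (nat_lit 834), (nat_lit 4190), (nat_lit 4192), (nat_lit 3411), (nat_lit 4192), (nat_lit 4190), (nat_lit 834), (nat_lit 836), (nat_lit 1549)])) (.leaf .df))) (.node (.node (.leaf (.cyc (nat_lit 21) [(nat_lit 631), (nat_lit 3222), (nat_lit 3194), (nat_lit 3222), (nat_lit 631)])) (.leaf .df)) (.node (.leaf (.cyc (nat_lit 7) [(nat_lit 7886), (nat_lit 5634), (nat_lit 1859)])) (.leaf .df)))))) (.node (.node (.node (.node (.node (.leaf .df) (.leaf (.cyc (nat_lit 41) [(nat_lit 7089), (nat_lit 7090), (nat_lit 2416)]))) (.node (.leaf (.cyc (nat_lit 62) [(nat_lit 1011), (nat_lit 525), (nat_lit 3148), (nat_lit 525), (nat_lit 1011)])) (.leaf .df))) (.node (.node (.leaf .df) (.leaf .df)) (.node (.leaf (.cyc (nat_lit 145) [(nat_lit 6608), (nat_lit 6609), (nat_lit 1145), (nat_lit 4507), (nat_lit 605), (nat_lit 607), (nat_lit 1147), (nat_lit 6493), (nat_lit 6182), (nat_lit 1669), (nat_lit 5550)]))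 (.leaf .df)))) (.node (.node (.node (.leaf .df) (.leaf (.cyc (nat_lit 18) [(nat_lit 2677), (nat_lit 8792), (nat_lit 6736), (nat_lit 8792), (nat_lit 2677)]))) (.node (.leaf (.cyc (nat_lit 48) [(nat_lit 1471), (nat_lit 4096), (nat_lit 1471)])) (.leaf .df))) (.node (.node (.leaf (.cyc (nat_lit 26) [(nat_lit 487), (nat_lit 221), (nat_lit 2891), (nat_lit 221), (nat_lit 487)])) (.leaf .df)) (.node (.leaf (.cyc (nat_lit 63) [(nat_lit 2138), (nat_lit 7629), (nat_lit 7627), (nat_lit 7629), (nat_lit 2138)])) (.leaf .df))))) (.node (.node (.node (.node (.leaf .df) (.leaf (.cyc (nat_lit 37) [(nat_lit 2549), (nat_lit 8140), (nat_lit 8141), (nat_lit 8140), (nat_lit 2549)]))) (.node (.leaf (.cyc (nat_lit 131) [(nat_lit 902), (nat_lit 3478), (nat_lit 632), (nat_lit 4351), (nat_lit 865), (nat_lit 4203), (nat_lit 5059), (nat_lit 1241), (nat_lit 3845), (nat_lit 3851), (nat_lit 1244)])) (.leaf .df))) (.node (.node (.leaf (.cyc (nat_lit 25) [(nat_lit 178), (nat_lit 70), (nat_lit 2795), (nat_lit 70),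 (nat_lit 178)])) (.leaf .df)) (.node (.leaf (.cyc (nat_lit 112) [(nat_lit 7057), (nat_lit 7122)])) (.leaf .df)))) (.node (.node (.node (.leaf .df) (.leaf .df)) (.node (.leaf (.cyc (nat_lit 79) [(nat_lit 5408), (nat_lit 5402), (nat_lit 1383), (nat_lit 5405), (nat_lit 5099), (nat_lit 5066), (nat_lit 5064), (nat_lit 1253), (nat_lit 5098), (nat_lit 4307), (nat_lit 1636)])) (.leaf .df))) (.node (.node (.leaf (.cyc (nat_lit 113) [(nat_lit 3379), (nat_lit 4040), (nat_lit 391)])) (.leaf .df)) (.node (.leaf (.cyc (nat_lit 28) [(nat_lit 2283), (nat_lit 5851), (nat_lit 5824), (nat_lit 5851), (nat_lit 2283)])) (.leaf .df))))))))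
noncomputable def u5P110010 : BT Pf := .node u5P1100100 u5P1100101
noncomputable def u5P1100110 : BT Pf := (.node (.node (.node (.node (.node (.node (.node (.leaf .df) (.leaf (.cyc (nat_lit 34) [(nat_lit 1977), (nat_lit 6702), (nat_lit 6705), (nat_lit 6268), (nat_lit 2309)]))) (.node (.leaf (.cyc (nat_lit 28) [(nat_lit 403), (nat_lit 170), (nat_lit 169), (nat_lit 402), (nat_lit 817)])) (.leaf .df))) (.node (.node (.leaf .df) (.leaf .df)) (.node (.leaf (.cyc (nat_lit 60) [(nat_lit 4427), (nat_lit 1673), (nat_lit 6192), (nat_lit 1673), (nat_lit 4427)])) (.leaf .df)))) (.node (.node (.node (.leaf .df) (.leaf (.cyc (nat_lit 6) [(nat_lit 2574), (nat_lit 2113), (nat_lit 5273), (nat_lit 2113), (nat_lit 2574)]))) (.node (.leaf (.cyc (nat_lit 18) [(nat_lit 1102), (nat_lit 3724), (nat_lit 3584), (nat_lit 687), (nat_lit 1295)])) (.leaf .df))) (.node (.node (.leaf (.cyc (nat_lit 7) [(nat_lit 3122), (nat_lit 131), (nat_lit 134)])) (.leaf .df)) (.node (.leaf (.cyc (nat_lit 46) [(nat_lit 1275),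 (nat_lit 5043), (nat_lit 2010)])) (.leaf .df))))) (.node (.node (.node (.node (.leaf .df) (.leaf (.cyc (nat_lit 20) [(nat_lit 2441), (nat_lit 6651), (nat_lit 2441)]))) (.node (.leaf (.cyc (nat_lit 63) [(nat_lit 1053), (nat_lit 556), (nat_lit 3181), (nat_lit 556), (nat_lit 1053)])) (.leaf .df))) (.node (.node (.leaf .df) (.leaf .df)) (.node (.leaf (.cyc (nat_lit 16) [(nat_lit 1848), (nat_lit 4729), (nat_lit 3707), (nat_lit 4729), (nat_lit 1848)])) (.leaf .df)))) (.node (.node (.node (.leaf .df) (.leaf (.cyc (nat_lit 18) [(nat_lit 2698), (nat_lit 9022), (nat_lit 8718), (nat_lit 9022), (nat_lit 2698)]))) (.node (.leaf (.cyc (nat_lit 46) [(nat_lit 1057), (nat_lit 4131), (nat_lit 1498)])) (.leaf .df))) (.node (.node (.leaf (.cyc (nat_lit 19) [(nat_lit 542), (nat_lit 253), (nat_lit 3166), (nat_lit 253), (nat_lit 542)])) (.leaf .df)) (.node (.leaf (.cyc (nat_lit 25) [(nat_lit 2164), (nat_lit 6043), (nat_lit 6049), (nat_lit 6043), (nat_lit 2164)])) (.leaf .df)))))) (.node (.node (.node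 (.node (.node (.leaf .df) (.leaf (.cyc (nat_lit 18) [(nat_lit 2374), (nat_lit 6343), (nat_lit 5855), (nat_lit 6343), (nat_lit 2374)]))) (.node (.leaf (.cyc (nat_lit 130) [(nat_lit 4402), (nat_lit 4185), (nat_lit 4188), (nat_lit 4185), (nat_lit 4402)])) (.leaf .df))) (.node (.node (.leaf .df) (.leaf .df)) (.node (.leaf (.cyc (nat_lit 32) [(nat_lit 5376), (nat_lit 5891), (nat_lit 4383), (nat_lit 929), (nat_lit 480), (nat_lit 3365), (nat_lit 3364), (nat_lit 523), (nat_lit 1005), (nat_lit 1763), (nat_lit 6450)])) (.leaf .df)))) (.node (.node (.node (.leaf .df) (.leaf (.cyc (nat_lit 46) [(nat_lit 2640), (nat_lit 8188), (nat_lit 2640)]))) (.node (.leaf (.cyc (nat_lit 35) [(nat_lit 1396), (nat_lit 5422), (nat_lit 5424), (nat_lit 5422), (nat_lit 1396)])) (.leaf .df))) (.node (.node (.leaf (.cyc (nat_lit 48) [(nat_lit 180), (nat_lit 3025), (nat_lit 408)])) (.leaf .df)) (.node (.leaf (.cyc (nat_lit 53) [(nat_lit 2096), (nat_lit 1316), (nat_lit 4283), (nat_lit 1316), (nat_lit 2096)])) (.leaf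 .df))))) (.node (.node (.node (.node (.leaf .df) (.leaf (.cyc (nat_lit 48) [(nat_lit 2507), (nat_lit 7049), (nat_lit 2507)]))) (.node (.leaf (.cyc (nat_lit 27) [(nat_lit 846), (nat_lit 3771), (nat_lit 1169)])) (.leaf .df))) (.node (.node (.leaf (.cyc (nat_lit 23) [(nat_lit 62), (nat_lit 17), (nat_lit 64)])) (.leaf .df)) (.node (.leaf (.cyc (nat_lit 110) [(nat_lit 6962), (nat_lit 6500), (nat_lit 6962)])) (.leaf .df)))) (.node (.node (.node (.leaf .df) (.leaf .df)) (.node (.leaf (.cyc (nat_lit 56) [(nat_lit 1583), (nat_lit 5865), (nat_lit 5866), (nat_lit 5865), (nat_lit 1583)])) (.leaf .df))) (.node (.node (.leaf (.cyc (nat_lit 53) [(nat_lit 698), (nat_lit 327), (nat_lit 2949), (nat_lit 327), (nat_lit 698)])) (.leaf .df)) (.node (.leaf (.cyc (nat_lit 37) [(nat_lit 6472), (nat_lit 6508), (nat_lit 7984), (nat_lit 2233), (nat_lit 2234)])) (.leaf .df))))))) (.node (.node (.node (.node (.node (.node (.leaf .df) (.leaf (.cyc (nat_lit 19) [(nat_lit 2341), (nat_lit 1654), (nat_lit 4325),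 (nat_lit 1654), (nat_lit 2341)]))) (.node (.leaf (.cyc (nat_lit 87) [(nat_lit 3943), (nat_lit 3942), (nat_lit 741), (nat_lit 3326), (nat_lit 375), (nat_lit 2967), (nat_lit 3079), (nat_lit 202), (nat_lit 201), (nat_lit 451), (nat_lit 891)])) (.leaf .df))) (.node (.node (.leaf .df) (.leaf .df)) (.node (.leaf (.cyc (nat_lit 21) [(nat_lit 1717), (nat_lit 4455), (nat_lit 4270), (nat_lit 4455), (nat_lit 1717)])) (.leaf .df)))) (.node (.node (.node (.leaf .df) (.leaf (.cyc (nat_lit 19) [(nat_lit 2608), (nat_lit 2217), (nat_lit 5555), (nat_lit 2217), (nat_lit 2608)]))) (.node (.leaf (.cyc (nat_lit 46) [(nat_lit 1340), (nat_lit 4372), (nat_lit 1340)])) (.leaf .df))) (.node (.node (.leaf (.cyc (nat_lit 95) [(nat_lit 3250), (nat_lit 140), (nat_lit 58), (nat_lit 16), (nat_lit 17), (nat_lit 2775), (nat_lit 35), (nat_lit 2994), (nat_lit 2996), (nat_lit 98), (nat_lit 237)])) (.leaf .df)) (.node (.leaf (.cyc (nat_lit 16) [(nat_lit 2051), (nat_lit 5131), (nat_lit 3866), (nat_lit 5131), (nat_lit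 2051)])) (.leaf .df))))) (.node (.node (.node (.node (.leaf .df) (.leaf (.cyc (nat_lit 58) [(nat_lit 8881), (nat_lit 2176), (nat_lit 7425), (nat_lit 7432), (nat_lit 7426), (nat_lit 7428), (nat_lit 7426), (nat_lit 7432), (nat_lit 7425), (nat_lit 2176), (nat_lit 8881)]))) (.node (.leaf (.cyc (nat_lit 56) [(nat_lit 4762), (nat_lit 1104), (nat_lit 3726), (nat_lit 586), (nat_lit 1111)])) (.leaf .df))) (.node (.node (.leaf .df) (.leaf .df)) (.node (.leaf (.cyc (nat_lit 147) [(nat_lit 6834), (nat_lit 6146), (nat_lit 1653), (nat_lit 4319), (nat_lit 4317), (nat_lit 910), (nat_lit 4313), (nat_lit 5057), (nat_lit 5056), (nat_lit 5621), (nat_lit 6369)])) (.leaf .df)))) (.node (.node (.node (.leaf .df) (.leaf (.cyc (nat_lit 44) [(nat_lit 2727), (nat_lit 9893), (nat_lit 9892), (nat_lit 9893), (nat_lit 2727)]))) (.node (.leaf (.cyc (nat_lit 24) [(nat_lit 1537), (nat_lit 828), (nat_lit 830), (nat_lit 1539), (nat_lit 5809)])) (.leaf .df))) (.node (.node (.leaf (.cyc (nat_lit 63) [(nat_lit 3224),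 (nat_lit 327), (nat_lit 3255), (nat_lit 3208), (nat_lit 616)])) (.leaf .df)) (.node (.leaf (.cyc (nat_lit 50) [(nat_lit 2200), (nat_lit 1436), (nat_lit 4003), (nat_lit 1436), (nat_lit 2200)])) (.leaf .df)))))) (.node (.node (.node (.node (.node (.leaf .df) (.leaf (.cyc (nat_lit 19) [(nat_lit 7823), (nat_lit 7164), (nat_lit 6414), (nat_lit 1777), (nat_lit 2408)]))) (.node (.leaf (.cyc (nat_lit 37) [(nat_lit 4448), (nat_lit 505), (nat_lit 3142), (nat_lit 519), (nat_lit 996)])) (.leaf .df))) (.node (.node (.leaf .df) (.leaf .df)) (.node (.leaf (.cyc (nat_lit 3) [(nat_lit 6578), (nat_lit 6263), (nat_lit 1709)])) (.leaf .df)))) (.node (.node (.node (.leaf .df) (.leaf (.cyc (nat_lit 89) [(nat_lit 2586), (nat_lit 7647), (nat_lit 5399), (nat_lit 1374), (nat_lit 727), (nat_lit 3272), (nat_lit 729), (nat_lit 1377), (nat_lit 6622), (nat_lit 2426), (nat_lit 2670)]))) (.node (.leaf (.cyc (nat_lit 34) [(nat_lit 1460), (nat_lit 784), (nat_lit 3336), (nat_lit 784), (nat_lit 1460)])) (.leaf .df)))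 (.node (.node (.leaf (.cyc (nat_lit 49) [(nat_lit 3492), (nat_lit 3489), (nat_lit 469)])) (.leaf .df)) (.node (.leaf (.cyc (nat_lit 23) [(nat_lit 7521), (nat_lit 7361), (nat_lit 2128)])) (.leaf .df))))) (.node (.node (.node (.node (.leaf .df) (.leaf (.cyc (nat_lit 24) [(nat_lit 8927), (nat_lit 8926), (nat_lit 8395), (nat_lit 7341), (nat_lit 2542)]))) (.node (.leaf (.cyc (nat_lit 26) [(nat_lit 677), (nat_lit 315), (nat_lit 3229), (nat_lit 651), (nat_lit 1234)])) (.leaf .df))) (.node (.node (.leaf (.cyc (nat_lit 74) [(nat_lit 89), (nat_lit 2993)])) (.leaf .df)) (.node (.leaf (.cyc (nat_lit 25) [(nat_lit 1971), (nat_lit 4957), (nat_lit 4740), (nat_lit 4957), (nat_lit 1971)])) (.leaf .df)))) (.node (.node (.node (.leaf .df) (.leaf .df)) (.node (.leaf (.cyc (nat_lit 93) [(nat_lit 1625), (nat_lit 4285), (nat_lit 894), (nat_lit 453), (nat_lit 3079), (nat_lit 146), (nat_lit 148), (nat_lit 357), (nat_lit 759), (nat_lit 5433), (nat_lit 5432)])) (.leaf .df))) (.node (.node (.leaf (.cyc (nat_lit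 46) [(nat_lit 783), (nat_lit 3338), (nat_lit 783)])) (.leaf .df)) (.node (.leaf (.cyc (nat_lit 15) [(nat_lit 7074), (nat_lit 5821), (nat_lit 2275)])) (.leaf .df))))))))
noncomputable def u5P1100111 : BT Pf := (.node (.node (.node (.node (.node (.node (.node (.leaf .df) (.leaf (.cyc (nat_lit 38) [(nat_lit 2099), (nat_lit 6808), (nat_lit 6809), (nat_lit 7433), (nat_lit 7434), (nat_lit 5972), (nat_lit 6107), (nat_lit 1638), (nat_lit 1639), (nat_lit 6110), (nat_lit 2326)]))) (.node (.leaf (.cyc (nat_lit 28) [(nat_lit 698), (nat_lit 3301), (nat_lit 749), (nat_lit 3958), (nat_lit 855)])) (.leaf .df))) (.node (.node (.leaf .df) (.leaf .df)) (.node (.leaf (.cyc (nat_lit 18) [(nat_lit 1696), (nat_lit 944), (nat_lit 3537), (nat_lit 944), (nat_lit 1696)])) (.leaf .df)))) (.node (.node (.node (.leaf .df) (.leaf (.cyc (nat_lit 53) [(nat_lit 2592), (nat_lit 2147), (nat_lit 5393), (nat_lit 2147), (nat_lit 2592)]))) (.node (.leaf (.cyc (nat_lit 41) [(nat_lit 1315), (nat_lit 4283), (nat_lit 1315)]))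 (.leaf .df))) (.node (.node (.leaf (.cyc (nat_lit 44) [(nat_lit 114), (nat_lit 48), (nat_lit 47), (nat_lit 113), (nat_lit 269)])) (.leaf .df)) (.node (.leaf (.cyc (nat_lit 107) [(nat_lit 7280), (nat_lit 7281), (nat_lit 2026), (nat_lit 2025), (nat_lit 7270), (nat_lit 7268), (nat_lit 5812), (nat_lit 1274), (nat_lit 676), (nat_lit 674), (nat_lit 1270)])) (.leaf .df))))) (.node (.node (.node (.node (.leaf .df) (.leaf (.cyc (nat_lit 45) [(nat_lit 2386), (nat_lit 1745), (nat_lit 4743), (nat_lit 1856), (nat_lit 2458)]))) (.node (.leaf (.cyc (nat_lit 51) [(nat_lit 957), (nat_lit 4424), (nat_lit 946), (nat_lit 488), (nat_lit 3353), (nat_lit 3639), (nat_lit 3638), (nat_lit 565), (nat_lit 1072), (nat_lit 4712), (nat_lit 1078)])) (.leaf .df))) (.node (.node (.leaf .df) (.leaf .df)) (.node (.leaf (.cyc (nat_lit 20) [(nat_lit 1106), (nat_lit 1104), (nat_lit 1869)])) (.leaf .df)))) (.node (.node (.node (.leaf .df) (.leaf (.cyc (nat_lit 27) [(nat_lit 2714), (nat_lit 9167), (nat_lit 2714)])))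 (.node (.leaf (.cyc (nat_lit 23) [(nat_lit 822), (nat_lit 821), (nat_lit 1525)])) (.leaf .df))) (.node (.node (.leaf (.cyc (nat_lit 53) [(nat_lit 566), (nat_lit 3508), (nat_lit 3512), (nat_lit 3508), (nat_lit 566)])) (.leaf .df)) (.node (.leaf (.cyc (nat_lit 28) [(nat_lit 2183), (nat_lit 1419), (nat_lit 3980), (nat_lit 1419), (nat_lit 2183)])) (.leaf .df)))))) (.node (.node (.node (.node (.node (.leaf .df) (.leaf (.cyc (nat_lit 107) [(nat_lit 2391), (nat_lit 1754), (nat_lit 4532), (nat_lit 1487), (nat_lit 5650), (nat_lit 4417), (nat_lit 5650), (nat_lit 1487), (nat_lit 4532), (nat_lit 1754), (nat_lit 2391)]))) (.node (.leaf (.cyc (nat_lit 37) [(nat_lit 4371), (nat_lit 311), (nat_lit 3122), (nat_lit 499), (nat_lit 969)])) (.leaf .df))) (.node (.node (.leaf .df) (.leaf .df)) (.node (.leaf (.cyc (nat_lit 15) [(nat_lit 5312), (nat_lit 1349), (nat_lit 6514)])) (.leaf .df)))) (.node (.node (.node (.leaf .df) (.leaf (.cyc (nat_lit 47) [(nat_lit 2654), (nat_lit 2336), (nat_lit 6139), (nat_lit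 2336), (nat_lit 2654)]))) (.node (.leaf (.cyc (nat_lit 26) [(nat_lit 1232), (nat_lit 3973), (nat_lit 3443), (nat_lit 763), (nat_lit 1425)])) (.leaf .df))) (.node (.node (.leaf (.cyc (nat_lit 28) [(nat_lit 359), (nat_lit 149), (nat_lit 147), (nat_lit 355), (nat_lit 3442)])) (.leaf .df)) (.node (.leaf (.cyc (nat_lit 28) [(nat_lit 1812), (nat_lit 4684), (nat_lit 4410), (nat_lit 1332), (nat_lit 2111)])) (.leaf .df))))) (.node (.node (.node (.node (.leaf .df) (.leaf (.cyc (nat_lit 45) [(nat_lit 2525), (nat_lit 7237), (nat_lit 5939), (nat_lit 7237), (nat_lit 2525)]))) (.node (.leaf (.cyc (nat_lit 36) [(nat_lit 1152), (nat_lit 611), (nat_lit 3266), (nat_lit 716), (nat_lit 3906), (nat_lit 644), (nat_lit 298), (nat_lit 296), (nat_lit 3813), (nat_lit 639), (nat_lit 1207)])) (.leaf .df))) (.node (.node (.leaf (.cyc (nat_lit 0) [(nat_lit 118), (nat_lit 119), (nat_lit 2930), (nat_lit 119), (nat_lit 118)])) (.leaf .df)) (.node (.leaf (.cyc (nat_lit 28) [(nat_lit 1950), (nat_lit 5239), (nat_lit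 6491), (nat_lit 5239), (nat_lit 1950)])) (.leaf .df)))) (.node (.node (.node (.leaf .df) (.leaf .df)) (.node (.leaf (.cyc (nat_lit 47) [(nat_lit 1605), (nat_lit 4911), (nat_lit 4912), (nat_lit 4911), (nat_lit 1605)])) (.leaf .df))) (.node (.node (.leaf (.cyc (nat_lit 39) [(nat_lit 3417), (nat_lit 3419), (nat_lit 376), (nat_lit 375), (nat_lit 3326), (nat_lit 349), (nat_lit 2958), (nat_lit 144), (nat_lit 145), (nat_lit 352), (nat_lit 749)])) (.leaf .df)) (.node (.leaf (.cyc (nat_lit 20) [(nat_lit 1516), (nat_lit 1514), (nat_lit 2257)])) (.leaf .df))))))) (.node (.node (.node (.node (.node (.node (.leaf .df) (.leaf (.cyc (nat_lit 49) [(nat_lit 6710), (nat_lit 6719), (nat_lit 2357)]))) (.node (.leaf (.cyc (nat_lit 41) [(nat_lit 921), (nat_lit 3512), (nat_lit 921)])) (.leaf .df))) (.node (.node (.leaf .df) (.leaf .df)) (.node (.leaf (.cyc (nat_lit 48) [(nat_lit 1741), (nat_lit 4483), (nat_lit 1741)])) (.leaf .df)))) (.node (.node (.node (.leaf .df) (.leaf (.cyc (nat_lit 81) [(nat_lit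 2625), (nat_lit 2258), (nat_lit 5728), (nat_lit 5725), (nat_lit 1517), (nat_lit 4172), (nat_lit 1552), (nat_lit 5850), (nat_lit 4480), (nat_lit 1738), (nat_lit 2381)]))) (.node (.leaf (.cyc (nat_lit 37) [(nat_lit 1363), (nat_lit 4834), (nat_lit 4835), (nat_lit 4834), (nat_lit 1363)])) (.leaf .df))) (.node (.node (.leaf (.cyc (nat_lit 27) [(nat_lit 153), (nat_lit 152), (nat_lit 367)])) (.leaf .df)) (.node (.leaf (.cyc (nat_lit 56) [(nat_lit 1300), (nat_lit 689), (nat_lit 3879), (nat_lit 1291), (nat_lit 2076)])) (.leaf .df))))) (.node (.node (.node (.node (.leaf .df) (.leaf (.cyc (nat_lit 16) [(nat_lit 2491), (nat_lit 8735), (nat_lit 8736), (nat_lit 8735), (nat_lit 2491)]))) (.node (.leaf (.cyc (nat_lit 43) [(nat_lit 4837), (nat_lit 1141), (nat_lit 4850), (nat_lit 1141), (nat_lit 4837)])) (.leaf .df))) (.node (.node (.leaf (.cyc (nat_lit 7) [(nat_lit 2775), (nat_lit 2763), (nat_lit 8)])) (.leaf .df)) (.node (.leaf (.cyc (nat_lit 6) [(nat_lit 1914), (nat_lit 1144), (nat_lit 3811),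 (nat_lit 1144), (nat_lit 1914)])) (.leaf .df)))) (.node (.node (.node (.leaf .df) (.leaf (.cyc (nat_lit 19) [(nat_lit 2689), (nat_lit 8902), (nat_lit 2489), (nat_lit 9673), (nat_lit 2740)]))) (.node (.leaf (.cyc (nat_lit 18) [(nat_lit 1237), (nat_lit 3835), (nat_lit 658), (nat_lit 1240), (nat_lit 5874)])) (.leaf .df))) (.node (.node (.leaf (.cyc (nat_lit 20) [(nat_lit 651), (nat_lit 3228), (nat_lit 651)])) (.leaf .df)) (.node (.leaf (.cyc (nat_lit 50) [(nat_lit 5704), (nat_lit 1509), (nat_lit 5940), (nat_lit 5941), (nat_lit 2216)])) (.leaf .df)))))) (.node (.node (.node (.node (.node (.leaf .df) (.leaf (.cyc (nat_lit 45) [(nat_lit 7276), (nat_lit 2243), (nat_lit 8011), (nat_lit 7837), (nat_lit 2423)]))) (.node (.leaf (.cyc (nat_lit 120) [(nat_lit 570), (nat_lit 267), (nat_lit 3179), (nat_lit 553), (nat_lit 4086), (nat_lit 542), (nat_lit 253), (nat_lit 3166), (nat_lit 3162), (nat_lit 538), (nat_lit 1029)])) (.leaf .df))) (.node (.node (.leaf .df) (.leaf .df)) (.node (.leaf (.cyc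 (nat_lit 56) [(nat_lit 5537), (nat_lit 1122), (nat_lit 1121), (nat_lit 5002), (nat_lit 1823)])) (.leaf .df)))) (.node (.node (.node (.leaf .df) (.leaf (.cyc (nat_lit 62) [(nat_lit 2683), (nat_lit 2460), (nat_lit 6739), (nat_lit 2460), (nat_lit 2683)]))) (.node (.leaf (.cyc (nat_lit 151) [(nat_lit 1139), (nat_lit 599), (nat_lit 4784), (nat_lit 4632), (nat_lit 5614), (nat_lit 5617), (nat_lit 1453), (nat_lit 4241), (nat_lit 875), (nat_lit 442), (nat_lit 3415), (nat_lit 3957), (nat_lit 747), (nat_lit 745), (nat_lit 3960), (nat_lit 3949), (nat_lit 1249), (nat_lit 5093)])) (.leaf .df))) (.node (.node (.leaf (.cyc (nat_lit 31) [(nat_lit 502), (nat_lit 3385), (nat_lit 3386), (nat_lit 3385), (nat_lit 502)])) (.leaf .df)) (.node (.leaf (.cyc (nat_lit 148) [(nat_lit 5573), (nat_lit 5581), (nat_lit 5583), (nat_lit 5451), (nat_lit 5452), (nat_lit 7400), (nat_lit 7399), (nat_lit 7402), (nat_lit 6889), (nat_lit 7666), (nat_lit 7665), (nat_lit 1905), (nat_lit 4841), (nat_lit 1143), (nat_lit 5609),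 (nat_lit 1479), (nat_lit 1480)])) (.leaf .df))))) (.node (.node (.node (.node (.leaf .df) (.leaf (.cyc (nat_lit 62) [(nat_lit 2557), (nat_lit 2087), (nat_lit 5186), (nat_lit 2087), (nat_lit 2557)]))) (.node (.leaf (.cyc (nat_lit 10) [(nat_lit 5106), (nat_lit 4753), (nat_lit 5106)])) (.leaf .df))) (.node (.node (.leaf (.cyc (nat_lit 31) [(nat_lit 191), (nat_lit 2998), (nat_lit 2890), (nat_lit 2998), (nat_lit 191)])) (.leaf .df)) (.node (.leaf (.cyc (nat_lit 45) [(nat_lit 1208), (nat_lit 639), (nat_lit 3802), (nat_lit 1200), (nat_lit 1987)])) (.leaf .df)))) (.node (.node (.node (.leaf .df) (.leaf .df)) (.node (.leaf (.cyc (nat_lit 21) [(nat_lit 1647), (nat_lit 4313), (nat_lit 3483), (nat_lit 4313), (nat_lit 1647)])) (.leaf .df))) (.node (.node (.leaf (.cyc (nat_lit 111) [(nat_lit 500), (nat_lit 228), (nat_lit 4043), (nat_lit 380), (nat_lit 785)])) (.leaf .df)) (.node (.leaf (.cyc (nat_lit 33) [(nat_lit 8178), (nat_lit 5943), (nat_lit 6887), (nat_lit 6885), (nat_lit 2106)])) (.leaf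 .df))))))))
noncomputable def u5P110011 : BT Pf := .node u5P1100110 u5P1100111
noncomputable def u5P11001 : BT Pf := .node u5P110010 u5P110011
noncomputable def u5P1100 : BT Pf := .node u5P11000 u5P11001
noncomputable def u5P1101000 : BT Pf := (.node (.node (.node (.node (.node (.node (.node (.leaf .df) (.leaf (.cyc (nat_lit 27) [(nat_lit 2298), (nat_lit 5949), (nat_lit 2298)]))) (.node (.leaf (.cyc (nat_lit 107) [(nat_lit 794), (nat_lit 390), (nat_lit 4058), (nat_lit 103), (nat_lit 43), (nat_lit 2796), (nat_lit 69), (nat_lit 174), (nat_lit 3020), (nat_lit 3199), (nat_lit 603)])) (.leaf .df))) (.node (.node (.leaf .df) (.leaf .df)) (.node (.leaf (.cyc (nat_lit 133) [(nat_lit 1656), (nat_lit 913), (nat_lit 914), (nat_lit 4326), (nat_lit 888), (nat_lit 4267), (nat_lit 886), (nat_lit 4093), (nat_lit 1470), (nat_lit 5579), (nat_lit 5580)])) (.leaf .df)))) (.node (.node (.node (.leaf .df) (.leaf (.cyc (nat_lit 45) [(nat_lit 2566), (nat_lit 7532), (nat_lit 7337), (nat_lit 7532), (nat_lit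 2566)]))) (.node (.leaf (.cyc (nat_lit 23) [(nat_lit 677), (nat_lit 674), (nat_lit 1271)])) (.leaf .df))) (.node (.node (.leaf (.cyc (nat_lit 63) [(nat_lit 106), (nat_lit 45), (nat_lit 2810), (nat_lit 81), (nat_lit 204)])) (.leaf .df)) (.node (.leaf (.cyc (nat_lit 15) [(nat_lit 5853), (nat_lit 5003), (nat_lit 1996)])) (.leaf .df))))) (.node (.node (.node (.node (.leaf .df) (.leaf (.cyc (nat_lit 31) [(nat_lit 2430), (nat_lit 8710), (nat_lit 8709), (nat_lit 8710), (nat_lit 2430)]))) (.node (.leaf (.cyc (nat_lit 1) [(nat_lit 4617), (nat_lit 625), (nat_lit 626)])) (.leaf .df))) (.node (.node (.leaf .df) (.leaf .df)) (.node (.leaf (.cyc (nat_lit 110) [(nat_lit 6666), (nat_lit 1428), (nat_lit 1427)])) (.leaf .df)))) (.node (.node (.node (.leaf .df) (.leaf (.cyc (nat_lit 129) [(nat_lit 9738), (nat_lit 9086), (nat_lit 2527), (nat_lit 7252), (nat_lit 5595), (nat_lit 7922), (nat_lit 2607), (nat_lit 9390), (nat_lit 9387), (nat_lit 2622), (nat_lit 9445)]))) (.node (.leaf (.cyc (nat_lit 134)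 [(nat_lit 5642), (nat_lit 4164), (nat_lit 828), (nat_lit 4118), (nat_lit 4120), (nat_lit 406), (nat_lit 3104), (nat_lit 454), (nat_lit 898), (nat_lit 4673), (nat_lit 4745)])) (.leaf .df))) (.node (.node (.leaf (.cyc (nat_lit 21) [(nat_lit 514), (nat_lit 3136), (nat_lit 2931), (nat_lit 3136), (nat_lit 514)])) (.leaf .df)) (.node (.leaf (.cyc (nat_lit 46) [(nat_lit 7509), (nat_lit 7510), (nat_lit 2154)])) (.leaf .df)))))) (.node (.node (.node (.node (.node (.leaf .df) (.leaf (.cyc (nat_lit 62) [(nat_lit 2362), (nat_lit 6253), (nat_lit 5359), (nat_lit 6253), (nat_lit 2362)]))) (.node (.leaf (.cyc (nat_lit 94) [(nat_lit 598), (nat_lit 3727), (nat_lit 4361), (nat_lit 3727), (nat_lit 598)])) (.leaf .df))) (.node (.node (.leaf .df) (.leaf .df)) (.node (.leaf (.cyc (nat_lit 2) [(nat_lit 6409), (nat_lit 5205), (nat_lit 4348), (nat_lit 4349), (nat_lit 1196)])) (.leaf .df)))) (.node (.node (.node (.leaf .df) (.leaf (.cyc (nat_lit 34) [(nat_lit 2632), (nat_lit 2277), (nat_lit 5829), (nat_lit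 2277), (nat_lit 2632)]))) (.node (.leaf (.cyc (nat_lit 87) [(nat_lit 1374), (nat_lit 5367), (nat_lit 1365), (nat_lit 725), (nat_lit 726), (nat_lit 3920), (nat_lit 726), (nat_lit 725), (nat_lit 1365), (nat_lit 5367), (nat_lit 1374)])) (.leaf .df))) (.node (.node (.leaf (.cyc (nat_lit 94) [(nat_lit 375), (nat_lit 376), (nat_lit 3338), (nat_lit 376), (nat_lit 375)])) (.leaf .df)) (.node (.leaf (.cyc (nat_lit 31) [(nat_lit 2082), (nat_lit 5578), (nat_lit 5577), (nat_lit 5578), (nat_lit 2082)])) (.leaf .df))))) (.node (.node (.node (.node (.leaf .df) (.leaf (.cyc (nat_lit 49) [(nat_lit 8841), (nat_lit 7212), (nat_lit 2497)]))) (.node (.leaf (.cyc (nat_lit 37) [(nat_lit 1092), (nat_lit 4667), (nat_lit 4669), (nat_lit 4500), (nat_lit 1151)])) (.leaf .df))) (.node (.node (.leaf (.cyc (nat_lit 33) [(nat_lit 2825), (nat_lit 34), (nat_lit 3), (nat_lit 1), (nat_lit 33)])) (.leaf .df)) (.node (.leaf (.cyc (nat_lit 18) [(nat_lit 1163), (nat_lit 616), (nat_lit 3757), (nat_lit 1153), (nat_lit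 1923)])) (.leaf .df)))) (.node (.node (.node (.leaf .df) (.leaf (.cyc (nat_lit 41) [(nat_lit 2745), (nat_lit 9811), (nat_lit 2745)]))) (.node (.leaf (.cyc (nat_lit 101) [(nat_lit 1370), (nat_lit 5361), (nat_lit 5898), (nat_lit 5361), (nat_lit 1370)])) (.leaf .df))) (.node (.node (.leaf (.cyc (nat_lit 27) [(nat_lit 309), (nat_lit 308), (nat_lit 661)])) (.leaf .df)) (.node (.leaf (.cyc (nat_lit 63) [(nat_lit 2223), (nat_lit 5574), (nat_lit 5544), (nat_lit 5574), (nat_lit 2223)])) (.leaf .df))))))) (.node (.node (.node (.node (.node (.node (.leaf .df) (.leaf (.cyc (nat_lit 62) [(nat_lit 6775), (nat_lit 6727), (nat_lit 6729), (nat_lit 6124), (nat_lit 2332)]))) (.node (.leaf (.cyc (nat_lit 27) [(nat_lit 442), (nat_lit 441), (nat_lit 871)])) (.leaf .df))) (.node (.node (.leaf .df) (.leaf .df)) (.node (.leaf (.cyc (nat_lit 7) [(nat_lit 6282), (nat_lit 6114), (nat_lit 6168)])) (.leaf .df)))) (.node (.node (.node (.leaf .df) (.leaf (.cyc (nat_lit 27) [(nat_lit 2599), (nat_lit 7780), (nat_lit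 2599)]))) (.node (.leaf (.cyc (nat_lit 46) [(nat_lit 5243), (nat_lit 1329), (nat_lit 5257)])) (.leaf .df))) (.node (.node (.leaf (.cyc (nat_lit 6) [(nat_lit 286), (nat_lit 3066), (nat_lit 3064), (nat_lit 3066), (nat_lit 286)])) (.leaf .df)) (.node (.leaf (.cyc (nat_lit 34) [(nat_lit 6356), (nat_lit 966), (nat_lit 3999), (nat_lit 5104), (nat_lit 2034)])) (.leaf .df))))) (.node (.node (.node (.node (.leaf .df) (.leaf (.cyc (nat_lit 14) [(nat_lit 8842), (nat_lit 8433), (nat_lit 8306), (nat_lit 2328), (nat_lit 8739)]))) (.node (.leaf (.cyc (nat_lit 6) [(nat_lit 1094), (nat_lit 4266), (nat_lit 4265), (nat_lit 4266), (nat_lit 1094)])) (.leaf .df))) (.node (.node (.leaf .df) (.leaf .df)) (.node (.leaf (.cyc (nat_lit 21) [(nat_lit 1796), (nat_lit 1038), (nat_lit 4365), (nat_lit 1115), (nat_lit 1879)])) (.leaf .df)))) (.node (.node (.node (.leaf .df) (.leaf (.cyc (nat_lit 41) [(nat_lit 2719), (nat_lit 9213), (nat_lit 2719)]))) (.node (.leaf (.cyc (nat_lit 16) [(nat_lit 1530), (nat_lit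 4572), (nat_lit 4574), (nat_lit 4572), (nat_lit 1530)])) (.leaf .df))) (.node (.node (.leaf (.cyc (nat_lit 75) [(nat_lit 573), (nat_lit 574), (nat_lit 3721), (nat_lit 581), (nat_lit 580)])) (.leaf .df)) (.node (.leaf (.cyc (nat_lit 51) [(nat_lit 2037), (nat_lit 5110), (nat_lit 5787), (nat_lit 1352), (nat_lit 3929), (nat_lit 3914), (nat_lit 732), (nat_lit 3927), (nat_lit 764), (nat_lit 1427), (nat_lit 2190)])) (.leaf .df)))))) (.node (.node (.node (.node (.node (.leaf .df) (.leaf (.cyc (nat_lit 23) [(nat_lit 1769), (nat_lit 1768), (nat_lit 2398)]))) (.node (.leaf (.cyc (nat_lit 63) [(nat_lit 887), (nat_lit 450), (nat_lit 3134), (nat_lit 512), (nat_lit 983)])) (.leaf .df))) (.node (.node (.leaf .df) (.leaf .df)) (.node (.leaf (.cyc (nat_lit 26) [(nat_lit 1786), (nat_lit 1030), (nat_lit 3628), (nat_lit 1030), (nat_lit 1786)])) (.leaf .df)))) (.node (.node (.node (.leaf .df) (.leaf (.cyc (nat_lit 47) [(nat_lit 2660), (nat_lit 2364), (nat_lit 6300), (nat_lit 2364), (nat_lit 2660)])))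 (.node (.leaf (.cyc (nat_lit 15) [(nat_lit 1031), (nat_lit 4005), (nat_lit 1442)])) (.leaf .df))) (.node (.node (.leaf (.cyc (nat_lit 20) [(nat_lit 447), (nat_lit 3068), (nat_lit 447)])) (.leaf .df)) (.node (.leaf (.cyc (nat_lit 6) [(nat_lit 2118), (nat_lit 5301), (nat_lit 5140), (nat_lit 5301), (nat_lit 2118)])) (.leaf .df))))) (.node (.node (.node (.node (.leaf .df) (.leaf (.cyc (nat_lit 27) [(nat_lit 2531), (nat_lit 7273), (nat_lit 2531)]))) (.node (.leaf (.cyc (nat_lit 56) [(nat_lit 5000), (nat_lit 1211), (nat_lit 641), (nat_lit 642), (nat_lit 1213)])) (.leaf .df))) (.node (.node (.leaf (.cyc (nat_lit 16) [(nat_lit 144), (nat_lit 2862), (nat_lit 2858), (nat_lit 2862), (nat_lit 144)])) (.leaf .df)) (.node (.leaf (.cyc (nat_lit 46) [(nat_lit 7006), (nat_lit 7008), (nat_lit 1958)])) (.leaf .df)))) (.node (.node (.node (.leaf .df) (.leaf .df)) (.node (.leaf (.cyc (nat_lit 49) [(nat_lit 887), (nat_lit 4267), (nat_lit 1612)])) (.leaf .df))) (.node (.node (.leaf (.cyc (nat_lit 46)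 [(nat_lit 3894), (nat_lit 3474), (nat_lit 757)])) (.leaf .df)) (.node (.leaf (.cyc (nat_lit 44) [(nat_lit 2264), (nat_lit 1528), (nat_lit 4152), (nat_lit 1528), (nat_lit 2264)])) (.leaf .df))))))))
noncomputable def u5P1101001 : BT Pf := (.node (.node (.node (.node (.node (.node (.node (.leaf .df) (.leaf (.cyc (nat_lit 53) [(nat_lit 2266), (nat_lit 1532), (nat_lit 4299), (nat_lit 1630), (nat_lit 2317)]))) (.node (.leaf (.cyc (nat_lit 48) [(nat_lit 838), (nat_lit 3381), (nat_lit 838)])) (.leaf .df))) (.node (.node (.leaf .df) (.leaf .df)) (.node (.leaf (.cyc (nat_lit 62) [(nat_lit 1681), (nat_lit 934), (nat_lit 3526), (nat_lit 934), (nat_lit 1681)])) (.leaf .df)))) (.node (.node (.node (.leaf .df) (.leaf (.cyc (nat_lit 63) [(nat_lit 9036), (nat_lit 2008), (nat_lit 2007), (nat_lit 7615), (nat_lit 2579)]))) (.node (.leaf (.cyc (nat_lit 10) [(nat_lit 5194), (nat_lit 1241), (nat_lit 5049)])) (.leaf .df))) (.node (.node (.leaf (.cyc (nat_lit 48) [(nat_lit 103), (nat_lit 2906), (nat_lit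 243)])) (.leaf .df)) (.node (.leaf (.cyc (nat_lit 74) [(nat_lit 1946), (nat_lit 7242)])) (.leaf .df))))) (.node (.node (.node (.node (.leaf .df) (.leaf (.cyc (nat_lit 35) [(nat_lit 2447), (nat_lit 8763), (nat_lit 8764), (nat_lit 8763), (nat_lit 2447)]))) (.node (.leaf (.cyc (nat_lit 128) [(nat_lit 943), (nat_lit 3535), (nat_lit 485), (nat_lit 221), (nat_lit 2891), (nat_lit 3001), (nat_lit 167), (nat_lit 399), (nat_lit 805), (nat_lit 4131), (nat_lit 1059)])) (.leaf .df))) (.node (.node (.leaf .df) (.leaf .df)) (.node (.leaf (.cyc (nat_lit 27) [(nat_lit 1856), (nat_lit 4744), (nat_lit 1856)])) (.leaf .df)))) (.node (.node (.node (.leaf .df) (.leaf (.cyc (nat_lit 54) [(nat_lit 2704), (nat_lit 2530), (nat_lit 8541), (nat_lit 8543), (nat_lit 8542), (nat_lit 8539), (nat_lit 2443), (nat_lit 9000), (nat_lit 8998), (nat_lit 2603), (nat_lit 9372)]))) (.node (.leaf (.cyc (nat_lit 27) [(nat_lit 1508), (nat_lit 4144), (nat_lit 1508)])) (.leaf .df))) (.node (.node (.leaf (.cyc (nat_lit 74)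 [(nat_lit 258), (nat_lit 3651)])) (.leaf .df)) (.node (.leaf (.cyc (nat_lit 57) [(nat_lit 7157), (nat_lit 7344), (nat_lit 7346), (nat_lit 2148), (nat_lit 7666), (nat_lit 6889), (nat_lit 7402), (nat_lit 7400), (nat_lit 1408), (nat_lit 5437), (nat_lit 2170)])) (.leaf .df)))))) (.node (.node (.node (.node (.node (.leaf .df) (.leaf (.cyc (nat_lit 62) [(nat_lit 2380), (nat_lit 6381), (nat_lit 4726), (nat_lit 6381), (nat_lit 2380)]))) (.node (.leaf (.cyc (nat_lit 23) [(nat_lit 4425), (nat_lit 946), (nat_lit 949)])) (.leaf .df))) (.node (.node (.leaf .df) (.leaf .df)) (.node (.leaf (.cyc (nat_lit 40) [(nat_lit 1129), (nat_lit 6474), (nat_lit 1441), (nat_lit 1439)])) (.leaf .df)))) (.node (.node (.node (.leaf .df) (.leaf (.cyc (nat_lit 63) [(nat_lit 2645), (nat_lit 8279), (nat_lit 8277), (nat_lit 8279), (nat_lit 2645)]))) (.node (.leaf (.cyc (nat_lit 41) [(nat_lit 1411), (nat_lit 3963), (nat_lit 1411)])) (.leaf .df))) (.node (.node (.leaf (.cyc (nat_lit 20) [(nat_lit 236), (nat_lit 3044),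 (nat_lit 430)])) (.leaf .df)) (.node (.leaf (.cyc (nat_lit 107) [(nat_lit 7495), (nat_lit 7493), (nat_lit 2101), (nat_lit 5243), (nat_lit 4412), (nat_lit 706), (nat_lit 708), (nat_lit 4396), (nat_lit 4395), (nat_lit 1342), (nat_lit 6398)])) (.leaf .df))))) (.node (.node (.node (.node (.leaf .df) (.leaf (.cyc (nat_lit 41) [(nat_lit 2454), (nat_lit 7135), (nat_lit 2514)]))) (.node (.leaf (.cyc (nat_lit 62) [(nat_lit 1178), (nat_lit 3790), (nat_lit 3813), (nat_lit 3790), (nat_lit 1178)])) (.leaf .df))) (.node (.node (.leaf (.cyc (nat_lit 6) [(nat_lit 88), (nat_lit 35), (nat_lit 2806), (nat_lit 35), (nat_lit 88)])) (.leaf .df)) (.node (.leaf (.cyc (nat_lit 20) [(nat_lit 1575), (nat_lit 4893), (nat_lit 1938)])) (.leaf .df)))) (.node (.node (.node (.leaf .df) (.leaf .df)) (.node (.leaf (.cyc (nat_lit 45) [(nat_lit 1409), (nat_lit 750), (nat_lit 3459), (nat_lit 871), (nat_lit 1592)])) (.leaf .df))) (.node (.node (.leaf (.cyc (nat_lit 34) [(nat_lit 720), (nat_lit 718), (nat_lit 3912),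 (nat_lit 718), (nat_lit 720)])) (.leaf .df)) (.node (.leaf (.cyc (nat_lit 107) [(nat_lit 2243), (nat_lit 5647), (nat_lit 4532), (nat_lit 4530), (nat_lit 817), (nat_lit 4145), (nat_lit 1511), (nat_lit 7863), (nat_lit 7864), (nat_lit 7865), (nat_lit 7837)])) (.leaf .df))))))) (.node (.node (.node (.node (.node (.node (.leaf .df) (.leaf (.cyc (nat_lit 49) [(nat_lit 2007), (nat_lit 2009), (nat_lit 8394)]))) (.node (.leaf (.cyc (nat_lit 45) [(nat_lit 825), (nat_lit 406), (nat_lit 3104), (nat_lit 454), (nat_lit 899)])) (.leaf .df))) (.node (.node (.leaf .df) (.leaf .df)) (.node (.leaf (.cyc (nat_lit 41) [(nat_lit 5862), (nat_lit 5863), (nat_lit 1728)])) (.leaf .df)))) (.node (.node (.node (.leaf .df) (.leaf (.cyc (nat_lit 53) [(nat_lit 8691), (nat_lit 2532), (nat_lit 9107), (nat_lit 8069), (nat_lit 2616)]))) (.node (.leaf (.cyc (nat_lit 25) [(nat_lit 990), (nat_lit 515), (nat_lit 3265), (nat_lit 715), (nat_lit 1347)])) (.leaf .df))) (.node (.node (.leaf (.cyc (nat_lit 56) [(nat_lit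 3038), (nat_lit 3206), (nat_lit 3269), (nat_lit 3268), (nat_lit 346)])) (.leaf .df)) (.node (.leaf (.cyc (nat_lit 62) [(nat_lit 2060), (nat_lit 1278), (nat_lit 3871), (nat_lit 1278), (nat_lit 2060)])) (.leaf .df))))) (.node (.node (.node (.node (.leaf .df) (.leaf (.cyc (nat_lit 46) [(nat_lit 2482), (nat_lit 6800), (nat_lit 2482)]))) (.node (.leaf (.cyc (nat_lit 29) [(nat_lit 1098), (nat_lit 4676), (nat_lit 4810), (nat_lit 4809), (nat_lit 4781), (nat_lit 4705)])) (.leaf .df))) (.node (.node (.leaf (.pin (nat_lit 14) [(nat_lit 4)] [])) (.leaf .df)) (.node (.leaf (.cyc (nat_lit 21) [(nat_lit 1903), (nat_lit 1133), (nat_lit 3741), (nat_lit 1133), (nat_lit 1903)])) (.leaf .df)))) (.node (.node (.node (.leaf .df) (.leaf (.cyc (nat_lit 19) [(nat_lit 2642), (nat_lit 8193), (nat_lit 2298), (nat_lit 9404), (nat_lit 2732)]))) (.node (.leaf (.cyc (nat_lit 31) [(nat_lit 1066), (nat_lit 4661), (nat_lit 4166), (nat_lit 835), (nat_lit 1547)])) (.leaf .df))) (.node (.node (.leaf (.cyc (nat_lit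 111) [(nat_lit 579), (nat_lit 3714), (nat_lit 3786), (nat_lit 3714), (nat_lit 579)])) (.leaf .df)) (.node (.leaf (.cyc (nat_lit 39) [(nat_lit 7866), (nat_lit 1440), (nat_lit 771), (nat_lit 4082), (nat_lit 364), (nat_lit 365), (nat_lit 774), (nat_lit 1445), (nat_lit 5523), (nat_lit 5522), (nat_lit 2207)])) (.leaf .df)))))) (.node (.node (.node (.node (.node (.leaf .df) (.leaf (.cyc (nat_lit 41) [(nat_lit 1991), (nat_lit 6532), (nat_lit 2414)]))) (.node (.leaf (.cyc (nat_lit 6) [(nat_lit 531), (nat_lit 247), (nat_lit 3147), (nat_lit 525), (nat_lit 1009)])) (.leaf .df))) (.node (.node (.leaf .df) (.leaf .df)) (.node (.leaf (.cyc (nat_lit 53) [(nat_lit 1446), (nat_lit 4524), (nat_lit 6431), (nat_lit 6601), (nat_lit 6602)])) (.leaf .df)))) (.node (.node (.node (.leaf .df) (.leaf (.cyc (nat_lit 20) [(nat_lit 9101), (nat_lit 8719), (nat_lit 2675)]))) (.node (.leaf (.cyc (nat_lit 62) [(nat_lit 1470), (nat_lit 4094), (nat_lit 3962), (nat_lit 4094), (nat_lit 1470)])) (.leaf .df))) (.node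 (.node (.leaf (.cyc (nat_lit 27) [(nat_lit 3398), (nat_lit 3397), (nat_lit 484)])) (.leaf .df)) (.node (.leaf (.cyc (nat_lit 18) [(nat_lit 2136), (nat_lit 5894), (nat_lit 4720), (nat_lit 5894), (nat_lit 2136)])) (.leaf .df))))) (.node (.node (.node (.node (.leaf .df) (.leaf (.cyc (nat_lit 20) [(nat_lit 2060), (nat_lit 2059), (nat_lit 2547)]))) (.node (.leaf (.cyc (nat_lit 54) [(nat_lit 5064), (nat_lit 665), (nat_lit 3851), (nat_lit 3994), (nat_lit 760), (nat_lit 3363), (nat_lit 3361), (nat_lit 3360), (nat_lit 3359), (nat_lit 440), (nat_lit 869)])) (.leaf .df))) (.node (.node (.leaf (.cyc (nat_lit 31) [(nat_lit 102), (nat_lit 43), (nat_lit 2796), (nat_lit 69), (nat_lit 173)])) (.leaf .df)) (.node (.leaf (.cyc (nat_lit 48) [(nat_lit 1198), (nat_lit 4967), (nat_lit 1978)])) (.leaf .df)))) (.node (.node (.node (.leaf .df) (.leaf .df)) (.node (.leaf (.cyc (nat_lit 48) [(nat_lit 907), (nat_lit 4301), (nat_lit 1633)])) (.leaf .df))) (.node (.node (.leaf (.cyc (nat_lit 74) [(nat_lit 382),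 (nat_lit 4036)])) (.leaf .df)) (.node (.leaf (.cyc (nat_lit 56) [(nat_lit 7181), (nat_lit 7179), (nat_lit 1553), (nat_lit 5849), (nat_lit 2282)])) (.leaf .df))))))))
noncomputable def u5P110100 : BT Pf := .node u5P1101000 u5P1101001
noncomputable def u5P1101010 : BT Pf := (.node (.node (.node (.node (.node (.node (.node (.leaf .df) (.leaf (.cyc (nat_lit 62) [(nat_lit 2256), (nat_lit 5718), (nat_lit 1516), (nat_lit 6585), (nat_lit 2306)]))) (.node (.leaf (.cyc (nat_lit 30) [(nat_lit 810), (nat_lit 400), (nat_lit 3007), (nat_lit 400), (nat_lit 810)])) (.leaf .df))) (.node (.node (.leaf .df) (.leaf .df)) (.node (.leaf (.cyc (nat_lit 45) [(nat_lit 1671), (nat_lit 4383), (nat_lit 4174), (nat_lit 4383), (nat_lit 1671)])) (.leaf .df)))) (.node (.node (.node (.leaf .df) (.leaf (.cyc (nat_lit 27) [(nat_lit 2523), (nat_lit 7542), (nat_lit 2573)]))) (.node (.leaf (.cyc (nat_lit 37) [(nat_lit 1288), (nat_lit 4581), (nat_lit 4582), (nat_lit 4581), (nat_lit 1288)])) (.leaf .df))) (.node (.node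 (.leaf (.cyc (nat_lit 20) [(nat_lit 166), (nat_lit 3001), (nat_lit 221)])) (.leaf .df)) (.node (.leaf (.cyc (nat_lit 39) [(nat_lit 1920), (nat_lit 4864), (nat_lit 6196), (nat_lit 948), (nat_lit 947), (nat_lit 4434), (nat_lit 1700), (nat_lit 6275), (nat_lit 6292), (nat_lit 6293), (nat_lit 2006)])) (.leaf .df))))) (.node (.node (.node (.node (.leaf .df) (.leaf (.cyc (nat_lit 10) [(nat_lit 8746), (nat_lit 2224), (nat_lit 7938)]))) (.node (.leaf (.cyc (nat_lit 31) [(nat_lit 1050), (nat_lit 3688), (nat_lit 3547), (nat_lit 3688), (nat_lit 1050)])) (.leaf .df))) (.node (.node (.leaf .df) (.leaf .df)) (.node (.leaf (.cyc (nat_lit 26) [(nat_lit 1844), (nat_lit 1080), (nat_lit 3708), (nat_lit 1080), (nat_lit 1844)])) (.leaf .df)))) (.node (.node (.node (.leaf .df) (.leaf (.cyc (nat_lit 18) [(nat_lit 2696), (nat_lit 2510), (nat_lit 7058), (nat_lit 2510), (nat_lit 2696)]))) (.node (.leaf (.cyc (nat_lit 20) [(nat_lit 804), (nat_lit 803), (nat_lit 1496)])) (.leaf .df))) (.node (.node (.leaf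 (.cyc (nat_lit 18) [(nat_lit 538), (nat_lit 3162), (nat_lit 3166), (nat_lit 3162), (nat_lit 538)])) (.leaf .df)) (.node (.leaf (.cyc (nat_lit 23) [(nat_lit 6995), (nat_lit 6993), (nat_lit 2162)])) (.leaf .df)))))) (.node (.node (.node (.node (.node (.leaf .df) (.leaf (.cyc (nat_lit 45) [(nat_lit 2372), (nat_lit 8397), (nat_lit 8396), (nat_lit 8397), (nat_lit 2372)]))) (.node (.leaf (.cyc (nat_lit 34) [(nat_lit 4367), (nat_lit 400), (nat_lit 3113), (nat_lit 482), (nat_lit 937)])) (.leaf .df))) (.node (.node (.leaf .df) (.leaf .df)) (.node (.leaf (.cyc (nat_lit 48) [(nat_lit 5887), (nat_lit 5884), (nat_lit 1761)])) (.leaf .df)))) (.node (.node (.node (.leaf .df) (.leaf (.cyc (nat_lit 118) [(nat_lit 9257), (nat_lit 2528), (nat_lit 2017), (nat_lit 5081), (nat_lit 5082), (nat_lit 1246), (nat_lit 662), (nat_lit 661), (nat_lit 4616), (nat_lit 1334), (nat_lit 5277), (nat_lit 5279), (nat_lit 1948), (nat_lit 7018), (nat_lit 8167), (nat_lit 2638), (nat_lit 9513)]))) (.node (.leaf (.cyc (nat_lit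 31) [(nat_lit 738), (nat_lit 348), (nat_lit 346), (nat_lit 736), (nat_lit 1388)])) (.leaf .df))) (.node (.node (.leaf (.cyc (nat_lit 27) [(nat_lit 400), (nat_lit 3006), (nat_lit 400)])) (.leaf .df)) (.node (.leaf (.cyc (nat_lit 37) [(nat_lit 2093), (nat_lit 5220), (nat_lit 3930), (nat_lit 5220), (nat_lit 2093)])) (.leaf .df))))) (.node (.node (.node (.node (.leaf .df) (.leaf (.cyc (nat_lit 19) [(nat_lit 7289), (nat_lit 7290), (nat_lit 2004), (nat_lit 7006), (nat_lit 2504)]))) (.node (.leaf (.cyc (nat_lit 48) [(nat_lit 645), (nat_lit 3766), (nat_lit 1166)])) (.leaf .df))) (.node (.node (.leaf (.cyc (nat_lit 45) [(nat_lit 2812), (nat_lit 13), (nat_lit 14), (nat_lit 15), (nat_lit 56)])) (.leaf .df)) (.node (.leaf (.cyc (nat_lit 27) [(nat_lit 1931), (nat_lit 4890), (nat_lit 1931)])) (.leaf .df)))) (.node (.node (.node (.leaf .df) (.leaf .df)) (.node (.leaf (.cyc (nat_lit 45) [(nat_lit 5775), (nat_lit 1531), (nat_lit 4155), (nat_lit 862), (nat_lit 1579)])) (.leaf .df))) (.node (.node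 (.leaf (.cyc (nat_lit 6) [(nat_lit 326), (nat_lit 136), (nat_lit 135), (nat_lit 324), (nat_lit 690)])) (.leaf .df)) (.node (.leaf (.cyc (nat_lit 20) [(nat_lit 1472), (nat_lit 1471), (nat_lit 2232)])) (.leaf .df))))))) (.node (.node (.node (.node (.node (.node (.leaf .df) (.leaf (.cyc (nat_lit 29) [(nat_lit 8361), (nat_lit 7515), (nat_lit 7351), (nat_lit 2053), (nat_lit 2051)]))) (.node (.leaf (.cyc (nat_lit 62) [(nat_lit 450), (nat_lit 200), (nat_lit 199), (nat_lit 449), (nat_lit 886)])) (.leaf .df))) (.node (.node (.leaf .df) (.leaf .df)) (.node (.leaf (.cyc (nat_lit 37) [(nat_lit 1714), (nat_lit 5648), (nat_lit 5649), (nat_lit 5648), (nat_lit 1714)])) (.leaf .df)))) (.node (.node (.node (.leaf .df) (.leaf (.cyc (nat_lit 27) [(nat_lit 2251), (nat_lit 7920), (nat_lit 2607)]))) (.node (.leaf (.cyc (nat_lit 34) [(nat_lit 729), (nat_lit 341), (nat_lit 3263), (nat_lit 710), (nat_lit 1337)])) (.leaf .df))) (.node (.node (.leaf (.cyc (nat_lit 15) [(nat_lit 132), (nat_lit 131), (nat_lit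 311)])) (.leaf .df)) (.node (.leaf (.cyc (nat_lit 37) [(nat_lit 2048), (nat_lit 6538), (nat_lit 6539), (nat_lit 6538), (nat_lit 2048)])) (.leaf .df))))) (.node (.node (.node (.node (.leaf .df) (.leaf (.cyc (nat_lit 62) [(nat_lit 8853), (nat_lit 8854), (nat_lit 2178), (nat_lit 6782), (nat_lit 2474)]))) (.node (.leaf (.cyc (nat_lit 30) [(nat_lit 829), (nat_lit 4118), (nat_lit 4117), (nat_lit 4125), (nat_lit 1110)])) (.leaf .df))) (.node (.node (.leaf .df) (.leaf .df)) (.node (.leaf (.cyc (nat_lit 60) [(nat_lit 1887), (nat_lit 1888), (nat_lit 6825), (nat_lit 1888), (nat_lit 1887)])) (.leaf .df)))) (.node (.node (.node (.leaf .df) (.leaf (.cyc (nat_lit 15) [(nat_lit 2726), (nat_lit 9313), (nat_lit 2726)]))) (.node (.leaf (.cyc (nat_lit 23) [(nat_lit 1236), (nat_lit 5038), (nat_lit 1538)])) (.leaf .df))) (.node (.node (.leaf (.cyc (nat_lit 6) [(nat_lit 611), (nat_lit 3202), (nat_lit 3120), (nat_lit 3202), (nat_lit 611)])) (.leaf .df)) (.node (.leaf (.cyc (nat_lit 23) [(nat_lit 1436),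 (nat_lit 1434), (nat_lit 2198)])) (.leaf .df)))))) (.node (.node (.node (.node (.node (.leaf .df) (.leaf (.cyc (nat_lit 18) [(nat_lit 2406), (nat_lit 8049), (nat_lit 8050), (nat_lit 8049), (nat_lit 2406)]))) (.node (.leaf (.cyc (nat_lit 48) [(nat_lit 994), (nat_lit 3599), (nat_lit 994)])) (.leaf .df))) (.node (.node (.leaf .df) (.leaf .df)) (.node (.leaf (.cyc (nat_lit 50) [(nat_lit 1554), (nat_lit 841), (nat_lit 4074), (nat_lit 1040), (nat_lit 1798)])) (.leaf .df)))) (.node (.node (.node (.leaf .df) (.leaf (.cyc (nat_lit 48) [(nat_lit 2655), (nat_lit 8566), (nat_lit 2668)]))) (.node (.leaf (.cyc (nat_lit 47) [(nat_lit 1457), (nat_lit 5067), (nat_lit 4232), (nat_lit 5067), (nat_lit 1457)])) (.leaf .df))) (.node (.node (.leaf (.cyc (nat_lit 40) [(nat_lit 3496), (nat_lit 3412), (nat_lit 3496)])) (.leaf .df)) (.node (.leaf (.cyc (nat_lit 18) [(nat_lit 2126), (nat_lit 5334), (nat_lit 3915), (nat_lit 5334), (nat_lit 2126)])) (.leaf .df))))) (.node (.node (.node (.node (.leaf .df) (.leaf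 (.cyc (nat_lit 20) [(nat_lit 2046), (nat_lit 7329), (nat_lit 2540)]))) (.node (.leaf (.cyc (nat_lit 24) [(nat_lit 1232), (nat_lit 1231), (nat_lit 5033), (nat_lit 1231), (nat_lit 1232)])) (.leaf .df))) (.node (.node (.leaf (.cyc (nat_lit 31) [(nat_lit 165), (nat_lit 66), (nat_lit 2777), (nat_lit 66), (nat_lit 165)])) (.leaf .df)) (.node (.leaf (.cyc (nat_lit 109) [(nat_lit 1836), (nat_lit 6561), (nat_lit 7082), (nat_lit 6561), (nat_lit 1836)])) (.leaf .df)))) (.node (.node (.node (.leaf .df) (.leaf .df)) (.node (.leaf (.cyc (nat_lit 20) [(nat_lit 1623), (nat_lit 4281), (nat_lit 1623)])) (.leaf .df))) (.node (.node (.leaf (.cyc (nat_lit 62) [(nat_lit 776), (nat_lit 3362), (nat_lit 3360), (nat_lit 3362), (nat_lit 776)])) (.leaf .df)) (.node (.leaf (.cyc (nat_lit 56) [(nat_lit 2273), (nat_lit 8102), (nat_lit 8103), (nat_lit 8102), (nat_lit 2273)])) (.leaf .df))))))))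
noncomputable def u5P1101011 : BT Pf := (.node (.node (.node (.node (.node (.node (.node (.leaf .df) (.leaf (.cyc (nat_lit 17) [(nat_lit 8297), (nat_lit 7196), (nat_lit 7049), (nat_lit 8077), (nat_lit 2264), (nat_lit 5769), (nat_lit 5760), (nat_lit 5768), (nat_lit 4564), (nat_lit 1768), (nat_lit 7992)]))) (.node (.leaf (.cyc (nat_lit 48) [(nat_lit 4202), (nat_lit 4201), (nat_lit 849)])) (.leaf .df))) (.node (.node (.leaf .df) (.leaf .df)) (.node (.leaf (.cyc (nat_lit 35) [(nat_lit 6117), (nat_lit 1641), (nat_lit 4309), (nat_lit 4397), (nat_lit 1693)])) (.leaf .df)))) (.node (.node (.node (.leaf .df) (.leaf (.cyc (nat_lit 19) [(nat_lit 9154), (nat_lit 9152), (nat_lit 7608), (nat_lit 7660), (nat_lit 2589)]))) (.node (.leaf (.cyc (nat_lit 75) [(nat_lit 1310), (nat_lit 1311), (nat_lit 5226), (nat_lit 1311), (nat_lit 1310)])) (.leaf .df))) (.node (.node (.leaf (.cyc (nat_lit 20) [(nat_lit 112), (nat_lit 109), (nat_lit 259)])) (.leaf .df)) (.node (.leaf (.cyc (nat_lit 23) [(nat_lit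 1256), (nat_lit 1254), (nat_lit 2028)])) (.leaf .df))))) (.node (.node (.node (.node (.leaf .df) (.leaf (.cyc (nat_lit 50) [(nat_lit 2456), (nat_lit 7105), (nat_lit 7102), (nat_lit 7105), (nat_lit 2456)]))) (.node (.leaf (.cyc (nat_lit 18) [(nat_lit 1073), (nat_lit 1072), (nat_lit 4713), (nat_lit 1072), (nat_lit 1073)])) (.leaf .df))) (.node (.node (.leaf .df) (.leaf .df)) (.node (.leaf (.cyc (nat_lit 27) [(nat_lit 6762), (nat_lit 1866), (nat_lit 1867)])) (.leaf .df)))) (.node (.node (.node (.leaf .df) (.leaf (.cyc (nat_lit 18) [(nat_lit 2712), (nat_lit 9665), (nat_lit 9666), (nat_lit 9665), (nat_lit 2712)]))) (.node (.leaf (.cyc (nat_lit 61) [(nat_lit 1522), (nat_lit 820), (nat_lit 403), (nat_lit 3010), (nat_lit 170), (nat_lit 2899), (nat_lit 2902), (nat_lit 2900), (nat_lit 177), (nat_lit 409), (nat_lit 832)])) (.leaf .df))) (.node (.node (.leaf (.cyc (nat_lit 96) [(nat_lit 3689), (nat_lit 509), (nat_lit 3133), (nat_lit 509), (nat_lit 3689)])) (.leaf .df)) (.node (.leaf (.cyc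 (nat_lit 100) [(nat_lit 7782), (nat_lit 5475), (nat_lit 5053), (nat_lit 5475), (nat_lit 7782)])) (.leaf .df)))))) (.node (.node (.node (.node (.node (.leaf .df) (.leaf (.cyc (nat_lit 47) [(nat_lit 2255), (nat_lit 1513), (nat_lit 4530), (nat_lit 1754), (nat_lit 2389)]))) (.node (.leaf (.cyc (nat_lit 6) [(nat_lit 4452), (nat_lit 959), (nat_lit 3542), (nat_lit 494), (nat_lit 965)])) (.leaf .df))) (.node (.node (.leaf .df) (.leaf .df)) (.node (.leaf (.cyc (nat_lit 20) [(nat_lit 1773), (nat_lit 4567), (nat_lit 1773)])) (.leaf .df)))) (.node (.node (.node (.leaf .df) (.leaf (.cyc (nat_lit 45) [(nat_lit 2534), (nat_lit 2036), (nat_lit 7310), (nat_lit 8320), (nat_lit 2652)]))) (.node (.leaf (.cyc (nat_lit 27) [(nat_lit 5064), (nat_lit 3996), (nat_lit 1424)])) (.leaf .df))) (.node (.node (.leaf (.cyc (nat_lit 74) [(nat_lit 361), (nat_lit 3430), (nat_lit 61)])) (.leaf .df)) (.node (.leaf (.cyc (nat_lit 25) [(nat_lit 2107), (nat_lit 1327), (nat_lit 3898), (nat_lit 1327), (nat_lit 2107)]))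 (.leaf .df))))) (.node (.node (.node (.node (.leaf .df) (.leaf (.cyc (nat_lit 53) [(nat_lit 2420), (nat_lit 6569), (nat_lit 6589), (nat_lit 7219), (nat_lit 2522)]))) (.node (.leaf (.cyc (nat_lit 104) [(nat_lit 1201), (nat_lit 1202), (nat_lit 4970), (nat_lit 1202), (nat_lit 1201)])) (.leaf .df))) (.node (.node (.leaf (.cyc (nat_lit 30) [(nat_lit 113), (nat_lit 2844), (nat_lit 2841), (nat_lit 2844), (nat_lit 113)])) (.leaf .df)) (.node (.leaf (.cyc (nat_lit 62) [(nat_lit 1948), (nat_lit 4929), (nat_lit 3840), (nat_lit 4929), (nat_lit 1948)])) (.leaf .df)))) (.node (.node (.node (.leaf .df) (.leaf .df)) (.node (.leaf (.cyc (nat_lit 20) [(nat_lit 5992), (nat_lit 1601), (nat_lit 1603)])) (.leaf .df))) (.node (.node (.leaf (.cyc (nat_lit 20) [(nat_lit 352), (nat_lit 350), (nat_lit 744)])) (.leaf .df)) (.node (.leaf (.cyc (nat_lit 15) [(nat_lit 2254), (nat_lit 5717), (nat_lit 2254)])) (.leaf .df))))))) (.node (.node (.node (.node (.node (.node (.leaf .df) (.leaf (.cyc (nat_lit 28) [(nat_lit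 2354), (nat_lit 8413), (nat_lit 8412), (nat_lit 8413), (nat_lit 2354)]))) (.node (.leaf (.cyc (nat_lit 16) [(nat_lit 916), (nat_lit 3492), (nat_lit 3149), (nat_lit 3492), (nat_lit 916)])) (.leaf .df))) (.node (.node (.leaf .df) (.leaf .df)) (.node (.leaf (.cyc (nat_lit 21) [(nat_lit 1736), (nat_lit 4479), (nat_lit 3574), (nat_lit 4479), (nat_lit 1736)])) (.leaf .df)))) (.node (.node (.node (.leaf .df) (.leaf (.cyc (nat_lit 20) [(nat_lit 9450), (nat_lit 2623), (nat_lit 2624)]))) (.node (.leaf (.cyc (nat_lit 26) [(nat_lit 1359), (nat_lit 3917), (nat_lit 3874), (nat_lit 3917), (nat_lit 1359)])) (.leaf .df))) (.node (.node (.leaf (.cyc (nat_lit 20) [(nat_lit 360), (nat_lit 2964), (nat_lit 360)])) (.leaf .df)) (.node (.leaf (.cyc (nat_lit 16) [(nat_lit 6148), (nat_lit 6149), (nat_lit 1315), (nat_lit 5164), (nat_lit 2073)])) (.leaf .df))))) (.node (.node (.node (.node (.leaf .df) (.leaf (.cyc (nat_lit 53) [(nat_lit 8471), (nat_lit 7501), (nat_lit 1899), (nat_lit 1900), (nat_lit 2489)])))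 (.node (.leaf (.cyc (nat_lit 45) [(nat_lit 1137), (nat_lit 3742), (nat_lit 3293), (nat_lit 3742), (nat_lit 1137)])) (.leaf .df))) (.node (.node (.leaf (.cyc (nat_lit 8) [(nat_lit 21), (nat_lit 5), (nat_lit 2764), (nat_lit 5), (nat_lit 21)])) (.leaf .df)) (.node (.leaf (.cyc (nat_lit 41) [(nat_lit 1911), (nat_lit 4845), (nat_lit 1911)])) (.leaf .df)))) (.node (.node (.node (.leaf .df) (.leaf (.cyc (nat_lit 107) [(nat_lit 2738), (nat_lit 2670), (nat_lit 8703), (nat_lit 8702), (nat_lit 7035), (nat_lit 1952), (nat_lit 4934), (nat_lit 7029), (nat_lit 2505), (nat_lit 2691), (nat_lit 9750)]))) (.node (.leaf (.cyc (nat_lit 30) [(nat_lit 1561), (nat_lit 847), (nat_lit 3392), (nat_lit 847), (nat_lit 1561)])) (.leaf .df))) (.node (.node (.leaf (.cyc (nat_lit 46) [(nat_lit 645), (nat_lit 3260), (nat_lit 645)])) (.leaf .df)) (.node (.leaf (.cyc (nat_lit 20) [(nat_lit 2215), (nat_lit 5551), (nat_lit 2215)])) (.leaf .df)))))) (.node (.node (.node (.node (.node (.leaf .df) (.leaf (.cyc (nat_lit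 45) [(nat_lit 7867), (nat_lit 1555), (nat_lit 4648), (nat_lit 1802), (nat_lit 2421)]))) (.node (.leaf (.cyc (nat_lit 25) [(nat_lit 1025), (nat_lit 535), (nat_lit 3158), (nat_lit 535), (nat_lit 1025)])) (.leaf .df))) (.node (.node (.leaf .df) (.leaf .df)) (.node (.leaf (.cyc (nat_lit 62) [(nat_lit 1818), (nat_lit 4858), (nat_lit 4857), (nat_lit 4858), (nat_lit 1818)])) (.leaf .df)))) (.node (.node (.node (.leaf .df) (.leaf (.cyc (nat_lit 18) [(nat_lit 9154), (nat_lit 8514), (nat_lit 8237), (nat_lit 8822), (nat_lit 2682)]))) (.node (.leaf (.cyc (nat_lit 37) [(nat_lit 1451), (nat_lit 778), (nat_lit 3354), (nat_lit 793), (nat_lit 1480)])) (.leaf .df))) (.node (.node (.leaf (.cyc (nat_lit 41) [(nat_lit 320), (nat_lit 3562), (nat_lit 320)])) (.leaf .df)) (.node (.leaf (.cyc (nat_lit 49) [(nat_lit 7366), (nat_lit 6622), (nat_lit 2146)])) (.leaf .df))))) (.node (.node (.node (.node (.leaf .df) (.leaf (.cyc (nat_lit 28) [(nat_lit 2555), (nat_lit 7441), (nat_lit 5212), (nat_lit 7441), (nat_lit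 2555)]))) (.node (.leaf (.cyc (nat_lit 27) [(nat_lit 667), (nat_lit 666), (nat_lit 1255)])) (.leaf .df))) (.node (.node (.leaf (.cyc (nat_lit 64) [(nat_lit 2896), (nat_lit 2828), (nat_lit 2836), (nat_lit 42), (nat_lit 2773), (nat_lit 2772), (nat_lit 2789), (nat_lit 2790), (nat_lit 74), (nat_lit 189), (nat_lit 3049)])) (.leaf .df)) (.node (.leaf (.cyc (nat_lit 8) [(nat_lit 7146), (nat_lit 6057), (nat_lit 4659), (nat_lit 6057), (nat_lit 7146)])) (.leaf .df)))) (.node (.node (.node (.leaf .df) (.leaf .df)) (.node (.leaf (.cyc (nat_lit 84) [(nat_lit 6122), (nat_lit 4763), (nat_lit 988), (nat_lit 4209), (nat_lit 1569)])) (.leaf .df))) (.node (.node (.leaf (.cyc (nat_lit 101) [(nat_lit 547), (nat_lit 4062), (nat_lit 3029), (nat_lit 4062), (nat_lit 547)])) (.leaf .df)) (.node (.leaf (.cyc (nat_lit 23) [(nat_lit 1878), (nat_lit 5936), (nat_lit 2291)])) (.leaf .df))))))))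
noncomputable def u5P110101 : BT Pf := .node u5P1101010 u5P1101011
noncomputable def u5P11010 : BT Pf := .node u5P110100 u5P110101
noncomputable def u5P1101100 : BT Pf := (.node (.node (.node (.node (.node (.node (.node (.leaf .df) (.leaf (.cyc (nat_lit 62) [(nat_lit 7100), (nat_lit 6991), (nat_lit 1596), (nat_lit 1597), (nat_lit 2301)]))) (.node (.leaf (.cyc (nat_lit 67) [(nat_lit 590), (nat_lit 274), (nat_lit 115), (nat_lit 2846), (nat_lit 15), (nat_lit 55), (nat_lit 132), (nat_lit 3229), (nat_lit 650), (nat_lit 3977), (nat_lit 800)])) (.leaf .df))) (.node (.node (.leaf .df) (.leaf .df)) (.node (.leaf (.cyc (nat_lit 15) [(nat_lit 1018), (nat_lit 4337), (nat_lit 1664)])) (.leaf .df)))) (.node (.node (.node (.leaf .df) (.leaf (.cyc (nat_lit 30) [(nat_lit 2571), (nat_lit 9009), (nat_lit 9010), (nat_lit 9009), (nat_lit 2571)]))) (.node (.leaf (.cyc (nat_lit 34) [(nat_lit 4802), (nat_lit 4638), (nat_lit 4996), (nat_lit 4990), (nat_lit 1278)])) (.leaf .df))) (.node (.node (.leaf (.cyc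 (nat_lit 48) [(nat_lit 214), (nat_lit 2886), (nat_lit 214)])) (.leaf .df)) (.node (.leaf (.cyc (nat_lit 53) [(nat_lit 2000), (nat_lit 5007), (nat_lit 3982), (nat_lit 5007), (nat_lit 2000)])) (.leaf .df))))) (.node (.node (.node (.node (.leaf .df) (.leaf (.cyc (nat_lit 25) [(nat_lit 2344), (nat_lit 1660), (nat_lit 4690), (nat_lit 1819), (nat_lit 2435)]))) (.node (.leaf (.cyc (nat_lit 63) [(nat_lit 981), (nat_lit 510), (nat_lit 509), (nat_lit 3683), (nat_lit 1043)])) (.leaf .df))) (.node (.node (.leaf .df) (.leaf .df)) (.node (.leaf (.cyc (nat_lit 21) [(nat_lit 1838), (nat_lit 6533), (nat_lit 6535), (nat_lit 6533), (nat_lit 1838)])) (.leaf .df)))) (.node (.node (.node (.leaf .df) (.leaf (.cyc (nat_lit 34) [(nat_lit 2692), (nat_lit 2505), (nat_lit 7031), (nat_lit 2505), (nat_lit 2692)]))) (.node (.leaf (.cyc (nat_lit 45) [(nat_lit 1490), (nat_lit 800), (nat_lit 3368), (nat_lit 800), (nat_lit 1490)])) (.leaf .df))) (.node (.node (.leaf (.cyc (nat_lit 24) [(nat_lit 525), (nat_lit 243),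 (nat_lit 2908), (nat_lit 243), (nat_lit 525)])) (.leaf .df)) (.node (.leaf (.cyc (nat_lit 16) [(nat_lit 2158), (nat_lit 7698), (nat_lit 7700), (nat_lit 7698), (nat_lit 2158)])) (.leaf .df)))))) (.node (.node (.node (.node (.node (.leaf .df) (.leaf (.cyc (nat_lit 63) [(nat_lit 1716), (nat_lit 962), (nat_lit 4442), (nat_lit 1711), (nat_lit 2367)]))) (.node (.leaf (.cyc (nat_lit 19) [(nat_lit 927), (nat_lit 3519), (nat_lit 3101), (nat_lit 3519), (nat_lit 927)])) (.leaf .df))) (.node (.node (.leaf .df) (.leaf .df)) (.node (.leaf (.cyc (nat_lit 59) [(nat_lit 5329), (nat_lit 6426), (nat_lit 4503), (nat_lit 6426), (nat_lit 5329)])) (.leaf .df)))) (.node (.node (.node (.leaf .df) (.leaf (.cyc (nat_lit 31) [(nat_lit 8569), (nat_lit 8433), (nat_lit 8431), (nat_lit 8160), (nat_lit 2635)]))) (.node (.leaf (.cyc (nat_lit 63) [(nat_lit 1382), (nat_lit 3926), (nat_lit 3295), (nat_lit 3926), (nat_lit 1382)])) (.leaf .df))) (.node (.node (.leaf (.cyc (nat_lit 48) [(nat_lit 219), (nat_lit 2982),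 (nat_lit 393)])) (.leaf .df)) (.node (.leaf (.cyc (nat_lit 27) [(nat_lit 2088), (nat_lit 5188), (nat_lit 2088)])) (.leaf .df))))) (.node (.node (.node (.node (.leaf .df) (.leaf (.cyc (nat_lit 131) [(nat_lit 8811), (nat_lit 2456), (nat_lit 7105), (nat_lit 7103), (nat_lit 1690), (nat_lit 5880), (nat_lit 2286), (nat_lit 8742), (nat_lit 8745), (nat_lit 6939), (nat_lit 2500)]))) (.node (.leaf (.cyc (nat_lit 43) [(nat_lit 4882), (nat_lit 1159), (nat_lit 4890), (nat_lit 1159), (nat_lit 4882)])) (.leaf .df))) (.node (.node (.leaf (.cyc (nat_lit 37) [(nat_lit 45), (nat_lit 44), (nat_lit 2841), (nat_lit 44), (nat_lit 45)])) (.leaf .df)) (.node (.leaf (.cyc (nat_lit 48) [(nat_lit 1927), (nat_lit 4887), (nat_lit 1927)])) (.leaf .df)))) (.node (.node (.node (.leaf .df) (.leaf (.cyc (nat_lit 47) [(nat_lit 2748), (nat_lit 9850), (nat_lit 9485), (nat_lit 9850), (nat_lit 2748)]))) (.node (.leaf (.cyc (nat_lit 45) [(nat_lit 991), (nat_lit 516), (nat_lit 3403), (nat_lit 855), (nat_lit 1573)])) (.leaf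 .df))) (.node (.node (.leaf (.cyc (nat_lit 43) [(nat_lit 675), (nat_lit 677), (nat_lit 3866), (nat_lit 677), (nat_lit 675)])) (.leaf .df)) (.node (.leaf (.cyc (nat_lit 18) [(nat_lit 2227), (nat_lit 6308), (nat_lit 6309), (nat_lit 6308), (nat_lit 2227)])) (.leaf .df))))))) (.node (.node (.node (.node (.node (.node (.leaf .df) (.leaf (.cyc (nat_lit 35) [(nat_lit 2336), (nat_lit 8336), (nat_lit 8337), (nat_lit 8336), (nat_lit 2336)]))) (.node (.leaf (.cyc (nat_lit 16) [(nat_lit 879), (nat_lit 444), (nat_lit 3067), (nat_lit 444), (nat_lit 879)])) (.leaf .df))) (.node (.node (.leaf .df) (.leaf .df)) (.node (.leaf (.cyc (nat_lit 27) [(nat_lit 1708), (nat_lit 4441), (nat_lit 1708)])) (.leaf .df)))) (.node (.node (.node (.leaf .df) (.leaf (.cyc (nat_lit 37) [(nat_lit 2448), (nat_lit 8763), (nat_lit 9000), (nat_lit 8998), (nat_lit 2603)]))) (.node (.leaf (.cyc (nat_lit 27) [(nat_lit 4614), (nat_lit 4613), (nat_lit 1334)])) (.leaf .df))) (.node (.node (.leaf (.cyc (nat_lit 23) [(nat_lit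 128), (nat_lit 127), (nat_lit 301)])) (.leaf .df)) (.node (.leaf (.cyc (nat_lit 45) [(nat_lit 2042), (nat_lit 1264), (nat_lit 3855), (nat_lit 1264), (nat_lit 2042)])) (.leaf .df))))) (.node (.node (.node (.node (.leaf .df) (.leaf (.cyc (nat_lit 55) [(nat_lit 2468), (nat_lit 2469), (nat_lit 8858), (nat_lit 2469), (nat_lit 2468)]))) (.node (.leaf (.cyc (nat_lit 24) [(nat_lit 1100), (nat_lit 580), (nat_lit 583), (nat_lit 1104), (nat_lit 4761)])) (.leaf .df))) (.node (.node (.leaf .df) (.leaf .df)) (.node (.leaf (.cyc (nat_lit 10) [(nat_lit 6810), (nat_lit 6490), (nat_lit 6810)])) (.leaf .df)))) (.node (.node (.node (.leaf .df) (.leaf (.cyc (nat_lit 47) [(nat_lit 2722), (nat_lit 2580), (nat_lit 7617), (nat_lit 2580), (nat_lit 2722)]))) (.node (.leaf (.cyc (nat_lit 80) [(nat_lit 5338), (nat_lit 1354), (nat_lit 5780), (nat_lit 1258), (nat_lit 1260)])) (.leaf .df))) (.node (.node (.leaf (.cyc (nat_lit 27) [(nat_lit 277), (nat_lit 276), (nat_lit 597)])) (.leaf .df)) (.node (.leaf (.cyc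 (nat_lit 50) [(nat_lit 6660), (nat_lit 5506), (nat_lit 1431), (nat_lit 1433), (nat_lit 2194)])) (.leaf .df)))))) (.node (.node (.node (.node (.node (.leaf .df) (.leaf (.cyc (nat_lit 52) [(nat_lit 2400), (nat_lit 2401), (nat_lit 8601), (nat_lit 2309), (nat_lit 8238)]))) (.node (.leaf (.cyc (nat_lit 52) [(nat_lit 3749), (nat_lit 610), (nat_lit 4499), (nat_lit 610), (nat_lit 3749)])) (.leaf .df))) (.node (.node (.leaf .df) (.leaf .df)) (.node (.leaf (.cyc (nat_lit 46) [(nat_lit 1792), (nat_lit 4621), (nat_lit 1792)])) (.leaf .df)))) (.node (.node (.node (.leaf .df) (.leaf (.cyc (nat_lit 53) [(nat_lit 2663), (nat_lit 9555), (nat_lit 9556), (nat_lit 9555), (nat_lit 2663)]))) (.node (.leaf (.cyc (nat_lit 85) [(nat_lit 4114), (nat_lit 4672), (nat_lit 578), (nat_lit 270), (nat_lit 3071), (nat_lit 449), (nat_lit 3470), (nat_lit 4090), (nat_lit 4088), (nat_lit 4008), (nat_lit 1447)])) (.leaf .df))) (.node (.node (.leaf (.cyc (nat_lit 26) [(nat_lit 458), (nat_lit 3323), (nat_lit 3422), (nat_lit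 3323), (nat_lit 458)])) (.leaf .df)) (.node (.leaf (.cyc (nat_lit 86) [(nat_lit 7573), (nat_lit 6756), (nat_lit 7281)])) (.leaf .df))))) (.node (.node (.node (.node (.leaf .df) (.leaf (.cyc (nat_lit 50) [(nat_lit 8714), (nat_lit 8470), (nat_lit 8073), (nat_lit 8076), (nat_lit 2534)]))) (.node (.leaf (.cyc (nat_lit 25) [(nat_lit 1222), (nat_lit 4907), (nat_lit 4913), (nat_lit 4907), (nat_lit 1222)])) (.leaf .df))) (.node (.node (.leaf (.cyc (nat_lit 62) [(nat_lit 90), (nat_lit 35), (nat_lit 2775), (nat_lit 64), (nat_lit 160)])) (.leaf .df)) (.node (.leaf (.cyc (nat_lit 24) [(nat_lit 1784), (nat_lit 4597), (nat_lit 1083), (nat_lit 5625), (nat_lit 1965)])) (.leaf .df)))) (.node (.node (.node (.leaf .df) (.leaf .df)) (.node (.leaf (.cyc (nat_lit 105) [(nat_lit 6041), (nat_lit 4275), (nat_lit 1398)])) (.leaf .df))) (.node (.node (.leaf (.cyc (nat_lit 45) [(nat_lit 762), (nat_lit 359), (nat_lit 2964), (nat_lit 359), (nat_lit 762)])) (.leaf .df)) (.node (.leaf (.cyc (nat_lit 15) [(nat_lit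 2269), (nat_lit 5798), (nat_lit 2269)])) (.leaf .df))))))))
noncomputable def u5P1101101 : BT Pf := (.node (.node (.node (.node (.node (.node (.node (.leaf .df) (.leaf (.cyc (nat_lit 26) [(nat_lit 2321), (nat_lit 6092), (nat_lit 4347), (nat_lit 6092), (nat_lit 2321)]))) (.node (.leaf (.cyc (nat_lit 2) [(nat_lit 4185), (nat_lit 487), (nat_lit 3116), (nat_lit 487), (nat_lit 4185)])) (.leaf .df))) (.node (.node (.leaf .df) (.leaf .df)) (.node (.leaf (.cyc (nat_lit 124) [(nat_lit 6234), (nat_lit 1685), (nat_lit 936), (nat_lit 935), (nat_lit 1683)])) (.leaf .df)))) (.node (.node (.node (.leaf .df) (.leaf (.cyc (nat_lit 45) [(nat_lit 2583), (nat_lit 7634), (nat_lit 7407), (nat_lit 7634), (nat_lit 2583)]))) (.node (.leaf (.cyc (nat_lit 54) [(nat_lit 1306), (nat_lit 692), (nat_lit 690), (nat_lit 4223), (nat_lit 4222), (nat_lit 3408), (nat_lit 4222), (nat_lit 4223), (nat_lit 690), (nat_lit 692), (nat_lit 1306)])) (.leaf .df))) (.node (.node (.leaf (.cyc (nat_lit 61) [(nat_lit 252), (nat_lit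 2925), (nat_lit 115), (nat_lit 48), (nat_lit 49), (nat_lit 2848), (nat_lit 49), (nat_lit 48), (nat_lit 115), (nat_lit 2925), (nat_lit 252)])) (.leaf .df)) (.node (.leaf (.cyc (nat_lit 19) [(nat_lit 5549), (nat_lit 1457), (nat_lit 5064), (nat_lit 5096), (nat_lit 2022)])) (.leaf .df))))) (.node (.node (.node (.node (.leaf .df) (.leaf (.cyc (nat_lit 20) [(nat_lit 2452), (nat_lit 6701), (nat_lit 2452)]))) (.node (.leaf (.cyc (nat_lit 34) [(nat_lit 1025), (nat_lit 4118), (nat_lit 830), (nat_lit 4661), (nat_lit 1067)])) (.leaf .df))) (.node (.node (.leaf .df) (.leaf .df)) (.node (.leaf (.cyc (nat_lit 56) [(nat_lit 1861), (nat_lit 1097), (nat_lit 3787), (nat_lit 1097), (nat_lit 1861)])) (.leaf .df)))) (.node (.node (.node (.leaf .df) (.leaf (.cyc (nat_lit 27) [(nat_lit 2539), (nat_lit 2538), (nat_lit 2709)]))) (.node (.leaf (.cyc (nat_lit 16) [(nat_lit 1515), (nat_lit 818), (nat_lit 3372), (nat_lit 818), (nat_lit 1515)])) (.leaf .df))) (.node (.node (.leaf (.cyc (nat_lit 112) [(nat_lit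 3667), (nat_lit 3550), (nat_lit 3667)])) (.leaf .df)) (.node (.leaf (.cyc (nat_lit 75) [(nat_lit 7730), (nat_lit 2174), (nat_lit 7770), (nat_lit 2174), (nat_lit 7730)])) (.leaf .df)))))) (.node (.node (.node (.node (.node (.leaf .df) (.leaf (.cyc (nat_lit 23) [(nat_lit 6674), (nat_lit 6385), (nat_lit 2385)]))) (.node (.leaf (.cyc (nat_lit 36) [(nat_lit 4269), (nat_lit 4228), (nat_lit 436), (nat_lit 3059), (nat_lit 191), (nat_lit 2998), (nat_lit 221), (nat_lit 486), (nat_lit 3538), (nat_lit 491), (nat_lit 958)])) (.leaf .df))) (.node (.node (.leaf .df) (.leaf .df)) (.node (.leaf (.cyc (nat_lit 75) [(nat_lit 1317), (nat_lit 1319), (nat_lit 6490), (nat_lit 1319), (nat_lit 1317)])) (.leaf .df)))) (.node (.node (.node (.leaf .df) (.leaf (.cyc (nat_lit 20) [(nat_lit 2403), (nat_lit 8263), (nat_lit 2649)]))) (.node (.leaf (.cyc (nat_lit 27) [(nat_lit 1416), (nat_lit 3970), (nat_lit 1416)])) (.leaf .df))) (.node (.node (.leaf (.cyc (nat_lit 12) [(nat_lit 3417), (nat_lit 3416), (nat_lit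 353), (nat_lit 2967), (nat_lit 376)])) (.leaf .df)) (.node (.leaf (.cyc (nat_lit 26) [(nat_lit 1847), (nat_lit 1082), (nat_lit 1083), (nat_lit 5624), (nat_lit 2103)])) (.leaf .df))))) (.node (.node (.node (.node (.leaf .df) (.leaf (.cyc (nat_lit 21) [(nat_lit 7883), (nat_lit 7865), (nat_lit 2424), (nat_lit 8695), (nat_lit 2518)]))) (.node (.leaf (.cyc (nat_lit 49) [(nat_lit 641), (nat_lit 3794), (nat_lit 1189)])) (.leaf .df))) (.node (.node (.leaf (.cyc (nat_lit 53) [(nat_lit 101), (nat_lit 2836), (nat_lit 2828), (nat_lit 2836), (nat_lit 101)])) (.leaf .df)) (.node (.leaf (.cyc (nat_lit 21) [(nat_lit 1944), (nat_lit 5413), (nat_lit 6872), (nat_lit 5413), (nat_lit 1944)])) (.leaf .df)))) (.node (.node (.node (.leaf .df) (.leaf .df)) (.node (.leaf (.cyc (nat_lit 20) [(nat_lit 875), (nat_lit 874), (nat_lit 1596)])) (.leaf .df))) (.node (.node (.leaf (.cyc (nat_lit 15) [(nat_lit 733), (nat_lit 3293), (nat_lit 733)])) (.leaf .df)) (.node (.leaf (.cyc (nat_lit 28) [(nat_lit 8007), (nat_lit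 6292), (nat_lit 1500), (nat_lit 5680), (nat_lit 2248)])) (.leaf .df))))))) (.node (.node (.node (.node (.node (.node (.leaf .df) (.leaf (.cyc (nat_lit 21) [(nat_lit 2069), (nat_lit 5784), (nat_lit 6764), (nat_lit 6767), (nat_lit 2351)]))) (.node (.leaf (.cyc (nat_lit 50) [(nat_lit 586), (nat_lit 273), (nat_lit 3084), (nat_lit 458), (nat_lit 909)])) (.leaf .df))) (.node (.node (.leaf .df) (.leaf .df)) (.node (.leaf (.cyc (nat_lit 86) [(nat_lit 6362), (nat_lit 1566), (nat_lit 1564)])) (.leaf .df)))) (.node (.node (.node (.leaf .df) (.leaf (.cyc (nat_lit 48) [(nat_lit 8719), (nat_lit 8024), (nat_lit 2620)]))) (.node (.leaf (.cyc (nat_lit 19) [(nat_lit 1353), (nat_lit 3914), (nat_lit 3271), (nat_lit 3914), (nat_lit 1353)])) (.leaf .df))) (.node (.node (.leaf (.cyc (nat_lit 103) [(nat_lit 345), (nat_lit 142), (nat_lit 140), (nat_lit 338), (nat_lit 3288), (nat_lit 319), (nat_lit 134), (nat_lit 133), (nat_lit 3282), (nat_lit 133), (nat_lit 134), (nat_lit 319), (nat_lit 3288), (nat_lit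 338), (nat_lit 140), (nat_lit 142), (nat_lit 345)])) (.leaf .df)) (.node (.leaf (.cyc (nat_lit 24) [(nat_lit 2066), (nat_lit 5150), (nat_lit 6196), (nat_lit 5150), (nat_lit 2066)])) (.leaf .df))))) (.node (.node (.node (.node (.leaf .df) (.leaf (.cyc (nat_lit 62) [(nat_lit 2485), (nat_lit 7816), (nat_lit 7814), (nat_lit 7816), (nat_lit 2485)]))) (.node (.leaf (.cyc (nat_lit 45) [(nat_lit 600), (nat_lit 277), (nat_lit 275), (nat_lit 594), (nat_lit 1128)])) (.leaf .df))) (.node (.node (.leaf (.pin (nat_lit 30) [(nat_lit 5), (nat_lit 21)] [(nat_lit 21), (nat_lit 5)])) (.leaf .df)) (.node (.leaf (.cyc (nat_lit 119) [(nat_lit 1220), (nat_lit 644), (nat_lit 3290), (nat_lit 338), (nat_lit 140), (nat_lit 142), (nat_lit 343), (nat_lit 3742), (nat_lit 1137), (nat_lit 4843), (nat_lit 1906)])) (.leaf .df)))) (.node (.node (.node (.leaf .df) (.leaf (.cyc (nat_lit 44) [(nat_lit 2735), (nat_lit 9490), (nat_lit 9401), (nat_lit 9490), (nat_lit 2735)]))) (.node (.leaf (.cyc (nat_lit 100) [(nat_lit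 5849), (nat_lit 4176), (nat_lit 4071), (nat_lit 4169), (nat_lit 5823)])) (.leaf .df))) (.node (.node (.leaf (.cyc (nat_lit 16) [(nat_lit 636), (nat_lit 3554), (nat_lit 3553), (nat_lit 3554), (nat_lit 636)])) (.leaf .df)) (.node (.leaf (.cyc (nat_lit 69) [(nat_lit 7898), (nat_lit 2210), (nat_lit 1450), (nat_lit 5533), (nat_lit 6850), (nat_lit 6851), (nat_lit 6850), (nat_lit 5533), (nat_lit 1450), (nat_lit 2210), (nat_lit 7898)])) (.leaf .df)))))) (.node (.node (.node (.node (.node (.leaf .df) (.leaf (.cyc (nat_lit 27) [(nat_lit 8150), (nat_lit 7048), (nat_lit 2418)]))) (.node (.leaf (.cyc (nat_lit 20) [(nat_lit 4338), (nat_lit 4337), (nat_lit 1020)])) (.leaf .df))) (.node (.node (.leaf .df) (.leaf .df)) (.node (.leaf (.cyc (nat_lit 27) [(nat_lit 1812), (nat_lit 4679), (nat_lit 1812)])) (.leaf .df)))) (.node (.node (.node (.leaf .df) (.leaf (.cyc (nat_lit 97) [(nat_lit 9283), (nat_lit 2577), (nat_lit 2123), (nat_lit 5333), (nat_lit 1362), (nat_lit 5895), (nat_lit 6443), (nat_lit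 2395), (nat_lit 8578), (nat_lit 8794), (nat_lit 2678)]))) (.node (.leaf (.cyc (nat_lit 75) [(nat_lit 1473), (nat_lit 1474), (nat_lit 5594), (nat_lit 1474), (nat_lit 1473)])) (.leaf .df))) (.node (.node (.leaf (.cyc (nat_lit 16) [(nat_lit 495), (nat_lit 3117), (nat_lit 2927), (nat_lit 3117), (nat_lit 495)])) (.leaf .df)) (.node (.leaf (.cyc (nat_lit 41) [(nat_lit 2141), (nat_lit 5382), (nat_lit 2141)])) (.leaf .df))))) (.node (.node (.node (.node (.leaf .df) (.leaf (.cyc (nat_lit 32) [(nat_lit 8244), (nat_lit 8279), (nat_lit 2320), (nat_lit 6093), (nat_lit 4583), (nat_lit 4582), (nat_lit 4581), (nat_lit 1288), (nat_lit 2071), (nat_lit 2551), (nat_lit 9178)]))) (.node (.leaf (.cyc (nat_lit 15) [(nat_lit 5071), (nat_lit 5069), (nat_lit 1247)])) (.leaf .df))) (.node (.node (.leaf (.cyc (nat_lit 77) [(nat_lit 76), (nat_lit 2784), (nat_lit 2834), (nat_lit 42), (nat_lit 10), (nat_lit 2771), (nat_lit 39), (nat_lit 2830), (nat_lit 72), (nat_lit 184), (nat_lit 3034)])) (.leaf .df)) (.node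 (.leaf (.cyc (nat_lit 117) [(nat_lit 1977), (nat_lit 1976), (nat_lit 7125), (nat_lit 1976), (nat_lit 1977)])) (.leaf .df)))) (.node (.node (.node (.leaf .df) (.leaf .df)) (.node (.leaf (.cyc (nat_lit 46) [(nat_lit 1420), (nat_lit 5007), (nat_lit 6106)])) (.leaf .df))) (.node (.node (.leaf (.cyc (nat_lit 72) [(nat_lit 388), (nat_lit 4049)])) (.leaf .df)) (.node (.leaf (.cyc (nat_lit 23) [(nat_lit 7623), (nat_lit 7258), (nat_lit 2286)])) (.leaf .df))))))))
noncomputable def u5P110110 : BT Pf := .node u5P1101100 u5P1101101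
noncomputable def u5P1101110 : BT Pf := (.node (.node (.node (.node (.node (.node (.node (.leaf .df) (.leaf (.cyc (nat_lit 62) [(nat_lit 1620), (nat_lit 892), (nat_lit 891), (nat_lit 1619), (nat_lit 2312)]))) (.node (.leaf (.cyc (nat_lit 24) [(nat_lit 435), (nat_lit 3047), (nat_lit 3039), (nat_lit 405), (nat_lit 824)])) (.leaf .df))) (.node (.node (.leaf .df) (.leaf .df)) (.node (.leaf (.cyc (nat_lit 50) [(nat_lit 6062), (nat_lit 4425), (nat_lit 930), (nat_lit 932), (nat_lit 1676)])) (.leaf .df)))) (.node (.node (.node (.leaf .df) (.leaf (.cyc (nat_lit 39) [(nat_lit 2453), (nat_lit 8676), (nat_lit 8679), (nat_lit 9067), (nat_lit 2522), (nat_lit 7219), (nat_lit 5301), (nat_lit 2118), (nat_lit 7563), (nat_lit 2576), (nat_lit 9274)]))) (.node (.leaf (.cyc (nat_lit 37) [(nat_lit 1008), (nat_lit 1006), (nat_lit 5177), (nat_lit 1297), (nat_lit 1299)])) (.leaf .df))) (.node (.node (.leaf (.cyc (nat_lit 62) [(nat_lit 220), (nat_lit 86), (nat_lit 2825), (nat_lit 95), (nat_lit 232)])) (.leaf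 .df)) (.node (.leaf (.cyc (nat_lit 62) [(nat_lit 2012), (nat_lit 5694), (nat_lit 5698), (nat_lit 5694), (nat_lit 2012)])) (.leaf .df))))) (.node (.node (.node (.node (.leaf .df) (.leaf (.cyc (nat_lit 27) [(nat_lit 1839), (nat_lit 6673), (nat_lit 2443)]))) (.node (.leaf (.cyc (nat_lit 27) [(nat_lit 4663), (nat_lit 1054), (nat_lit 1055)])) (.leaf .df))) (.node (.node (.leaf .df) (.leaf .df)) (.node (.leaf (.cyc (nat_lit 64) [(nat_lit 1164), (nat_lit 4889), (nat_lit 4989), (nat_lit 4998), (nat_lit 1736), (nat_lit 6442), (nat_lit 6710), (nat_lit 6709), (nat_lit 6714), (nat_lit 1849), (nat_lit 1850)])) (.leaf .df)))) (.node (.node (.node (.leaf .df) (.leaf (.cyc (nat_lit 21) [(nat_lit 2521), (nat_lit 8394), (nat_lit 8733), (nat_lit 9039), (nat_lit 2700)]))) (.node (.leaf (.cyc (nat_lit 50) [(nat_lit 1503), (nat_lit 4459), (nat_lit 4457), (nat_lit 4459), (nat_lit 1503)])) (.leaf .df))) (.node (.node (.leaf (.cyc (nat_lit 34) [(nat_lit 432), (nat_lit 187), (nat_lit 2922), (nat_lit 258),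 (nat_lit 550)])) (.leaf .df)) (.node (.leaf (.cyc (nat_lit 19) [(nat_lit 2166), (nat_lit 1400), (nat_lit 3944), (nat_lit 1400), (nat_lit 2166)])) (.leaf .df)))))) (.node (.node (.node (.node (.node (.leaf .df) (.leaf (.cyc (nat_lit 27) [(nat_lit 7569), (nat_lit 6967), (nat_lit 2376)]))) (.node (.leaf (.cyc (nat_lit 16) [(nat_lit 4406), (nat_lit 4400), (nat_lit 4128), (nat_lit 4400), (nat_lit 4406)])) (.leaf .df))) (.node (.node (.leaf .df) (.leaf .df)) (.node (.leaf (.cyc (nat_lit 19) [(nat_lit 5874), (nat_lit 5873), (nat_lit 5762), (nat_lit 5760), (nat_lit 1767)])) (.leaf .df)))) (.node (.node (.node (.leaf .df) (.leaf (.cyc (nat_lit 6) [(nat_lit 2641), (nat_lit 8192), (nat_lit 5949), (nat_lit 8192), (nat_lit 2641)]))) (.node (.leaf (.cyc (nat_lit 45) [(nat_lit 746), (nat_lit 351), (nat_lit 350), (nat_lit 743), (nat_lit 1402)])) (.leaf .df))) (.node (.node (.leaf (.cyc (nat_lit 61) [(nat_lit 419), (nat_lit 181), (nat_lit 71), (nat_lit 21), (nat_lit 5), (nat_lit 2761), (nat_lit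 5), (nat_lit 21), (nat_lit 71), (nat_lit 181), (nat_lit 419)])) (.leaf .df)) (.node (.leaf (.cyc (nat_lit 6) [(nat_lit 2098), (nat_lit 5239), (nat_lit 4933), (nat_lit 5239), (nat_lit 2098)])) (.leaf .df))))) (.node (.node (.node (.node (.leaf .df) (.leaf (.cyc (nat_lit 56) [(nat_lit 2510), (nat_lit 1961), (nat_lit 4948), (nat_lit 1961), (nat_lit 2510)]))) (.node (.leaf (.cyc (nat_lit 25) [(nat_lit 1047), (nat_lit 4636), (nat_lit 4640), (nat_lit 3773), (nat_lit 1172)])) (.leaf .df))) (.node (.node (.leaf (.cyc (nat_lit 48) [(nat_lit 40), (nat_lit 2787), (nat_lit 75)])) (.leaf .df)) (.node (.leaf (.cyc (nat_lit 9) [(nat_lit 6968), (nat_lit 6118), (nat_lit 5785), (nat_lit 6118), (nat_lit 6968)])) (.leaf .df)))) (.node (.node (.node (.leaf .df) (.leaf .df)) (.node (.leaf (.cyc (nat_lit 45) [(nat_lit 1586), (nat_lit 4345), (nat_lit 4346), (nat_lit 4345), (nat_lit 1586)])) (.leaf .df))) (.node (.node (.leaf (.cyc (nat_lit 15) [(nat_lit 333), (nat_lit 332), (nat_lit 707)])) (.leaf .df))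 (.node (.leaf (.cyc (nat_lit 24) [(nat_lit 2237), (nat_lit 6560), (nat_lit 7084), (nat_lit 6560), (nat_lit 2237)])) (.leaf .df))))))) (.node (.node (.node (.node (.node (.node (.leaf .df) (.leaf (.cyc (nat_lit 67) [(nat_lit 8375), (nat_lit 6284), (nat_lit 6288), (nat_lit 6720), (nat_lit 7135), (nat_lit 7137), (nat_lit 7868), (nat_lit 7952), (nat_lit 7951), (nat_lit 7950), (nat_lit 2343)]))) (.node (.leaf (.cyc (nat_lit 90) [(nat_lit 700), (nat_lit 699), (nat_lit 4282), (nat_lit 699), (nat_lit 700)])) (.leaf .df))) (.node (.node (.leaf .df) (.leaf .df)) (.node (.leaf (.cyc (nat_lit 49) [(nat_lit 1502), (nat_lit 4459), (nat_lit 1721)])) (.leaf .df)))) (.node (.node (.node (.leaf .df) (.leaf (.cyc (nat_lit 37) [(nat_lit 2611), (nat_lit 8493), (nat_lit 8494), (nat_lit 8493), (nat_lit 2611)]))) (.node (.leaf (.cyc (nat_lit 58) [(nat_lit 5306), (nat_lit 5304), (nat_lit 4179), (nat_lit 4181), (nat_lit 840), (nat_lit 3382), (nat_lit 840), (nat_lit 4181), (nat_lit 4179), (nat_lit 5304),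 (nat_lit 5306)])) (.leaf .df))) (.node (.node (.leaf (.cyc (nat_lit 7) [(nat_lit 3258), (nat_lit 3159), (nat_lit 290)])) (.leaf .df)) (.node (.leaf (.cyc (nat_lit 15) [(nat_lit 2055), (nat_lit 5139), (nat_lit 2055)])) (.leaf .df))))) (.node (.node (.node (.node (.leaf .df) (.leaf (.cyc (nat_lit 58) [(nat_lit 8890), (nat_lit 2181), (nat_lit 2180), (nat_lit 7787), (nat_lit 7784), (nat_lit 7783), (nat_lit 7784), (nat_lit 7787), (nat_lit 2180), (nat_lit 2181), (nat_lit 8890)]))) (.node (.leaf (.cyc (nat_lit 96) [(nat_lit 4793), (nat_lit 4141), (nat_lit 3641), (nat_lit 557), (nat_lit 1057)])) (.leaf .df))) (.node (.node (.leaf .df) (.leaf .df)) (.node (.leaf (.cyc (nat_lit 44) [(nat_lit 1130), (nat_lit 595), (nat_lit 593), (nat_lit 1126), (nat_lit 1897)])) (.leaf .df)))) (.node (.node (.node (.leaf .df) (.leaf (.cyc (nat_lit 18) [(nat_lit 2729), (nat_lit 2609), (nat_lit 7967), (nat_lit 2609), (nat_lit 2729)]))) (.node (.leaf (.cyc (nat_lit 30) [(nat_lit 1542), (nat_lit 1541), (nat_lit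 5816), (nat_lit 1541), (nat_lit 1542)])) (.leaf .df))) (.node (.node (.leaf (.cyc (nat_lit 25) [(nat_lit 3629), (nat_lit 3630), (nat_lit 301), (nat_lit 3218), (nat_lit 620)])) (.leaf .df)) (.node (.leaf (.cyc (nat_lit 20) [(nat_lit 7862), (nat_lit 2200), (nat_lit 2202)])) (.leaf .df)))))) (.node (.node (.node (.node (.node (.leaf .df) (.leaf (.cyc (nat_lit 21) [(nat_lit 2410), (nat_lit 8280), (nat_lit 8283), (nat_lit 8280), (nat_lit 2410)]))) (.node (.leaf (.cyc (nat_lit 20) [(nat_lit 1003), (nat_lit 3606), (nat_lit 1003)])) (.leaf .df))) (.node (.node (.leaf .df) (.leaf .df)) (.node (.leaf (.cyc (nat_lit 18) [(nat_lit 4839), (nat_lit 6551), (nat_lit 6553), (nat_lit 4988), (nat_lit 1802)])) (.leaf .df)))) (.node (.node (.node (.leaf .df) (.leaf (.cyc (nat_lit 44) [(nat_lit 2671), (nat_lit 2426), (nat_lit 6621), (nat_lit 2426), (nat_lit 2671)]))) (.node (.leaf (.cyc (nat_lit 24) [(nat_lit 1462), (nat_lit 1461), (nat_lit 5561), (nat_lit 1461), (nat_lit 1462)])) (.leaf .df))) (.node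 (.node (.leaf (.cyc (nat_lit 120) [(nat_lit 431), (nat_lit 187), (nat_lit 73), (nat_lit 2790), (nat_lit 2789), (nat_lit 2772), (nat_lit 2766), (nat_lit 36), (nat_lit 91), (nat_lit 3098), (nat_lit 473)])) (.leaf .df)) (.node (.leaf (.cyc (nat_lit 25) [(nat_lit 6363), (nat_lit 1755), (nat_lit 7189), (nat_lit 7191), (nat_lit 2130)])) (.leaf .df))))) (.node (.node (.node (.node (.leaf .df) (.leaf (.cyc (nat_lit 56) [(nat_lit 7484), (nat_lit 6925), (nat_lit 6927), (nat_lit 2054), (nat_lit 2544)]))) (.node (.leaf (.cyc (nat_lit 49) [(nat_lit 912), (nat_lit 4317), (nat_lit 5050)])) (.leaf .df))) (.node (.node (.leaf (.cyc (nat_lit 23) [(nat_lit 2989), (nat_lit 165), (nat_lit 167)])) (.leaf .df)) (.node (.leaf (.cyc (nat_lit 26) [(nat_lit 1939), (nat_lit 6547), (nat_lit 6949), (nat_lit 6943), (nat_lit 1973)])) (.leaf .df)))) (.node (.node (.node (.leaf .df) (.leaf .df)) (.node (.leaf (.cyc (nat_lit 19) [(nat_lit 1628), (nat_lit 6064), (nat_lit 6066), (nat_lit 6064), (nat_lit 1628)]))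 (.leaf .df))) (.node (.node (.leaf (.cyc (nat_lit 34) [(nat_lit 494), (nat_lit 224), (nat_lit 2971), (nat_lit 392), (nat_lit 4026)])) (.leaf .df)) (.node (.leaf (.cyc (nat_lit 47) [(nat_lit 2278), (nat_lit 1547), (nat_lit 4194), (nat_lit 1547), (nat_lit 2278)])) (.leaf .df))))))))
noncomputable def u5P1101111 : BT Pf := (.node (.node (.node (.node (.node (.node (.node (.leaf .df) (.leaf (.cyc (nat_lit 20) [(nat_lit 2329), (nat_lit 6121), (nat_lit 2329)]))) (.node (.leaf (.cyc (nat_lit 15) [(nat_lit 863), (nat_lit 3407), (nat_lit 863)])) (.leaf .df))) (.node (.node (.leaf .df) (.leaf .df)) (.node (.leaf (.cyc (nat_lit 35) [(nat_lit 6035), (nat_lit 5310), (nat_lit 950), (nat_lit 4426), (nat_lit 1698)])) (.leaf .df)))) (.node (.node (.node (.leaf .df) (.leaf (.cyc (nat_lit 20) [(nat_lit 2595), (nat_lit 7739), (nat_lit 2595)]))) (.node (.leaf (.cyc (nat_lit 56) [(nat_lit 706), (nat_lit 332), (nat_lit 3262), (nat_lit 702), (nat_lit 1320)])) (.leaf .df))) (.node (.node (.leaf (.cyc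 (nat_lit 62) [(nat_lit 119), (nat_lit 49), (nat_lit 48), (nat_lit 116), (nat_lit 278)])) (.leaf .df)) (.node (.leaf (.cyc (nat_lit 40) [(nat_lit 7290), (nat_lit 1655), (nat_lit 1654)])) (.leaf .df))))) (.node (.node (.node (.node (.leaf .df) (.leaf (.cyc (nat_lit 19) [(nat_lit 2461), (nat_lit 6749), (nat_lit 5215), (nat_lit 6749), (nat_lit 2461)]))) (.node (.leaf (.cyc (nat_lit 34) [(nat_lit 1085), (nat_lit 4643), (nat_lit 4644), (nat_lit 4643), (nat_lit 1085)])) (.leaf .df))) (.node (.node (.leaf .df) (.leaf .df)) (.node (.leaf (.cyc (nat_lit 37) [(nat_lit 1872), (nat_lit 4918), (nat_lit 4919), (nat_lit 4918), (nat_lit 1872)])) (.leaf .df)))) (.node (.node (.node (.leaf .df) (.leaf (.cyc (nat_lit 65) [(nat_lit 9824), (nat_lit 9672), (nat_lit 2673), (nat_lit 8711), (nat_lit 8673), (nat_lit 8675), (nat_lit 7997), (nat_lit 7389), (nat_lit 2549), (nat_lit 2715), (nat_lit 9849)]))) (.node (.leaf (.cyc (nat_lit 20) [(nat_lit 1527), (nat_lit 4151), (nat_lit 1527)])) (.leaf .df))) (.node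 (.node (.leaf (.cyc (nat_lit 61) [(nat_lit 572), (nat_lit 3695), (nat_lit 563), (nat_lit 264), (nat_lit 2929), (nat_lit 2928), (nat_lit 2929), (nat_lit 264), (nat_lit 563), (nat_lit 3695), (nat_lit 572)])) (.leaf .df)) (.node (.leaf (.cyc (nat_lit 41) [(nat_lit 2186), (nat_lit 5486), (nat_lit 2186)])) (.leaf .df)))))) (.node (.node (.node (.node (.node (.leaf .df) (.leaf (.cyc (nat_lit 20) [(nat_lit 8071), (nat_lit 7597), (nat_lit 2394)]))) (.node (.leaf (.cyc (nat_lit 47) [(nat_lit 4073), (nat_lit 3383), (nat_lit 4064), (nat_lit 3570), (nat_lit 972)])) (.leaf .df))) (.node (.node (.leaf .df) (.leaf .df)) (.node (.leaf (.cyc (nat_lit 56) [(nat_lit 1084), (nat_lit 571), (nat_lit 570), (nat_lit 4597), (nat_lit 1782)])) (.leaf .df)))) (.node (.node (.node (.leaf .df) (.leaf (.cyc (nat_lit 53) [(nat_lit 2656), (nat_lit 2349), (nat_lit 6187), (nat_lit 2349), (nat_lit 2656)]))) (.node (.leaf (.cyc (nat_lit 44) [(nat_lit 1427), (nat_lit 5450), (nat_lit 5455), (nat_lit 5450), (nat_lit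 1427)])) (.leaf .df))) (.node (.node (.leaf (.cyc (nat_lit 48) [(nat_lit 3313), (nat_lit 3437), (nat_lit 3313)])) (.leaf .df)) (.node (.leaf (.cyc (nat_lit 26) [(nat_lit 2092), (nat_lit 5214), (nat_lit 5205), (nat_lit 5287), (nat_lit 2114)])) (.leaf .df))))) (.node (.node (.node (.node (.leaf .df) (.leaf (.cyc (nat_lit 50) [(nat_lit 2020), (nat_lit 1248), (nat_lit 5069), (nat_lit 2016), (nat_lit 2526)]))) (.node (.leaf (.cyc (nat_lit 30) [(nat_lit 1209), (nat_lit 639), (nat_lit 3813), (nat_lit 639), (nat_lit 1209)])) (.leaf .df))) (.node (.node (.leaf (.cyc (nat_lit 30) [(nat_lit 125), (nat_lit 124), (nat_lit 2937), (nat_lit 124), (nat_lit 125)])) (.leaf .df)) (.node (.leaf (.cyc (nat_lit 14) [(nat_lit 7034), (nat_lit 1500), (nat_lit 4131), (nat_lit 1058), (nat_lit 1814)])) (.leaf .df)))) (.node (.node (.node (.leaf .df) (.leaf .df)) (.node (.leaf (.cyc (nat_lit 10) [(nat_lit 6009), (nat_lit 4849), (nat_lit 6009)])) (.leaf .df))) (.node (.node (.leaf (.cyc (nat_lit 30) [(nat_lit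 751), (nat_lit 750), (nat_lit 3962), (nat_lit 750), (nat_lit 751)])) (.leaf .df)) (.node (.leaf (.cyc (nat_lit 23) [(nat_lit 1519), (nat_lit 1517), (nat_lit 2259)])) (.leaf .df))))))) (.node (.node (.node (.node (.node (.node (.leaf .df) (.leaf (.cyc (nat_lit 86) [(nat_lit 8442), (nat_lit 2213), (nat_lit 2212)]))) (.node (.leaf (.cyc (nat_lit 52) [(nat_lit 923), (nat_lit 924), (nat_lit 4346), (nat_lit 924), (nat_lit 923)])) (.leaf .df))) (.node (.node (.leaf .df) (.leaf .df)) (.node (.leaf (.cyc (nat_lit 45) [(nat_lit 1742), (nat_lit 6341), (nat_lit 6339), (nat_lit 6341), (nat_lit 1742)])) (.leaf .df)))) (.node (.node (.node (.leaf .df) (.leaf (.cyc (nat_lit 31) [(nat_lit 2627), (nat_lit 2260), (nat_lit 5727), (nat_lit 2260), (nat_lit 2627)]))) (.node (.leaf (.cyc (nat_lit 48) [(nat_lit 4984), (nat_lit 4836), (nat_lit 1366)])) (.leaf .df))) (.node (.node (.leaf (.cyc (nat_lit 97) [(nat_lit 205), (nat_lit 81), (nat_lit 29), (nat_lit 2755), (nat_lit 4), (nat_lit 2775), (nat_lit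 63), (nat_lit 2866), (nat_lit 2865), (nat_lit 155), (nat_lit 374)])) (.leaf .df)) (.node (.leaf (.cyc (nat_lit 30) [(nat_lit 2078), (nat_lit 2077), (nat_lit 7416), (nat_lit 2077), (nat_lit 2078)])) (.leaf .df))))) (.node (.node (.node (.node (.leaf .df) (.leaf (.cyc (nat_lit 26) [(nat_lit 2344), (nat_lit 6910), (nat_lit 1917), (nat_lit 1916), (nat_lit 2493)]))) (.node (.leaf (.cyc (nat_lit 23) [(nat_lit 607), (nat_lit 604), (nat_lit 1144)])) (.leaf .df))) (.node (.node (.leaf (.cyc (nat_lit 19) [(nat_lit 12), (nat_lit 11), (nat_lit 2), (nat_lit 0), (nat_lit 29)])) (.leaf .df)) (.node (.leaf (.cyc (nat_lit 25) [(nat_lit 6495), (nat_lit 1437), (nat_lit 6484), (nat_lit 4861), (nat_lit 1917)])) (.leaf .df)))) (.node (.node (.node (.leaf .df) (.leaf (.cyc (nat_lit 15) [(nat_lit 2742), (nat_lit 9775), (nat_lit 2742)]))) (.node (.leaf (.cyc (nat_lit 49) [(nat_lit 5568), (nat_lit 4286), (nat_lit 1568)])) (.leaf .df))) (.node (.node (.leaf (.cyc (nat_lit 23) [(nat_lit 306), (nat_lit 305),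 (nat_lit 656)])) (.leaf .df)) (.node (.leaf (.cyc (nat_lit 79) [(nat_lit 7894), (nat_lit 7892), (nat_lit 5655), (nat_lit 931), (nat_lit 4381), (nat_lit 1670), (nat_lit 6184), (nat_lit 5000), (nat_lit 5564), (nat_lit 5565), (nat_lit 2218)])) (.leaf .df)))))) (.node (.node (.node (.node (.node (.leaf .df) (.leaf (.cyc (nat_lit 47) [(nat_lit 2425), (nat_lit 6790), (nat_lit 6791), (nat_lit 6790), (nat_lit 2425)]))) (.node (.leaf (.cyc (nat_lit 40) [(nat_lit 4602), (nat_lit 1030), (nat_lit 1029)])) (.leaf .df))) (.node (.node (.leaf .df) (.leaf .df)) (.node (.leaf (.cyc (nat_lit 15) [(nat_lit 1825), (nat_lit 4694), (nat_lit 1825)])) (.leaf .df)))) (.node (.node (.node (.leaf .df) (.leaf (.cyc (nat_lit 16) [(nat_lit 2685), (nat_lit 8860), (nat_lit 7780), (nat_lit 8860), (nat_lit 2685)]))) (.node (.leaf (.cyc (nat_lit 114) [(nat_lit 1395), (nat_lit 5626)])) (.leaf .df))) (.node (.node (.leaf (.cyc (nat_lit 46) [(nat_lit 3152), (nat_lit 3142), (nat_lit 504)])) (.leaf .df)) (.node (.leaf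 (.cyc (nat_lit 16) [(nat_lit 1427), (nat_lit 764), (nat_lit 3927), (nat_lit 5402), (nat_lit 2150)])) (.leaf .df))))) (.node (.node (.node (.node (.leaf .df) (.leaf (.cyc (nat_lit 34) [(nat_lit 2560), (nat_lit 2088), (nat_lit 5189), (nat_lit 2088), (nat_lit 2560)]))) (.node (.leaf (.cyc (nat_lit 55) [(nat_lit 1262), (nat_lit 1264), (nat_lit 5114), (nat_lit 1264), (nat_lit 1262)])) (.leaf .df))) (.node (.node (.leaf (.cyc (nat_lit 27) [(nat_lit 197), (nat_lit 2878), (nat_lit 197)])) (.leaf .df)) (.node (.leaf (.cyc (nat_lit 92) [(nat_lit 7160), (nat_lit 7161), (nat_lit 1978), (nat_lit 6411), (nat_lit 6408), (nat_lit 1746), (nat_lit 986), (nat_lit 3680), (nat_lit 4335), (nat_lit 4690), (nat_lit 1819)])) (.leaf .df)))) (.node (.node (.node (.leaf .df) (.leaf .df)) (.node (.leaf (.cyc (nat_lit 19) [(nat_lit 1650), (nat_lit 909), (nat_lit 3482), (nat_lit 909), (nat_lit 1650)])) (.leaf .df))) (.node (.node (.leaf (.cyc (nat_lit 20) [(nat_lit 787), (nat_lit 3347), (nat_lit 787)])) (.leaf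 .df)) (.node (.leaf (.cyc (nat_lit 28) [(nat_lit 7759), (nat_lit 2116), (nat_lit 5294), (nat_lit 1585), (nat_lit 2294)])) (.leaf .df))))))))
noncomputable def u5P110111 : BT Pf := .node u5P1101110 u5P1101111
noncomputable def u5P11011 : BT Pf := .node u5P110110 u5P110111
noncomputable def u5P1101 : BT Pf := .node u5P11010 u5P11011
noncomputable def u5P110 : BT Pf := .node u5P1100 u5P1101
noncomputable def u5P1110000 : BT Pf := (.node (.node (.node (.node (.node (.node (.node (.leaf .df) (.leaf (.cyc (nat_lit 63) [(nat_lit 7123), (nat_lit 1197), (nat_lit 4350), (nat_lit 1587), (nat_lit 2297)]))) (.node (.leaf (.cyc (nat_lit 26) [(nat_lit 402), (nat_lit 3330), (nat_lit 3329), (nat_lit 386), (nat_lit 792)])) (.leaf .df))) (.node (.node (.leaf .df) (.leaf .df)) (.node (.leaf (.cyc (nat_lit 37) [(nat_lit 1655), (nat_lit 5078), (nat_lit 5080), (nat_lit 5078), (nat_lit 1655)])) (.leaf .df)))) (.node (.node (.node (.leaf .df) (.leaf (.cyc (nat_lit 79) [(nat_lit 2183), (nat_lit 7729),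 (nat_lit 7771), (nat_lit 7732), (nat_lit 2188), (nat_lit 7810), (nat_lit 7811), (nat_lit 6122), (nat_lit 1863), (nat_lit 2463), (nat_lit 9221)]))) (.node (.leaf (.cyc (nat_lit 45) [(nat_lit 1269), (nat_lit 5036), (nat_lit 5035), (nat_lit 5036), (nat_lit 1269)])) (.leaf .df))) (.node (.node (.leaf (.cyc (nat_lit 53) [(nat_lit 3072), (nat_lit 199), (nat_lit 79), (nat_lit 80), (nat_lit 202)])) (.leaf .df)) (.node (.leaf (.cyc (nat_lit 47) [(nat_lit 1676), (nat_lit 4388), (nat_lit 4648), (nat_lit 4988), (nat_lit 1994)])) (.leaf .df))))) (.node (.node (.node (.node (.leaf .df) (.leaf (.cyc (nat_lit 34) [(nat_lit 8675), (nat_lit 7998), (nat_lit 5671), (nat_lit 1816), (nat_lit 2429)]))) (.node (.leaf (.cyc (nat_lit 73) [(nat_lit 851), (nat_lit 4611)])) (.leaf .df))) (.node (.node (.leaf .df) (.leaf .df)) (.node (.leaf (.cyc (nat_lit 81) [(nat_lit 1829), (nat_lit 5831), (nat_lit 5888), (nat_lit 5886), (nat_lit 1568), (nat_lit 4208), (nat_lit 853), (nat_lit 428), (nat_lit 430), (nat_lit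 855), (nat_lit 1572)])) (.leaf .df)))) (.node (.node (.node (.leaf .df) (.leaf (.cyc (nat_lit 6) [(nat_lit 2687), (nat_lit 2477), (nat_lit 6785), (nat_lit 2477), (nat_lit 2687)]))) (.node (.leaf (.cyc (nat_lit 26) [(nat_lit 1483), (nat_lit 1482), (nat_lit 5635), (nat_lit 1482), (nat_lit 1483)])) (.leaf .df))) (.node (.node (.leaf (.cyc (nat_lit 18) [(nat_lit 511), (nat_lit 3134), (nat_lit 3074), (nat_lit 3134), (nat_lit 511)])) (.leaf .df)) (.node (.leaf (.cyc (nat_lit 46) [(nat_lit 2153), (nat_lit 6872), (nat_lit 2153)])) (.leaf .df)))))) (.node (.node (.node (.node (.node (.leaf .df) (.leaf (.cyc (nat_lit 140) [(nat_lit 8454), (nat_lit 1787), (nat_lit 5515), (nat_lit 2206), (nat_lit 7881)]))) (.node (.leaf (.cyc (nat_lit 134) [(nat_lit 4354), (nat_lit 847), (nat_lit 3391), (nat_lit 3035), (nat_lit 76), (nat_lit 2784), (nat_lit 2870), (nat_lit 169), (nat_lit 401), (nat_lit 4134), (nat_lit 4136)])) (.leaf .df))) (.node (.node (.leaf .df) (.leaf .df)) (.node (.leaf (.cyc (nat_lit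 28) [(nat_lit 1577), (nat_lit 4502), (nat_lit 984), (nat_lit 985), (nat_lit 1745)])) (.leaf .df)))) (.node (.node (.node (.leaf .df) (.leaf (.cyc (nat_lit 48) [(nat_lit 2631), (nat_lit 8119), (nat_lit 2631)]))) (.node (.leaf (.cyc (nat_lit 41) [(nat_lit 5370), (nat_lit 5367), (nat_lit 1373)])) (.leaf .df))) (.node (.node (.leaf (.cyc (nat_lit 20) [(nat_lit 379), (nat_lit 2968), (nat_lit 379)])) (.leaf .df)) (.node (.leaf (.cyc (nat_lit 128) [(nat_lit 2081), (nat_lit 5172), (nat_lit 5171), (nat_lit 4756), (nat_lit 3839), (nat_lit 3832), (nat_lit 3839), (nat_lit 4756), (nat_lit 5171), (nat_lit 5172), (nat_lit 2081)])) (.leaf .df))))) (.node (.node (.node (.node (.leaf .df) (.leaf (.cyc (nat_lit 18) [(nat_lit 2496), (nat_lit 8450), (nat_lit 8448), (nat_lit 8450), (nat_lit 2496)]))) (.node (.leaf (.cyc (nat_lit 21) [(nat_lit 1150), (nat_lit 609), (nat_lit 3201), (nat_lit 609), (nat_lit 1150)])) (.leaf .df))) (.node (.node (.leaf (.cyc (nat_lit 30) [(nat_lit 33), (nat_lit 32), (nat_lit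 2822), (nat_lit 32), (nat_lit 33)])) (.leaf .df)) (.node (.leaf (.cyc (nat_lit 16) [(nat_lit 1922), (nat_lit 1153), (nat_lit 3756), (nat_lit 1153), (nat_lit 1922)])) (.leaf .df)))) (.node (.node (.node (.leaf .df) (.leaf (.cyc (nat_lit 47) [(nat_lit 2744), (nat_lit 9864), (nat_lit 9861), (nat_lit 9864), (nat_lit 2744)]))) (.node (.leaf (.cyc (nat_lit 40) [(nat_lit 5887), (nat_lit 5885), (nat_lit 5887)])) (.leaf .df))) (.node (.node (.leaf (.cyc (nat_lit 16) [(nat_lit 377), (nat_lit 3327), (nat_lit 3419), (nat_lit 3418), (nat_lit 659)])) (.leaf .df)) (.node (.leaf (.cyc (nat_lit 14) [(nat_lit 7941), (nat_lit 6347), (nat_lit 5398), (nat_lit 6347), (nat_lit 7941)])) (.leaf .df))))))) (.node (.node (.node (.node (.node (.node (.leaf .df) (.leaf (.cyc (nat_lit 62) [(nat_lit 2331), (nat_lit 1644), (nat_lit 4311), (nat_lit 1644), (nat_lit 2331)]))) (.node (.leaf (.cyc (nat_lit 27) [(nat_lit 869), (nat_lit 3458), (nat_lit 869)])) (.leaf .df))) (.node (.node (.leaf .df) (.leaf .df)) (.node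 (.leaf (.cyc (nat_lit 47) [(nat_lit 1671), (nat_lit 929), (nat_lit 930), (nat_lit 4427), (nat_lit 1701)])) (.leaf .df)))) (.node (.node (.node (.leaf .df) (.leaf (.cyc (nat_lit 27) [(nat_lit 2598), (nat_lit 7778), (nat_lit 2598)]))) (.node (.leaf (.cyc (nat_lit 21) [(nat_lit 1329), (nat_lit 706), (nat_lit 3450), (nat_lit 706), (nat_lit 1329)])) (.leaf .df))) (.node (.node (.leaf (.cyc (nat_lit 48) [(nat_lit 285), (nat_lit 2933), (nat_lit 285)])) (.leaf .df)) (.node (.leaf (.cyc (nat_lit 63) [(nat_lit 2033), (nat_lit 5546), (nat_lit 5547), (nat_lit 5546), (nat_lit 2033)])) (.leaf .df))))) (.node (.node (.node (.node (.leaf .df) (.leaf (.cyc (nat_lit 50) [(nat_lit 2464), (nat_lit 1865), (nat_lit 4755), (nat_lit 1865), (nat_lit 2464)]))) (.node (.leaf (.cyc (nat_lit 56) [(nat_lit 4735), (nat_lit 1089), (nat_lit 3714), (nat_lit 577), (nat_lit 1093)])) (.leaf .df))) (.node (.node (.leaf .df) (.leaf .df)) (.node (.leaf (.cyc (nat_lit 19) [(nat_lit 1877), (nat_lit 4787), (nat_lit 4517),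 (nat_lit 4787), (nat_lit 1877)])) (.leaf .df)))) (.node (.node (.node (.leaf .df) (.leaf (.cyc (nat_lit 30) [(nat_lit 9268), (nat_lit 9204), (nat_lit 2557), (nat_lit 2556), (nat_lit 2718)]))) (.node (.leaf (.cyc (nat_lit 112) [(nat_lit 5636), (nat_lit 5766)])) (.leaf .df))) (.node (.node (.leaf (.cyc (nat_lit 48) [(nat_lit 328), (nat_lit 3190), (nat_lit 580)])) (.leaf .df)) (.node (.leaf (.cyc (nat_lit 96) [(nat_lit 7813), (nat_lit 1975), (nat_lit 4966), (nat_lit 4350), (nat_lit 1586)])) (.leaf .df)))))) (.node (.node (.node (.node (.node (.leaf .df) (.leaf (.cyc (nat_lit 140) [(nat_lit 8582), (nat_lit 2133), (nat_lit 5521), (nat_lit 2207), (nat_lit 8039)]))) (.node (.leaf (.cyc (nat_lit 50) [(nat_lit 980), (nat_lit 508), (nat_lit 3127), (nat_lit 508), (nat_lit 980)])) (.leaf .df))) (.node (.node (.leaf .df) (.leaf .df)) (.node (.leaf (.cyc (nat_lit 26) [(nat_lit 1785), (nat_lit 4603), (nat_lit 4505), (nat_lit 4603), (nat_lit 1785)])) (.leaf .df)))) (.node (.node (.node (.leaf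 .df) (.leaf (.cyc (nat_lit 45) [(nat_lit 9063), (nat_lit 7706), (nat_lit 6625), (nat_lit 2363), (nat_lit 2659)]))) (.node (.leaf (.cyc (nat_lit 34) [(nat_lit 1436), (nat_lit 768), (nat_lit 3310), (nat_lit 768), (nat_lit 1436)])) (.leaf .df))) (.node (.node (.leaf (.cyc (nat_lit 20) [(nat_lit 3139), (nat_lit 3138), (nat_lit 445)])) (.leaf .df)) (.node (.leaf (.cyc (nat_lit 105) [(nat_lit 7557), (nat_lit 5305), (nat_lit 7557)])) (.leaf .df))))) (.node (.node (.node (.node (.leaf .df) (.leaf (.cyc (nat_lit 20) [(nat_lit 2027), (nat_lit 2025), (nat_lit 2530)]))) (.node (.leaf (.cyc (nat_lit 17) [(nat_lit 4707), (nat_lit 1070), (nat_lit 4662), (nat_lit 4166), (nat_lit 834), (nat_lit 4169), (nat_lit 4071), (nat_lit 4176), (nat_lit 4177), (nat_lit 4479), (nat_lit 4998)])) (.leaf .df))) (.node (.node (.leaf (.cyc (nat_lit 54) [(nat_lit 2950), (nat_lit 138), (nat_lit 57), (nat_lit 16), (nat_lit 61), (nat_lit 2863), (nat_lit 61), (nat_lit 16), (nat_lit 57), (nat_lit 138), (nat_lit 2950)]))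 (.leaf .df)) (.node (.leaf (.cyc (nat_lit 7) [(nat_lit 7046), (nat_lit 5533), (nat_lit 1451)])) (.leaf .df)))) (.node (.node (.node (.leaf .df) (.leaf .df)) (.node (.leaf (.cyc (nat_lit 21) [(nat_lit 1611), (nat_lit 1609), (nat_lit 6019), (nat_lit 1609), (nat_lit 1611)])) (.leaf .df))) (.node (.node (.leaf (.cyc (nat_lit 60) [(nat_lit 3967), (nat_lit 756), (nat_lit 3974), (nat_lit 756), (nat_lit 3967)])) (.leaf .df)) (.node (.leaf (.cyc (nat_lit 53) [(nat_lit 2126), (nat_lit 5754), (nat_lit 1526), (nat_lit 1527), (nat_lit 2263)])) (.leaf .df))))))))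
noncomputable def u5P1110001 : BT Pf := (.node (.node (.node (.node (.node (.node (.node (.leaf .df) (.leaf (.cyc (nat_lit 24) [(nat_lit 1771), (nat_lit 6162), (nat_lit 6164), (nat_lit 6080), (nat_lit 2316)]))) (.node (.leaf (.cyc (nat_lit 56) [(nat_lit 831), (nat_lit 4098), (nat_lit 4101), (nat_lit 4098), (nat_lit 831)])) (.leaf .df))) (.node (.node (.leaf .df) (.leaf .df)) (.node (.leaf (.cyc (nat_lit 9) [(nat_lit 6213), (nat_lit 993), (nat_lit 3600), (nat_lit 993), (nat_lit 6213)])) (.leaf .df)))) (.node (.node (.node (.leaf .df) (.leaf (.cyc (nat_lit 49) [(nat_lit 8727), (nat_lit 8730), (nat_lit 2579)]))) (.node (.leaf (.cyc (nat_lit 60) [(nat_lit 1300), (nat_lit 1302), (nat_lit 5190), (nat_lit 1302), (nat_lit 1300)])) (.leaf .df))) (.node (.node (.leaf (.cyc (nat_lit 47) [(nat_lit 3104), (nat_lit 176), (nat_lit 2872), (nat_lit 100), (nat_lit 241)])) (.leaf .df)) (.node (.leaf (.cyc (nat_lit 23) [(nat_lit 1509), (nat_lit 5070), (nat_lit 2016)])) (.leaf .df))))) (.node (.node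 (.node (.node (.leaf .df) (.leaf (.cyc (nat_lit 21) [(nat_lit 2446), (nat_lit 6677), (nat_lit 5825), (nat_lit 6677), (nat_lit 2446)]))) (.node (.leaf (.cyc (nat_lit 48) [(nat_lit 1057), (nat_lit 3692), (nat_lit 1057)])) (.leaf .df))) (.node (.node (.leaf .df) (.leaf .df)) (.node (.leaf (.cyc (nat_lit 49) [(nat_lit 1116), (nat_lit 4742), (nat_lit 1855)])) (.leaf .df)))) (.node (.node (.node (.leaf .df) (.leaf (.cyc (nat_lit 34) [(nat_lit 2703), (nat_lit 2524), (nat_lit 7230), (nat_lit 2524), (nat_lit 2703)]))) (.node (.leaf (.cyc (nat_lit 24) [(nat_lit 1506), (nat_lit 5699), (nat_lit 5701), (nat_lit 5699), (nat_lit 1506)])) (.leaf .df))) (.node (.node (.leaf (.cyc (nat_lit 73) [(nat_lit 3174), (nat_lit 3648), (nat_lit 3089)])) (.leaf .df)) (.node (.leaf (.cyc (nat_lit 44) [(nat_lit 2169), (nat_lit 1403), (nat_lit 3946), (nat_lit 1403), (nat_lit 2169)])) (.leaf .df)))))) (.node (.node (.node (.node (.node (.leaf .df) (.leaf (.cyc (nat_lit 20) [(nat_lit 1800), (nat_lit 6382), (nat_lit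 2380)]))) (.node (.leaf (.cyc (nat_lit 50) [(nat_lit 803), (nat_lit 398), (nat_lit 3115), (nat_lit 487), (nat_lit 945)])) (.leaf .df))) (.node (.node (.leaf .df) (.leaf .df)) (.node (.leaf (.cyc (nat_lit 102) [(nat_lit 4829), (nat_lit 4014), (nat_lit 1013), (nat_lit 6465), (nat_lit 5347)])) (.leaf .df)))) (.node (.node (.node (.leaf .df) (.leaf (.cyc (nat_lit 30) [(nat_lit 2644), (nat_lit 8237), (nat_lit 6745), (nat_lit 8237), (nat_lit 2644)]))) (.node (.leaf (.cyc (nat_lit 10) [(nat_lit 5446), (nat_lit 3956), (nat_lit 877)])) (.leaf .df))) (.node (.node (.leaf (.cyc (nat_lit 62) [(nat_lit 427), (nat_lit 3043), (nat_lit 2974), (nat_lit 3043), (nat_lit 427)])) (.leaf .df)) (.node (.leaf (.cyc (nat_lit 77) [(nat_lit 7493), (nat_lit 2101), (nat_lit 5585), (nat_lit 877), (nat_lit 3730), (nat_lit 3733), (nat_lit 592), (nat_lit 594), (nat_lit 4248), (nat_lit 4824), (nat_lit 1895)])) (.leaf .df))))) (.node (.node (.node (.node (.leaf .df) (.leaf (.cyc (nat_lit 37) [(nat_lit 2513), (nat_lit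 7086), (nat_lit 5010), (nat_lit 7086), (nat_lit 2513)]))) (.node (.leaf (.cyc (nat_lit 62) [(nat_lit 627), (nat_lit 291), (nat_lit 290), (nat_lit 624), (nat_lit 1177)])) (.leaf .df))) (.node (.node (.leaf (.cyc (nat_lit 23) [(nat_lit 85), (nat_lit 2826), (nat_lit 86)])) (.leaf .df)) (.node (.leaf (.cyc (nat_lit 20) [(nat_lit 6974), (nat_lit 1936), (nat_lit 1937)])) (.leaf .df)))) (.node (.node (.node (.leaf .df) (.leaf .df)) (.node (.leaf (.cyc (nat_lit 63) [(nat_lit 1591), (nat_lit 4238), (nat_lit 4007), (nat_lit 4238), (nat_lit 1591)])) (.leaf .df))) (.node (.node (.leaf (.cyc (nat_lit 66) [(nat_lit 3909), (nat_lit 3290), (nat_lit 3810), (nat_lit 3290), (nat_lit 3909)])) (.leaf .df)) (.node (.leaf (.cyc (nat_lit 41) [(nat_lit 1706), (nat_lit 5638), (nat_lit 2241)])) (.leaf .df))))))) (.node (.node (.node (.node (.node (.node (.leaf .df) (.leaf (.cyc (nat_lit 44) [(nat_lit 2346), (nat_lit 6285), (nat_lit 5495), (nat_lit 6285), (nat_lit 2346)]))) (.node (.leaf (.cyc (nat_lit 29)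 [(nat_lit 4293), (nat_lit 696), (nat_lit 326), (nat_lit 327), (nat_lit 697)])) (.leaf .df))) (.node (.node (.leaf .df) (.leaf .df)) (.node (.leaf (.cyc (nat_lit 47) [(nat_lit 1554), (nat_lit 4591), (nat_lit 5790), (nat_lit 5788), (nat_lit 1726)])) (.leaf .df)))) (.node (.node (.node (.leaf .df) (.leaf (.cyc (nat_lit 45) [(nat_lit 2615), (nat_lit 7993), (nat_lit 6747), (nat_lit 7993), (nat_lit 2615)]))) (.node (.leaf (.cyc (nat_lit 18) [(nat_lit 5119), (nat_lit 5120), (nat_lit 4990), (nat_lit 4991), (nat_lit 5318)])) (.leaf .df))) (.node (.node (.leaf (.cyc (nat_lit 58) [(nat_lit 342), (nat_lit 3263), (nat_lit 333), (nat_lit 139), (nat_lit 138), (nat_lit 2950), (nat_lit 138), (nat_lit 139), (nat_lit 333), (nat_lit 3263), (nat_lit 342)])) (.leaf .df)) (.node (.leaf (.cyc (nat_lit 45) [(nat_lit 2059), (nat_lit 5147), (nat_lit 4803), (nat_lit 5147), (nat_lit 2059)])) (.leaf .df))))) (.node (.node (.node (.node (.leaf .df) (.leaf (.cyc (nat_lit 21) [(nat_lit 2481), (nat_lit 8171),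 (nat_lit 8174), (nat_lit 8171), (nat_lit 2481)]))) (.node (.leaf (.cyc (nat_lit 53) [(nat_lit 1039), (nat_lit 4365), (nat_lit 588), (nat_lit 589), (nat_lit 1117)])) (.leaf .df))) (.node (.node (.leaf (.pin (nat_lit 10) [] [])) (.leaf .df)) (.node (.leaf (.cyc (nat_lit 37) [(nat_lit 6659), (nat_lit 6655), (nat_lit 1367), (nat_lit 4836), (nat_lit 1902)])) (.leaf .df)))) (.node (.node (.node (.leaf .df) (.leaf (.cyc (nat_lit 53) [(nat_lit 2731), (nat_lit 2611), (nat_lit 7970), (nat_lit 2611), (nat_lit 2731)]))) (.node (.leaf (.cyc (nat_lit 35) [(nat_lit 1068), (nat_lit 4662), (nat_lit 4166), (nat_lit 834), (nat_lit 1546)])) (.leaf .df))) (.node (.node (.leaf (.cyc (nat_lit 30) [(nat_lit 3474), (nat_lit 3475), (nat_lit 290), (nat_lit 289), (nat_lit 622)])) (.leaf .df)) (.node (.leaf (.cyc (nat_lit 27) [(nat_lit 1443), (nat_lit 1442), (nat_lit 2206)])) (.leaf .df)))))) (.node (.node (.node (.node (.node (.leaf .df) (.leaf (.cyc (nat_lit 41) [(nat_lit 7115), (nat_lit 6528), (nat_lit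 2413)]))) (.node (.leaf (.cyc (nat_lit 87) [(nat_lit 886), (nat_lit 4093), (nat_lit 788), (nat_lit 385), (nat_lit 386), (nat_lit 791), (nat_lit 4100), (nat_lit 4061), (nat_lit 524), (nat_lit 1007), (nat_lit 4550)])) (.leaf .df))) (.node (.node (.leaf .df) (.leaf .df)) (.node (.leaf (.cyc (nat_lit 31) [(nat_lit 6536), (nat_lit 5863), (nat_lit 4475), (nat_lit 1049), (nat_lit 1804)])) (.leaf .df)))) (.node (.node (.node (.leaf .df) (.leaf (.cyc (nat_lit 30) [(nat_lit 2673), (nat_lit 8711), (nat_lit 8673), (nat_lit 8711), (nat_lit 2673)]))) (.node (.leaf (.cyc (nat_lit 141) [(nat_lit 1465), (nat_lit 1467), (nat_lit 5574), (nat_lit 1456), (nat_lit 4242), (nat_lit 878), (nat_lit 3486), (nat_lit 4245), (nat_lit 3485), (nat_lit 528), (nat_lit 1015)])) (.leaf .df))) (.node (.node (.leaf (.cyc (nat_lit 19) [(nat_lit 482), (nat_lit 219), (nat_lit 2888), (nat_lit 219), (nat_lit 482)])) (.leaf .df)) (.node (.leaf (.cyc (nat_lit 144) [(nat_lit 7260), (nat_lit 5505), (nat_lit 1242), (nat_lit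 3845), (nat_lit 664), (nat_lit 4615), (nat_lit 850), (nat_lit 1564), (nat_lit 6545), (nat_lit 6546), (nat_lit 2134)])) (.leaf .df))))) (.node (.node (.node (.node (.leaf .df) (.leaf (.cyc (nat_lit 41) [(nat_lit 8787), (nat_lit 8788), (nat_lit 2546)]))) (.node (.leaf (.cyc (nat_lit 8) [(nat_lit 740), (nat_lit 3936), (nat_lit 5062), (nat_lit 1242), (nat_lit 3845), (nat_lit 665)])) (.leaf .df))) (.node (.node (.leaf (.cyc (nat_lit 37) [(nat_lit 172), (nat_lit 68), (nat_lit 2797), (nat_lit 68), (nat_lit 172)])) (.leaf .df)) (.node (.leaf (.cyc (nat_lit 21) [(nat_lit 1976), (nat_lit 1975), (nat_lit 7108), (nat_lit 1975), (nat_lit 1976)])) (.leaf .df)))) (.node (.node (.node (.leaf .df) (.leaf .df)) (.node (.leaf (.cyc (nat_lit 100) [(nat_lit 6084), (nat_lit 5175), (nat_lit 5174), (nat_lit 5175), (nat_lit 6084)])) (.leaf .df))) (.node (.node (.leaf (.cyc (nat_lit 74) [(nat_lit 3464), (nat_lit 4034), (nat_lit 159)])) (.leaf .df)) (.node (.leaf (.cyc (nat_lit 30) [(nat_lit 2281), (nat_lit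 5846), (nat_lit 4182), (nat_lit 5846), (nat_lit 2281)])) (.leaf .df))))))))
noncomputable def u5P111000 : BT Pf := .node u5P1110000 u5P1110001
noncomputable def u5P1110010 : BT Pf := (.node (.node (.node (.node (.node (.node (.node (.leaf .df) (.leaf (.cyc (nat_lit 41) [(nat_lit 8220), (nat_lit 8218), (nat_lit 2305)]))) (.node (.leaf (.cyc (nat_lit 97) [(nat_lit 541), (nat_lit 4063), (nat_lit 3029), (nat_lit 179), (nat_lit 71), (nat_lit 21), (nat_lit 19), (nat_lit 67), (nat_lit 169), (nat_lit 401), (nat_lit 4134)])) (.leaf .df))) (.node (.node (.leaf .df) (.leaf .df)) (.node (.leaf (.cyc (nat_lit 20) [(nat_lit 998), (nat_lit 4382), (nat_lit 1670)])) (.leaf .df)))) (.node (.node (.node (.leaf .df) (.leaf (.cyc (nat_lit 61) [(nat_lit 9254), (nat_lit 2479), (nat_lit 1877), (nat_lit 4788), (nat_lit 6133), (nat_lit 6137), (nat_lit 5183), (nat_lit 1329), (nat_lit 2108), (nat_lit 7534), (nat_lit 2569)]))) (.node (.leaf (.cyc (nat_lit 55) [(nat_lit 5155), (nat_lit 1287), (nat_lit 5158),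 (nat_lit 1287), (nat_lit 5155)])) (.leaf .df))) (.node (.node (.leaf (.cyc (nat_lit 28) [(nat_lit 218), (nat_lit 85), (nat_lit 2823), (nat_lit 85), (nat_lit 218)])) (.leaf .df)) (.node (.leaf (.cyc (nat_lit 15) [(nat_lit 1224), (nat_lit 1223), (nat_lit 2005)])) (.leaf .df))))) (.node (.node (.node (.node (.leaf .df) (.leaf (.cyc (nat_lit 21) [(nat_lit 2415), (nat_lit 6531), (nat_lit 6601), (nat_lit 6649), (nat_lit 2438)]))) (.node (.leaf (.cyc (nat_lit 26) [(nat_lit 1047), (nat_lit 3685), (nat_lit 3557), (nat_lit 3685), (nat_lit 1047)])) (.leaf .df))) (.node (.node (.leaf .df) (.leaf .df)) (.node (.leaf (.cyc (nat_lit 31) [(nat_lit 1843), (nat_lit 4876), (nat_lit 4874), (nat_lit 4876), (nat_lit 1843)])) (.leaf .df)))) (.node (.node (.node (.leaf .df) (.leaf (.cyc (nat_lit 25) [(nat_lit 2695), (nat_lit 9757), (nat_lit 9760), (nat_lit 9757), (nat_lit 2695)]))) (.node (.leaf (.cyc (nat_lit 49) [(nat_lit 4686), (nat_lit 4423), (nat_lit 1494)])) (.leaf .df))) (.node (.node (.leaf (.cyc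 (nat_lit 53) [(nat_lit 536), (nat_lit 249), (nat_lit 2917), (nat_lit 249), (nat_lit 536)])) (.leaf .df)) (.node (.leaf (.cyc (nat_lit 25) [(nat_lit 5955), (nat_lit 5569), (nat_lit 6995), (nat_lit 6996), (nat_lit 2161)])) (.leaf .df)))))) (.node (.node (.node (.node (.node (.leaf .df) (.leaf (.cyc (nat_lit 6) [(nat_lit 2371), (nat_lit 6320), (nat_lit 4489), (nat_lit 6320), (nat_lit 2371)]))) (.node (.leaf (.cyc (nat_lit 56) [(nat_lit 933), (nat_lit 481), (nat_lit 3109), (nat_lit 481), (nat_lit 933)])) (.leaf .df))) (.node (.node (.leaf .df) (.leaf .df)) (.node (.leaf (.cyc (nat_lit 15) [(nat_lit 1758), (nat_lit 4539), (nat_lit 1758)])) (.leaf .df)))) (.node (.node (.node (.leaf .df) (.leaf (.cyc (nat_lit 27) [(nat_lit 2638), (nat_lit 8169), (nat_lit 2638)]))) (.node (.leaf (.cyc (nat_lit 13) [(nat_lit 1385), (nat_lit 733), (nat_lit 3273), (nat_lit 3809), (nat_lit 641), (nat_lit 297), (nat_lit 126), (nat_lit 123), (nat_lit 291), (nat_lit 626), (nat_lit 1179)])) (.leaf .df))) (.node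 (.node (.leaf (.cyc (nat_lit 50) [(nat_lit 395), (nat_lit 164), (nat_lit 2868), (nat_lit 164), (nat_lit 395)])) (.leaf .df)) (.node (.leaf (.cyc (nat_lit 46) [(nat_lit 1712), (nat_lit 5209), (nat_lit 2091)])) (.leaf .df))))) (.node (.node (.node (.node (.leaf .df) (.leaf (.cyc (nat_lit 19) [(nat_lit 2503), (nat_lit 1942), (nat_lit 4914), (nat_lit 1942), (nat_lit 2503)]))) (.node (.leaf (.cyc (nat_lit 23) [(nat_lit 4902), (nat_lit 1164), (nat_lit 1165)])) (.leaf .df))) (.node (.node (.leaf (.cyc (nat_lit 15) [(nat_lit 50), (nat_lit 14), (nat_lit 53)])) (.leaf .df)) (.node (.leaf (.cyc (nat_lit 46) [(nat_lit 1851), (nat_lit 5001), (nat_lit 1930)])) (.leaf .df)))) (.node (.node (.node (.leaf .df) (.leaf .df)) (.node (.leaf (.cyc (nat_lit 27) [(nat_lit 862), (nat_lit 861), (nat_lit 1577)])) (.leaf .df))) (.node (.node (.leaf (.cyc (nat_lit 23) [(nat_lit 324), (nat_lit 322), (nat_lit 686)])) (.leaf .df)) (.node (.leaf (.cyc (nat_lit 28) [(nat_lit 2231), (nat_lit 6312), (nat_lit 6311),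 (nat_lit 6312), (nat_lit 2231)])) (.leaf .df))))))) (.node (.node (.node (.node (.node (.node (.leaf .df) (.leaf (.cyc (nat_lit 23) [(nat_lit 1653), (nat_lit 1651), (nat_lit 2339)]))) (.node (.leaf (.cyc (nat_lit 48) [(nat_lit 884), (nat_lit 3468), (nat_lit 884)])) (.leaf .df))) (.node (.node (.leaf .df) (.leaf .df)) (.node (.leaf (.cyc (nat_lit 45) [(nat_lit 1713), (nat_lit 4451), (nat_lit 4132), (nat_lit 4451), (nat_lit 1713)])) (.leaf .df)))) (.node (.node (.node (.leaf .df) (.leaf (.cyc (nat_lit 48) [(nat_lit 8117), (nat_lit 7909), (nat_lit 2606)]))) (.node (.leaf (.cyc (nat_lit 63) [(nat_lit 925), (nat_lit 4318), (nat_lit 5050), (nat_lit 5052), (nat_lit 1336)])) (.leaf .df))) (.node (.node (.leaf (.cyc (nat_lit 50) [(nat_lit 194), (nat_lit 2877), (nat_lit 2857), (nat_lit 130), (nat_lit 307)])) (.leaf .df)) (.node (.leaf (.cyc (nat_lit 18) [(nat_lit 1492), (nat_lit 5034), (nat_lit 5036), (nat_lit 5122), (nat_lit 2047)])) (.leaf .df))))) (.node (.node (.node (.node (.leaf .df)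 (.leaf (.cyc (nat_lit 27) [(nat_lit 2473), (nat_lit 6783), (nat_lit 2473)]))) (.node (.leaf (.cyc (nat_lit 45) [(nat_lit 1109), (nat_lit 4125), (nat_lit 4116), (nat_lit 4125), (nat_lit 1109)])) (.leaf .df))) (.node (.node (.leaf .df) (.leaf .df)) (.node (.leaf (.cyc (nat_lit 20) [(nat_lit 1346), (nat_lit 4822), (nat_lit 1888)])) (.leaf .df)))) (.node (.node (.node (.leaf .df) (.leaf (.cyc (nat_lit 41) [(nat_lit 2725), (nat_lit 9312), (nat_lit 2725)]))) (.node (.leaf (.cyc (nat_lit 62) [(nat_lit 5791), (nat_lit 1533), (nat_lit 826), (nat_lit 827), (nat_lit 1535)])) (.leaf .df))) (.node (.node (.leaf (.cyc (nat_lit 19) [(nat_lit 606), (nat_lit 3196), (nat_lit 2930), (nat_lit 3196), (nat_lit 606)])) (.leaf .df)) (.node (.leaf (.cyc (nat_lit 15) [(nat_lit 7121), (nat_lit 7117), (nat_lit 2197)])) (.leaf .df)))))) (.node (.node (.node (.node (.node (.leaf .df) (.leaf (.cyc (nat_lit 18) [(nat_lit 2405), (nat_lit 8258), (nat_lit 8259), (nat_lit 8258), (nat_lit 2405)]))) (.node (.leaf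 (.cyc (nat_lit 25) [(nat_lit 992), (nat_lit 4513), (nat_lit 4518), (nat_lit 4513), (nat_lit 992)])) (.leaf .df))) (.node (.node (.leaf .df) (.leaf .df)) (.node (.leaf (.cyc (nat_lit 24) [(nat_lit 1285), (nat_lit 1283), (nat_lit 6521), (nat_lit 6522), (nat_lit 1797)])) (.leaf .df)))) (.node (.node (.node (.leaf .df) (.leaf (.cyc (nat_lit 41) [(nat_lit 2667), (nat_lit 8564), (nat_lit 2667)]))) (.node (.leaf (.cyc (nat_lit 14) [(nat_lit 5540), (nat_lit 1406), (nat_lit 744), (nat_lit 743), (nat_lit 1403)])) (.leaf .df))) (.node (.node (.leaf (.cyc (nat_lit 105) [(nat_lit 3494), (nat_lit 3177), (nat_lit 3494)])) (.leaf .df)) (.node (.leaf (.cyc (nat_lit 4) [(nat_lit 7589), (nat_lit 1923), (nat_lit 4878), (nat_lit 4432), (nat_lit 1705)])) (.leaf .df))))) (.node (.node (.node (.node (.leaf .df) (.leaf (.cyc (nat_lit 38) [(nat_lit 2355), (nat_lit 6280), (nat_lit 6278), (nat_lit 7389), (nat_lit 8140), (nat_lit 8138), (nat_lit 2446), (nat_lit 8778), (nat_lit 7558), (nat_lit 7325), (nat_lit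 2538)]))) (.node (.leaf (.cyc (nat_lit 47) [(nat_lit 1231), (nat_lit 3977), (nat_lit 3368), (nat_lit 3977), (nat_lit 1231)])) (.leaf .df))) (.node (.node (.leaf (.cyc (nat_lit 23) [(nat_lit 2981), (nat_lit 161), (nat_lit 164)])) (.leaf .df)) (.node (.leaf (.cyc (nat_lit 45) [(nat_lit 6706), (nat_lit 6232), (nat_lit 4950), (nat_lit 1188), (nat_lit 1968)])) (.leaf .df)))) (.node (.node (.node (.leaf .df) (.leaf .df)) (.node (.leaf (.cyc (nat_lit 16) [(nat_lit 5566), (nat_lit 5568), (nat_lit 895), (nat_lit 4280), (nat_lit 1621)])) (.leaf .df))) (.node (.node (.leaf (.cyc (nat_lit 18) [(nat_lit 775), (nat_lit 366), (nat_lit 3432), (nat_lit 366), (nat_lit 775)])) (.leaf .df)) (.node (.leaf (.cyc (nat_lit 21) [(nat_lit 2272), (nat_lit 5810), (nat_lit 5091), (nat_lit 5810), (nat_lit 2272)])) (.leaf .df))))))))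
noncomputable def u5P1110011 : BT Pf := (.node (.node (.node (.node (.node (.node (.node (.leaf .df) (.leaf (.cyc (nat_lit 27) [(nat_lit 1637), (nat_lit 1636), (nat_lit 2324)]))) (.node (.leaf (.cyc (nat_lit 19) [(nat_lit 846), (nat_lit 3390), (nat_lit 3205), (nat_lit 3390), (nat_lit 846)])) (.leaf .df))) (.node (.node (.leaf .df) (.leaf .df)) (.node (.leaf (.cyc (nat_lit 47) [(nat_lit 1691), (nat_lit 1690), (nat_lit 6244), (nat_lit 1690), (nat_lit 1691)])) (.leaf .df)))) (.node (.node (.node (.leaf .df) (.leaf (.cyc (nat_lit 58) [(nat_lit 2588), (nat_lit 2143), (nat_lit 2141), (nat_lit 7645), (nat_lit 7646), (nat_lit 7643), (nat_lit 7646), (nat_lit 7645), (nat_lit 2141), (nat_lit 2143), (nat_lit 2588)]))) (.node (.leaf (.cyc (nat_lit 27) [(nat_lit 4345), (nat_lit 4352), (nat_lit 1311)])) (.leaf .df))) (.node (.node (.leaf (.cyc (nat_lit 15) [(nat_lit 110), (nat_lit 109), (nat_lit 257)])) (.leaf .df)) (.node (.leaf (.cyc (nat_lit 19) [(nat_lit 2026), (nat_lit 2025), (nat_lit 7270),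 (nat_lit 2025), (nat_lit 2026)])) (.leaf .df))))) (.node (.node (.node (.node (.leaf .df) (.leaf (.cyc (nat_lit 45) [(nat_lit 7639), (nat_lit 5391), (nat_lit 4736), (nat_lit 1853), (nat_lit 2455)]))) (.node (.leaf (.cyc (nat_lit 41) [(nat_lit 1071), (nat_lit 3701), (nat_lit 1071)])) (.leaf .df))) (.node (.node (.leaf .df) (.leaf .df)) (.node (.leaf (.cyc (nat_lit 15) [(nat_lit 1866), (nat_lit 4758), (nat_lit 1866)])) (.leaf .df)))) (.node (.node (.node (.leaf .df) (.leaf (.cyc (nat_lit 129) [(nat_lit 9829), (nat_lit 2711), (nat_lit 9819), (nat_lit 9822), (nat_lit 2709), (nat_lit 9128), (nat_lit 8965), (nat_lit 9286), (nat_lit 9465), (nat_lit 9464), (nat_lit 9630)]))) (.node (.leaf (.cyc (nat_lit 24) [(nat_lit 1522), (nat_lit 5726), (nat_lit 5733), (nat_lit 5726), (nat_lit 1522)])) (.leaf .df))) (.node (.node (.leaf (.cyc (nat_lit 48) [(nat_lit 263), (nat_lit 3180), (nat_lit 555)])) (.leaf .df)) (.node (.leaf (.cyc (nat_lit 41) [(nat_lit 2180), (nat_lit 5471), (nat_lit 2180)]))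 (.leaf .df)))))) (.node (.node (.node (.node (.node (.leaf .df) (.leaf (.cyc (nat_lit 25) [(nat_lit 8235), (nat_lit 8234), (nat_lit 7409), (nat_lit 6421), (nat_lit 2388)]))) (.node (.leaf (.cyc (nat_lit 16) [(nat_lit 4444), (nat_lit 958), (nat_lit 3542), (nat_lit 493), (nat_lit 963)])) (.leaf .df))) (.node (.node (.leaf .df) (.leaf .df)) (.node (.leaf (.cyc (nat_lit 26) [(nat_lit 1769), (nat_lit 5593), (nat_lit 5604), (nat_lit 5593), (nat_lit 1769)])) (.leaf .df)))) (.node (.node (.node (.leaf .df) (.leaf (.cyc (nat_lit 26) [(nat_lit 2651), (nat_lit 8267), (nat_lit 8085), (nat_lit 8267), (nat_lit 2651)]))) (.node (.leaf (.cyc (nat_lit 21) [(nat_lit 1422), (nat_lit 4633), (nat_lit 4634), (nat_lit 4633), (nat_lit 1422)])) (.leaf .df))) (.node (.node (.leaf (.cyc (nat_lit 112) [(nat_lit 387), (nat_lit 3426)])) (.leaf .df)) (.node (.leaf (.cyc (nat_lit 21) [(nat_lit 2106), (nat_lit 1325), (nat_lit 4768), (nat_lit 1325), (nat_lit 2106)])) (.leaf .df))))) (.node (.node (.node (.node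 (.leaf .df) (.leaf (.cyc (nat_lit 20) [(nat_lit 8976), (nat_lit 8977), (nat_lit 2521)]))) (.node (.leaf (.cyc (nat_lit 27) [(nat_lit 635), (nat_lit 634), (nat_lit 1196)])) (.leaf .df))) (.node (.node (.leaf (.cyc (nat_lit 27) [(nat_lit 107), (nat_lit 2843), (nat_lit 107)])) (.leaf .df)) (.node (.leaf (.cyc (nat_lit 62) [(nat_lit 1947), (nat_lit 1172), (nat_lit 3779), (nat_lit 1172), (nat_lit 1947)])) (.leaf .df)))) (.node (.node (.node (.leaf .df) (.leaf .df)) (.node (.leaf (.cyc (nat_lit 50) [(nat_lit 1601), (nat_lit 880), (nat_lit 3462), (nat_lit 880), (nat_lit 1601)])) (.leaf .df))) (.node (.node (.leaf (.cyc (nat_lit 63) [(nat_lit 741), (nat_lit 349), (nat_lit 2955), (nat_lit 349), (nat_lit 741)])) (.leaf .df)) (.node (.leaf (.cyc (nat_lit 20) [(nat_lit 7883), (nat_lit 7863), (nat_lit 2253)])) (.leaf .df))))))) (.node (.node (.node (.node (.node (.node (.leaf .df) (.leaf (.cyc (nat_lit 37) [(nat_lit 1776), (nat_lit 4578), (nat_lit 1681), (nat_lit 8422), (nat_lit 8420)])))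 (.node (.leaf (.cyc (nat_lit 49) [(nat_lit 745), (nat_lit 3487), (nat_lit 915)])) (.leaf .df))) (.node (.node (.leaf .df) (.leaf .df)) (.node (.leaf (.cyc (nat_lit 27) [(nat_lit 6184), (nat_lit 4998), (nat_lit 1735)])) (.leaf .df)))) (.node (.node (.node (.leaf .df) (.leaf (.cyc (nat_lit 45) [(nat_lit 2623), (nat_lit 2252), (nat_lit 5703), (nat_lit 2252), (nat_lit 2623)]))) (.node (.leaf (.cyc (nat_lit 60) [(nat_lit 1201), (nat_lit 1203), (nat_lit 5350), (nat_lit 1203), (nat_lit 1201)])) (.leaf .df))) (.node (.node (.leaf (.cyc (nat_lit 35) [(nat_lit 354), (nat_lit 2960), (nat_lit 2863), (nat_lit 2960), (nat_lit 354)])) (.leaf .df)) (.node (.leaf (.cyc (nat_lit 46) [(nat_lit 2072), (nat_lit 5169), (nat_lit 2072)])) (.leaf .df))))) (.node (.node (.node (.node (.leaf .df) (.leaf (.cyc (nat_lit 34) [(nat_lit 2488), (nat_lit 6842), (nat_lit 6799), (nat_lit 6842), (nat_lit 2488)]))) (.node (.leaf (.cyc (nat_lit 34) [(nat_lit 1036), (nat_lit 4359), (nat_lit 3727), (nat_lit 597), (nat_lit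 1135)])) (.leaf .df))) (.node (.node (.leaf (.cyc (nat_lit 1) [(nat_lit 23), (nat_lit 2769), (nat_lit 2771)])) (.leaf .df)) (.node (.leaf (.cyc (nat_lit 59) [(nat_lit 6883), (nat_lit 1516), (nat_lit 818), (nat_lit 820), (nat_lit 1520)])) (.leaf .df)))) (.node (.node (.node (.leaf .df) (.leaf (.cyc (nat_lit 27) [(nat_lit 2738), (nat_lit 9654), (nat_lit 2738)]))) (.node (.leaf (.cyc (nat_lit 34) [(nat_lit 4476), (nat_lit 4031), (nat_lit 3629), (nat_lit 846), (nat_lit 1560)])) (.leaf .df))) (.node (.node (.leaf (.cyc (nat_lit 127) [(nat_lit 605), (nat_lit 604), (nat_lit 3811), (nat_lit 604), (nat_lit 605)])) (.leaf .df)) (.node (.leaf (.cyc (nat_lit 48) [(nat_lit 6625), (nat_lit 6628), (nat_lit 2214)])) (.leaf .df)))))) (.node (.node (.node (.node (.node (.leaf .df) (.leaf (.cyc (nat_lit 28) [(nat_lit 2420), (nat_lit 6571), (nat_lit 5855), (nat_lit 6571), (nat_lit 2420)]))) (.node (.leaf (.cyc (nat_lit 45) [(nat_lit 1023), (nat_lit 534), (nat_lit 3153), (nat_lit 534), (nat_lit 1023)]))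 (.leaf .df))) (.node (.node (.leaf .df) (.leaf .df)) (.node (.leaf (.cyc (nat_lit 27) [(nat_lit 1816), (nat_lit 4685), (nat_lit 1816)])) (.leaf .df)))) (.node (.node (.node (.leaf .df) (.leaf (.cyc (nat_lit 18) [(nat_lit 2681), (nat_lit 9503), (nat_lit 9505), (nat_lit 9503), (nat_lit 2681)]))) (.node (.leaf (.cyc (nat_lit 35) [(nat_lit 795), (nat_lit 391), (nat_lit 390), (nat_lit 793), (nat_lit 1478)])) (.leaf .df))) (.node (.node (.leaf (.cyc (nat_lit 53) [(nat_lit 500), (nat_lit 3122), (nat_lit 3285), (nat_lit 3122), (nat_lit 500)])) (.leaf .df)) (.node (.leaf (.cyc (nat_lit 3) [(nat_lit 7654), (nat_lit 2057), (nat_lit 2058)])) (.leaf .df))))) (.node (.node (.node (.node (.leaf .df) (.leaf (.cyc (nat_lit 31) [(nat_lit 8008), (nat_lit 7413), (nat_lit 2076), (nat_lit 2077), (nat_lit 2554)]))) (.node (.leaf (.cyc (nat_lit 6) [(nat_lit 4301), (nat_lit 908), (nat_lit 5057), (nat_lit 5056), (nat_lit 1250)])) (.leaf .df))) (.node (.node (.leaf (.cyc (nat_lit 20) [(nat_lit 74), (nat_lit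 73), (nat_lit 188)])) (.leaf .df)) (.node (.leaf (.cyc (nat_lit 143) [(nat_lit 6604), (nat_lit 5529), (nat_lit 6603), (nat_lit 7138), (nat_lit 7140), (nat_lit 1982), (nat_lit 1198), (nat_lit 3801), (nat_lit 1199), (nat_lit 1983), (nat_lit 7142)])) (.leaf .df)))) (.node (.node (.node (.leaf .df) (.leaf .df)) (.node (.leaf (.cyc (nat_lit 7) [(nat_lit 6118), (nat_lit 1202), (nat_lit 1203)])) (.leaf .df))) (.node (.node (.leaf (.cyc (nat_lit 10) [(nat_lit 505), (nat_lit 4064), (nat_lit 421)])) (.leaf .df)) (.node (.leaf (.cyc (nat_lit 20) [(nat_lit 1582), (nat_lit 1581), (nat_lit 2290)])) (.leaf .df))))))))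
noncomputable def u5P111001 : BT Pf := .node u5P1110010 u5P1110011
noncomputable def u5P11100 : BT Pf := .node u5P111000 u5P111001
noncomputable def u5P1110100 : BT Pf := (.node (.node (.node (.node (.node (.node (.node (.leaf .df) (.leaf (.cyc (nat_lit 120) [(nat_lit 2246), (nat_lit 1495), (nat_lit 803), (nat_lit 4097), (nat_lit 4095), (nat_lit 750), (nat_lit 3459), (nat_lit 871), (nat_lit 1591), (nat_lit 5958), (nat_lit 2300)]))) (.node (.leaf (.cyc (nat_lit 27) [(nat_lit 536), (nat_lit 535), (nat_lit 4118)])) (.leaf .df))) (.node (.node (.leaf .df) (.leaf .df)) (.node (.leaf (.cyc (nat_lit 15) [(nat_lit 986), (nat_lit 4335), (nat_lit 1660)])) (.leaf .df)))) (.node (.node (.node (.leaf .df) (.leaf (.cyc (nat_lit 62) [(nat_lit 2570), (nat_lit 8346), (nat_lit 8349), (nat_lit 8346), (nat_lit 2570)]))) (.node (.leaf (.cyc (nat_lit 28) [(nat_lit 765), (nat_lit 3861), (nat_lit 676), (nat_lit 677), (nat_lit 1276)])) (.leaf .df))) (.node (.node (.leaf (.cyc (nat_lit 25) [(nat_lit 212),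 (nat_lit 83), (nat_lit 2814), (nat_lit 83), (nat_lit 212)])) (.leaf .df)) (.node (.leaf (.cyc (nat_lit 35) [(nat_lit 7188), (nat_lit 1998), (nat_lit 1216), (nat_lit 1217), (nat_lit 1999)])) (.leaf .df))))) (.node (.node (.node (.node (.leaf .df) (.leaf (.cyc (nat_lit 21) [(nat_lit 7878), (nat_lit 1986), (nat_lit 1988), (nat_lit 7163), (nat_lit 2434)]))) (.node (.leaf (.cyc (nat_lit 25) [(nat_lit 1041), (nat_lit 4623), (nat_lit 4630), (nat_lit 4623), (nat_lit 1041)])) (.leaf .df))) (.node (.node (.leaf .df) (.leaf .df)) (.node (.leaf (.cyc (nat_lit 47) [(nat_lit 1837), (nat_lit 6533), (nat_lit 6534), (nat_lit 6533), (nat_lit 1837)])) (.leaf .df)))) (.node (.node (.node (.leaf .df) (.leaf (.cyc (nat_lit 63) [(nat_lit 2691), (nat_lit 9007), (nat_lit 8639), (nat_lit 9007), (nat_lit 2691)]))) (.node (.leaf (.cyc (nat_lit 30) [(nat_lit 931), (nat_lit 480), (nat_lit 3365), (nat_lit 798), (nat_lit 1489)])) (.leaf .df))) (.node (.node (.leaf (.cyc (nat_lit 20) [(nat_lit 242), (nat_lit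 241), (nat_lit 523)])) (.leaf .df)) (.node (.leaf (.cyc (nat_lit 47) [(nat_lit 2157), (nat_lit 7698), (nat_lit 7699), (nat_lit 7698), (nat_lit 2157)])) (.leaf .df)))))) (.node (.node (.node (.node (.node (.leaf .df) (.leaf (.cyc (nat_lit 31) [(nat_lit 1715), (nat_lit 961), (nat_lit 4442), (nat_lit 1710), (nat_lit 2366)]))) (.node (.leaf (.cyc (nat_lit 48) [(nat_lit 926), (nat_lit 3514), (nat_lit 926)])) (.leaf .df))) (.node (.node (.leaf .df) (.leaf .df)) (.node (.leaf (.cyc (nat_lit 160) [(nat_lit 992), (nat_lit 4513), (nat_lit 4518), (nat_lit 1750), (nat_lit 6422), (nat_lit 1150), (nat_lit 4496), (nat_lit 434), (nat_lit 435), (nat_lit 3686), (nat_lit 1049)])) (.leaf .df)))) (.node (.node (.node (.leaf .df) (.leaf (.cyc (nat_lit 26) [(nat_lit 2614), (nat_lit 2232), (nat_lit 6312), (nat_lit 8132), (nat_lit 2634)]))) (.node (.leaf (.cyc (nat_lit 94) [(nat_lit 1374), (nat_lit 1375), (nat_lit 5398), (nat_lit 1375), (nat_lit 1374)])) (.leaf .df))) (.node (.node (.leaf (.cyc (nat_lit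 0) [(nat_lit 385), (nat_lit 386), (nat_lit 3350), (nat_lit 386), (nat_lit 385)])) (.leaf .df)) (.node (.leaf (.cyc (nat_lit 28) [(nat_lit 2086), (nat_lit 5183), (nat_lit 4412), (nat_lit 5183), (nat_lit 2086)])) (.leaf .df))))) (.node (.node (.node (.node (.leaf .df) (.leaf (.cyc (nat_lit 49) [(nat_lit 8743), (nat_lit 8745), (nat_lit 2500)]))) (.node (.leaf (.cyc (nat_lit 35) [(nat_lit 1157), (nat_lit 4882), (nat_lit 4884), (nat_lit 4882), (nat_lit 1157)])) (.leaf .df))) (.node (.node (.leaf (.cyc (nat_lit 8) [(nat_lit 2837), (nat_lit 27), (nat_lit 8), (nat_lit 9), (nat_lit 41)])) (.leaf .df)) (.node (.leaf (.cyc (nat_lit 21) [(nat_lit 1926), (nat_lit 5528), (nat_lit 4598), (nat_lit 5528), (nat_lit 1926)])) (.leaf .df)))) (.node (.node (.node (.leaf .df) (.leaf (.cyc (nat_lit 50) [(nat_lit 2747), (nat_lit 9832), (nat_lit 9629), (nat_lit 9832), (nat_lit 2747)]))) (.node (.leaf (.cyc (nat_lit 72) [(nat_lit 922), (nat_lit 5910)])) (.leaf .df))) (.node (.node (.leaf (.cyc (nat_lit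 129) [(nat_lit 3860), (nat_lit 357), (nat_lit 2962), (nat_lit 3447), (nat_lit 2950), (nat_lit 2951), (nat_lit 2950), (nat_lit 3447), (nat_lit 2962), (nat_lit 357), (nat_lit 3860)])) (.leaf .df)) (.node (.leaf (.cyc (nat_lit 44) [(nat_lit 2226), (nat_lit 7241), (nat_lit 7240), (nat_lit 7241), (nat_lit 2226)])) (.leaf .df))))))) (.node (.node (.node (.node (.node (.node (.leaf .df) (.leaf (.cyc (nat_lit 25) [(nat_lit 1878), (nat_lit 1112), (nat_lit 4315), (nat_lit 1649), (nat_lit 2335)]))) (.node (.leaf (.cyc (nat_lit 0) [(nat_lit 529), (nat_lit 3485), (nat_lit 4245), (nat_lit 3485), (nat_lit 529)])) (.leaf .df))) (.node (.node (.leaf .df) (.leaf .df)) (.node (.leaf (.cyc (nat_lit 21) [(nat_lit 1707), (nat_lit 4478), (nat_lit 4477), (nat_lit 4478), (nat_lit 1707)])) (.leaf .df)))) (.node (.node (.node (.leaf .df) (.leaf (.cyc (nat_lit 27) [(nat_lit 2183), (nat_lit 2182), (nat_lit 2602)]))) (.node (.leaf (.cyc (nat_lit 40) [(nat_lit 5267), (nat_lit 3930), (nat_lit 5267)])) (.leaf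 .df))) (.node (.node (.leaf (.cyc (nat_lit 41) [(nat_lit 293), (nat_lit 2939), (nat_lit 293)])) (.leaf .df)) (.node (.leaf (.cyc (nat_lit 95) [(nat_lit 2039), (nat_lit 7225), (nat_lit 7227), (nat_lit 2012), (nat_lit 1235), (nat_lit 3828), (nat_lit 4368), (nat_lit 809), (nat_lit 4367), (nat_lit 1343), (nat_lit 6035)])) (.leaf .df))))) (.node (.node (.node (.node (.leaf .df) (.leaf (.cyc (nat_lit 27) [(nat_lit 2469), (nat_lit 6779), (nat_lit 2469)]))) (.node (.leaf (.cyc (nat_lit 52) [(nat_lit 4749), (nat_lit 1103), (nat_lit 4758), (nat_lit 1103), (nat_lit 4749)])) (.leaf .df))) (.node (.node (.leaf .df) (.leaf .df)) (.node (.leaf (.cyc (nat_lit 50) [(nat_lit 1883), (nat_lit 4808), (nat_lit 4606), (nat_lit 4808), (nat_lit 1883)])) (.leaf .df)))) (.node (.node (.node (.leaf .df) (.leaf (.cyc (nat_lit 28) [(nat_lit 2721), (nat_lit 9286), (nat_lit 8965), (nat_lit 9286), (nat_lit 2721)]))) (.node (.leaf (.cyc (nat_lit 43) [(nat_lit 5148), (nat_lit 1285), (nat_lit 5781), (nat_lit 1215),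 (nat_lit 4985)])) (.leaf .df))) (.node (.node (.leaf (.cyc (nat_lit 18) [(nat_lit 594), (nat_lit 592), (nat_lit 3733), (nat_lit 592), (nat_lit 594)])) (.leaf .df)) (.node (.leaf (.cyc (nat_lit 44) [(nat_lit 2193), (nat_lit 1432), (nat_lit 3997), (nat_lit 1432), (nat_lit 2193)])) (.leaf .df)))))) (.node (.node (.node (.node (.node (.leaf .df) (.leaf (.cyc (nat_lit 23) [(nat_lit 1771), (nat_lit 1770), (nat_lit 2401)]))) (.node (.leaf (.cyc (nat_lit 138) [(nat_lit 862), (nat_lit 435), (nat_lit 434), (nat_lit 4496), (nat_lit 4488), (nat_lit 4486), (nat_lit 4488), (nat_lit 4496), (nat_lit 434), (nat_lit 435), (nat_lit 862)])) (.leaf .df))) (.node (.node (.leaf .df) (.leaf .df)) (.node (.leaf (.cyc (nat_lit 23) [(nat_lit 1036), (nat_lit 1035), (nat_lit 1791)])) (.leaf .df)))) (.node (.node (.node (.leaf .df) (.leaf (.cyc (nat_lit 28) [(nat_lit 2662), (nat_lit 2368), (nat_lit 6309), (nat_lit 2368), (nat_lit 2662)]))) (.node (.leaf (.cyc (nat_lit 85) [(nat_lit 5341), (nat_lit 1354), (nat_lit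 721), (nat_lit 723), (nat_lit 4006), (nat_lit 774), (nat_lit 3451), (nat_lit 772), (nat_lit 1442), (nat_lit 5526), (nat_lit 5515)])) (.leaf .df))) (.node (.node (.leaf (.cyc (nat_lit 23) [(nat_lit 206), (nat_lit 204), (nat_lit 456)])) (.leaf .df)) (.node (.leaf (.cyc (nat_lit 81) [(nat_lit 2121), (nat_lit 5312), (nat_lit 5270), (nat_lit 3913), (nat_lit 717), (nat_lit 718), (nat_lit 1351), (nat_lit 5336), (nat_lit 1281), (nat_lit 1280), (nat_lit 2063)])) (.leaf .df))))) (.node (.node (.node (.node (.leaf .df) (.leaf (.cyc (nat_lit 6) [(nat_lit 7876), (nat_lit 7756), (nat_lit 7753), (nat_lit 7304), (nat_lit 2533)]))) (.node (.leaf (.cyc (nat_lit 114) [(nat_lit 1214), (nat_lit 5013)])) (.leaf .df))) (.node (.node (.leaf (.cyc (nat_lit 35) [(nat_lit 146), (nat_lit 60), (nat_lit 17), (nat_lit 63), (nat_lit 155)])) (.leaf .df)) (.node (.leaf (.cyc (nat_lit 24) [(nat_lit 6782), (nat_lit 5464), (nat_lit 4929), (nat_lit 4950), (nat_lit 1963)])) (.leaf .df)))) (.node (.node (.node (.leaf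 .df) (.leaf .df)) (.node (.leaf (.cyc (nat_lit 45) [(nat_lit 1616), (nat_lit 889), (nat_lit 3471), (nat_lit 889), (nat_lit 1616)])) (.leaf .df))) (.node (.node (.leaf (.cyc (nat_lit 21) [(nat_lit 761), (nat_lit 3363), (nat_lit 3360), (nat_lit 3363), (nat_lit 761)])) (.leaf .df)) (.node (.leaf (.cyc (nat_lit 30) [(nat_lit 2267), (nat_lit 5795), (nat_lit 4189), (nat_lit 5795), (nat_lit 2267)])) (.leaf .df))))))))
noncomputable def u5P1110101 : BT Pf := (.node (.node (.node (.node (.node (.node (.node (.leaf .df) (.leaf (.cyc (nat_lit 53) [(nat_lit 2310), (nat_lit 1617), (nat_lit 4344), (nat_lit 6092), (nat_lit 2320)]))) (.node (.leaf (.cyc (nat_lit 18) [(nat_lit 843), (nat_lit 3383), (nat_lit 3032), (nat_lit 3383), (nat_lit 843)])) (.leaf .df))) (.node (.node (.leaf .df) (.leaf .df)) (.node (.leaf (.cyc (nat_lit 53) [(nat_lit 938), (nat_lit 483), (nat_lit 482), (nat_lit 936), (nat_lit 1687)])) (.leaf .df)))) (.node (.node (.node (.leaf .df) (.leaf (.cyc (nat_lit 53) [(nat_lit 8659),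 (nat_lit 8089), (nat_lit 8303), (nat_lit 8304), (nat_lit 2582)]))) (.node (.leaf (.cyc (nat_lit 56) [(nat_lit 1305), (nat_lit 5187), (nat_lit 5190), (nat_lit 5187), (nat_lit 1305)])) (.leaf .df))) (.node (.node (.leaf (.cyc (nat_lit 15) [(nat_lit 123), (nat_lit 2918), (nat_lit 250)])) (.leaf .df)) (.node (.leaf (.cyc (nat_lit 47) [(nat_lit 1476), (nat_lit 5596), (nat_lit 7251), (nat_lit 7250), (nat_lit 2020)])) (.leaf .df))))) (.node (.node (.node (.node (.leaf .df) (.leaf (.cyc (nat_lit 46) [(nat_lit 2450), (nat_lit 6696), (nat_lit 2450)]))) (.node (.leaf (.cyc (nat_lit 26) [(nat_lit 1065), (nat_lit 561), (nat_lit 3183), (nat_lit 561), (nat_lit 1065)])) (.leaf .df))) (.node (.node (.leaf .df) (.leaf .df)) (.node (.leaf (.cyc (nat_lit 24) [(nat_lit 1593), (nat_lit 1592), (nat_lit 5965), (nat_lit 5634), (nat_lit 1860)])) (.leaf .df)))) (.node (.node (.node (.leaf .df) (.leaf (.cyc (nat_lit 20) [(nat_lit 2708), (nat_lit 9123), (nat_lit 2708)]))) (.node (.leaf (.cyc (nat_lit 35)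 [(nat_lit 1513), (nat_lit 4186), (nat_lit 4188), (nat_lit 4186), (nat_lit 1513)])) (.leaf .df))) (.node (.node (.leaf (.cyc (nat_lit 112) [(nat_lit 476), (nat_lit 3662)])) (.leaf .df)) (.node (.leaf (.cyc (nat_lit 18) [(nat_lit 2174), (nat_lit 1410), (nat_lit 3963), (nat_lit 1410), (nat_lit 2174)])) (.leaf .df)))))) (.node (.node (.node (.node (.node (.leaf .df) (.leaf (.cyc (nat_lit 20) [(nat_lit 1740), (nat_lit 1739), (nat_lit 2384)]))) (.node (.leaf (.cyc (nat_lit 97) [(nat_lit 693), (nat_lit 3251), (nat_lit 3141), (nat_lit 237), (nat_lit 238), (nat_lit 3139), (nat_lit 3542), (nat_lit 3543), (nat_lit 491), (nat_lit 490), (nat_lit 955)])) (.leaf .df))) (.node (.node (.leaf .df) (.leaf .df)) (.node (.leaf (.cyc (nat_lit 49) [(nat_lit 1401), (nat_lit 6485), (nat_lit 1140)])) (.leaf .df)))) (.node (.node (.node (.leaf .df) (.leaf (.cyc (nat_lit 20) [(nat_lit 2315), (nat_lit 2314), (nat_lit 2648)]))) (.node (.leaf (.cyc (nat_lit 102) [(nat_lit 1412), (nat_lit 1414), (nat_lit 5462),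 (nat_lit 1414), (nat_lit 1412)])) (.leaf .df))) (.node (.node (.leaf (.cyc (nat_lit 56) [(nat_lit 196), (nat_lit 78), (nat_lit 77), (nat_lit 194), (nat_lit 439)])) (.leaf .df)) (.node (.leaf (.cyc (nat_lit 67) [(nat_lit 7507), (nat_lit 7503), (nat_lit 6844), (nat_lit 6795), (nat_lit 6846), (nat_lit 1893), (nat_lit 6835), (nat_lit 6369), (nat_lit 4845), (nat_lit 5620), (nat_lit 2102)])) (.leaf .df))))) (.node (.node (.node (.node (.leaf .df) (.leaf (.cyc (nat_lit 25) [(nat_lit 2517), (nat_lit 1990), (nat_lit 6977), (nat_lit 1990), (nat_lit 2517)]))) (.node (.leaf (.cyc (nat_lit 44) [(nat_lit 1185), (nat_lit 3841), (nat_lit 3837), (nat_lit 3841), (nat_lit 1185)])) (.leaf .df))) (.node (.node (.leaf (.cyc (nat_lit 20) [(nat_lit 41), (nat_lit 40), (nat_lit 98)])) (.leaf .df)) (.node (.leaf (.cyc (nat_lit 50) [(nat_lit 1942), (nat_lit 1168), (nat_lit 3769), (nat_lit 1168), (nat_lit 1942)])) (.leaf .df)))) (.node (.node (.node (.leaf .df) (.leaf .df)) (.node (.leaf (.cyc (nat_lit 25)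 [(nat_lit 1168), (nat_lit 4276), (nat_lit 1296), (nat_lit 5582), (nat_lit 1595)])) (.leaf .df))) (.node (.node (.leaf (.cyc (nat_lit 61) [(nat_lit 732), (nat_lit 342), (nat_lit 341), (nat_lit 3272), (nat_lit 729), (nat_lit 3924), (nat_lit 673), (nat_lit 672), (nat_lit 3860), (nat_lit 3859), (nat_lit 3861)])) (.leaf .df)) (.node (.leaf (.cyc (nat_lit 4) [(nat_lit 8021), (nat_lit 2239), (nat_lit 1481), (nat_lit 1479), (nat_lit 2236)])) (.leaf .df))))))) (.node (.node (.node (.node (.node (.node (.leaf .df) (.leaf (.cyc (nat_lit 31) [(nat_lit 2350), (nat_lit 7072), (nat_lit 7070), (nat_lit 7072), (nat_lit 2350)]))) (.node (.leaf (.cyc (nat_lit 46) [(nat_lit 907), (nat_lit 3481), (nat_lit 907)])) (.leaf .df))) (.node (.node (.leaf .df) (.leaf .df)) (.node (.leaf (.cyc (nat_lit 74) [(nat_lit 6333), (nat_lit 6357)])) (.leaf .df)))) (.node (.node (.node (.leaf .df) (.leaf (.cyc (nat_lit 20) [(nat_lit 2619), (nat_lit 8018), (nat_lit 2619)]))) (.node (.leaf (.cyc (nat_lit 20) [(nat_lit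 1148), (nat_lit 3910), (nat_lit 1351)])) (.leaf .df))) (.node (.node (.leaf (.cyc (nat_lit 102) [(nat_lit 283), (nat_lit 2946), (nat_lit 3285), (nat_lit 2946), (nat_lit 283)])) (.leaf .df)) (.node (.leaf (.cyc (nat_lit 24) [(nat_lit 1744), (nat_lit 6165), (nat_lit 6495), (nat_lit 5512), (nat_lit 2065)])) (.leaf .df))))) (.node (.node (.node (.node (.leaf .df) (.leaf (.cyc (nat_lit 50) [(nat_lit 2484), (nat_lit 1882), (nat_lit 4806), (nat_lit 1882), (nat_lit 2484)]))) (.node (.leaf (.cyc (nat_lit 41) [(nat_lit 1123), (nat_lit 3733), (nat_lit 1123)])) (.leaf .df))) (.node (.node (.leaf (.pin (nat_lit 26) [(nat_lit 3), (nat_lit 13), (nat_lit 14), (nat_lit 15), (nat_lit 16), (nat_lit 17)] [(nat_lit 4)])) (.leaf .df)) (.node (.leaf (.cyc (nat_lit 28) [(nat_lit 6870), (nat_lit 6868), (nat_lit 6692), (nat_lit 6868), (nat_lit 6870)])) (.leaf .df)))) (.node (.node (.node (.leaf .df) (.leaf (.cyc (nat_lit 107) [(nat_lit 2734), (nat_lit 9449), (nat_lit 9447), (nat_lit 2623), (nat_lit 2252),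 (nat_lit 5702), (nat_lit 5042), (nat_lit 2010), (nat_lit 2522), (nat_lit 9471), (nat_lit 9473)]))) (.node (.leaf (.cyc (nat_lit 16) [(nat_lit 1550), (nat_lit 837), (nat_lit 3381), (nat_lit 837), (nat_lit 1550)])) (.leaf .df))) (.node (.node (.leaf (.cyc (nat_lit 47) [(nat_lit 3403), (nat_lit 3252), (nat_lit 325), (nat_lit 3224), (nat_lit 633)])) (.leaf .df)) (.node (.leaf (.cyc (nat_lit 108) [(nat_lit 7075), (nat_lit 5892), (nat_lit 5852), (nat_lit 5967), (nat_lit 1593), (nat_lit 4238), (nat_lit 775), (nat_lit 776), (nat_lit 4011), (nat_lit 1448), (nat_lit 2209)])) (.leaf .df)))))) (.node (.node (.node (.node (.node (.leaf .df) (.leaf (.cyc (nat_lit 21) [(nat_lit 2417), (nat_lit 6551), (nat_lit 4621), (nat_lit 6551), (nat_lit 2417)]))) (.node (.leaf (.cyc (nat_lit 24) [(nat_lit 1016), (nat_lit 4329), (nat_lit 4332), (nat_lit 4329), (nat_lit 1016)])) (.leaf .df))) (.node (.node (.leaf .df) (.leaf .df)) (.node (.leaf (.cyc (nat_lit 46) [(nat_lit 1810), (nat_lit 4659), (nat_lit 1810)]))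 (.leaf .df)))) (.node (.node (.node (.leaf .df) (.leaf (.cyc (nat_lit 27) [(nat_lit 9649), (nat_lit 9562), (nat_lit 2678)]))) (.node (.leaf (.cyc (nat_lit 27) [(nat_lit 1474), (nat_lit 4102), (nat_lit 1474)])) (.leaf .df))) (.node (.node (.leaf (.cyc (nat_lit 53) [(nat_lit 491), (nat_lit 3538), (nat_lit 3537), (nat_lit 3538), (nat_lit 491)])) (.leaf .df)) (.node (.leaf (.cyc (nat_lit 56) [(nat_lit 1376), (nat_lit 728), (nat_lit 727), (nat_lit 1372), (nat_lit 2140)])) (.leaf .df))))) (.node (.node (.node (.node (.leaf .df) (.leaf (.cyc (nat_lit 53) [(nat_lit 2342), (nat_lit 7393), (nat_lit 2068), (nat_lit 2069), (nat_lit 2550)]))) (.node (.leaf (.cyc (nat_lit 34) [(nat_lit 1245), (nat_lit 661), (nat_lit 3241), (nat_lit 661), (nat_lit 1245)])) (.leaf .df))) (.node (.node (.leaf (.cyc (nat_lit 30) [(nat_lit 93), (nat_lit 36), (nat_lit 21), (nat_lit 71), (nat_lit 181)])) (.leaf .df)) (.node (.leaf (.cyc (nat_lit 94) [(nat_lit 1582), (nat_lit 4349), (nat_lit 1197), (nat_lit 7124),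 (nat_lit 7038)])) (.leaf .df)))) (.node (.node (.node (.leaf .df) (.leaf .df)) (.node (.leaf (.cyc (nat_lit 27) [(nat_lit 905), (nat_lit 904), (nat_lit 1638)])) (.leaf .df))) (.node (.node (.leaf (.cyc (nat_lit 114) [(nat_lit 3579), (nat_lit 4046), (nat_lit 422)])) (.leaf .df)) (.node (.leaf (.cyc (nat_lit 63) [(nat_lit 7936), (nat_lit 7241), (nat_lit 7239), (nat_lit 5877), (nat_lit 2284)])) (.leaf .df))))))))
noncomputable def u5P111010 : BT Pf := .node u5P1110100 u5P1110101
noncomputable def u5P1110110 : BT Pf := (.node (.node (.node (.node (.node (.node (.node (.leaf .df) (.leaf (.cyc (nat_lit 18) [(nat_lit 2311), (nat_lit 6050), (nat_lit 4914), (nat_lit 6050), (nat_lit 2311)]))) (.node (.leaf (.cyc (nat_lit 24) [(nat_lit 822), (nat_lit 404), (nat_lit 3013), (nat_lit 404), (nat_lit 822)])) (.leaf .df))) (.node (.node (.leaf .df) (.leaf .df)) (.node (.leaf (.cyc (nat_lit 24) [(nat_lit 1675), (nat_lit 6189), (nat_lit 6191), (nat_lit 6189), (nat_lit 1675)])) (.leaf .df)))) (.node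 (.node (.node (.leaf .df) (.leaf (.cyc (nat_lit 28) [(nat_lit 2575), (nat_lit 2113), (nat_lit 5274), (nat_lit 2113), (nat_lit 2575)]))) (.node (.leaf (.cyc (nat_lit 38) [(nat_lit 900), (nat_lit 454), (nat_lit 3081), (nat_lit 203), (nat_lit 2893), (nat_lit 2898), (nat_lit 2894), (nat_lit 2948), (nat_lit 323), (nat_lit 688), (nat_lit 1297)])) (.leaf .df))) (.node (.node (.leaf (.cyc (nat_lit 19) [(nat_lit 231), (nat_lit 94), (nat_lit 2824), (nat_lit 94), (nat_lit 231)])) (.leaf .df)) (.node (.leaf (.cyc (nat_lit 18) [(nat_lit 2011), (nat_lit 1235), (nat_lit 3829), (nat_lit 1235), (nat_lit 2011)])) (.leaf .df))))) (.node (.node (.node (.node (.leaf .df) (.leaf (.cyc (nat_lit 18) [(nat_lit 2442), (nat_lit 1830), (nat_lit 4711), (nat_lit 1830), (nat_lit 2442)]))) (.node (.leaf (.cyc (nat_lit 81) [(nat_lit 4660), (nat_lit 562), (nat_lit 264), (nat_lit 111), (nat_lit 2884), (nat_lit 3666), (nat_lit 430), (nat_lit 854), (nat_lit 4292), (nat_lit 3585), (nat_lit 3715)])) (.leaf .df))) (.node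 (.node (.leaf .df) (.leaf .df)) (.node (.leaf (.cyc (nat_lit 20) [(nat_lit 6525), (nat_lit 6523), (nat_lit 1850)])) (.leaf .df)))) (.node (.node (.node (.leaf .df) (.leaf (.cyc (nat_lit 20) [(nat_lit 2699), (nat_lit 9023), (nat_lit 2699)]))) (.node (.leaf (.cyc (nat_lit 44) [(nat_lit 1499), (nat_lit 4131), (nat_lit 3692), (nat_lit 4131), (nat_lit 1499)])) (.leaf .df))) (.node (.node (.leaf (.cyc (nat_lit 56) [(nat_lit 390), (nat_lit 3346), (nat_lit 3637), (nat_lit 3636), (nat_lit 545)])) (.leaf .df)) (.node (.leaf (.cyc (nat_lit 19) [(nat_lit 2165), (nat_lit 6073), (nat_lit 6079), (nat_lit 6073), (nat_lit 2165)])) (.leaf .df)))))) (.node (.node (.node (.node (.node (.leaf .df) (.leaf (.cyc (nat_lit 21) [(nat_lit 2375), (nat_lit 6343), (nat_lit 5854), (nat_lit 6343), (nat_lit 2375)]))) (.node (.leaf (.cyc (nat_lit 1) [(nat_lit 4395), (nat_lit 4405), (nat_lit 942)])) (.leaf .df))) (.node (.node (.leaf .df) (.leaf .df)) (.node (.leaf (.cyc (nat_lit 44) [(nat_lit 1766), (nat_lit 1012),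 (nat_lit 3612), (nat_lit 1012), (nat_lit 1766)])) (.leaf .df)))) (.node (.node (.node (.leaf .df) (.leaf (.cyc (nat_lit 15) [(nat_lit 2641), (nat_lit 8189), (nat_lit 2641)]))) (.node (.leaf (.cyc (nat_lit 23) [(nat_lit 742), (nat_lit 741), (nat_lit 1399)])) (.leaf .df))) (.node (.node (.leaf (.cyc (nat_lit 23) [(nat_lit 182), (nat_lit 179), (nat_lit 415)])) (.leaf .df)) (.node (.leaf (.cyc (nat_lit 33) [(nat_lit 7478), (nat_lit 6997), (nat_lit 5477), (nat_lit 6997), (nat_lit 7478)])) (.leaf .df))))) (.node (.node (.node (.node (.leaf .df) (.leaf (.cyc (nat_lit 92) [(nat_lit 2508), (nat_lit 7053), (nat_lit 1958), (nat_lit 7032), (nat_lit 8108), (nat_lit 2273), (nat_lit 5813), (nat_lit 1844), (nat_lit 2451), (nat_lit 8944), (nat_lit 8941)]))) (.node (.leaf (.cyc (nat_lit 46) [(nat_lit 1171), (nat_lit 3779), (nat_lit 1171)])) (.leaf .df))) (.node (.node (.leaf (.cyc (nat_lit 15) [(nat_lit 68), (nat_lit 2778), (nat_lit 68)])) (.leaf .df)) (.node (.leaf (.cyc (nat_lit 37) [(nat_lit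 1730), (nat_lit 973), (nat_lit 3760), (nat_lit 1160), (nat_lit 1934)])) (.leaf .df)))) (.node (.node (.node (.leaf .df) (.leaf .df)) (.node (.leaf (.cyc (nat_lit 106) [(nat_lit 1583), (nat_lit 1584), (nat_lit 5942), (nat_lit 5738), (nat_lit 1520)])) (.leaf .df))) (.node (.node (.leaf (.cyc (nat_lit 23) [(nat_lit 646), (nat_lit 3257), (nat_lit 701)])) (.leaf .df)) (.node (.leaf (.cyc (nat_lit 12) [(nat_lit 7990), (nat_lit 6509), (nat_lit 6213), (nat_lit 4521), (nat_lit 6156)])) (.leaf .df))))))) (.node (.node (.node (.node (.node (.node (.leaf .df) (.leaf (.cyc (nat_lit 27) [(nat_lit 1661), (nat_lit 1660), (nat_lit 2343)]))) (.node (.leaf (.cyc (nat_lit 23) [(nat_lit 624), (nat_lit 3476), (nat_lit 892)])) (.leaf .df))) (.node (.node (.leaf .df) (.leaf .df)) (.node (.leaf (.cyc (nat_lit 59) [(nat_lit 6326), (nat_lit 6076), (nat_lit 6078), (nat_lit 6076), (nat_lit 6326)])) (.leaf .df)))) (.node (.node (.node (.leaf .df) (.leaf (.cyc (nat_lit 63) [(nat_lit 2561), (nat_lit 7463), (nat_lit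 6308), (nat_lit 2228), (nat_lit 2609)]))) (.node (.leaf (.cyc (nat_lit 6) [(nat_lit 4940), (nat_lit 4802), (nat_lit 4467), (nat_lit 3903), (nat_lit 1341)])) (.leaf .df))) (.node (.node (.leaf (.cyc (nat_lit 96) [(nat_lit 3254), (nat_lit 237), (nat_lit 2903), (nat_lit 99), (nat_lit 240)])) (.leaf .df)) (.node (.leaf (.cyc (nat_lit 12) [(nat_lit 7350), (nat_lit 6267), (nat_lit 6705), (nat_lit 1846), (nat_lit 1847)])) (.leaf .df))))) (.node (.node (.node (.node (.leaf .df) (.leaf (.cyc (nat_lit 53) [(nat_lit 2476), (nat_lit 1875), (nat_lit 4775), (nat_lit 1875), (nat_lit 2476)]))) (.node (.leaf (.cyc (nat_lit 140) [(nat_lit 4789), (nat_lit 4359), (nat_lit 4136), (nat_lit 4134), (nat_lit 812)])) (.leaf .df))) (.node (.node (.leaf .df) (.leaf .df)) (.node (.leaf (.cyc (nat_lit 25) [(nat_lit 1895), (nat_lit 4824), (nat_lit 4248), (nat_lit 4824), (nat_lit 1895)])) (.leaf .df)))) (.node (.node (.node (.leaf .df) (.leaf (.cyc (nat_lit 16) [(nat_lit 2728), (nat_lit 9665), (nat_lit 9132),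 (nat_lit 9665), (nat_lit 2728)]))) (.node (.leaf (.cyc (nat_lit 27) [(nat_lit 5740), (nat_lit 5739), (nat_lit 1541)])) (.leaf .df))) (.node (.node (.leaf (.cyc (nat_lit 97) [(nat_lit 3766), (nat_lit 3260), (nat_lit 299), (nat_lit 127), (nat_lit 2860), (nat_lit 138), (nat_lit 2962), (nat_lit 148), (nat_lit 147), (nat_lit 354), (nat_lit 3469)])) (.leaf .df)) (.node (.leaf (.cyc (nat_lit 15) [(nat_lit 7861), (nat_lit 2200), (nat_lit 2201)])) (.leaf .df)))))) (.node (.node (.node (.node (.node (.leaf .df) (.leaf (.cyc (nat_lit 18) [(nat_lit 2409), (nat_lit 8280), (nat_lit 8284), (nat_lit 8280), (nat_lit 2409)]))) (.node (.leaf (.cyc (nat_lit 15) [(nat_lit 921), (nat_lit 3605), (nat_lit 1000)])) (.leaf .df))) (.node (.node (.leaf .df) (.leaf .df)) (.node (.leaf (.cyc (nat_lit 33) [(nat_lit 6582), (nat_lit 5871), (nat_lit 6266), (nat_lit 1515), (nat_lit 1516)])) (.leaf .df)))) (.node (.node (.node (.leaf .df) (.leaf (.cyc (nat_lit 49) [(nat_lit 2585), (nat_lit 2586), (nat_lit 9652)])))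 (.node (.leaf (.cyc (nat_lit 47) [(nat_lit 1461), (nat_lit 4083), (nat_lit 3560), (nat_lit 4083), (nat_lit 1461)])) (.leaf .df))) (.node (.node (.leaf (.cyc (nat_lit 54) [(nat_lit 470), (nat_lit 210), (nat_lit 208), (nat_lit 3412), (nat_lit 467), (nat_lit 3504), (nat_lit 467), (nat_lit 3412), (nat_lit 208), (nat_lit 210), (nat_lit 470)])) (.leaf .df)) (.node (.leaf (.cyc (nat_lit 25) [(nat_lit 2129), (nat_lit 1352), (nat_lit 3929), (nat_lit 1352), (nat_lit 2129)])) (.leaf .df))))) (.node (.node (.node (.node (.leaf .df) (.leaf (.cyc (nat_lit 27) [(nat_lit 2052), (nat_lit 2051), (nat_lit 2543)]))) (.node (.leaf (.cyc (nat_lit 27) [(nat_lit 1237), (nat_lit 3837), (nat_lit 1237)])) (.leaf .df))) (.node (.node (.leaf (.cyc (nat_lit 69) [(nat_lit 118), (nat_lit 2847), (nat_lit 2995), (nat_lit 40), (nat_lit 2772), (nat_lit 2760), (nat_lit 2772), (nat_lit 40), (nat_lit 2995), (nat_lit 2847), (nat_lit 118)])) (.leaf .df)) (.node (.leaf (.cyc (nat_lit 86) [(nat_lit 7094), (nat_lit 6284),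 (nat_lit 6527)])) (.leaf .df)))) (.node (.node (.node (.leaf .df) (.leaf .df)) (.node (.leaf (.cyc (nat_lit 31) [(nat_lit 6058), (nat_lit 1622), (nat_lit 4280), (nat_lit 896), (nat_lit 1626)])) (.leaf .df))) (.node (.node (.leaf (.cyc (nat_lit 53) [(nat_lit 3385), (nat_lit 3334), (nat_lit 378), (nat_lit 379), (nat_lit 784)])) (.leaf .df)) (.node (.leaf (.cyc (nat_lit 27) [(nat_lit 2277), (nat_lit 5828), (nat_lit 2277)])) (.leaf .df))))))))
noncomputable def u5P1110111 : BT Pf := (.node (.node (.node (.node (.node (.node (.node (.leaf .df) (.leaf (.cyc (nat_lit 27) [(nat_lit 1642), (nat_lit 1641), (nat_lit 2328)]))) (.node (.leaf (.cyc (nat_lit 119) [(nat_lit 3689), (nat_lit 3586), (nat_lit 509), (nat_lit 233), (nat_lit 96), (nat_lit 2828), (nat_lit 2896), (nat_lit 3051), (nat_lit 3404), (nat_lit 3405), (nat_lit 859)])) (.leaf .df))) (.node (.node (.leaf .df) (.leaf .df)) (.node (.leaf (.cyc (nat_lit 21) [(nat_lit 956), (nat_lit 490), (nat_lit 3538), (nat_lit 944), (nat_lit 1697)]))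 (.leaf .df)))) (.node (.node (.node (.leaf .df) (.leaf (.cyc (nat_lit 23) [(nat_lit 7821), (nat_lit 7679), (nat_lit 2594)]))) (.node (.leaf (.cyc (nat_lit 50) [(nat_lit 1176), (nat_lit 624), (nat_lit 3259), (nat_lit 701), (nat_lit 1317)])) (.leaf .df))) (.node (.node (.leaf (.cyc (nat_lit 27) [(nat_lit 115), (nat_lit 114), (nat_lit 272)])) (.leaf .df)) (.node (.leaf (.cyc (nat_lit 25) [(nat_lit 2030), (nat_lit 5099), (nat_lit 3853), (nat_lit 5099), (nat_lit 2030)])) (.leaf .df))))) (.node (.node (.node (.node (.leaf .df) (.leaf (.cyc (nat_lit 24) [(nat_lit 1969), (nat_lit 1968), (nat_lit 7081), (nat_lit 6737), (nat_lit 2460)]))) (.node (.leaf (.cyc (nat_lit 47) [(nat_lit 960), (nat_lit 4442), (nat_lit 4723), (nat_lit 4722), (nat_lit 1081)])) (.leaf .df))) (.node (.node (.leaf .df) (.leaf .df)) (.node (.leaf (.cyc (nat_lit 63) [(nat_lit 1116), (nat_lit 589), (nat_lit 3726), (nat_lit 1106), (nat_lit 1870)])) (.leaf .df)))) (.node (.node (.node (.leaf .df) (.leaf (.cyc (nat_lit 65)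 [(nat_lit 9699), (nat_lit 9701), (nat_lit 2680), (nat_lit 8813), (nat_lit 6739), (nat_lit 2460), (nat_lit 8824), (nat_lit 7375), (nat_lit 2548), (nat_lit 2714), (nat_lit 9845)]))) (.node (.leaf (.cyc (nat_lit 18) [(nat_lit 1526), (nat_lit 5747), (nat_lit 5749), (nat_lit 5747), (nat_lit 1526)])) (.leaf .df))) (.node (.node (.leaf (.cyc (nat_lit 27) [(nat_lit 267), (nat_lit 266), (nat_lit 568)])) (.leaf .df)) (.node (.leaf (.cyc (nat_lit 27) [(nat_lit 2022), (nat_lit 5480), (nat_lit 2185)])) (.leaf .df)))))) (.node (.node (.node (.node (.node (.leaf .df) (.leaf (.cyc (nat_lit 34) [(nat_lit 7990), (nat_lit 1775), (nat_lit 4576), (nat_lit 1756), (nat_lit 2392)]))) (.node (.leaf (.cyc (nat_lit 42) [(nat_lit 971), (nat_lit 500), (nat_lit 228), (nat_lit 4043), (nat_lit 2969), (nat_lit 2878), (nat_lit 2969), (nat_lit 4043), (nat_lit 228), (nat_lit 500), (nat_lit 971)])) (.leaf .df))) (.node (.node (.leaf .df) (.leaf .df)) (.node (.leaf (.cyc (nat_lit 47) [(nat_lit 1780), (nat_lit 4586),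 (nat_lit 4162), (nat_lit 4586), (nat_lit 1780)])) (.leaf .df)))) (.node (.node (.node (.leaf .df) (.leaf (.cyc (nat_lit 45) [(nat_lit 2655), (nat_lit 2342), (nat_lit 6157), (nat_lit 2342), (nat_lit 2655)]))) (.node (.leaf (.cyc (nat_lit 116) [(nat_lit 1397), (nat_lit 5422), (nat_lit 5494), (nat_lit 5422), (nat_lit 1397)])) (.leaf .df))) (.node (.node (.leaf (.cyc (nat_lit 73) [(nat_lit 331), (nat_lit 3446)])) (.leaf .df)) (.node (.leaf (.cyc (nat_lit 26) [(nat_lit 2113), (nat_lit 1333), (nat_lit 4230), (nat_lit 1333), (nat_lit 2113)])) (.leaf .df))))) (.node (.node (.node (.node (.leaf .df) (.leaf (.cyc (nat_lit 48) [(nat_lit 2526), (nat_lit 7240), (nat_lit 2526)]))) (.node (.leaf (.cyc (nat_lit 12) [(nat_lit 4982), (nat_lit 1048), (nat_lit 554), (nat_lit 552), (nat_lit 1045)])) (.leaf .df))) (.node (.node (.leaf (.cyc (nat_lit 18) [(nat_lit 115), (nat_lit 2846), (nat_lit 15), (nat_lit 52), (nat_lit 124)])) (.leaf .df)) (.node (.leaf (.cyc (nat_lit 62) [(nat_lit 1951), (nat_lit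 5239), (nat_lit 5238), (nat_lit 5239), (nat_lit 1951)])) (.leaf .df)))) (.node (.node (.node (.leaf .df) (.leaf .df)) (.node (.leaf (.cyc (nat_lit 6) [(nat_lit 5317), (nat_lit 5320), (nat_lit 882), (nat_lit 883), (nat_lit 1606)])) (.leaf .df))) (.node (.node (.leaf (.cyc (nat_lit 18) [(nat_lit 3957), (nat_lit 439), (nat_lit 3063), (nat_lit 439), (nat_lit 3957)])) (.leaf .df)) (.node (.leaf (.cyc (nat_lit 62) [(nat_lit 2257), (nat_lit 5721), (nat_lit 5687), (nat_lit 5721), (nat_lit 2257)])) (.leaf .df))))))) (.node (.node (.node (.node (.node (.node (.leaf .df) (.leaf (.cyc (nat_lit 48) [(nat_lit 8328), (nat_lit 6236), (nat_lit 2358)]))) (.node (.leaf (.cyc (nat_lit 47) [(nat_lit 923), (nat_lit 3778), (nat_lit 3620), (nat_lit 3778), (nat_lit 923)])) (.leaf .df))) (.node (.node (.leaf .df) (.leaf .df)) (.node (.leaf (.cyc (nat_lit 50) [(nat_lit 1741), (nat_lit 979), (nat_lit 3582), (nat_lit 979), (nat_lit 1741)])) (.leaf .df)))) (.node (.node (.node (.leaf .df) (.leaf (.cyc (nat_lit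 21) [(nat_lit 2626), (nat_lit 8059), (nat_lit 5732), (nat_lit 8059), (nat_lit 2626)]))) (.node (.leaf (.cyc (nat_lit 31) [(nat_lit 727), (nat_lit 341), (nat_lit 340), (nat_lit 725), (nat_lit 1365)])) (.leaf .df))) (.node (.node (.leaf (.cyc (nat_lit 49) [(nat_lit 346), (nat_lit 2965), (nat_lit 371)])) (.leaf .df)) (.node (.leaf (.cyc (nat_lit 27) [(nat_lit 6418), (nat_lit 6416), (nat_lit 2077)])) (.leaf .df))))) (.node (.node (.node (.node (.leaf .df) (.leaf (.cyc (nat_lit 24) [(nat_lit 1971), (nat_lit 5629), (nat_lit 5097), (nat_lit 6894), (nat_lit 2492)]))) (.node (.leaf (.cyc (nat_lit 35) [(nat_lit 821), (nat_lit 3373), (nat_lit 3199), (nat_lit 602), (nat_lit 1142)])) (.leaf .df))) (.node (.node (.leaf (.cyc (nat_lit 15) [(nat_lit 1), (nat_lit 0), (nat_lit 28)])) (.leaf .df)) (.node (.leaf (.cyc (nat_lit 20) [(nat_lit 1916), (nat_lit 4862), (nat_lit 1916)])) (.leaf .df)))) (.node (.node (.node (.leaf .df) (.leaf (.cyc (nat_lit 18) [(nat_lit 2741), (nat_lit 9810), (nat_lit 9811),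 (nat_lit 9810), (nat_lit 2741)]))) (.node (.leaf (.cyc (nat_lit 34) [(nat_lit 1566), (nat_lit 5762), (nat_lit 5769), (nat_lit 5762), (nat_lit 1566)])) (.leaf .df))) (.node (.node (.leaf (.cyc (nat_lit 41) [(nat_lit 654), (nat_lit 3566), (nat_lit 654)])) (.leaf .df)) (.node (.leaf (.cyc (nat_lit 15) [(nat_lit 2218), (nat_lit 5563), (nat_lit 2218)])) (.leaf .df)))))) (.node (.node (.node (.node (.node (.leaf .df) (.leaf (.cyc (nat_lit 3) [(nat_lit 8694), (nat_lit 7672), (nat_lit 7673)]))) (.node (.leaf (.cyc (nat_lit 39) [(nat_lit 4357), (nat_lit 703), (nat_lit 330), (nat_lit 2952), (nat_lit 329), (nat_lit 3258), (nat_lit 3168), (nat_lit 250), (nat_lit 251), (nat_lit 539), (nat_lit 1032)])) (.leaf .df))) (.node (.node (.leaf .df) (.leaf .df)) (.node (.leaf (.cyc (nat_lit 18) [(nat_lit 1820), (nat_lit 1062), (nat_lit 1064), (nat_lit 1823), (nat_lit 6646)])) (.leaf .df)))) (.node (.node (.node (.leaf .df) (.leaf (.cyc (nat_lit 44) [(nat_lit 2684), (nat_lit 8853), (nat_lit 7774), (nat_lit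 8853), (nat_lit 2684)]))) (.node (.leaf (.cyc (nat_lit 114) [(nat_lit 1251), (nat_lit 5622)])) (.leaf .df))) (.node (.node (.leaf (.cyc (nat_lit 122) [(nat_lit 3142), (nat_lit 230), (nat_lit 229), (nat_lit 503), (nat_lit 3574), (nat_lit 3573), (nat_lit 3574), (nat_lit 503), (nat_lit 229), (nat_lit 230), (nat_lit 3142)])) (.leaf .df)) (.node (.leaf (.cyc (nat_lit 45) [(nat_lit 2149), (nat_lit 1380), (nat_lit 5269), (nat_lit 1380), (nat_lit 2149)])) (.leaf .df))))) (.node (.node (.node (.node (.leaf .df) (.leaf (.cyc (nat_lit 48) [(nat_lit 2559), (nat_lit 7451), (nat_lit 2559)]))) (.node (.leaf (.cyc (nat_lit 34) [(nat_lit 4808), (nat_lit 1033), (nat_lit 3634), (nat_lit 669), (nat_lit 1261)])) (.leaf .df))) (.node (.node (.leaf (.cyc (nat_lit 45) [(nat_lit 194), (nat_lit 2975), (nat_lit 2973), (nat_lit 2975), (nat_lit 194)])) (.leaf .df)) (.node (.leaf (.cyc (nat_lit 124) [(nat_lit 7158), (nat_lit 1821), (nat_lit 6610), (nat_lit 6609), (nat_lit 1916)])) (.leaf .df)))) (.node (.node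 (.node (.leaf .df) (.leaf .df)) (.node (.leaf (.cyc (nat_lit 15) [(nat_lit 910), (nat_lit 909), (nat_lit 1649)])) (.leaf .df))) (.node (.node (.leaf (.cyc (nat_lit 10) [(nat_lit 4085), (nat_lit 3645), (nat_lit 666)])) (.leaf .df)) (.node (.leaf (.cyc (nat_lit 26) [(nat_lit 1893), (nat_lit 1892), (nat_lit 8175), (nat_lit 8178), (nat_lit 2293)])) (.leaf .df))))))))
noncomputable def u5P111011 : BT Pf := .node u5P1110110 u5P1110111
noncomputable def u5P11101 : BT Pf := .node u5P111010 u5P111011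
noncomputable def u5P1110 : BT Pf := .node u5P11100 u5P11101
noncomputable def u5P1111000 : BT Pf := (.node (.node (.node (.node (.node (.node (.node (.leaf .df) (.leaf (.cyc (nat_lit 20) [(nat_lit 1934), (nat_lit 5952), (nat_lit 2299)]))) (.node (.leaf (.cyc (nat_lit 26) [(nat_lit 796), (nat_lit 4100), (nat_lit 4105), (nat_lit 4100), (nat_lit 796)])) (.leaf .df))) (.node (.node (.leaf .df) (.leaf .df)) (.node (.leaf (.cyc (nat_lit 60) [(nat_lit 1651), (nat_lit 1652), (nat_lit 6158), (nat_lit 1652), (nat_lit 1651)])) (.leaf .df)))) (.node (.node (.node (.leaf .df) (.leaf (.cyc (nat_lit 48) [(nat_lit 2568), (nat_lit 7533), (nat_lit 2568)]))) (.node (.leaf (.cyc (nat_lit 49) [(nat_lit 764), (nat_lit 3861), (nat_lit 1273)])) (.leaf .df))) (.node (.node (.leaf (.cyc (nat_lit 16) [(nat_lit 3061), (nat_lit 3003), (nat_lit 110), (nat_lit 2884), (nat_lit 208)])) (.leaf .df)) (.node (.leaf (.cyc (nat_lit 23) [(nat_lit 1215), (nat_lit 1213), (nat_lit 1997)])) (.leaf .df))))) (.node (.node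 (.node (.node (.leaf .df) (.leaf (.cyc (nat_lit 24) [(nat_lit 2236), (nat_lit 5609), (nat_lit 4858), (nat_lit 1817), (nat_lit 2432)]))) (.node (.leaf (.cyc (nat_lit 27) [(nat_lit 547), (nat_lit 546), (nat_lit 1039)])) (.leaf .df))) (.node (.node (.leaf .df) (.leaf .df)) (.node (.leaf (.cyc (nat_lit 25) [(nat_lit 1282), (nat_lit 680), (nat_lit 3698), (nat_lit 1071), (nat_lit 1832)])) (.leaf .df)))) (.node (.node (.node (.leaf .df) (.leaf (.cyc (nat_lit 65) [(nat_lit 9392), (nat_lit 8353), (nat_lit 2337), (nat_lit 1650), (nat_lit 4314), (nat_lit 4315), (nat_lit 1112), (nat_lit 1878), (nat_lit 2481), (nat_lit 2689), (nat_lit 9742)]))) (.node (.leaf (.cyc (nat_lit 23) [(nat_lit 796), (nat_lit 795), (nat_lit 1486)])) (.leaf .df))) (.node (.node (.leaf (.cyc (nat_lit 42) [(nat_lit 518), (nat_lit 3141), (nat_lit 237), (nat_lit 238), (nat_lit 3576), (nat_lit 3137), (nat_lit 3576), (nat_lit 238), (nat_lit 237), (nat_lit 3141), (nat_lit 518)])) (.leaf .df)) (.node (.leaf (.cyc (nat_lit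 16) [(nat_lit 2155), (nat_lit 1388), (nat_lit 3937), (nat_lit 1388), (nat_lit 2155)])) (.leaf .df)))))) (.node (.node (.node (.node (.node (.leaf .df) (.leaf (.cyc (nat_lit 54) [(nat_lit 2363), (nat_lit 1695), (nat_lit 5652), (nat_lit 7586), (nat_lit 7593), (nat_lit 7763), (nat_lit 7765), (nat_lit 1535), (nat_lit 1534), (nat_lit 2267), (nat_lit 8087)]))) (.node (.leaf (.cyc (nat_lit 73) [(nat_lit 811), (nat_lit 4366)])) (.leaf .df))) (.node (.node (.leaf .df) (.leaf .df)) (.node (.leaf (.cyc (nat_lit 26) [(nat_lit 1747), (nat_lit 6261), (nat_lit 6260), (nat_lit 6261), (nat_lit 1747)])) (.leaf .df)))) (.node (.node (.node (.leaf .df) (.leaf (.cyc (nat_lit 52) [(nat_lit 2631), (nat_lit 2632), (nat_lit 9485), (nat_lit 2632), (nat_lit 2631)]))) (.node (.leaf (.cyc (nat_lit 31) [(nat_lit 983), (nat_lit 984), (nat_lit 4494), (nat_lit 3923), (nat_lit 1376)])) (.leaf .df))) (.node (.node (.leaf (.cyc (nat_lit 15) [(nat_lit 158), (nat_lit 157), (nat_lit 381)])) (.leaf .df)) (.node (.leaf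 (.cyc (nat_lit 50) [(nat_lit 2084), (nat_lit 6155), (nat_lit 6152), (nat_lit 6155), (nat_lit 2084)])) (.leaf .df))))) (.node (.node (.node (.node (.leaf .df) (.leaf (.cyc (nat_lit 18) [(nat_lit 2402), (nat_lit 8599), (nat_lit 8974), (nat_lit 2497), (nat_lit 2498)]))) (.node (.leaf (.cyc (nat_lit 56) [(nat_lit 1153), (nat_lit 612), (nat_lit 3204), (nat_lit 612), (nat_lit 1153)])) (.leaf .df))) (.node (.node (.leaf (.cyc (nat_lit 18) [(nat_lit 13), (nat_lit 2758), (nat_lit 2771), (nat_lit 39), (nat_lit 2830)])) (.leaf .df)) (.node (.leaf (.cyc (nat_lit 54) [(nat_lit 6926), (nat_lit 1924), (nat_lit 4882), (nat_lit 3817), (nat_lit 3809), (nat_lit 316), (nat_lit 133), (nat_lit 134), (nat_lit 320), (nat_lit 3858), (nat_lit 1272)])) (.leaf .df)))) (.node (.node (.node (.leaf .df) (.leaf (.cyc (nat_lit 15) [(nat_lit 2746), (nat_lit 9815), (nat_lit 2746)]))) (.node (.leaf (.cyc (nat_lit 54) [(nat_lit 1570), (nat_lit 4292), (nat_lit 4287), (nat_lit 853), (nat_lit 3674), (nat_lit 3087),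 (nat_lit 3062), (nat_lit 437), (nat_lit 4193), (nat_lit 4195), (nat_lit 4451)])) (.leaf .df))) (.node (.node (.leaf (.cyc (nat_lit 20) [(nat_lit 670), (nat_lit 3246), (nat_lit 670)])) (.leaf .df)) (.node (.leaf (.cyc (nat_lit 45) [(nat_lit 2224), (nat_lit 1467), (nat_lit 4091), (nat_lit 1467), (nat_lit 2224)])) (.leaf .df))))))) (.node (.node (.node (.node (.node (.node (.leaf .df) (.leaf (.cyc (nat_lit 96) [(nat_lit 8333), (nat_lit 2212), (nat_lit 7047), (nat_lit 1955), (nat_lit 7044)]))) (.node (.leaf (.cyc (nat_lit 31) [(nat_lit 444), (nat_lit 197), (nat_lit 196), (nat_lit 442), (nat_lit 873)])) (.leaf .df))) (.node (.node (.leaf .df) (.leaf .df)) (.node (.leaf (.cyc (nat_lit 37) [(nat_lit 1703), (nat_lit 6270), (nat_lit 6271), (nat_lit 6270), (nat_lit 1703)])) (.leaf .df)))) (.node (.node (.node (.leaf .df) (.leaf (.cyc (nat_lit 27) [(nat_lit 2600), (nat_lit 7786), (nat_lit 2600)]))) (.node (.leaf (.cyc (nat_lit 20) [(nat_lit 711), (nat_lit 3899), (nat_lit 1331)])) (.leaf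 .df))) (.node (.node (.leaf (.cyc (nat_lit 53) [(nat_lit 3107), (nat_lit 3041), (nat_lit 121), (nat_lit 122), (nat_lit 287)])) (.leaf .df)) (.node (.leaf (.cyc (nat_lit 37) [(nat_lit 2035), (nat_lit 6047), (nat_lit 6048), (nat_lit 6047), (nat_lit 2035)])) (.leaf .df))))) (.node (.node (.node (.node (.leaf .df) (.leaf (.cyc (nat_lit 28) [(nat_lit 2466), (nat_lit 6770), (nat_lit 4766), (nat_lit 6770), (nat_lit 2466)]))) (.node (.leaf (.cyc (nat_lit 37) [(nat_lit 1099), (nat_lit 3719), (nat_lit 3256), (nat_lit 3719), (nat_lit 1099)])) (.leaf .df))) (.node (.node (.leaf .df) (.leaf .df)) (.node (.leaf (.cyc (nat_lit 6) [(nat_lit 1880), (nat_lit 6727), (nat_lit 6728), (nat_lit 6727), (nat_lit 1880)])) (.leaf .df)))) (.node (.node (.node (.leaf .df) (.leaf (.cyc (nat_lit 15) [(nat_lit 2720), (nat_lit 9214), (nat_lit 2720)]))) (.node (.leaf (.cyc (nat_lit 10) [(nat_lit 5774), (nat_lit 4723), (nat_lit 4534)])) (.leaf .df))) (.node (.node (.leaf (.cyc (nat_lit 6) [(nat_lit 276), (nat_lit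 116), (nat_lit 114), (nat_lit 273), (nat_lit 587)])) (.leaf .df)) (.node (.leaf (.cyc (nat_lit 31) [(nat_lit 1429), (nat_lit 765), (nat_lit 764), (nat_lit 1428), (nat_lit 2191)])) (.leaf .df)))))) (.node (.node (.node (.node (.node (.leaf .df) (.leaf (.cyc (nat_lit 52) [(nat_lit 2397), (nat_lit 2398), (nat_lit 8590), (nat_lit 2398), (nat_lit 2397)]))) (.node (.leaf (.cyc (nat_lit 83) [(nat_lit 860), (nat_lit 3404), (nat_lit 3050), (nat_lit 189), (nat_lit 3040), (nat_lit 2933), (nat_lit 2934), (nat_lit 174), (nat_lit 3198), (nat_lit 608), (nat_lit 4494), (nat_lit 4492)])) (.leaf .df))) (.node (.node (.leaf .df) (.leaf .df)) (.node (.leaf (.cyc (nat_lit 35) [(nat_lit 1788), (nat_lit 6540), (nat_lit 6541), (nat_lit 6540), (nat_lit 1788)])) (.leaf .df)))) (.node (.node (.node (.leaf .df) (.leaf (.cyc (nat_lit 46) [(nat_lit 2661), (nat_lit 8469), (nat_lit 2661)]))) (.node (.leaf (.cyc (nat_lit 23) [(nat_lit 774), (nat_lit 772), (nat_lit 1444)])) (.leaf .df))) (.node (.node (.leaf (.cyc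 (nat_lit 20) [(nat_lit 450), (nat_lit 3073), (nat_lit 450)])) (.leaf .df)) (.node (.leaf (.cyc (nat_lit 81) [(nat_lit 2119), (nat_lit 1341), (nat_lit 4372), (nat_lit 5249), (nat_lit 1325), (nat_lit 704), (nat_lit 705), (nat_lit 1327), (nat_lit 6234), (nat_lit 6232), (nat_lit 1962)])) (.leaf .df))))) (.node (.node (.node (.node (.leaf .df) (.leaf (.cyc (nat_lit 20) [(nat_lit 2244), (nat_lit 7276), (nat_lit 2532)]))) (.node (.leaf (.cyc (nat_lit 79) [(nat_lit 3982), (nat_lit 3981), (nat_lit 3860), (nat_lit 672), (nat_lit 3247), (nat_lit 3565), (nat_lit 133), (nat_lit 2940), (nat_lit 297), (nat_lit 643), (nat_lit 1217)])) (.leaf .df))) (.node (.node (.leaf (.cyc (nat_lit 56) [(nat_lit 146), (nat_lit 2954), (nat_lit 2955), (nat_lit 2954), (nat_lit 146)])) (.leaf .df)) (.node (.leaf (.cyc (nat_lit 16) [(nat_lit 1897), (nat_lit 7040), (nat_lit 1183), (nat_lit 1182), (nat_lit 1959)])) (.leaf .df)))) (.node (.node (.node (.leaf .df) (.leaf .df)) (.node (.leaf (.cyc (nat_lit 50) [(nat_lit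 1613), (nat_lit 6027), (nat_lit 6028), (nat_lit 6027), (nat_lit 1613)])) (.leaf .df))) (.node (.node (.leaf (.cyc (nat_lit 102) [(nat_lit 3783), (nat_lit 758), (nat_lit 3982), (nat_lit 758), (nat_lit 3783)])) (.leaf .df)) (.node (.leaf (.cyc (nat_lit 37) [(nat_lit 1556), (nat_lit 842), (nat_lit 4156), (nat_lit 1530), (nat_lit 2265)])) (.leaf .df))))))))
noncomputable def u5P1111001 : BT Pf := (.node (.node (.node (.node (.node (.node (.node (.leaf .df) (.leaf (.cyc (nat_lit 6) [(nat_lit 2318), (nat_lit 1631), (nat_lit 4298), (nat_lit 1631), (nat_lit 2318)]))) (.node (.leaf (.cyc (nat_lit 30) [(nat_lit 839), (nat_lit 411), (nat_lit 3028), (nat_lit 411), (nat_lit 839)])) (.leaf .df))) (.node (.node (.leaf .df) (.leaf .df)) (.node (.leaf (.cyc (nat_lit 37) [(nat_lit 1683), (nat_lit 5284), (nat_lit 4634), (nat_lit 5284), (nat_lit 1683)])) (.leaf .df)))) (.node (.node (.node (.leaf .df) (.leaf (.cyc (nat_lit 63) [(nat_lit 8569), (nat_lit 8306), (nat_lit 6117), (nat_lit 2132), (nat_lit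 2580)]))) (.node (.leaf (.cyc (nat_lit 20) [(nat_lit 1242), (nat_lit 1241), (nat_lit 5198)])) (.leaf .df))) (.node (.node (.leaf (.cyc (nat_lit 62) [(nat_lit 175), (nat_lit 2934), (nat_lit 3041), (nat_lit 2911), (nat_lit 245)])) (.leaf .df)) (.node (.leaf (.cyc (nat_lit 41) [(nat_lit 2018), (nat_lit 5081), (nat_lit 2018)])) (.leaf .df))))) (.node (.node (.node (.node (.leaf .df) (.leaf (.cyc (nat_lit 118) [(nat_lit 2448), (nat_lit 1839), (nat_lit 1077), (nat_lit 3705), (nat_lit 3702), (nat_lit 567), (nat_lit 3690), (nat_lit 4501), (nat_lit 4499), (nat_lit 4501), (nat_lit 3690), (nat_lit 567), (nat_lit 3702), (nat_lit 3705), (nat_lit 1077), (nat_lit 1839), (nat_lit 2448)]))) (.node (.leaf (.cyc (nat_lit 27) [(nat_lit 1061), (nat_lit 4419), (nat_lit 1061)])) (.leaf .df))) (.node (.node (.leaf .df) (.leaf .df)) (.node (.leaf (.cyc (nat_lit 37) [(nat_lit 1857), (nat_lit 1094), (nat_lit 3717), (nat_lit 1094), (nat_lit 1857)])) (.leaf .df)))) (.node (.node (.node (.leaf .df) (.leaf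 (.cyc (nat_lit 107) [(nat_lit 2705), (nat_lit 2536), (nat_lit 7323), (nat_lit 2042), (nat_lit 1264), (nat_lit 1262), (nat_lit 5115), (nat_lit 7225), (nat_lit 2523), (nat_lit 2701), (nat_lit 9792)]))) (.node (.leaf (.cyc (nat_lit 8) [(nat_lit 5710), (nat_lit 4808), (nat_lit 4818), (nat_lit 4808), (nat_lit 5710)])) (.leaf .df))) (.node (.node (.leaf (.cyc (nat_lit 73) [(nat_lit 3493), (nat_lit 3654), (nat_lit 478)])) (.leaf .df)) (.node (.leaf (.cyc (nat_lit 81) [(nat_lit 2171), (nat_lit 1407), (nat_lit 3960), (nat_lit 3949), (nat_lit 663), (nat_lit 309), (nat_lit 310), (nat_lit 666), (nat_lit 5084), (nat_lit 5298), (nat_lit 7554)])) (.leaf .df)))))) (.node (.node (.node (.node (.node (.leaf .df) (.leaf (.cyc (nat_lit 30) [(nat_lit 2382), (nat_lit 1738), (nat_lit 4480), (nat_lit 1738), (nat_lit 2382)]))) (.node (.leaf (.cyc (nat_lit 19) [(nat_lit 681), (nat_lit 3248), (nat_lit 489), (nat_lit 951), (nat_lit 4429)])) (.leaf .df))) (.node (.node (.leaf .df) (.leaf .df)) (.node (.leaf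 (.cyc (nat_lit 74) [(nat_lit 4827), (nat_lit 6476), (nat_lit 5436)])) (.leaf .df)))) (.node (.node (.node (.leaf .df) (.leaf (.cyc (nat_lit 25) [(nat_lit 2646), (nat_lit 8244), (nat_lit 7772), (nat_lit 8244), (nat_lit 2646)]))) (.node (.leaf (.cyc (nat_lit 106) [(nat_lit 1410), (nat_lit 1411), (nat_lit 5454), (nat_lit 1411), (nat_lit 1410)])) (.leaf .df))) (.node (.node (.leaf (.cyc (nat_lit 20) [(nat_lit 436), (nat_lit 3058), (nat_lit 436)])) (.leaf .df)) (.node (.leaf (.cyc (nat_lit 86) [(nat_lit 7496), (nat_lit 1895), (nat_lit 6616)])) (.leaf .df))))) (.node (.node (.node (.node (.leaf .df) (.leaf (.cyc (nat_lit 16) [(nat_lit 8731), (nat_lit 8380), (nat_lit 7868), (nat_lit 7138), (nat_lit 2515)]))) (.node (.leaf (.cyc (nat_lit 45) [(nat_lit 1180), (nat_lit 626), (nat_lit 3221), (nat_lit 626), (nat_lit 1180)])) (.leaf .df))) (.node (.node (.leaf (.cyc (nat_lit 47) [(nat_lit 94), (nat_lit 37), (nat_lit 2805), (nat_lit 37), (nat_lit 94)])) (.leaf .df)) (.node (.leaf (.cyc (nat_lit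 28) [(nat_lit 6947), (nat_lit 1929), (nat_lit 4889), (nat_lit 1165), (nat_lit 1940)])) (.leaf .df)))) (.node (.node (.node (.leaf .df) (.leaf .df)) (.node (.leaf (.cyc (nat_lit 25) [(nat_lit 5852), (nat_lit 5853), (nat_lit 876), (nat_lit 4235), (nat_lit 1593)])) (.leaf .df))) (.node (.node (.leaf (.cyc (nat_lit 26) [(nat_lit 518), (nat_lit 3251), (nat_lit 3250), (nat_lit 339), (nat_lit 723)])) (.leaf .df)) (.node (.leaf (.cyc (nat_lit 62) [(nat_lit 2244), (nat_lit 1486), (nat_lit 4109), (nat_lit 1486), (nat_lit 2244)])) (.leaf .df))))))) (.node (.node (.node (.node (.node (.node (.leaf .df) (.leaf (.cyc (nat_lit 108) [(nat_lit 8397), (nat_lit 6327), (nat_lit 1718), (nat_lit 963), (nat_lit 964), (nat_lit 5992), (nat_lit 7846), (nat_lit 8157), (nat_lit 2286), (nat_lit 5880), (nat_lit 1692)]))) (.node (.leaf (.cyc (nat_lit 63) [(nat_lit 3778), (nat_lit 4262), (nat_lit 4261), (nat_lit 3722), (nat_lit 901)])) (.leaf .df))) (.node (.node (.leaf .df) (.leaf .df)) (.node (.leaf (.cyc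 (nat_lit 21) [(nat_lit 1730), (nat_lit 5966), (nat_lit 5969), (nat_lit 5966), (nat_lit 1730)])) (.leaf .df)))) (.node (.node (.node (.leaf .df) (.leaf (.cyc (nat_lit 21) [(nat_lit 2617), (nat_lit 8213), (nat_lit 8212), (nat_lit 8213), (nat_lit 2617)]))) (.node (.leaf (.cyc (nat_lit 136) [(nat_lit 1221), (nat_lit 3818), (nat_lit 3906), (nat_lit 5314), (nat_lit 5326), (nat_lit 5316), (nat_lit 5326), (nat_lit 5314), (nat_lit 3906), (nat_lit 3818), (nat_lit 1221)])) (.leaf .df))) (.node (.node (.leaf (.cyc (nat_lit 76) [(nat_lit 3277), (nat_lit 344), (nat_lit 142), (nat_lit 140), (nat_lit 338)])) (.leaf .df)) (.node (.leaf (.cyc (nat_lit 50) [(nat_lit 1994), (nat_lit 1210), (nat_lit 1208), (nat_lit 5783), (nat_lit 2061)])) (.leaf .df))))) (.node (.node (.node (.node (.leaf .df) (.leaf (.cyc (nat_lit 25) [(nat_lit 2483), (nat_lit 7042), (nat_lit 4947), (nat_lit 7042), (nat_lit 2483)]))) (.node (.leaf (.cyc (nat_lit 30) [(nat_lit 1096), (nat_lit 4673), (nat_lit 4810), (nat_lit 1119),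 (nat_lit 1120)])) (.leaf .df))) (.node (.node (.leaf (.pin (nat_lit 18) [] [])) (.leaf .df)) (.node (.leaf (.cyc (nat_lit 20) [(nat_lit 1904), (nat_lit 4852), (nat_lit 1904)])) (.leaf .df)))) (.node (.node (.node (.leaf .df) (.leaf (.cyc (nat_lit 18) [(nat_lit 2733), (nat_lit 2613), (nat_lit 7980), (nat_lit 2613), (nat_lit 2733)]))) (.node (.leaf (.cyc (nat_lit 56) [(nat_lit 1548), (nat_lit 5826), (nat_lit 5827), (nat_lit 5826), (nat_lit 1548)])) (.leaf .df))) (.node (.node (.leaf (.cyc (nat_lit 20) [(nat_lit 627), (nat_lit 3221), (nat_lit 627)])) (.leaf .df)) (.node (.leaf (.cyc (nat_lit 32) [(nat_lit 1600), (nat_lit 879), (nat_lit 3466), (nat_lit 4239), (nat_lit 873), (nat_lit 442), (nat_lit 443), (nat_lit 877), (nat_lit 5584), (nat_lit 5581), (nat_lit 2208), (nat_lit 7885)])) (.leaf .df)))))) (.node (.node (.node (.node (.node (.leaf .df) (.leaf (.cyc (nat_lit 30) [(nat_lit 2415), (nat_lit 6532), (nat_lit 6975), (nat_lit 6532), (nat_lit 2415)]))) (.node (.leaf (.cyc (nat_lit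 9) [(nat_lit 4558), (nat_lit 996), (nat_lit 3603), (nat_lit 996), (nat_lit 4558)])) (.leaf .df))) (.node (.node (.leaf .df) (.leaf .df)) (.node (.leaf (.cyc (nat_lit 15) [(nat_lit 1054), (nat_lit 4653), (nat_lit 1807)])) (.leaf .df)))) (.node (.node (.node (.leaf .df) (.leaf (.cyc (nat_lit 47) [(nat_lit 2676), (nat_lit 8982), (nat_lit 8978), (nat_lit 8982), (nat_lit 2676)]))) (.node (.leaf (.cyc (nat_lit 10) [(nat_lit 5582), (nat_lit 4236), (nat_lit 1411)])) (.leaf .df))) (.node (.node (.leaf (.cyc (nat_lit 63) [(nat_lit 485), (nat_lit 221), (nat_lit 2890), (nat_lit 221), (nat_lit 485)])) (.leaf .df)) (.node (.leaf (.cyc (nat_lit 23) [(nat_lit 1371), (nat_lit 1369), (nat_lit 2137)])) (.leaf .df))))) (.node (.node (.node (.node (.leaf .df) (.leaf (.cyc (nat_lit 37) [(nat_lit 2548), (nat_lit 7372), (nat_lit 5151), (nat_lit 7372), (nat_lit 2548)]))) (.node (.leaf (.cyc (nat_lit 37) [(nat_lit 1230), (nat_lit 4085), (nat_lit 3644), (nat_lit 659), (nat_lit 1243)])) (.leaf .df))) (.node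 (.node (.leaf (.cyc (nat_lit 35) [(nat_lit 176), (nat_lit 70), (nat_lit 2779), (nat_lit 70), (nat_lit 176)])) (.leaf .df)) (.node (.leaf (.cyc (nat_lit 62) [(nat_lit 1979), (nat_lit 6411), (nat_lit 6410), (nat_lit 6411), (nat_lit 1979)])) (.leaf .df)))) (.node (.node (.node (.leaf .df) (.leaf .df)) (.node (.leaf (.cyc (nat_lit 50) [(nat_lit 1193), (nat_lit 632), (nat_lit 3478), (nat_lit 902), (nat_lit 1634)])) (.leaf .df))) (.node (.node (.leaf (.cyc (nat_lit 74) [(nat_lit 4025), (nat_lit 4038), (nat_lit 197)])) (.leaf .df)) (.node (.leaf (.cyc (nat_lit 27) [(nat_lit 1738), (nat_lit 5850), (nat_lit 2283)])) (.leaf .df))))))))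
noncomputable def u5P111100 : BT Pf := .node u5P1111000 u5P1111001
noncomputable def u5P1111010 : BT Pf := (.node (.node (.node (.node (.node (.node (.node (.leaf .df) (.leaf (.cyc (nat_lit 41) [(nat_lit 2308), (nat_lit 6032), (nat_lit 2308)]))) (.node (.leaf (.cyc (nat_lit 95) [(nat_lit 4142), (nat_lit 762), (nat_lit 3443), (nat_lit 3973), (nat_lit 3977), (nat_lit 396), (nat_lit 2989), (nat_lit 3175), (nat_lit 3176), (nat_lit 549), (nat_lit 4141)])) (.leaf .df))) (.node (.node (.leaf .df) (.leaf .df)) (.node (.leaf (.cyc (nat_lit 62) [(nat_lit 1673), (nat_lit 4425), (nat_lit 4437), (nat_lit 4425), (nat_lit 1673)])) (.leaf .df)))) (.node (.node (.node (.leaf .df) (.leaf (.cyc (nat_lit 164) [(nat_lit 2567), (nat_lit 7534), (nat_lit 2108), (nat_lit 5257), (nat_lit 5864), (nat_lit 1374), (nat_lit 727), (nat_lit 3272), (nat_lit 341), (nat_lit 3267), (nat_lit 718), (nat_lit 1351), (nat_lit 7361), (nat_lit 7316), (nat_lit 7315), (nat_lit 7540), (nat_lit 2573)]))) (.node (.leaf (.cyc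 (nat_lit 51) [(nat_lit 1290), (nat_lit 3878), (nat_lit 4278), (nat_lit 647), (nat_lit 3234), (nat_lit 3225), (nat_lit 3234), (nat_lit 647), (nat_lit 4278), (nat_lit 3878), (nat_lit 1290)])) (.leaf .df))) (.node (.node (.leaf (.cyc (nat_lit 86) [(nat_lit 3118), (nat_lit 105), (nat_lit 104)])) (.leaf .df)) (.node (.leaf (.cyc (nat_lit 30) [(nat_lit 2008), (nat_lit 1228), (nat_lit 3823), (nat_lit 1228), (nat_lit 2008)])) (.leaf .df))))) (.node (.node (.node (.node (.leaf .df) (.leaf (.cyc (nat_lit 18) [(nat_lit 2440), (nat_lit 2439), (nat_lit 8748), (nat_lit 2439), (nat_lit 2440)]))) (.node (.leaf (.cyc (nat_lit 23) [(nat_lit 4652), (nat_lit 1050), (nat_lit 1052)])) (.leaf .df))) (.node (.node (.leaf .df) (.leaf .df)) (.node (.leaf (.cyc (nat_lit 16) [(nat_lit 6275), (nat_lit 6053), (nat_lit 6662), (nat_lit 6661), (nat_lit 1846)])) (.leaf .df)))) (.node (.node (.node (.leaf .df) (.leaf (.cyc (nat_lit 20) [(nat_lit 2697), (nat_lit 9019), (nat_lit 2697)]))) (.node (.leaf (.cyc (nat_lit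 0) [(nat_lit 1495), (nat_lit 1496), (nat_lit 5678), (nat_lit 1496), (nat_lit 1495)])) (.leaf .df))) (.node (.node (.leaf (.cyc (nat_lit 95) [(nat_lit 3629), (nat_lit 3390), (nat_lit 3202), (nat_lit 227), (nat_lit 91), (nat_lit 93), (nat_lit 230), (nat_lit 504), (nat_lit 3580), (nat_lit 383), (nat_lit 380)])) (.leaf .df)) (.node (.leaf (.cyc (nat_lit 18) [(nat_lit 2163), (nat_lit 5430), (nat_lit 3980), (nat_lit 5430), (nat_lit 2163)])) (.leaf .df)))))) (.node (.node (.node (.node (.node (.leaf .df) (.leaf (.cyc (nat_lit 47) [(nat_lit 2373), (nat_lit 1721), (nat_lit 4457), (nat_lit 1721), (nat_lit 2373)]))) (.node (.leaf (.cyc (nat_lit 46) [(nat_lit 940), (nat_lit 3535), (nat_lit 940)])) (.leaf .df))) (.node (.node (.leaf .df) (.leaf .df)) (.node (.leaf (.cyc (nat_lit 21) [(nat_lit 1575), (nat_lit 4217), (nat_lit 4669), (nat_lit 4675), (nat_lit 1762)])) (.leaf .df)))) (.node (.node (.node (.leaf .df) (.leaf (.cyc (nat_lit 28) [(nat_lit 2639), (nat_lit 2291), (nat_lit 5937), (nat_lit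 2291), (nat_lit 2639)]))) (.node (.leaf (.cyc (nat_lit 46) [(nat_lit 1391), (nat_lit 3941), (nat_lit 1391)])) (.leaf .df))) (.node (.node (.leaf (.cyc (nat_lit 45) [(nat_lit 404), (nat_lit 171), (nat_lit 2871), (nat_lit 171), (nat_lit 404)])) (.leaf .df)) (.node (.leaf (.cyc (nat_lit 20) [(nat_lit 2094), (nat_lit 5226), (nat_lit 2094)])) (.leaf .df))))) (.node (.node (.node (.node (.leaf .df) (.leaf (.cyc (nat_lit 53) [(nat_lit 2411), (nat_lit 7028), (nat_lit 1950), (nat_lit 1951), (nat_lit 2505)]))) (.node (.leaf (.cyc (nat_lit 23) [(nat_lit 883), (nat_lit 3768), (nat_lit 1167)])) (.leaf .df))) (.node (.node (.leaf (.cyc (nat_lit 18) [(nat_lit 61), (nat_lit 17), (nat_lit 2804), (nat_lit 17), (nat_lit 61)])) (.leaf .df)) (.node (.leaf (.cyc (nat_lit 28) [(nat_lit 1161), (nat_lit 615), (nat_lit 614), (nat_lit 1159), (nat_lit 1931)])) (.leaf .df)))) (.node (.node (.node (.leaf .df) (.leaf .df)) (.node (.leaf (.cyc (nat_lit 48) [(nat_lit 1193), (nat_lit 4351), (nat_lit 1581)])) (.leaf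 .df))) (.node (.node (.leaf (.cyc (nat_lit 53) [(nat_lit 694), (nat_lit 3251), (nat_lit 3141), (nat_lit 3251), (nat_lit 694)])) (.leaf .df)) (.node (.leaf (.cyc (nat_lit 6) [(nat_lit 2233), (nat_lit 1475), (nat_lit 4102), (nat_lit 1475), (nat_lit 2233)])) (.leaf .df))))))) (.node (.node (.node (.node (.node (.node (.leaf .df) (.leaf (.cyc (nat_lit 28) [(nat_lit 2340), (nat_lit 1653), (nat_lit 4320), (nat_lit 1653), (nat_lit 2340)]))) (.node (.leaf (.cyc (nat_lit 48) [(nat_lit 890), (nat_lit 3472), (nat_lit 890)])) (.leaf .df))) (.node (.node (.leaf .df) (.leaf .df)) (.node (.leaf (.cyc (nat_lit 56) [(nat_lit 1715), (nat_lit 4449), (nat_lit 4188), (nat_lit 4449), (nat_lit 1715)])) (.leaf .df)))) (.node (.node (.node (.leaf .df) (.leaf (.cyc (nat_lit 164) [(nat_lit 2558), (nat_lit 7452), (nat_lit 2088), (nat_lit 5187), (nat_lit 1306), (nat_lit 5209), (nat_lit 958), (nat_lit 3543), (nat_lit 491), (nat_lit 3125), (nat_lit 4041), (nat_lit 4042), (nat_lit 1459), (nat_lit 5554), (nat_lit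 5553), (nat_lit 2216), (nat_lit 2607)]))) (.node (.leaf (.cyc (nat_lit 24) [(nat_lit 1339), (nat_lit 5263), (nat_lit 5272), (nat_lit 5263), (nat_lit 1339)])) (.leaf .df))) (.node (.node (.leaf (.cyc (nat_lit 27) [(nat_lit 133), (nat_lit 132), (nat_lit 314)])) (.leaf .df)) (.node (.leaf (.cyc (nat_lit 5) [(nat_lit 7342), (nat_lit 7192), (nat_lit 7193), (nat_lit 5338), (nat_lit 1355)])) (.leaf .df))))) (.node (.node (.node (.node (.leaf .df) (.leaf (.cyc (nat_lit 131) [(nat_lit 8839), (nat_lit 2464), (nat_lit 1865), (nat_lit 4754), (nat_lit 5171), (nat_lit 5170), (nat_lit 3976), (nat_lit 5458), (nat_lit 2176), (nat_lit 7776), (nat_lit 8878)]))) (.node (.leaf (.cyc (nat_lit 114) [(nat_lit 601), (nat_lit 4782), (nat_lit 1087)])) (.leaf .df))) (.node (.node (.leaf .df) (.leaf .df)) (.node (.leaf (.cyc (nat_lit 47) [(nat_lit 1131), (nat_lit 596), (nat_lit 3734), (nat_lit 1124), (nat_lit 1890)])) (.leaf .df)))) (.node (.node (.node (.leaf .df) (.leaf (.cyc (nat_lit 6) [(nat_lit 2726),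 (nat_lit 2586), (nat_lit 7648), (nat_lit 2586), (nat_lit 2726)]))) (.node (.leaf (.cyc (nat_lit 117) [(nat_lit 1537), (nat_lit 1536), (nat_lit 5806), (nat_lit 1536), (nat_lit 1537)])) (.leaf .df))) (.node (.node (.leaf (.cyc (nat_lit 44) [(nat_lit 613), (nat_lit 284), (nat_lit 2932), (nat_lit 284), (nat_lit 613)])) (.leaf .df)) (.node (.leaf (.cyc (nat_lit 51) [(nat_lit 5545), (nat_lit 1456), (nat_lit 780), (nat_lit 3452), (nat_lit 782), (nat_lit 1457), (nat_lit 5548), (nat_lit 7806), (nat_lit 7808), (nat_lit 5509), (nat_lit 2199)])) (.leaf .df)))))) (.node (.node (.node (.node (.node (.leaf .df) (.leaf (.cyc (nat_lit 25) [(nat_lit 2128), (nat_lit 5336), (nat_lit 2066), (nat_lit 8423), (nat_lit 2407)]))) (.node (.leaf (.cyc (nat_lit 27) [(nat_lit 995), (nat_lit 3599), (nat_lit 995)])) (.leaf .df))) (.node (.node (.leaf .df) (.leaf .df)) (.node (.leaf (.cyc (nat_lit 81) [(nat_lit 6574), (nat_lit 6573), (nat_lit 6572), (nat_lit 4641), (nat_lit 6336), (nat_lit 6337), (nat_lit 6184),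 (nat_lit 4989), (nat_lit 4888), (nat_lit 6440), (nat_lit 1759), (nat_lit 1757)])) (.leaf .df)))) (.node (.node (.node (.leaf .df) (.leaf (.cyc (nat_lit 50) [(nat_lit 2668), (nat_lit 2392), (nat_lit 6438), (nat_lit 2392), (nat_lit 2668)]))) (.node (.leaf (.cyc (nat_lit 19) [(nat_lit 1458), (nat_lit 783), (nat_lit 3420), (nat_lit 783), (nat_lit 1458)])) (.leaf .df))) (.node (.node (.leaf (.cyc (nat_lit 27) [(nat_lit 209), (nat_lit 208), (nat_lit 467)])) (.leaf .df)) (.node (.leaf (.cyc (nat_lit 18) [(nat_lit 2127), (nat_lit 7361), (nat_lit 7315), (nat_lit 7361), (nat_lit 2127)])) (.leaf .df))))) (.node (.node (.node (.node (.leaf .df) (.leaf (.cyc (nat_lit 47) [(nat_lit 2541), (nat_lit 7335), (nat_lit 5666), (nat_lit 7335), (nat_lit 2541)]))) (.node (.leaf (.cyc (nat_lit 59) [(nat_lit 5037), (nat_lit 5038), (nat_lit 829), (nat_lit 407), (nat_lit 409), (nat_lit 831)])) (.leaf .df))) (.node (.node (.leaf (.cyc (nat_lit 71) [(nat_lit 2869), (nat_lit 165), (nat_lit 2990), (nat_lit 105),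 (nat_lit 2840), (nat_lit 2821), (nat_lit 2819), (nat_lit 2757), (nat_lit 2768), (nat_lit 9), (nat_lit 40), (nat_lit 2889)])) (.leaf .df)) (.node (.leaf (.cyc (nat_lit 23) [(nat_lit 6657), (nat_lit 6656), (nat_lit 1970)])) (.leaf .df)))) (.node (.node (.node (.leaf .df) (.leaf .df)) (.node (.leaf (.cyc (nat_lit 40) [(nat_lit 6062), (nat_lit 4437), (nat_lit 6062)])) (.leaf .df))) (.node (.node (.leaf (.cyc (nat_lit 16) [(nat_lit 778), (nat_lit 371), (nat_lit 3437), (nat_lit 371), (nat_lit 778)])) (.leaf .df)) (.node (.leaf (.cyc (nat_lit 46) [(nat_lit 2274), (nat_lit 5816), (nat_lit 2274)])) (.leaf .df))))))))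
noncomputable def u5P1111011 : BT Pf := (.node (.node (.node (.node (.node (.node (.node (.leaf .df) (.leaf (.cyc (nat_lit 34) [(nat_lit 8088), (nat_lit 7993), (nat_lit 8299), (nat_lit 2324), (nat_lit 2325)]))) (.node (.leaf (.cyc (nat_lit 20) [(nat_lit 512), (nat_lit 3400), (nat_lit 853)])) (.leaf .df))) (.node (.node (.leaf .df) (.leaf .df)) (.node (.leaf (.cyc (nat_lit 24) [(nat_lit 1694), (nat_lit 939), (nat_lit 3534), (nat_lit 939), (nat_lit 1694)])) (.leaf .df)))) (.node (.node (.node (.leaf .df) (.leaf (.cyc (nat_lit 30) [(nat_lit 2590), (nat_lit 2589), (nat_lit 9325), (nat_lit 2589), (nat_lit 2590)]))) (.node (.leaf (.cyc (nat_lit 31) [(nat_lit 4709), (nat_lit 520), (nat_lit 3255), (nat_lit 698), (nat_lit 1313)])) (.leaf .df))) (.node (.node (.leaf (.cyc (nat_lit 50) [(nat_lit 263), (nat_lit 2929), (nat_lit 2999), (nat_lit 2929), (nat_lit 263)])) (.leaf .df)) (.node (.leaf (.cyc (nat_lit 63) [(nat_lit 2029), (nat_lit 5405), (nat_lit 5407), (nat_lit 5405), (nat_lit 2029)]))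 (.leaf .df))))) (.node (.node (.node (.node (.leaf .df) (.leaf (.cyc (nat_lit 76) [(nat_lit 8813), (nat_lit 6737), (nat_lit 6559), (nat_lit 6737), (nat_lit 8813)]))) (.node (.leaf (.cyc (nat_lit 43) [(nat_lit 4714), (nat_lit 1076), (nat_lit 4718), (nat_lit 1076), (nat_lit 4714)])) (.leaf .df))) (.node (.node (.leaf .df) (.leaf .df)) (.node (.leaf (.cyc (nat_lit 3) [(nat_lit 6766), (nat_lit 1674), (nat_lit 1675)])) (.leaf .df)))) (.node (.node (.node (.leaf .df) (.leaf (.cyc (nat_lit 18) [(nat_lit 2713), (nat_lit 9652), (nat_lit 9314), (nat_lit 9652), (nat_lit 2713)]))) (.node (.leaf (.cyc (nat_lit 107) [(nat_lit 1523), (nat_lit 821), (nat_lit 3375), (nat_lit 404), (nat_lit 171), (nat_lit 2983), (nat_lit 2984), (nat_lit 395), (nat_lit 798), (nat_lit 4738), (nat_lit 4737)])) (.leaf .df))) (.node (.node (.leaf (.cyc (nat_lit 53) [(nat_lit 267), (nat_lit 112), (nat_lit 111), (nat_lit 264), (nat_lit 563)])) (.leaf .df)) (.node (.leaf (.cyc (nat_lit 16) [(nat_lit 2182), (nat_lit 7729),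 (nat_lit 7731), (nat_lit 7729), (nat_lit 2182)])) (.leaf .df)))))) (.node (.node (.node (.node (.node (.leaf .df) (.leaf (.cyc (nat_lit 9) [(nat_lit 8557), (nat_lit 8399), (nat_lit 1692), (nat_lit 6231), (nat_lit 2359)]))) (.node (.leaf (.cyc (nat_lit 18) [(nat_lit 968), (nat_lit 4161), (nat_lit 4159), (nat_lit 4161), (nat_lit 968)])) (.leaf .df))) (.node (.node (.leaf .df) (.leaf .df)) (.node (.leaf (.cyc (nat_lit 48) [(nat_lit 1777), (nat_lit 4580), (nat_lit 1777)])) (.leaf .df)))) (.node (.node (.node (.leaf .df) (.leaf (.cyc (nat_lit 25) [(nat_lit 2653), (nat_lit 8332), (nat_lit 7447), (nat_lit 8332), (nat_lit 2653)]))) (.node (.leaf (.cyc (nat_lit 8) [(nat_lit 5484), (nat_lit 5143), (nat_lit 5142), (nat_lit 5143), (nat_lit 5484)])) (.leaf .df))) (.node (.node (.leaf (.cyc (nat_lit 115) [(nat_lit 274), (nat_lit 2924), (nat_lit 3438), (nat_lit 2924), (nat_lit 274)])) (.leaf .df)) (.node (.leaf (.cyc (nat_lit 18) [(nat_lit 1493), (nat_lit 4400), (nat_lit 4410), (nat_lit 1330),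 (nat_lit 2109)])) (.leaf .df))))) (.node (.node (.node (.node (.leaf .df) (.leaf (.cyc (nat_lit 53) [(nat_lit 2524), (nat_lit 7293), (nat_lit 7296), (nat_lit 7293), (nat_lit 2524)]))) (.node (.leaf (.cyc (nat_lit 21) [(nat_lit 1206), (nat_lit 638), (nat_lit 3813), (nat_lit 638), (nat_lit 1206)])) (.leaf .df))) (.node (.node (.leaf (.cyc (nat_lit 48) [(nat_lit 117), (nat_lit 2848), (nat_lit 117)])) (.leaf .df)) (.node (.leaf (.cyc (nat_lit 29) [(nat_lit 7021), (nat_lit 6002), (nat_lit 4744), (nat_lit 6002), (nat_lit 7021)])) (.leaf .df)))) (.node (.node (.node (.leaf .df) (.leaf .df)) (.node (.leaf (.cyc (nat_lit 37) [(nat_lit 1604), (nat_lit 881), (nat_lit 4068), (nat_lit 881), (nat_lit 1604)])) (.leaf .df))) (.node (.node (.leaf (.cyc (nat_lit 48) [(nat_lit 746), (nat_lit 3300), (nat_lit 746)])) (.leaf .df)) (.node (.leaf (.cyc (nat_lit 48) [(nat_lit 2255), (nat_lit 5719), (nat_lit 2255)])) (.leaf .df))))))) (.node (.node (.node (.node (.node (.node (.leaf .df) (.leaf (.cyc (nat_lit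 23) [(nat_lit 1688), (nat_lit 1685), (nat_lit 2356)]))) (.node (.leaf (.cyc (nat_lit 20) [(nat_lit 514), (nat_lit 3679), (nat_lit 918)])) (.leaf .df))) (.node (.node (.leaf .df) (.leaf .df)) (.node (.leaf (.cyc (nat_lit 19) [(nat_lit 1738), (nat_lit 977), (nat_lit 3573), (nat_lit 977), (nat_lit 1738)])) (.leaf .df)))) (.node (.node (.node (.leaf .df) (.leaf (.cyc (nat_lit 92) [(nat_lit 9452), (nat_lit 9454), (nat_lit 2287), (nat_lit 5904), (nat_lit 4444), (nat_lit 4455), (nat_lit 963), (nat_lit 964), (nat_lit 5995), (nat_lit 5997), (nat_lit 2305)]))) (.node (.leaf (.cyc (nat_lit 44) [(nat_lit 1360), (nat_lit 3919), (nat_lit 3599), (nat_lit 3919), (nat_lit 1360)])) (.leaf .df))) (.node (.node (.leaf (.cyc (nat_lit 92) [(nat_lit 363), (nat_lit 3299), (nat_lit 350), (nat_lit 145), (nat_lit 144), (nat_lit 2955), (nat_lit 144), (nat_lit 145), (nat_lit 350), (nat_lit 3299), (nat_lit 363)])) (.leaf .df)) (.node (.leaf (.cyc (nat_lit 20) [(nat_lit 2075), (nat_lit 5167), (nat_lit 2075)]))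 (.leaf .df))))) (.node (.node (.node (.node (.leaf .df) (.leaf (.cyc (nat_lit 45) [(nat_lit 2490), (nat_lit 6870), (nat_lit 5410), (nat_lit 6870), (nat_lit 2490)]))) (.node (.leaf (.cyc (nat_lit 1) [(nat_lit 4846), (nat_lit 3811), (nat_lit 4846)])) (.leaf .df))) (.node (.node (.leaf (.cyc (nat_lit 11) [(nat_lit 19), (nat_lit 5), (nat_lit 2761), (nat_lit 5), (nat_lit 19)])) (.leaf .df)) (.node (.leaf (.cyc (nat_lit 30) [(nat_lit 1203), (nat_lit 637), (nat_lit 3748), (nat_lit 4846), (nat_lit 1912)])) (.leaf .df)))) (.node (.node (.node (.leaf .df) (.leaf (.cyc (nat_lit 28) [(nat_lit 2739), (nat_lit 2672), (nat_lit 8703), (nat_lit 2672), (nat_lit 2739)]))) (.node (.leaf (.cyc (nat_lit 35) [(nat_lit 4584), (nat_lit 4351), (nat_lit 865), (nat_lit 4203), (nat_lit 1562)])) (.leaf .df))) (.node (.node (.leaf (.cyc (nat_lit 46) [(nat_lit 648), (nat_lit 3233), (nat_lit 648)])) (.leaf .df)) (.node (.leaf (.cyc (nat_lit 54) [(nat_lit 7917), (nat_lit 2215), (nat_lit 5550), (nat_lit 4380),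 (nat_lit 927), (nat_lit 3520), (nat_lit 743), (nat_lit 1403), (nat_lit 2169), (nat_lit 7751), (nat_lit 7857)])) (.leaf .df)))))) (.node (.node (.node (.node (.node (.leaf .df) (.leaf (.cyc (nat_lit 45) [(nat_lit 2422), (nat_lit 6599), (nat_lit 6537), (nat_lit 6599), (nat_lit 2422)]))) (.node (.leaf (.cyc (nat_lit 23) [(nat_lit 841), (nat_lit 4121), (nat_lit 1027)])) (.leaf .df))) (.node (.node (.leaf .df) (.leaf .df)) (.node (.leaf (.cyc (nat_lit 53) [(nat_lit 1822), (nat_lit 6610), (nat_lit 6608), (nat_lit 6610), (nat_lit 1822)])) (.leaf .df)))) (.node (.node (.node (.leaf .df) (.leaf (.cyc (nat_lit 20) [(nat_lit 2513), (nat_lit 8823), (nat_lit 2683)]))) (.node (.leaf (.cyc (nat_lit 21) [(nat_lit 1482), (nat_lit 4106), (nat_lit 4247), (nat_lit 4106), (nat_lit 1482)])) (.leaf .df))) (.node (.node (.leaf (.cyc (nat_lit 0) [(nat_lit 303), (nat_lit 304), (nat_lit 3566), (nat_lit 304), (nat_lit 303)])) (.leaf .df)) (.node (.leaf (.cyc (nat_lit 37) [(nat_lit 2147), (nat_lit 5392),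 (nat_lit 5125), (nat_lit 5392), (nat_lit 2147)])) (.leaf .df))))) (.node (.node (.node (.node (.leaf .df) (.leaf (.cyc (nat_lit 28) [(nat_lit 2556), (nat_lit 2087), (nat_lit 5185), (nat_lit 2087), (nat_lit 2556)]))) (.node (.leaf (.cyc (nat_lit 48) [(nat_lit 5100), (nat_lit 5099), (nat_lit 1257)])) (.leaf .df))) (.node (.node (.leaf (.cyc (nat_lit 10) [(nat_lit 3052), (nat_lit 2897), (nat_lit 3052)])) (.leaf .df)) (.node (.leaf (.cyc (nat_lit 34) [(nat_lit 1971), (nat_lit 6942), (nat_lit 6949), (nat_lit 6548), (nat_lit 1985)])) (.leaf .df)))) (.node (.node (.node (.leaf .df) (.leaf .df)) (.node (.leaf (.cyc (nat_lit 18) [(nat_lit 1646), (nat_lit 4313), (nat_lit 3482), (nat_lit 4313), (nat_lit 1646)])) (.leaf .df))) (.node (.node (.leaf (.cyc (nat_lit 101) [(nat_lit 3313), (nat_lit 373), (nat_lit 4078), (nat_lit 373), (nat_lit 3313), (nat_lit 773)])) (.leaf .df)) (.node (.leaf (.cyc (nat_lit 49) [(nat_lit 7043), (nat_lit 7127), (nat_lit 2292)])) (.leaf .df))))))))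
noncomputable def u5P111101 : BT Pf := .node u5P1111010 u5P1111011
noncomputable def u5P11110 : BT Pf := .node u5P111100 u5P111101
noncomputable def u5P1111100 : BT Pf := (.node (.node (.node (.node (.node (.node (.node (.leaf .df) (.leaf (.cyc (nat_lit 63) [(nat_lit 2302), (nat_lit 7940), (nat_lit 7939), (nat_lit 7940), (nat_lit 2302)]))) (.node (.leaf (.cyc (nat_lit 26) [(nat_lit 560), (nat_lit 261), (nat_lit 2989), (nat_lit 396), (nat_lit 801)])) (.leaf .df))) (.node (.node (.leaf .df) (.leaf .df)) (.node (.leaf (.cyc (nat_lit 20) [(nat_lit 5500), (nat_lit 4535), (nat_lit 1666)])) (.leaf .df)))) (.node (.node (.node (.leaf .df) (.leaf (.cyc (nat_lit 62) [(nat_lit 2572), (nat_lit 7539), (nat_lit 6620), (nat_lit 7539), (nat_lit 2572)]))) (.node (.leaf (.cyc (nat_lit 46) [(nat_lit 1283), (nat_lit 4470), (nat_lit 1283)])) (.leaf .df))) (.node (.node (.leaf (.cyc (nat_lit 3) [(nat_lit 3102), (nat_lit 176), (nat_lit 178)])) (.leaf .df)) (.node (.leaf (.cyc (nat_lit 41) [(nat_lit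 2002), (nat_lit 6429), (nat_lit 2002)])) (.leaf .df))))) (.node (.node (.node (.node (.leaf .df) (.leaf (.cyc (nat_lit 21) [(nat_lit 1912), (nat_lit 1140), (nat_lit 4785), (nat_lit 6647), (nat_lit 2436)]))) (.node (.leaf (.cyc (nat_lit 54) [(nat_lit 1044), (nat_lit 3683), (nat_lit 3684), (nat_lit 549), (nat_lit 3668), (nat_lit 3118), (nat_lit 2917), (nat_lit 249), (nat_lit 535), (nat_lit 4117), (nat_lit 4125)])) (.leaf .df))) (.node (.node (.leaf .df) (.leaf .df)) (.node (.leaf (.cyc (nat_lit 20) [(nat_lit 1711), (nat_lit 4723), (nat_lit 1840)])) (.leaf .df)))) (.node (.node (.node (.leaf .df) (.leaf (.cyc (nat_lit 19) [(nat_lit 2693), (nat_lit 9013), (nat_lit 7054), (nat_lit 9013), (nat_lit 2693)]))) (.node (.leaf (.cyc (nat_lit 50) [(nat_lit 1491), (nat_lit 801), (nat_lit 3368), (nat_lit 801), (nat_lit 1491)])) (.leaf .df))) (.node (.node (.leaf (.cyc (nat_lit 20) [(nat_lit 245), (nat_lit 244), (nat_lit 527)])) (.leaf .df)) (.node (.leaf (.cyc (nat_lit 30) [(nat_lit 7185), (nat_lit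 7591), (nat_lit 7588), (nat_lit 5539), (nat_lit 2159)])) (.leaf .df)))))) (.node (.node (.node (.node (.node (.leaf .df) (.leaf (.cyc (nat_lit 35) [(nat_lit 2369), (nat_lit 6310), (nat_lit 5692), (nat_lit 6310), (nat_lit 2369)]))) (.node (.leaf (.cyc (nat_lit 31) [(nat_lit 837), (nat_lit 411), (nat_lit 3103), (nat_lit 480), (nat_lit 929)])) (.leaf .df))) (.node (.node (.leaf .df) (.leaf .df)) (.node (.leaf (.cyc (nat_lit 45) [(nat_lit 994), (nat_lit 995), (nat_lit 6425), (nat_lit 5331), (nat_lit 1753)])) (.leaf .df)))) (.node (.node (.node (.leaf .df) (.leaf (.cyc (nat_lit 47) [(nat_lit 8933), (nat_lit 8932), (nat_lit 8571), (nat_lit 8575), (nat_lit 2636)]))) (.node (.leaf (.cyc (nat_lit 54) [(nat_lit 1383), (nat_lit 5296), (nat_lit 5297), (nat_lit 761), (nat_lit 760), (nat_lit 3988), (nat_lit 760), (nat_lit 761), (nat_lit 5297), (nat_lit 5296), (nat_lit 1383)])) (.leaf .df))) (.node (.node (.leaf (.cyc (nat_lit 48) [(nat_lit 194), (nat_lit 2976), (nat_lit 394)])) (.leaf .df))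 (.node (.leaf (.cyc (nat_lit 47) [(nat_lit 2089), (nat_lit 1304), (nat_lit 4227), (nat_lit 1304), (nat_lit 2089)])) (.leaf .df))))) (.node (.node (.node (.node (.leaf .df) (.leaf (.cyc (nat_lit 44) [(nat_lit 2501), (nat_lit 6945), (nat_lit 5434), (nat_lit 6945), (nat_lit 2501)]))) (.node (.leaf (.cyc (nat_lit 6) [(nat_lit 1162), (nat_lit 3761), (nat_lit 3810), (nat_lit 3761), (nat_lit 1162)])) (.leaf .df))) (.node (.node (.leaf (.cyc (nat_lit 23) [(nat_lit 35), (nat_lit 2774), (nat_lit 49)])) (.leaf .df)) (.node (.leaf (.cyc (nat_lit 63) [(nat_lit 6462), (nat_lit 1598), (nat_lit 5000), (nat_lit 4989), (nat_lit 1928)])) (.leaf .df)))) (.node (.node (.node (.leaf .df) (.leaf .df)) (.node (.leaf (.cyc (nat_lit 19) [(nat_lit 1105), (nat_lit 1104), (nat_lit 4896), (nat_lit 4893), (nat_lit 1574)])) (.leaf .df))) (.node (.node (.leaf (.cyc (nat_lit 44) [(nat_lit 679), (nat_lit 3569), (nat_lit 3203), (nat_lit 3569), (nat_lit 679)])) (.leaf .df)) (.node (.leaf (.cyc (nat_lit 30) [(nat_lit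 2228), (nat_lit 2227), (nat_lit 7965), (nat_lit 2227), (nat_lit 2228)])) (.leaf .df))))))) (.node (.node (.node (.node (.node (.node (.leaf .df) (.leaf (.cyc (nat_lit 21) [(nat_lit 2337), (nat_lit 2336), (nat_lit 8349), (nat_lit 2336), (nat_lit 2337)]))) (.node (.leaf (.cyc (nat_lit 15) [(nat_lit 881), (nat_lit 3577), (nat_lit 881)])) (.leaf .df))) (.node (.node (.leaf .df) (.leaf .df)) (.node (.leaf (.cyc (nat_lit 27) [(nat_lit 5931), (nat_lit 4534), (nat_lit 1710)])) (.leaf .df)))) (.node (.node (.node (.leaf .df) (.leaf (.cyc (nat_lit 35) [(nat_lit 2604), (nat_lit 7879), (nat_lit 5518), (nat_lit 7879), (nat_lit 2604)]))) (.node (.leaf (.cyc (nat_lit 23) [(nat_lit 4929), (nat_lit 1187), (nat_lit 5278)])) (.leaf .df))) (.node (.node (.leaf (.cyc (nat_lit 62) [(nat_lit 304), (nat_lit 128), (nat_lit 2856), (nat_lit 128), (nat_lit 304)])) (.leaf .df)) (.node (.leaf (.cyc (nat_lit 44) [(nat_lit 2044), (nat_lit 5306), (nat_lit 5305), (nat_lit 5306), (nat_lit 2044)])) (.leaf .df)))))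 (.node (.node (.node (.node (.leaf .df) (.leaf (.cyc (nat_lit 27) [(nat_lit 2471), (nat_lit 6781), (nat_lit 2471)]))) (.node (.leaf (.cyc (nat_lit 122) [(nat_lit 705), (nat_lit 330), (nat_lit 3190), (nat_lit 583), (nat_lit 1106), (nat_lit 4766), (nat_lit 1106), (nat_lit 583), (nat_lit 3190), (nat_lit 330), (nat_lit 705)])) (.leaf .df))) (.node (.node (.leaf .df) (.leaf .df)) (.node (.leaf (.cyc (nat_lit 45) [(nat_lit 1885), (nat_lit 1119), (nat_lit 3728), (nat_lit 1119), (nat_lit 1885)])) (.leaf .df)))) (.node (.node (.node (.leaf .df) (.leaf (.cyc (nat_lit 35) [(nat_lit 2723), (nat_lit 9609), (nat_lit 9611), (nat_lit 9609), (nat_lit 2723)]))) (.node (.leaf (.cyc (nat_lit 40) [(nat_lit 5790), (nat_lit 4812), (nat_lit 1097)])) (.leaf .df))) (.node (.node (.leaf (.cyc (nat_lit 18) [(nat_lit 603), (nat_lit 3199), (nat_lit 3020), (nat_lit 3199), (nat_lit 603)])) (.leaf .df)) (.node (.leaf (.cyc (nat_lit 6) [(nat_lit 2195), (nat_lit 1433), (nat_lit 3997), (nat_lit 1433), (nat_lit 2195)]))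 (.leaf .df)))))) (.node (.node (.node (.node (.node (.leaf .df) (.leaf (.cyc (nat_lit 58) [(nat_lit 2403), (nat_lit 1771), (nat_lit 6144), (nat_lit 6145), (nat_lit 1652), (nat_lit 4320), (nat_lit 1652), (nat_lit 6145), (nat_lit 6144), (nat_lit 1771), (nat_lit 2403)]))) (.node (.leaf (.cyc (nat_lit 53) [(nat_lit 516), (nat_lit 236), (nat_lit 235), (nat_lit 514), (nat_lit 987)])) (.leaf .df))) (.node (.node (.leaf .df) (.leaf .df)) (.node (.leaf (.cyc (nat_lit 31) [(nat_lit 1793), (nat_lit 4831), (nat_lit 4832), (nat_lit 4831), (nat_lit 1793)])) (.leaf .df)))) (.node (.node (.node (.leaf .df) (.leaf (.cyc (nat_lit 20) [(nat_lit 2665), (nat_lit 8533), (nat_lit 2665)]))) (.node (.leaf (.cyc (nat_lit 58) [(nat_lit 1451), (nat_lit 4016), (nat_lit 778), (nat_lit 3319), (nat_lit 3276), (nat_lit 3020), (nat_lit 3276), (nat_lit 3319), (nat_lit 778), (nat_lit 4016), (nat_lit 1451)])) (.leaf .df))) (.node (.node (.leaf (.cyc (nat_lit 28) [(nat_lit 351), (nat_lit 145), (nat_lit 2883), (nat_lit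 206), (nat_lit 461)])) (.leaf .df)) (.node (.leaf (.cyc (nat_lit 121) [(nat_lit 7582), (nat_lit 6579), (nat_lit 7358), (nat_lit 7360), (nat_lit 2041)])) (.leaf .df))))) (.node (.node (.node (.node (.leaf .df) (.leaf (.cyc (nat_lit 45) [(nat_lit 2535), (nat_lit 2041), (nat_lit 5113), (nat_lit 2041), (nat_lit 2535)]))) (.node (.leaf (.cyc (nat_lit 25) [(nat_lit 1227), (nat_lit 647), (nat_lit 3234), (nat_lit 647), (nat_lit 1227)])) (.leaf .df))) (.node (.node (.leaf (.cyc (nat_lit 64) [(nat_lit 77), (nat_lit 2838), (nat_lit 41), (nat_lit 2787), (nat_lit 2786), (nat_lit 25), (nat_lit 2800), (nat_lit 2802), (nat_lit 65), (nat_lit 162), (nat_lit 2974)])) (.leaf .df)) (.node (.leaf (.cyc (nat_lit 37) [(nat_lit 1966), (nat_lit 4953), (nat_lit 4818), (nat_lit 4953), (nat_lit 1966)])) (.leaf .df)))) (.node (.node (.node (.leaf .df) (.leaf .df)) (.node (.leaf (.cyc (nat_lit 105) [(nat_lit 6045), (nat_lit 4972), (nat_lit 1259)])) (.leaf .df))) (.node (.node (.leaf (.cyc (nat_lit 62) [(nat_lit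 497), (nat_lit 3673), (nat_lit 477), (nat_lit 3521), (nat_lit 767)])) (.leaf .df)) (.node (.leaf (.cyc (nat_lit 37) [(nat_lit 2267), (nat_lit 1534), (nat_lit 1535), (nat_lit 2269), (nat_lit 8094)])) (.leaf .df))))))))
noncomputable def u5P1111101 : BT Pf := (.node (.node (.node (.node (.node (.node (.node (.leaf .df) (.leaf (.cyc (nat_lit 18) [(nat_lit 2322), (nat_lit 6096), (nat_lit 5254), (nat_lit 6096), (nat_lit 2322)]))) (.node (.leaf (.cyc (nat_lit 109) [(nat_lit 836), (nat_lit 834), (nat_lit 4190), (nat_lit 834), (nat_lit 836)])) (.leaf .df))) (.node (.node (.leaf .df) (.leaf .df)) (.node (.leaf (.cyc (nat_lit 21) [(nat_lit 1148), (nat_lit 4494), (nat_lit 6227), (nat_lit 6224), (nat_lit 1689)])) (.leaf .df)))) (.node (.node (.node (.leaf .df) (.leaf (.cyc (nat_lit 56) [(nat_lit 2585), (nat_lit 7647), (nat_lit 5386), (nat_lit 7647), (nat_lit 2585)]))) (.node (.leaf (.cyc (nat_lit 110) [(nat_lit 5213), (nat_lit 4515), (nat_lit 5213)])) (.leaf .df))) (.node (.node (.leaf (.cyc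 (nat_lit 91) [(nat_lit 251), (nat_lit 2921), (nat_lit 106), (nat_lit 107), (nat_lit 3165), (nat_lit 2919), (nat_lit 3165), (nat_lit 107), (nat_lit 106), (nat_lit 2921), (nat_lit 251)])) (.leaf .df)) (.node (.leaf (.cyc (nat_lit 25) [(nat_lit 2023), (nat_lit 5480), (nat_lit 5481), (nat_lit 5480), (nat_lit 2023)])) (.leaf .df))))) (.node (.node (.node (.node (.leaf .df) (.leaf (.cyc (nat_lit 25) [(nat_lit 2453), (nat_lit 8676), (nat_lit 8679), (nat_lit 8676), (nat_lit 2453)]))) (.node (.leaf (.cyc (nat_lit 46) [(nat_lit 571), (nat_lit 3695), (nat_lit 1069)])) (.leaf .df))) (.node (.node (.leaf .df) (.leaf .df)) (.node (.leaf (.cyc (nat_lit 92) [(nat_lit 1862), (nat_lit 1100), (nat_lit 580), (nat_lit 583), (nat_lit 4358), (nat_lit 848), (nat_lit 4201), (nat_lit 4353), (nat_lit 1131), (nat_lit 5948), (nat_lit 5946)])) (.leaf .df)))) (.node (.node (.node (.leaf .df) (.leaf (.cyc (nat_lit 164) [(nat_lit 2630), (nat_lit 8120), (nat_lit 2277), (nat_lit 5826), (nat_lit 1549), (nat_lit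 5841), (nat_lit 5903), (nat_lit 5901), (nat_lit 1570), (nat_lit 4209), (nat_lit 989), (nat_lit 1750), (nat_lit 7328), (nat_lit 7327), (nat_lit 7326), (nat_lit 9125), (nat_lit 2709)]))) (.node (.leaf (.cyc (nat_lit 118) [(nat_lit 1518), (nat_lit 4172), (nat_lit 838), (nat_lit 411), (nat_lit 3028), (nat_lit 3103), (nat_lit 3365), (nat_lit 798), (nat_lit 4115), (nat_lit 798), (nat_lit 3365), (nat_lit 3103), (nat_lit 3028), (nat_lit 411), (nat_lit 838), (nat_lit 4172), (nat_lit 1518)])) (.leaf .df))) (.node (.node (.leaf (.cyc (nat_lit 72) [(nat_lit 513), (nat_lit 3672)])) (.leaf .df)) (.node (.leaf (.cyc (nat_lit 24) [(nat_lit 2176), (nat_lit 5458), (nat_lit 3976), (nat_lit 5458), (nat_lit 2176)])) (.leaf .df)))))) (.node (.node (.node (.node (.node (.leaf .df) (.leaf (.cyc (nat_lit 26) [(nat_lit 2385), (nat_lit 2384), (nat_lit 8538), (nat_lit 2384), (nat_lit 2385)]))) (.node (.leaf (.cyc (nat_lit 62) [(nat_lit 510), (nat_lit 3541), (nat_lit 3538), (nat_lit 492), (nat_lit 962)]))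 (.leaf .df))) (.node (.node (.leaf .df) (.leaf .df)) (.node (.leaf (.cyc (nat_lit 161) [(nat_lit 1437), (nat_lit 6484), (nat_lit 3752), (nat_lit 606), (nat_lit 279), (nat_lit 3086), (nat_lit 464), (nat_lit 3498), (nat_lit 3499), (nat_lit 917), (nat_lit 1659)])) (.leaf .df)))) (.node (.node (.node (.leaf .df) (.leaf (.cyc (nat_lit 35) [(nat_lit 2650), (nat_lit 8265), (nat_lit 7738), (nat_lit 8265), (nat_lit 2650)]))) (.node (.leaf (.cyc (nat_lit 140) [(nat_lit 5470), (nat_lit 3972), (nat_lit 3827), (nat_lit 3972), (nat_lit 5470)])) (.leaf .df))) (.node (.node (.leaf (.cyc (nat_lit 106) [(nat_lit 397), (nat_lit 3332), (nat_lit 3421), (nat_lit 3332), (nat_lit 397)])) (.leaf .df)) (.node (.leaf (.cyc (nat_lit 15) [(nat_lit 1327), (nat_lit 5246), (nat_lit 2105)])) (.leaf .df))))) (.node (.node (.node (.node (.leaf .df) (.leaf (.cyc (nat_lit 18) [(nat_lit 2519), (nat_lit 7175), (nat_lit 6202), (nat_lit 7175), (nat_lit 2519)]))) (.node (.leaf (.cyc (nat_lit 27) [(nat_lit 1192), (nat_lit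 3838), (nat_lit 1192)])) (.leaf .df))) (.node (.node (.leaf (.cyc (nat_lit 49) [(nat_lit 99), (nat_lit 2839), (nat_lit 102)])) (.leaf .df)) (.node (.leaf (.cyc (nat_lit 35) [(nat_lit 1945), (nat_lit 6824), (nat_lit 6825), (nat_lit 6824), (nat_lit 1945)])) (.leaf .df)))) (.node (.node (.node (.leaf .df) (.leaf .df)) (.node (.leaf (.cyc (nat_lit 30) [(nat_lit 1598), (nat_lit 5564), (nat_lit 5565), (nat_lit 5564), (nat_lit 1598)])) (.leaf .df))) (.node (.node (.leaf (.cyc (nat_lit 27) [(nat_lit 735), (nat_lit 3274), (nat_lit 735)])) (.leaf .df)) (.node (.leaf (.cyc (nat_lit 20) [(nat_lit 2250), (nat_lit 5693), (nat_lit 2250)])) (.leaf .df))))))) (.node (.node (.node (.node (.node (.node (.leaf .df) (.leaf (.cyc (nat_lit 21) [(nat_lit 2352), (nat_lit 7175), (nat_lit 7174), (nat_lit 7175), (nat_lit 2352)]))) (.node (.leaf (.cyc (nat_lit 15) [(nat_lit 460), (nat_lit 459), (nat_lit 911)])) (.leaf .df))) (.node (.node (.leaf .df) (.leaf .df)) (.node (.leaf (.cyc (nat_lit 117) [(nat_lit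 1438), (nat_lit 5352), (nat_lit 6365), (nat_lit 5352), (nat_lit 1438)])) (.leaf .df)))) (.node (.node (.node (.leaf .df) (.leaf (.cyc (nat_lit 50) [(nat_lit 2620), (nat_lit 8027), (nat_lit 8006), (nat_lit 8027), (nat_lit 2620)]))) (.node (.leaf (.cyc (nat_lit 27) [(nat_lit 722), (nat_lit 721), (nat_lit 1355)])) (.leaf .df))) (.node (.node (.leaf (.cyc (nat_lit 16) [(nat_lit 347), (nat_lit 346), (nat_lit 3294), (nat_lit 346), (nat_lit 347)])) (.leaf .df)) (.node (.leaf (.cyc (nat_lit 18) [(nat_lit 7289), (nat_lit 7286), (nat_lit 7155), (nat_lit 5784), (nat_lit 2068)])) (.leaf .df))))) (.node (.node (.node (.node (.leaf .df) (.leaf (.cyc (nat_lit 28) [(nat_lit 8222), (nat_lit 6796), (nat_lit 6846), (nat_lit 1893), (nat_lit 2486)]))) (.node (.leaf (.cyc (nat_lit 41) [(nat_lit 1037), (nat_lit 4108), (nat_lit 1130)])) (.leaf .df))) (.node (.node (.leaf (.pin (nat_lit 34) [(nat_lit 7), (nat_lit 25)] [(nat_lit 25), (nat_lit 7)])) (.leaf .df)) (.node (.leaf (.cyc (nat_lit 16) [(nat_lit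 1907), (nat_lit 1906), (nat_lit 6876), (nat_lit 1906), (nat_lit 1907)])) (.leaf .df)))) (.node (.node (.node (.leaf .df) (.leaf (.cyc (nat_lit 16) [(nat_lit 2736), (nat_lit 9492), (nat_lit 9403), (nat_lit 9492), (nat_lit 2736)]))) (.node (.leaf (.cyc (nat_lit 45) [(nat_lit 1554), (nat_lit 5846), (nat_lit 5845), (nat_lit 5846), (nat_lit 1554)])) (.leaf .df))) (.node (.node (.leaf (.cyc (nat_lit 35) [(nat_lit 313), (nat_lit 132), (nat_lit 2940), (nat_lit 296), (nat_lit 638)])) (.leaf .df)) (.node (.leaf (.cyc (nat_lit 45) [(nat_lit 7877), (nat_lit 6850), (nat_lit 5533), (nat_lit 1450), (nat_lit 2211)])) (.leaf .df)))))) (.node (.node (.node (.node (.node (.leaf .df) (.leaf (.cyc (nat_lit 49) [(nat_lit 7188), (nat_lit 2130), (nat_lit 8670)]))) (.node (.leaf (.cyc (nat_lit 88) [(nat_lit 1018), (nat_lit 1020), (nat_lit 4574), (nat_lit 1020), (nat_lit 1018)])) (.leaf .df))) (.node (.node (.leaf .df) (.leaf .df)) (.node (.leaf (.cyc (nat_lit 21) [(nat_lit 1814), (nat_lit 5918), (nat_lit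 5921), (nat_lit 5918), (nat_lit 1814)])) (.leaf .df)))) (.node (.node (.node (.leaf .df) (.leaf (.cyc (nat_lit 38) [(nat_lit 9595), (nat_lit 2656), (nat_lit 2349), (nat_lit 7173), (nat_lit 7171), (nat_lit 6381), (nat_lit 4726), (nat_lit 1845), (nat_lit 2452), (nat_lit 9276), (nat_lit 2679)]))) (.node (.leaf (.cyc (nat_lit 27) [(nat_lit 1477), (nat_lit 4104), (nat_lit 1477)])) (.leaf .df))) (.node (.node (.leaf (.cyc (nat_lit 19) [(nat_lit 3515), (nat_lit 473), (nat_lit 3098), (nat_lit 225), (nat_lit 496)])) (.leaf .df)) (.node (.leaf (.cyc (nat_lit 20) [(nat_lit 1374), (nat_lit 1372), (nat_lit 2142)])) (.leaf .df))))) (.node (.node (.node (.node (.leaf .df) (.leaf (.cyc (nat_lit 20) [(nat_lit 8292), (nat_lit 8290), (nat_lit 2553)]))) (.node (.leaf (.cyc (nat_lit 61) [(nat_lit 1248), (nat_lit 662), (nat_lit 661), (nat_lit 3994), (nat_lit 3989), (nat_lit 3987), (nat_lit 3443), (nat_lit 3973), (nat_lit 650), (nat_lit 651), (nat_lit 1234)])) (.leaf .df))) (.node (.node (.leaf (.cyc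 (nat_lit 62) [(nat_lit 74), (nat_lit 24), (nat_lit 22), (nat_lit 72), (nat_lit 3037)])) (.leaf .df)) (.node (.leaf (.cyc (nat_lit 31) [(nat_lit 6720), (nat_lit 6288), (nat_lit 6527), (nat_lit 6528), (nat_lit 1981)])) (.leaf .df)))) (.node (.node (.node (.leaf .df) (.leaf .df)) (.node (.leaf (.cyc (nat_lit 49) [(nat_lit 5875), (nat_lit 5048), (nat_lit 1640)])) (.leaf .df))) (.node (.node (.leaf (.cyc (nat_lit 114) [(nat_lit 414), (nat_lit 4053)])) (.leaf .df)) (.node (.leaf (.cyc (nat_lit 46) [(nat_lit 2287), (nat_lit 5901), (nat_lit 2287)])) (.leaf .df))))))))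
noncomputable def u5P111110 : BT Pf := .node u5P1111100 u5P1111101
noncomputable def u5P1111110 : BT Pf := (.node (.node (.node (.node (.node (.node (.node (.leaf .df) (.leaf (.cyc (nat_lit 6) [(nat_lit 2002), (nat_lit 1219), (nat_lit 1217), (nat_lit 6060), (nat_lit 2313)]))) (.node (.leaf (.cyc (nat_lit 30) [(nat_lit 826), (nat_lit 406), (nat_lit 3024), (nat_lit 406), (nat_lit 826)])) (.leaf .df))) (.node (.node (.leaf .df) (.leaf .df)) (.node (.leaf (.cyc (nat_lit 46) [(nat_lit 6206), (nat_lit 5728), (nat_lit 6206)])) (.leaf .df)))) (.node (.node (.node (.leaf .df) (.leaf (.cyc (nat_lit 20) [(nat_lit 2577), (nat_lit 7585), (nat_lit 2577)]))) (.node (.leaf (.cyc (nat_lit 49) [(nat_lit 706), (nat_lit 3882), (nat_lit 1300)])) (.leaf .df))) (.node (.node (.leaf (.cyc (nat_lit 6) [(nat_lit 3069), (nat_lit 3119), (nat_lit 226), (nat_lit 2997), (nat_lit 234)])) (.leaf .df)) (.node (.leaf (.cyc (nat_lit 48) [(nat_lit 2014), (nat_lit 5047), (nat_lit 2014)])) (.leaf .df))))) (.node (.node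 (.node (.node (.leaf .df) (.leaf (.cyc (nat_lit 34) [(nat_lit 1898), (nat_lit 4826), (nat_lit 6727), (nat_lit 6730), (nat_lit 2444)]))) (.node (.leaf (.cyc (nat_lit 67) [(nat_lit 4670), (nat_lit 4667), (nat_lit 576), (nat_lit 3186), (nat_lit 3188), (nat_lit 231), (nat_lit 2898), (nat_lit 2893), (nat_lit 203), (nat_lit 454), (nat_lit 898), (nat_lit 4538)])) (.leaf .df))) (.node (.node (.leaf .df) (.leaf .df)) (.node (.leaf (.cyc (nat_lit 43) [(nat_lit 1686), (nat_lit 1688), (nat_lit 6718), (nat_lit 6469), (nat_lit 1849)])) (.leaf .df)))) (.node (.node (.node (.leaf .df) (.leaf (.cyc (nat_lit 35) [(nat_lit 2701), (nat_lit 9259), (nat_lit 9260), (nat_lit 9259), (nat_lit 2701)]))) (.node (.leaf (.cyc (nat_lit 56) [(nat_lit 1035), (nat_lit 4136), (nat_lit 808), (nat_lit 809), (nat_lit 1504)])) (.leaf .df))) (.node (.node (.leaf (.cyc (nat_lit 114) [(nat_lit 475), (nat_lit 3646), (nat_lit 259)])) (.leaf .df)) (.node (.leaf (.cyc (nat_lit 31) [(nat_lit 2167), (nat_lit 5435), (nat_lit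 3952), (nat_lit 5435), (nat_lit 2167)])) (.leaf .df)))))) (.node (.node (.node (.node (.node (.leaf .df) (.leaf (.cyc (nat_lit 20) [(nat_lit 2377), (nat_lit 6371), (nat_lit 2377)]))) (.node (.leaf (.cyc (nat_lit 52) [(nat_lit 3689), (nat_lit 4413), (nat_lit 4414), (nat_lit 4413), (nat_lit 3689)])) (.leaf .df))) (.node (.node (.leaf .df) (.leaf .df)) (.node (.leaf (.cyc (nat_lit 24) [(nat_lit 6369), (nat_lit 5621), (nat_lit 5056), (nat_lit 6459), (nat_lit 6461)])) (.leaf .df)))) (.node (.node (.node (.leaf .df) (.leaf (.cyc (nat_lit 49) [(nat_lit 2563), (nat_lit 2565), (nat_lit 9534)]))) (.node (.leaf (.cyc (nat_lit 44) [(nat_lit 1405), (nat_lit 744), (nat_lit 3298), (nat_lit 744), (nat_lit 1405)])) (.leaf .df))) (.node (.node (.leaf (.cyc (nat_lit 15) [(nat_lit 184), (nat_lit 183), (nat_lit 424)])) (.leaf .df)) (.node (.leaf (.cyc (nat_lit 20) [(nat_lit 2100), (nat_lit 6490), (nat_lit 2100)])) (.leaf .df))))) (.node (.node (.node (.node (.leaf .df) (.leaf (.cyc (nat_lit 24) [(nat_lit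 2511), (nat_lit 1961), (nat_lit 4947), (nat_lit 1961), (nat_lit 2511)]))) (.node (.leaf (.cyc (nat_lit 47) [(nat_lit 1173), (nat_lit 4922), (nat_lit 4924), (nat_lit 4922), (nat_lit 1173)])) (.leaf .df))) (.node (.node (.leaf (.cyc (nat_lit 27) [(nat_lit 29), (nat_lit 28), (nat_lit 79)])) (.leaf .df)) (.node (.leaf (.cyc (nat_lit 163) [(nat_lit 6364), (nat_lit 6974), (nat_lit 6973), (nat_lit 1936), (nat_lit 6959), (nat_lit 6958), (nat_lit 6956), (nat_lit 6118), (nat_lit 5785), (nat_lit 1202), (nat_lit 1204)])) (.leaf .df)))) (.node (.node (.node (.leaf .df) (.leaf .df)) (.node (.leaf (.cyc (nat_lit 6) [(nat_lit 1588), (nat_lit 5926), (nat_lit 5925), (nat_lit 5926), (nat_lit 1588)])) (.leaf .df))) (.node (.node (.leaf (.cyc (nat_lit 49) [(nat_lit 652), (nat_lit 3264), (nat_lit 712)])) (.leaf .df)) (.node (.leaf (.cyc (nat_lit 27) [(nat_lit 5720), (nat_lit 5613), (nat_lit 2239)])) (.leaf .df))))))) (.node (.node (.node (.node (.node (.node (.leaf .df) (.leaf (.cyc (nat_lit 15) [(nat_lit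 1998), (nat_lit 6169), (nat_lit 2345)]))) (.node (.leaf (.cyc (nat_lit 25) [(nat_lit 508), (nat_lit 3126), (nat_lit 453), (nat_lit 895), (nat_lit 4286)])) (.leaf .df))) (.node (.node (.leaf .df) (.leaf .df)) (.node (.leaf (.cyc (nat_lit 46) [(nat_lit 5002), (nat_lit 4692), (nat_lit 1723)])) (.leaf .df)))) (.node (.node (.node (.leaf .df) (.leaf (.cyc (nat_lit 23) [(nat_lit 2562), (nat_lit 2561), (nat_lit 9406)]))) (.node (.leaf (.cyc (nat_lit 81) [(nat_lit 1343), (nat_lit 4407), (nat_lit 5197), (nat_lit 5193), (nat_lit 1303), (nat_lit 4222), (nat_lit 436), (nat_lit 3075), (nat_lit 450), (nat_lit 889), (nat_lit 4455)])) (.leaf .df))) (.node (.node (.leaf (.cyc (nat_lit 6) [(nat_lit 141), (nat_lit 58), (nat_lit 57), (nat_lit 139), (nat_lit 333)])) (.leaf .df)) (.node (.leaf (.cyc (nat_lit 81) [(nat_lit 7358), (nat_lit 7357), (nat_lit 2055), (nat_lit 7192), (nat_lit 7193), (nat_lit 5787), (nat_lit 2036), (nat_lit 7314), (nat_lit 7320), (nat_lit 7321), (nat_lit 2041), (nat_lit 2040)]))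 (.leaf .df))))) (.node (.node (.node (.node (.leaf .df) (.leaf (.cyc (nat_lit 19) [(nat_lit 2478), (nat_lit 6786), (nat_lit 5325), (nat_lit 6786), (nat_lit 2478)]))) (.node (.leaf (.cyc (nat_lit 37) [(nat_lit 1114), (nat_lit 1112), (nat_lit 4790), (nat_lit 1112), (nat_lit 1114)])) (.leaf .df))) (.node (.node (.leaf (.pin (nat_lit 2) [] [])) (.leaf .df)) (.node (.leaf (.cyc (nat_lit 24) [(nat_lit 1898), (nat_lit 4825), (nat_lit 4363), (nat_lit 4825), (nat_lit 1898)])) (.leaf .df)))) (.node (.node (.node (.leaf .df) (.leaf (.cyc (nat_lit 27) [(nat_lit 2730), (nat_lit 9401), (nat_lit 2730)]))) (.node (.leaf (.cyc (nat_lit 15) [(nat_lit 834), (nat_lit 833), (nat_lit 1544)])) (.leaf .df))) (.node (.node (.leaf (.cyc (nat_lit 54) [(nat_lit 3223), (nat_lit 3713), (nat_lit 3711), (nat_lit 290), (nat_lit 289), (nat_lit 621), (nat_lit 3774), (nat_lit 447), (nat_lit 3069), (nat_lit 248), (nat_lit 534)])) (.leaf .df)) (.node (.leaf (.cyc (nat_lit 30) [(nat_lit 2203), (nat_lit 6273), (nat_lit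 6271), (nat_lit 6273), (nat_lit 2203)])) (.leaf .df)))))) (.node (.node (.node (.node (.node (.leaf .df) (.leaf (.cyc (nat_lit 18) [(nat_lit 2411), (nat_lit 1781), (nat_lit 4590), (nat_lit 1781), (nat_lit 2411)]))) (.node (.leaf (.cyc (nat_lit 17) [(nat_lit 3889), (nat_lit 3600), (nat_lit 517), (nat_lit 237), (nat_lit 2904), (nat_lit 239), (nat_lit 3152), (nat_lit 247), (nat_lit 3147), (nat_lit 524), (nat_lit 1006)])) (.leaf .df))) (.node (.node (.leaf .df) (.leaf .df)) (.node (.leaf (.cyc (nat_lit 52) [(nat_lit 4691), (nat_lit 1067), (nat_lit 6590), (nat_lit 5143), (nat_lit 1430)])) (.leaf .df)))) (.node (.node (.node (.leaf .df) (.leaf (.cyc (nat_lit 25) [(nat_lit 2672), (nat_lit 2671), (nat_lit 9660), (nat_lit 2671), (nat_lit 2672)]))) (.node (.leaf (.cyc (nat_lit 45) [(nat_lit 1463), (nat_lit 786), (nat_lit 3347), (nat_lit 786), (nat_lit 1463)])) (.leaf .df))) (.node (.node (.leaf (.cyc (nat_lit 20) [(nat_lit 215), (nat_lit 214), (nat_lit 477)])) (.leaf .df)) (.node (.leaf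 (.cyc (nat_lit 46) [(nat_lit 7341), (nat_lit 7343), (nat_lit 2131)])) (.leaf .df))))) (.node (.node (.node (.node (.leaf .df) (.leaf (.cyc (nat_lit 123) [(nat_lit 7481), (nat_lit 7480), (nat_lit 6808), (nat_lit 6809), (nat_lit 1632), (nat_lit 900), (nat_lit 454), (nat_lit 3104), (nat_lit 406), (nat_lit 826), (nat_lit 4161), (nat_lit 969), (nat_lit 4638), (nat_lit 6373), (nat_lit 7354), (nat_lit 7353), (nat_lit 2544)]))) (.node (.leaf (.cyc (nat_lit 30) [(nat_lit 711), (nat_lit 710), (nat_lit 5052), (nat_lit 1238), (nat_lit 1239)])) (.leaf .df))) (.node (.node (.leaf (.cyc (nat_lit 63) [(nat_lit 168), (nat_lit 67), (nat_lit 2777), (nat_lit 67), (nat_lit 168)])) (.leaf .df)) (.node (.leaf (.cyc (nat_lit 37) [(nat_lit 6245), (nat_lit 5288), (nat_lit 5287), (nat_lit 4961), (nat_lit 1974)])) (.leaf .df)))) (.node (.node (.node (.leaf .df) (.leaf .df)) (.node (.leaf (.cyc (nat_lit 55) [(nat_lit 1627), (nat_lit 1628), (nat_lit 6078), (nat_lit 1628), (nat_lit 1627)])) (.leaf .df))) (.node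 (.node (.leaf (.cyc (nat_lit 98) [(nat_lit 3631), (nat_lit 785), (nat_lit 4030), (nat_lit 660), (nat_lit 3644)])) (.leaf .df)) (.node (.leaf (.cyc (nat_lit 41) [(nat_lit 2279), (nat_lit 5844), (nat_lit 2279)])) (.leaf .df))))))))
noncomputable def u5P1111111 : BT Pf := (.node (.node (.node (.node (.node (.node (.node (.leaf .df) (.leaf (.cyc (nat_lit 25) [(nat_lit 2330), (nat_lit 8276), (nat_lit 8285), (nat_lit 8276), (nat_lit 2330)]))) (.node (.leaf (.cyc (nat_lit 114) [(nat_lit 4221), (nat_lit 4220), (nat_lit 4221)])) (.leaf .df))) (.node (.node (.leaf .df) (.leaf .df)) (.node (.leaf (.cyc (nat_lit 46) [(nat_lit 1699), (nat_lit 4434), (nat_lit 1699)])) (.leaf .df)))) (.node (.node (.node (.leaf .df) (.leaf (.cyc (nat_lit 27) [(nat_lit 2596), (nat_lit 7774), (nat_lit 2596)]))) (.node (.leaf (.cyc (nat_lit 27) [(nat_lit 704), (nat_lit 703), (nat_lit 1324)])) (.leaf .df))) (.node (.node (.leaf (.cyc (nat_lit 23) [(nat_lit 3195), (nat_lit 280), (nat_lit 3198)])) (.leaf .df)) (.node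 (.leaf (.cyc (nat_lit 50) [(nat_lit 5821), (nat_lit 5020), (nat_lit 4087), (nat_lit 1256), (nat_lit 2031)])) (.leaf .df))))) (.node (.node (.node (.node (.leaf .df) (.leaf (.cyc (nat_lit 20) [(nat_lit 2463), (nat_lit 6752), (nat_lit 2463)]))) (.node (.leaf (.cyc (nat_lit 3) [(nat_lit 4734), (nat_lit 983), (nat_lit 985)])) (.leaf .df))) (.node (.node (.leaf .df) (.leaf .df)) (.node (.leaf (.cyc (nat_lit 35) [(nat_lit 1874), (nat_lit 5656), (nat_lit 5658), (nat_lit 5656), (nat_lit 1874)])) (.leaf .df)))) (.node (.node (.node (.leaf .df) (.leaf (.cyc (nat_lit 3) [(nat_lit 9854), (nat_lit 9810), (nat_lit 9777)]))) (.node (.leaf (.cyc (nat_lit 94) [(nat_lit 1524), (nat_lit 1525), (nat_lit 5758), (nat_lit 1525), (nat_lit 1524)])) (.leaf .df))) (.node (.node (.leaf (.cyc (nat_lit 27) [(nat_lit 3475), (nat_lit 3473), (nat_lit 574)])) (.leaf .df)) (.node (.leaf (.cyc (nat_lit 46) [(nat_lit 1430), (nat_lit 5484), (nat_lit 2187)])) (.leaf .df)))))) (.node (.node (.node (.node (.node (.leaf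 .df) (.leaf (.cyc (nat_lit 118) [(nat_lit 8162), (nat_lit 2052), (nat_lit 6552), (nat_lit 6553), (nat_lit 5010), (nat_lit 4988), (nat_lit 1803), (nat_lit 6596), (nat_lit 6593), (nat_lit 5859), (nat_lit 5716), (nat_lit 5714), (nat_lit 7586), (nat_lit 7593), (nat_lit 8230), (nat_lit 8231), (nat_lit 2394)]))) (.node (.leaf (.cyc (nat_lit 23) [(nat_lit 503), (nat_lit 502), (nat_lit 976)])) (.leaf .df))) (.node (.node (.leaf .df) (.leaf .df)) (.node (.leaf (.cyc (nat_lit 21) [(nat_lit 5418), (nat_lit 1396), (nat_lit 6525), (nat_lit 1782), (nat_lit 1783)])) (.leaf .df)))) (.node (.node (.node (.leaf .df) (.leaf (.cyc (nat_lit 44) [(nat_lit 9190), (nat_lit 2312), (nat_lit 6200), (nat_lit 2351), (nat_lit 2657)]))) (.node (.leaf (.cyc (nat_lit 45) [(nat_lit 1430), (nat_lit 765), (nat_lit 3307), (nat_lit 765), (nat_lit 1430)])) (.leaf .df))) (.node (.node (.leaf (.cyc (nat_lit 101) [(nat_lit 364), (nat_lit 151), (nat_lit 3428), (nat_lit 151), (nat_lit 364)])) (.leaf .df)) (.node (.leaf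 (.cyc (nat_lit 16) [(nat_lit 2115), (nat_lit 1338), (nat_lit 3902), (nat_lit 1338), (nat_lit 2115)])) (.leaf .df))))) (.node (.node (.node (.node (.leaf .df) (.leaf (.cyc (nat_lit 78) [(nat_lit 2408), (nat_lit 6789), (nat_lit 6788), (nat_lit 1328), (nat_lit 5183), (nat_lit 5191), (nat_lit 2086), (nat_lit 7448), (nat_lit 7252), (nat_lit 2527), (nat_lit 9086)]))) (.node (.leaf (.cyc (nat_lit 16) [(nat_lit 4983), (nat_lit 1207), (nat_lit 3808), (nat_lit 641), (nat_lit 1212)])) (.leaf .df))) (.node (.node (.leaf (.cyc (nat_lit 27) [(nat_lit 129), (nat_lit 2858), (nat_lit 129)])) (.leaf .df)) (.node (.leaf (.cyc (nat_lit 64) [(nat_lit 6840), (nat_lit 1881), (nat_lit 1117), (nat_lit 589), (nat_lit 587), (nat_lit 4361), (nat_lit 4359), (nat_lit 1035), (nat_lit 4617), (nat_lit 1178), (nat_lit 1953), (nat_lit 7038)])) (.leaf .df)))) (.node (.node (.node (.leaf .df) (.leaf .df)) (.node (.leaf (.cyc (nat_lit 53) [(nat_lit 1608), (nat_lit 4908), (nat_lit 4910), (nat_lit 4908), (nat_lit 1608)]))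 (.leaf .df))) (.node (.node (.leaf (.cyc (nat_lit 23) [(nat_lit 355), (nat_lit 354), (nat_lit 754)])) (.leaf .df)) (.node (.leaf (.cyc (nat_lit 19) [(nat_lit 2260), (nat_lit 5726), (nat_lit 4149), (nat_lit 5726), (nat_lit 2260)])) (.leaf .df))))))) (.node (.node (.node (.node (.node (.node (.leaf .df) (.leaf (.cyc (nat_lit 37) [(nat_lit 2078), (nat_lit 6416), (nat_lit 6417), (nat_lit 6718), (nat_lit 2360)]))) (.node (.leaf (.cyc (nat_lit 12) [(nat_lit 4349), (nat_lit 634), (nat_lit 294), (nat_lit 293), (nat_lit 632)])) (.leaf .df))) (.node (.node (.leaf .df) (.leaf .df)) (.node (.leaf (.cyc (nat_lit 63) [(nat_lit 1743), (nat_lit 982), (nat_lit 3591), (nat_lit 982), (nat_lit 1743)])) (.leaf .df)))) (.node (.node (.node (.leaf .df) (.leaf (.cyc (nat_lit 23) [(nat_lit 9470), (nat_lit 2627), (nat_lit 2628)]))) (.node (.leaf (.cyc (nat_lit 24) [(nat_lit 1368), (nat_lit 1366), (nat_lit 5373), (nat_lit 1366), (nat_lit 1368)])) (.leaf .df))) (.node (.node (.leaf (.cyc (nat_lit 23) [(nat_lit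 156), (nat_lit 155), (nat_lit 376)])) (.leaf .df)) (.node (.leaf (.cyc (nat_lit 35) [(nat_lit 7317), (nat_lit 2044), (nat_lit 7328), (nat_lit 6421), (nat_lit 2079)])) (.leaf .df))))) (.node (.node (.node (.node (.leaf .df) (.leaf (.cyc (nat_lit 41) [(nat_lit 8957), (nat_lit 6972), (nat_lit 2494)]))) (.node (.leaf (.cyc (nat_lit 27) [(nat_lit 1147), (nat_lit 4508), (nat_lit 1147)])) (.leaf .df))) (.node (.node (.leaf (.cyc (nat_lit 23) [(nat_lit 5), (nat_lit 2755), (nat_lit 31)])) (.leaf .df)) (.node (.leaf (.cyc (nat_lit 48) [(nat_lit 1918), (nat_lit 4863), (nat_lit 1918)])) (.leaf .df)))) (.node (.node (.node (.leaf .df) (.leaf (.cyc (nat_lit 6) [(nat_lit 2742), (nat_lit 9777), (nat_lit 9676), (nat_lit 9777), (nat_lit 2742)]))) (.node (.leaf (.cyc (nat_lit 76) [(nat_lit 5886), (nat_lit 1366), (nat_lit 725), (nat_lit 724), (nat_lit 1362)])) (.leaf .df))) (.node (.node (.leaf (.cyc (nat_lit 43) [(nat_lit 655), (nat_lit 656), (nat_lit 3837), (nat_lit 656), (nat_lit 655)])) (.leaf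 .df)) (.node (.leaf (.cyc (nat_lit 62) [(nat_lit 2219), (nat_lit 5883), (nat_lit 5885), (nat_lit 5883), (nat_lit 2219)])) (.leaf .df)))))) (.node (.node (.node (.node (.node (.leaf .df) (.leaf (.cyc (nat_lit 30) [(nat_lit 2426), (nat_lit 8700), (nat_lit 8698), (nat_lit 8700), (nat_lit 2426)]))) (.node (.leaf (.cyc (nat_lit 34) [(nat_lit 851), (nat_lit 425), (nat_lit 3169), (nat_lit 542), (nat_lit 1034)])) (.leaf .df))) (.node (.node (.leaf .df) (.leaf .df)) (.node (.leaf (.cyc (nat_lit 48) [(nat_lit 5889), (nat_lit 5831), (nat_lit 1828)])) (.leaf .df)))) (.node (.node (.node (.leaf .df) (.leaf (.cyc (nat_lit 41) [(nat_lit 2686), (nat_lit 8883), (nat_lit 2686)]))) (.node (.leaf (.cyc (nat_lit 40) [(nat_lit 5630), (nat_lit 1091), (nat_lit 1089)])) (.leaf .df))) (.node (.node (.leaf (.cyc (nat_lit 37) [(nat_lit 375), (nat_lit 2967), (nat_lit 3079), (nat_lit 3126), (nat_lit 507)])) (.leaf .df)) (.node (.leaf (.cyc (nat_lit 47) [(nat_lit 7310), (nat_lit 5787), (nat_lit 5337), (nat_lit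 1382), (nat_lit 2151)])) (.leaf .df))))) (.node (.node (.node (.node (.leaf .df) (.leaf (.cyc (nat_lit 31) [(nat_lit 2563), (nat_lit 2096), (nat_lit 5236), (nat_lit 2096), (nat_lit 2563)]))) (.node (.leaf (.cyc (nat_lit 41) [(nat_lit 5106), (nat_lit 5105), (nat_lit 1267)])) (.leaf .df))) (.node (.node (.leaf (.cyc (nat_lit 20) [(nat_lit 113), (nat_lit 2880), (nat_lit 199)])) (.leaf .df)) (.node (.leaf (.cyc (nat_lit 41) [(nat_lit 1992), (nat_lit 4977), (nat_lit 1992)])) (.leaf .df)))) (.node (.node (.node (.leaf .df) (.leaf .df)) (.node (.leaf (.cyc (nat_lit 20) [(nat_lit 914), (nat_lit 4319), (nat_lit 1652)])) (.leaf .df))) (.node (.node (.leaf (.cyc (nat_lit 23) [(nat_lit 4094), (nat_lit 788), (nat_lit 789)])) (.leaf .df)) (.node (.leaf (.cyc (nat_lit 30) [(nat_lit 2295), (nat_lit 2294), (nat_lit 8188), (nat_lit 2294), (nat_lit 2295)])) (.leaf .df))))))))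
noncomputable def u5P111111 : BT Pf := .node u5P1111110 u5P1111111
noncomputable def u5P11111 : BT Pf := .node u5P111110 u5P111111
noncomputable def u5P1111 : BT Pf := .node u5P11110 u5P11111
noncomputable def u5P111 : BT Pf := .node u5P1110 u5P1111
noncomputable def u5P11 : BT Pf := .node u5P110 u5P111
noncomputable def u5P1 : BT Pf := .node u5P10 u5P11
noncomputable def u5P : BT Pf := .node u5P0 u5P1
noncomputable def u5R : BT (List ℕ × ℕ × List ℕ) := (.node (.node (.node (.node (.node (.node (.node (.node (.leaf ([(nat_lit 4), (nat_lit 3), (nat_lit 4), (nat_lit 3), (nat_lit 4), (nat_lit 3)], (nat_lit 16), [(nat_lit 3), (nat_lit 4), (nat_lit 3)])) (.leaf ([(nat_lit 1), (nat_lit 5), (nat_lit 4), (nat_lit 0), (nat_lit 4), (nat_lit 5), (nat_lit 1), (nat_lit 5), (nat_lit 4), (nat_lit 0), (nat_lit 4), (nat_lit 5)], (nat_lit 23), [(nat_lit 4), (nat_lit 5)]))) (.node (.leaf ([(nat_lit 3), (nat_lit 0), (nat_lit 3), (nat_lit 4), (nat_lit 2), (nat_lit 4), (nat_lit 3), (nat_lit 0), (nat_lit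 3), (nat_lit 4), (nat_lit 2), (nat_lit 4)], (nat_lit 25), [(nat_lit 3), (nat_lit 4), (nat_lit 2), (nat_lit 4)])) (.leaf ([], (nat_lit 1000000), [])))) (.node (.node (.leaf ([(nat_lit 4), (nat_lit 2), (nat_lit 4), (nat_lit 3), (nat_lit 0), (nat_lit 3), (nat_lit 4), (nat_lit 2), (nat_lit 4), (nat_lit 3), (nat_lit 0), (nat_lit 3)], (nat_lit 25), [(nat_lit 3), (nat_lit 4), (nat_lit 2), (nat_lit 4), (nat_lit 3), (nat_lit 0), (nat_lit 3)])) (.leaf ([(nat_lit 4), (nat_lit 5), (nat_lit 2), (nat_lit 5), (nat_lit 4), (nat_lit 3), (nat_lit 4), (nat_lit 5), (nat_lit 2), (nat_lit 5), (nat_lit 4), (nat_lit 3)], (nat_lit 29), [(nat_lit 5), (nat_lit 4), (nat_lit 3), (nat_lit 4), (nat_lit 5), (nat_lit 2), (nat_lit 5), (nat_lit 4), (nat_lit 3)]))) (.node (.leaf ([(nat_lit 0), (nat_lit 1), (nat_lit 0), (nat_lit 1), (nat_lit 0), (nat_lit 1)], (nat_lit 0), [])) (.leaf ([], (nat_lit 1000000), []))))) (.node (.node (.node (.leaf ([(nat_lit 0), (nat_lit 2), (nat_lit 0), (nat_lit 2), (nat_lit 0), (nat_lit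 2)], (nat_lit 1), [(nat_lit 0), (nat_lit 2)])) (.leaf ([(nat_lit 5), (nat_lit 4), (nat_lit 0), (nat_lit 4), (nat_lit 5), (nat_lit 1), (nat_lit 5), (nat_lit 4), (nat_lit 0), (nat_lit 4), (nat_lit 5), (nat_lit 1)], (nat_lit 23), [(nat_lit 4), (nat_lit 5), (nat_lit 1)]))) (.node (.leaf ([(nat_lit 0), (nat_lit 4), (nat_lit 0), (nat_lit 4), (nat_lit 0), (nat_lit 4)], (nat_lit 3), [(nat_lit 0), (nat_lit 4), (nat_lit 0), (nat_lit 4)])) (.leaf ([], (nat_lit 1000000), [])))) (.node (.node (.leaf ([(nat_lit 2), (nat_lit 1), (nat_lit 2), (nat_lit 1)], (nat_lit 6), [(nat_lit 2), (nat_lit 1)])) (.leaf ([], (nat_lit 1000000), []))) (.node (.leaf ([(nat_lit 0), (nat_lit 0)], (nat_lit 1000000), [])) (.leaf ([], (nat_lit 1000000), [])))))) (.node (.node (.node (.node (.leaf ([(nat_lit 5), (nat_lit 4), (nat_lit 5), (nat_lit 4), (nat_lit 5), (nat_lit 4)], (nat_lit 18), [(nat_lit 4), (nat_lit 5), (nat_lit 4), (nat_lit 5), (nat_lit 4)])) (.leaf ([(nat_lit 1), (nat_lit 5), (nat_lit 2), (nat_lit 0),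 (nat_lit 2), (nat_lit 5), (nat_lit 1), (nat_lit 5), (nat_lit 2), (nat_lit 0), (nat_lit 2), (nat_lit 5)], (nat_lit 21), [(nat_lit 2), (nat_lit 5), (nat_lit 1), (nat_lit 5), (nat_lit 2), (nat_lit 0), (nat_lit 2), (nat_lit 5)]))) (.node (.leaf ([(nat_lit 1), (nat_lit 1)], (nat_lit 1000000), [])) (.leaf ([], (nat_lit 1000000), [])))) (.node (.node (.leaf ([(nat_lit 4), (nat_lit 1), (nat_lit 4), (nat_lit 1)], (nat_lit 9), [])) (.leaf ([], (nat_lit 1000000), []))) (.node (.leaf ([(nat_lit 1), (nat_lit 0), (nat_lit 1), (nat_lit 0), (nat_lit 1), (nat_lit 0)], (nat_lit 0), [(nat_lit 0), (nat_lit 1), (nat_lit 0)])) (.leaf ([], (nat_lit 1000000), []))))) (.node (.node (.node (.leaf ([(nat_lit 1), (nat_lit 5), (nat_lit 1), (nat_lit 5), (nat_lit 1), (nat_lit 5)], (nat_lit 11), [(nat_lit 1), (nat_lit 5)])) (.leaf ([(nat_lit 3), (nat_lit 1), (nat_lit 3), (nat_lit 4), (nat_lit 0), (nat_lit 4), (nat_lit 3), (nat_lit 1), (nat_lit 3), (nat_lit 4), (nat_lit 0), (nat_lit 4), (nat_lit 3), (nat_lit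 1), (nat_lit 3), (nat_lit 4), (nat_lit 0), (nat_lit 4)], (nat_lit 20), [(nat_lit 3), (nat_lit 4), (nat_lit 0), (nat_lit 4)]))) (.node (.leaf ([(nat_lit 4), (nat_lit 2), (nat_lit 4), (nat_lit 2), (nat_lit 4), (nat_lit 2)], (nat_lit 14), [(nat_lit 2), (nat_lit 4), (nat_lit 2)])) (.leaf ([], (nat_lit 1000000), [])))) (.node (.node (.leaf ([(nat_lit 1), (nat_lit 0), (nat_lit 1), (nat_lit 0), (nat_lit 1), (nat_lit 0)], (nat_lit 0), [(nat_lit 0)])) (.leaf ([], (nat_lit 1000000), []))) (.node (.leaf ([(nat_lit 3), (nat_lit 0), (nat_lit 3), (nat_lit 1), (nat_lit 3), (nat_lit 0), (nat_lit 3), (nat_lit 1), (nat_lit 3), (nat_lit 0), (nat_lit 3), (nat_lit 1)], (nat_lit 19), [(nat_lit 3), (nat_lit 0), (nat_lit 3), (nat_lit 1)])) (.leaf ([], (nat_lit 1000000), []))))))) (.node (.node (.node (.node (.node (.leaf ([(nat_lit 3), (nat_lit 5), (nat_lit 3), (nat_lit 5), (nat_lit 3), (nat_lit 5)], (nat_lit 17), [])) (.leaf ([(nat_lit 3), (nat_lit 4), (nat_lit 0), (nat_lit 4), (nat_lit 3), (nat_lit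 1), (nat_lit 3), (nat_lit 4), (nat_lit 0), (nat_lit 4), (nat_lit 3), (nat_lit 1), (nat_lit 3), (nat_lit 4), (nat_lit 0), (nat_lit 4), (nat_lit 3), (nat_lit 1)], (nat_lit 20), [(nat_lit 3), (nat_lit 4), (nat_lit 0), (nat_lit 4), (nat_lit 3), (nat_lit 1)]))) (.node (.leaf ([(nat_lit 2), (nat_lit 0), (nat_lit 2), (nat_lit 0), (nat_lit 2), (nat_lit 0)], (nat_lit 1), [(nat_lit 0), (nat_lit 2), (nat_lit 0), (nat_lit 2), (nat_lit 0)])) (.leaf ([], (nat_lit 1000000), [])))) (.node (.node (.leaf ([(nat_lit 3), (nat_lit 4), (nat_lit 2), (nat_lit 4), (nat_lit 3), (nat_lit 0), (nat_lit 3), (nat_lit 4), (nat_lit 2), (nat_lit 4), (nat_lit 3), (nat_lit 0)], (nat_lit 25), [(nat_lit 3), (nat_lit 4), (nat_lit 2), (nat_lit 4), (nat_lit 3), (nat_lit 0)])) (.leaf ([(nat_lit 4), (nat_lit 0), (nat_lit 4), (nat_lit 3), (nat_lit 1), (nat_lit 3), (nat_lit 4), (nat_lit 0), (nat_lit 4), (nat_lit 3), (nat_lit 1), (nat_lit 3), (nat_lit 4), (nat_lit 0), (nat_lit 4), (nat_lit 3), (nat_lit 1), (nat_lit 3)], (nat_lit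 20), [(nat_lit 3)]))) (.node (.leaf ([(nat_lit 5), (nat_lit 1), (nat_lit 5), (nat_lit 1), (nat_lit 5), (nat_lit 1)], (nat_lit 11), [(nat_lit 1), (nat_lit 5), (nat_lit 1), (nat_lit 5), (nat_lit 1)])) (.leaf ([], (nat_lit 1000000), []))))) (.node (.node (.node (.leaf ([(nat_lit 1), (nat_lit 4), (nat_lit 1), (nat_lit 4)], (nat_lit 9), [(nat_lit 4)])) (.leaf ([(nat_lit 0), (nat_lit 4), (nat_lit 3), (nat_lit 1), (nat_lit 3), (nat_lit 4), (nat_lit 0), (nat_lit 4), (nat_lit 3), (nat_lit 1), (nat_lit 3), (nat_lit 4), (nat_lit 0), (nat_lit 4), (nat_lit 3), (nat_lit 1), (nat_lit 3), (nat_lit 4)], (nat_lit 20), [(nat_lit 3), (nat_lit 4), (nat_lit 0), (nat_lit 4), (nat_lit 3), (nat_lit 1), (nat_lit 3), (nat_lit 4)]))) (.node (.leaf ([(nat_lit 1), (nat_lit 0), (nat_lit 1), (nat_lit 0), (nat_lit 1), (nat_lit 0)], (nat_lit 0), [(nat_lit 0), (nat_lit 1), (nat_lit 0), (nat_lit 1), (nat_lit 0)])) (.leaf ([], (nat_lit 1000000), [])))) (.node (.node (.leaf ([(nat_lit 5), (nat_lit 1), (nat_lit 5),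 (nat_lit 1), (nat_lit 5), (nat_lit 1)], (nat_lit 11), [(nat_lit 1), (nat_lit 5), (nat_lit 1)])) (.leaf ([], (nat_lit 1000000), []))) (.node (.leaf ([(nat_lit 2), (nat_lit 5), (nat_lit 2), (nat_lit 5), (nat_lit 2), (nat_lit 5)], (nat_lit 15), [(nat_lit 2), (nat_lit 5), (nat_lit 2), (nat_lit 5)])) (.leaf ([], (nat_lit 1000000), [])))))) (.node (.node (.node (.node (.leaf ([(nat_lit 2), (nat_lit 5), (nat_lit 2), (nat_lit 5), (nat_lit 2), (nat_lit 5)], (nat_lit 15), [])) (.leaf ([(nat_lit 3), (nat_lit 1), (nat_lit 3), (nat_lit 1), (nat_lit 3), (nat_lit 1)], (nat_lit 8), [(nat_lit 1), (nat_lit 3), (nat_lit 1), (nat_lit 3), (nat_lit 1)]))) (.node (.leaf ([(nat_lit 1), (nat_lit 3), (nat_lit 1), (nat_lit 3), (nat_lit 1), (nat_lit 3)], (nat_lit 8), [])) (.leaf ([], (nat_lit 1000000), [])))) (.node (.node (.leaf ([(nat_lit 4), (nat_lit 2), (nat_lit 4), (nat_lit 2), (nat_lit 4), (nat_lit 2)], (nat_lit 14), [(nat_lit 2)])) (.leaf ([], (nat_lit 1000000), []))) (.node (.leaf ([(nat_lit 4),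 (nat_lit 3), (nat_lit 4), (nat_lit 5), (nat_lit 2), (nat_lit 5), (nat_lit 4), (nat_lit 3), (nat_lit 4), (nat_lit 5), (nat_lit 2), (nat_lit 5)], (nat_lit 29), [(nat_lit 5)])) (.leaf ([], (nat_lit 1000000), []))))) (.node (.node (.node (.leaf ([(nat_lit 5), (nat_lit 3), (nat_lit 5), (nat_lit 3), (nat_lit 5), (nat_lit 3)], (nat_lit 17), [(nat_lit 3)])) (.leaf ([(nat_lit 4), (nat_lit 0), (nat_lit 4), (nat_lit 5), (nat_lit 1), (nat_lit 5), (nat_lit 4), (nat_lit 0), (nat_lit 4), (nat_lit 5), (nat_lit 1), (nat_lit 5)], (nat_lit 23), [(nat_lit 4), (nat_lit 5), (nat_lit 1), (nat_lit 5)]))) (.node (.leaf ([(nat_lit 0), (nat_lit 2), (nat_lit 5), (nat_lit 1), (nat_lit 5), (nat_lit 2), (nat_lit 0), (nat_lit 2), (nat_lit 5), (nat_lit 1), (nat_lit 5), (nat_lit 2)], (nat_lit 21), [(nat_lit 2), (nat_lit 5), (nat_lit 1), (nat_lit 5), (nat_lit 2), (nat_lit 0), (nat_lit 2), (nat_lit 5), (nat_lit 1), (nat_lit 5), (nat_lit 2)])) (.leaf ([], (nat_lit 1000000), [])))) (.node (.node (.leaf ([(nat_lit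 4), (nat_lit 0), (nat_lit 4), (nat_lit 0), (nat_lit 4), (nat_lit 0)], (nat_lit 3), [(nat_lit 0), (nat_lit 4), (nat_lit 0)])) (.leaf ([], (nat_lit 1000000), []))) (.node (.leaf ([(nat_lit 0), (nat_lit 4), (nat_lit 0), (nat_lit 4), (nat_lit 0), (nat_lit 4)], (nat_lit 3), [])) (.leaf ([], (nat_lit 1000000), [])))))))) (.node (.node (.node (.node (.node (.node (.leaf ([(nat_lit 5), (nat_lit 3), (nat_lit 5), (nat_lit 3), (nat_lit 5), (nat_lit 3)], (nat_lit 17), [(nat_lit 3), (nat_lit 5), (nat_lit 3), (nat_lit 5), (nat_lit 3)])) (.leaf ([(nat_lit 3), (nat_lit 0), (nat_lit 3), (nat_lit 0), (nat_lit 3), (nat_lit 0)], (nat_lit 2), [(nat_lit 0), (nat_lit 3), (nat_lit 0), (nat_lit 3), (nat_lit 0)]))) (.node (.leaf ([(nat_lit 0), (nat_lit 2), (nat_lit 0), (nat_lit 2), (nat_lit 0), (nat_lit 2)], (nat_lit 1), [])) (.leaf ([], (nat_lit 1000000), [])))) (.node (.node (.leaf ([(nat_lit 3), (nat_lit 5), (nat_lit 3), (nat_lit 5), (nat_lit 3), (nat_lit 5)], (nat_lit 17), [(nat_lit 3), (nat_lit 5)]))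 (.leaf ([(nat_lit 2), (nat_lit 4), (nat_lit 3), (nat_lit 0), (nat_lit 3), (nat_lit 4), (nat_lit 2), (nat_lit 4), (nat_lit 3), (nat_lit 0), (nat_lit 3), (nat_lit 4)], (nat_lit 25), [(nat_lit 3), (nat_lit 4), (nat_lit 2), (nat_lit 4), (nat_lit 3), (nat_lit 0), (nat_lit 3), (nat_lit 4)]))) (.node (.leaf ([(nat_lit 3), (nat_lit 4), (nat_lit 3), (nat_lit 4), (nat_lit 3), (nat_lit 4)], (nat_lit 16), [(nat_lit 3), (nat_lit 4), (nat_lit 3), (nat_lit 4)])) (.leaf ([], (nat_lit 1000000), []))))) (.node (.node (.node (.leaf ([(nat_lit 0), (nat_lit 3), (nat_lit 0), (nat_lit 3), (nat_lit 0), (nat_lit 3)], (nat_lit 2), [(nat_lit 0), (nat_lit 3)])) (.leaf ([(nat_lit 0), (nat_lit 4), (nat_lit 5), (nat_lit 1), (nat_lit 5), (nat_lit 4), (nat_lit 0), (nat_lit 4), (nat_lit 5), (nat_lit 1), (nat_lit 5), (nat_lit 4)], (nat_lit 23), [(nat_lit 4), (nat_lit 5), (nat_lit 1), (nat_lit 5), (nat_lit 4)]))) (.node (.leaf ([(nat_lit 2), (nat_lit 5), (nat_lit 1), (nat_lit 5), (nat_lit 2), (nat_lit 0), (nat_lit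 2), (nat_lit 5), (nat_lit 1), (nat_lit 5), (nat_lit 2), (nat_lit 0)], (nat_lit 21), [])) (.leaf ([], (nat_lit 1000000), [])))) (.node (.node (.leaf ([(nat_lit 5), (nat_lit 1), (nat_lit 5), (nat_lit 1), (nat_lit 5), (nat_lit 1)], (nat_lit 11), [(nat_lit 1)])) (.leaf ([], (nat_lit 1000000), []))) (.node (.leaf ([(nat_lit 4), (nat_lit 4)], (nat_lit 1000000), [])) (.leaf ([], (nat_lit 1000000), [])))))) (.node (.node (.node (.node (.leaf ([(nat_lit 1), (nat_lit 2), (nat_lit 1), (nat_lit 2)], (nat_lit 6), [(nat_lit 2), (nat_lit 1), (nat_lit 2)])) (.leaf ([(nat_lit 0), (nat_lit 3), (nat_lit 5), (nat_lit 2), (nat_lit 5), (nat_lit 3), (nat_lit 0), (nat_lit 3), (nat_lit 5), (nat_lit 2), (nat_lit 5), (nat_lit 3)], (nat_lit 27), [(nat_lit 3), (nat_lit 5), (nat_lit 2), (nat_lit 5), (nat_lit 3)]))) (.node (.leaf ([(nat_lit 3), (nat_lit 3)], (nat_lit 1000000), [])) (.leaf ([], (nat_lit 1000000), [])))) (.node (.node (.leaf ([(nat_lit 2), (nat_lit 5), (nat_lit 3), (nat_lit 0), (nat_lit 3), (nat_lit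 5), (nat_lit 2), (nat_lit 5), (nat_lit 3), (nat_lit 0), (nat_lit 3), (nat_lit 5)], (nat_lit 27), [(nat_lit 3), (nat_lit 5)])) (.leaf ([], (nat_lit 1000000), []))) (.node (.leaf ([(nat_lit 2), (nat_lit 0), (nat_lit 2), (nat_lit 0), (nat_lit 2), (nat_lit 0)], (nat_lit 1), [(nat_lit 0), (nat_lit 2), (nat_lit 0)])) (.leaf ([], (nat_lit 1000000), []))))) (.node (.node (.node (.leaf ([(nat_lit 4), (nat_lit 5), (nat_lit 4), (nat_lit 5), (nat_lit 4), (nat_lit 5)], (nat_lit 18), [(nat_lit 4), (nat_lit 5)])) (.leaf ([(nat_lit 4), (nat_lit 3), (nat_lit 1), (nat_lit 3), (nat_lit 4), (nat_lit 0), (nat_lit 4), (nat_lit 3), (nat_lit 1), (nat_lit 3), (nat_lit 4), (nat_lit 0), (nat_lit 4), (nat_lit 3), (nat_lit 1), (nat_lit 3), (nat_lit 4), (nat_lit 0)], (nat_lit 20), [(nat_lit 3), (nat_lit 4), (nat_lit 0), (nat_lit 4), (nat_lit 3), (nat_lit 1), (nat_lit 3), (nat_lit 4), (nat_lit 0), (nat_lit 4), (nat_lit 3), (nat_lit 1), (nat_lit 3), (nat_lit 4), (nat_lit 0)]))) (.node (.leaf ([(nat_lit 3), (nat_lit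 5), (nat_lit 3), (nat_lit 5), (nat_lit 3), (nat_lit 5)], (nat_lit 17), [(nat_lit 3), (nat_lit 5), (nat_lit 3), (nat_lit 5)])) (.leaf ([], (nat_lit 1000000), [])))) (.node (.node (.leaf ([(nat_lit 3), (nat_lit 4), (nat_lit 5), (nat_lit 2), (nat_lit 5), (nat_lit 4), (nat_lit 3), (nat_lit 4), (nat_lit 5), (nat_lit 2), (nat_lit 5), (nat_lit 4)], (nat_lit 29), [(nat_lit 5), (nat_lit 4)])) (.leaf ([], (nat_lit 1000000), []))) (.node (.leaf ([(nat_lit 3), (nat_lit 4), (nat_lit 5), (nat_lit 2), (nat_lit 5), (nat_lit 4), (nat_lit 3), (nat_lit 4), (nat_lit 5), (nat_lit 2), (nat_lit 5), (nat_lit 4)], (nat_lit 29), [(nat_lit 5), (nat_lit 4), (nat_lit 3), (nat_lit 4), (nat_lit 5), (nat_lit 2), (nat_lit 5), (nat_lit 4)])) (.leaf ([], (nat_lit 1000000), []))))))) (.node (.node (.node (.node (.node (.leaf ([(nat_lit 5), (nat_lit 2), (nat_lit 5), (nat_lit 2), (nat_lit 5), (nat_lit 2)], (nat_lit 15), [(nat_lit 2)])) (.leaf ([(nat_lit 3), (nat_lit 0), (nat_lit 3), (nat_lit 1), (nat_lit 3), (nat_lit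 0), (nat_lit 3), (nat_lit 1), (nat_lit 3), (nat_lit 0), (nat_lit 3), (nat_lit 1)], (nat_lit 19), []))) (.node (.leaf ([(nat_lit 5), (nat_lit 2), (nat_lit 5), (nat_lit 3), (nat_lit 0), (nat_lit 3), (nat_lit 5), (nat_lit 2), (nat_lit 5), (nat_lit 3), (nat_lit 0), (nat_lit 3)], (nat_lit 27), [(nat_lit 3), (nat_lit 5), (nat_lit 2), (nat_lit 5), (nat_lit 3), (nat_lit 0), (nat_lit 3)])) (.leaf ([], (nat_lit 1000000), [])))) (.node (.node (.leaf ([(nat_lit 5), (nat_lit 4), (nat_lit 3), (nat_lit 4), (nat_lit 5), (nat_lit 2), (nat_lit 5), (nat_lit 4), (nat_lit 3), (nat_lit 4), (nat_lit 5), (nat_lit 2)], (nat_lit 29), [(nat_lit 5), (nat_lit 4), (nat_lit 3), (nat_lit 4), (nat_lit 5), (nat_lit 2)])) (.leaf ([(nat_lit 4), (nat_lit 3), (nat_lit 0), (nat_lit 3), (nat_lit 4), (nat_lit 2), (nat_lit 4), (nat_lit 3), (nat_lit 0), (nat_lit 3), (nat_lit 4), (nat_lit 2)], (nat_lit 25), [(nat_lit 3), (nat_lit 4), (nat_lit 2), (nat_lit 4), (nat_lit 3), (nat_lit 0), (nat_lit 3), (nat_lit 4), (nat_lit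 2)]))) (.node (.leaf ([(nat_lit 5), (nat_lit 3), (nat_lit 5), (nat_lit 3), (nat_lit 5), (nat_lit 3)], (nat_lit 17), [(nat_lit 3), (nat_lit 5), (nat_lit 3)])) (.leaf ([], (nat_lit 1000000), []))))) (.node (.node (.node (.leaf ([(nat_lit 5), (nat_lit 1), (nat_lit 5), (nat_lit 4), (nat_lit 0), (nat_lit 4), (nat_lit 5), (nat_lit 1), (nat_lit 5), (nat_lit 4), (nat_lit 0), (nat_lit 4)], (nat_lit 23), [(nat_lit 4)])) (.leaf ([(nat_lit 3), (nat_lit 0), (nat_lit 3), (nat_lit 1), (nat_lit 3), (nat_lit 0), (nat_lit 3), (nat_lit 1), (nat_lit 3), (nat_lit 0), (nat_lit 3), (nat_lit 1)], (nat_lit 19), [(nat_lit 3), (nat_lit 0), (nat_lit 3), (nat_lit 1), (nat_lit 3), (nat_lit 0), (nat_lit 3), (nat_lit 1)]))) (.node (.leaf ([(nat_lit 5), (nat_lit 0), (nat_lit 5), (nat_lit 0)], (nat_lit 4), [])) (.leaf ([], (nat_lit 1000000), [])))) (.node (.node (.leaf ([(nat_lit 0), (nat_lit 3), (nat_lit 4), (nat_lit 2), (nat_lit 4), (nat_lit 3), (nat_lit 0), (nat_lit 3), (nat_lit 4), (nat_lit 2), (nat_lit 4),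 (nat_lit 3)], (nat_lit 25), [(nat_lit 3), (nat_lit 4), (nat_lit 2), (nat_lit 4), (nat_lit 3), (nat_lit 0), (nat_lit 3), (nat_lit 4), (nat_lit 2), (nat_lit 4), (nat_lit 3)])) (.leaf ([], (nat_lit 1000000), []))) (.node (.leaf ([(nat_lit 0), (nat_lit 4), (nat_lit 3), (nat_lit 1), (nat_lit 3), (nat_lit 4), (nat_lit 0), (nat_lit 4), (nat_lit 3), (nat_lit 1), (nat_lit 3), (nat_lit 4), (nat_lit 0), (nat_lit 4), (nat_lit 3), (nat_lit 1), (nat_lit 3), (nat_lit 4)], (nat_lit 20), [(nat_lit 3), (nat_lit 4)])) (.leaf ([], (nat_lit 1000000), [])))))) (.node (.node (.node (.node (.leaf ([(nat_lit 3), (nat_lit 4), (nat_lit 3), (nat_lit 4), (nat_lit 3), (nat_lit 4)], (nat_lit 16), [])) (.leaf ([(nat_lit 3), (nat_lit 0), (nat_lit 3), (nat_lit 5), (nat_lit 2), (nat_lit 5), (nat_lit 3), (nat_lit 0), (nat_lit 3), (nat_lit 5), (nat_lit 2), (nat_lit 5)], (nat_lit 27), [(nat_lit 3), (nat_lit 5), (nat_lit 2), (nat_lit 5), (nat_lit 3), (nat_lit 0), (nat_lit 3), (nat_lit 5), (nat_lit 2), (nat_lit 5)])))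 (.node (.leaf ([(nat_lit 4), (nat_lit 3), (nat_lit 4), (nat_lit 5), (nat_lit 2), (nat_lit 5), (nat_lit 4), (nat_lit 3), (nat_lit 4), (nat_lit 5), (nat_lit 2), (nat_lit 5)], (nat_lit 29), [(nat_lit 5), (nat_lit 4), (nat_lit 3), (nat_lit 4), (nat_lit 5), (nat_lit 2), (nat_lit 5)])) (.leaf ([], (nat_lit 1000000), [])))) (.node (.node (.leaf ([(nat_lit 4), (nat_lit 1), (nat_lit 4), (nat_lit 1)], (nat_lit 9), [(nat_lit 4), (nat_lit 1)])) (.leaf ([], (nat_lit 1000000), []))) (.node (.leaf ([(nat_lit 3), (nat_lit 2), (nat_lit 3), (nat_lit 2)], (nat_lit 12), [])) (.leaf ([], (nat_lit 1000000), []))))) (.node (.node (.node (.leaf ([(nat_lit 3), (nat_lit 4), (nat_lit 3), (nat_lit 4), (nat_lit 3), (nat_lit 4)], (nat_lit 16), [(nat_lit 3), (nat_lit 4)])) (.leaf ([(nat_lit 3), (nat_lit 1), (nat_lit 3), (nat_lit 4), (nat_lit 0), (nat_lit 4), (nat_lit 3), (nat_lit 1), (nat_lit 3), (nat_lit 4), (nat_lit 0), (nat_lit 4), (nat_lit 3), (nat_lit 1), (nat_lit 3), (nat_lit 4), (nat_lit 0), (nat_lit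 4)], (nat_lit 20), [(nat_lit 3), (nat_lit 4), (nat_lit 0), (nat_lit 4), (nat_lit 3), (nat_lit 1), (nat_lit 3), (nat_lit 4), (nat_lit 0), (nat_lit 4)]))) (.node (.leaf ([(nat_lit 5), (nat_lit 4), (nat_lit 5), (nat_lit 4), (nat_lit 5), (nat_lit 4)], (nat_lit 18), [(nat_lit 4), (nat_lit 5), (nat_lit 4)])) (.leaf ([], (nat_lit 1000000), [])))) (.node (.node (.leaf ([(nat_lit 5), (nat_lit 4), (nat_lit 5), (nat_lit 4), (nat_lit 5), (nat_lit 4)], (nat_lit 18), [(nat_lit 4)])) (.leaf ([], (nat_lit 1000000), []))) (.node (.leaf ([(nat_lit 0), (nat_lit 3), (nat_lit 4), (nat_lit 2), (nat_lit 4), (nat_lit 3), (nat_lit 0), (nat_lit 3), (nat_lit 4), (nat_lit 2), (nat_lit 4), (nat_lit 3)], (nat_lit 25), [(nat_lit 3), (nat_lit 4), (nat_lit 2), (nat_lit 4), (nat_lit 3)])) (.leaf ([], (nat_lit 1000000), []))))))))) (.node (.node (.node (.node (.node (.node (.node (.leaf ([(nat_lit 2), (nat_lit 3), (nat_lit 2), (nat_lit 3)], (nat_lit 12), [(nat_lit 3), (nat_lit 2), (nat_lit 3)])) (.leaf ([(nat_lit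 0), (nat_lit 3), (nat_lit 5), (nat_lit 2), (nat_lit 5), (nat_lit 3), (nat_lit 0), (nat_lit 3), (nat_lit 5), (nat_lit 2), (nat_lit 5), (nat_lit 3)], (nat_lit 27), [(nat_lit 3), (nat_lit 5), (nat_lit 2), (nat_lit 5), (nat_lit 3), (nat_lit 0), (nat_lit 3), (nat_lit 5), (nat_lit 2), (nat_lit 5), (nat_lit 3)]))) (.node (.leaf ([(nat_lit 5), (nat_lit 2), (nat_lit 5), (nat_lit 4), (nat_lit 3), (nat_lit 4), (nat_lit 5), (nat_lit 2), (nat_lit 5), (nat_lit 4), (nat_lit 3), (nat_lit 4)], (nat_lit 29), [(nat_lit 5), (nat_lit 4), (nat_lit 3), (nat_lit 4)])) (.leaf ([], (nat_lit 1000000), [])))) (.node (.node (.leaf ([(nat_lit 2), (nat_lit 4), (nat_lit 2), (nat_lit 4), (nat_lit 2), (nat_lit 4)], (nat_lit 14), [])) (.leaf ([(nat_lit 5), (nat_lit 2), (nat_lit 5), (nat_lit 4), (nat_lit 3), (nat_lit 4), (nat_lit 5), (nat_lit 2), (nat_lit 5), (nat_lit 4), (nat_lit 3), (nat_lit 4)], (nat_lit 29), [(nat_lit 5), (nat_lit 4), (nat_lit 3), (nat_lit 4), (nat_lit 5), (nat_lit 2), (nat_lit 5), (nat_lit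 4), (nat_lit 3), (nat_lit 4)]))) (.node (.leaf ([(nat_lit 4), (nat_lit 2), (nat_lit 4), (nat_lit 3), (nat_lit 0), (nat_lit 3), (nat_lit 4), (nat_lit 2), (nat_lit 4), (nat_lit 3), (nat_lit 0), (nat_lit 3)], (nat_lit 25), [(nat_lit 3)])) (.leaf ([], (nat_lit 1000000), []))))) (.node (.node (.node (.leaf ([(nat_lit 5), (nat_lit 1), (nat_lit 5), (nat_lit 2), (nat_lit 0), (nat_lit 2), (nat_lit 5), (nat_lit 1), (nat_lit 5), (nat_lit 2), (nat_lit 0), (nat_lit 2)], (nat_lit 21), [(nat_lit 2)])) (.leaf ([(nat_lit 5), (nat_lit 3), (nat_lit 0), (nat_lit 3), (nat_lit 5), (nat_lit 2), (nat_lit 5), (nat_lit 3), (nat_lit 0), (nat_lit 3), (nat_lit 5), (nat_lit 2)], (nat_lit 27), [(nat_lit 3), (nat_lit 5), (nat_lit 2)]))) (.node (.leaf ([(nat_lit 3), (nat_lit 4), (nat_lit 2), (nat_lit 4), (nat_lit 3), (nat_lit 0), (nat_lit 3), (nat_lit 4), (nat_lit 2), (nat_lit 4), (nat_lit 3), (nat_lit 0)], (nat_lit 25), [])) (.leaf ([], (nat_lit 1000000), [])))) (.node (.node (.leaf ([(nat_lit 5), (nat_lit 0),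 (nat_lit 5), (nat_lit 0)], (nat_lit 4), [(nat_lit 5), (nat_lit 0)])) (.leaf ([], (nat_lit 1000000), []))) (.node (.leaf ([(nat_lit 2), (nat_lit 2)], (nat_lit 1000000), [])) (.leaf ([], (nat_lit 1000000), [])))))) (.node (.node (.node (.node (.leaf ([(nat_lit 4), (nat_lit 5), (nat_lit 4), (nat_lit 5), (nat_lit 4), (nat_lit 5)], (nat_lit 18), [])) (.leaf ([(nat_lit 0), (nat_lit 1), (nat_lit 0), (nat_lit 1), (nat_lit 0), (nat_lit 1)], (nat_lit 0), [(nat_lit 0), (nat_lit 1), (nat_lit 0), (nat_lit 1)]))) (.node (.leaf ([(nat_lit 5), (nat_lit 5)], (nat_lit 1000000), [])) (.leaf ([], (nat_lit 1000000), [])))) (.node (.node (.leaf ([(nat_lit 3), (nat_lit 2), (nat_lit 3), (nat_lit 2)], (nat_lit 12), [(nat_lit 3), (nat_lit 2)])) (.leaf ([], (nat_lit 1000000), []))) (.node (.leaf ([(nat_lit 2), (nat_lit 1), (nat_lit 2), (nat_lit 1)], (nat_lit 6), [])) (.leaf ([], (nat_lit 1000000), []))))) (.node (.node (.node (.leaf ([(nat_lit 2), (nat_lit 5), (nat_lit 2), (nat_lit 5), (nat_lit 2), (nat_lit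 5)], (nat_lit 15), [(nat_lit 2), (nat_lit 5)])) (.leaf ([(nat_lit 3), (nat_lit 1), (nat_lit 3), (nat_lit 0), (nat_lit 3), (nat_lit 1), (nat_lit 3), (nat_lit 0), (nat_lit 3), (nat_lit 1), (nat_lit 3), (nat_lit 0)], (nat_lit 19), [(nat_lit 3), (nat_lit 0), (nat_lit 3), (nat_lit 1), (nat_lit 3), (nat_lit 0)]))) (.node (.leaf ([(nat_lit 4), (nat_lit 5), (nat_lit 1), (nat_lit 5), (nat_lit 4), (nat_lit 0), (nat_lit 4), (nat_lit 5), (nat_lit 1), (nat_lit 5), (nat_lit 4), (nat_lit 0)], (nat_lit 23), [(nat_lit 4), (nat_lit 5), (nat_lit 1), (nat_lit 5), (nat_lit 4), (nat_lit 0)])) (.leaf ([], (nat_lit 1000000), [])))) (.node (.node (.leaf ([(nat_lit 0), (nat_lit 3), (nat_lit 1), (nat_lit 3), (nat_lit 0), (nat_lit 3), (nat_lit 1), (nat_lit 3), (nat_lit 0), (nat_lit 3), (nat_lit 1), (nat_lit 3)], (nat_lit 19), [(nat_lit 3)])) (.leaf ([], (nat_lit 1000000), []))) (.node (.leaf ([(nat_lit 0), (nat_lit 3), (nat_lit 0), (nat_lit 3), (nat_lit 0), (nat_lit 3)], (nat_lit 2), [])) (.leaf ([], (nat_lit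 1000000), []))))))) (.node (.node (.node (.node (.node (.leaf ([(nat_lit 4), (nat_lit 3), (nat_lit 4), (nat_lit 3), (nat_lit 4), (nat_lit 3)], (nat_lit 16), [(nat_lit 3), (nat_lit 4), (nat_lit 3), (nat_lit 4), (nat_lit 3)])) (.leaf ([(nat_lit 5), (nat_lit 4), (nat_lit 3), (nat_lit 4), (nat_lit 5), (nat_lit 2), (nat_lit 5), (nat_lit 4), (nat_lit 3), (nat_lit 4), (nat_lit 5), (nat_lit 2)], (nat_lit 29), []))) (.node (.leaf ([(nat_lit 1), (nat_lit 3), (nat_lit 0), (nat_lit 3), (nat_lit 1), (nat_lit 3), (nat_lit 0), (nat_lit 3), (nat_lit 1), (nat_lit 3), (nat_lit 0), (nat_lit 3)], (nat_lit 19), [(nat_lit 3), (nat_lit 0), (nat_lit 3)])) (.leaf ([], (nat_lit 1000000), [])))) (.node (.node (.leaf ([(nat_lit 2), (nat_lit 4), (nat_lit 2), (nat_lit 4), (nat_lit 2), (nat_lit 4)], (nat_lit 14), [(nat_lit 2), (nat_lit 4)])) (.leaf ([(nat_lit 3), (nat_lit 4), (nat_lit 0), (nat_lit 4), (nat_lit 3), (nat_lit 1), (nat_lit 3), (nat_lit 4), (nat_lit 0), (nat_lit 4), (nat_lit 3), (nat_lit 1), (nat_lit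 3), (nat_lit 4), (nat_lit 0), (nat_lit 4), (nat_lit 3), (nat_lit 1)], (nat_lit 20), []))) (.node (.leaf ([(nat_lit 1), (nat_lit 3), (nat_lit 1), (nat_lit 3), (nat_lit 1), (nat_lit 3)], (nat_lit 8), [(nat_lit 1), (nat_lit 3), (nat_lit 1), (nat_lit 3)])) (.leaf ([], (nat_lit 1000000), []))))) (.node (.node (.node (.leaf ([(nat_lit 0), (nat_lit 4), (nat_lit 0), (nat_lit 4), (nat_lit 0), (nat_lit 4)], (nat_lit 3), [(nat_lit 0), (nat_lit 4)])) (.leaf ([(nat_lit 0), (nat_lit 3), (nat_lit 1), (nat_lit 3), (nat_lit 0), (nat_lit 3), (nat_lit 1), (nat_lit 3), (nat_lit 0), (nat_lit 3), (nat_lit 1), (nat_lit 3)], (nat_lit 19), [(nat_lit 3), (nat_lit 0), (nat_lit 3), (nat_lit 1), (nat_lit 3)]))) (.node (.leaf ([(nat_lit 5), (nat_lit 2), (nat_lit 0), (nat_lit 2), (nat_lit 5), (nat_lit 1), (nat_lit 5), (nat_lit 2), (nat_lit 0), (nat_lit 2), (nat_lit 5), (nat_lit 1)], (nat_lit 21), [(nat_lit 2), (nat_lit 5), (nat_lit 1)])) (.leaf ([], (nat_lit 1000000), [])))) (.node (.node (.leaf ([(nat_lit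 4), (nat_lit 3), (nat_lit 4), (nat_lit 3), (nat_lit 4), (nat_lit 3)], (nat_lit 16), [(nat_lit 3)])) (.leaf ([], (nat_lit 1000000), []))) (.node (.leaf ([(nat_lit 4), (nat_lit 5), (nat_lit 4), (nat_lit 5), (nat_lit 4), (nat_lit 5)], (nat_lit 18), [(nat_lit 4), (nat_lit 5), (nat_lit 4), (nat_lit 5)])) (.leaf ([], (nat_lit 1000000), [])))))) (.node (.node (.node (.node (.leaf ([(nat_lit 3), (nat_lit 5), (nat_lit 2), (nat_lit 5), (nat_lit 3), (nat_lit 0), (nat_lit 3), (nat_lit 5), (nat_lit 2), (nat_lit 5), (nat_lit 3), (nat_lit 0)], (nat_lit 27), [])) (.leaf ([(nat_lit 3), (nat_lit 0), (nat_lit 3), (nat_lit 4), (nat_lit 2), (nat_lit 4), (nat_lit 3), (nat_lit 0), (nat_lit 3), (nat_lit 4), (nat_lit 2), (nat_lit 4)], (nat_lit 25), [(nat_lit 3), (nat_lit 4), (nat_lit 2), (nat_lit 4), (nat_lit 3), (nat_lit 0), (nat_lit 3), (nat_lit 4), (nat_lit 2), (nat_lit 4)]))) (.node (.leaf ([(nat_lit 3), (nat_lit 0), (nat_lit 3), (nat_lit 5), (nat_lit 2), (nat_lit 5), (nat_lit 3), (nat_lit 0), (nat_lit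 3), (nat_lit 5), (nat_lit 2), (nat_lit 5)], (nat_lit 27), [(nat_lit 3), (nat_lit 5), (nat_lit 2), (nat_lit 5)])) (.leaf ([], (nat_lit 1000000), [])))) (.node (.node (.leaf ([(nat_lit 3), (nat_lit 1), (nat_lit 3), (nat_lit 1), (nat_lit 3), (nat_lit 1)], (nat_lit 8), [(nat_lit 1)])) (.leaf ([], (nat_lit 1000000), []))) (.node (.leaf ([(nat_lit 2), (nat_lit 4), (nat_lit 2), (nat_lit 4), (nat_lit 2), (nat_lit 4)], (nat_lit 14), [(nat_lit 2), (nat_lit 4), (nat_lit 2), (nat_lit 4)])) (.leaf ([], (nat_lit 1000000), []))))) (.node (.node (.node (.leaf ([(nat_lit 4), (nat_lit 2), (nat_lit 4), (nat_lit 2), (nat_lit 4), (nat_lit 2)], (nat_lit 14), [(nat_lit 2), (nat_lit 4), (nat_lit 2), (nat_lit 4), (nat_lit 2)])) (.leaf ([(nat_lit 1), (nat_lit 5), (nat_lit 1), (nat_lit 5), (nat_lit 1), (nat_lit 5)], (nat_lit 11), []))) (.node (.leaf ([(nat_lit 0), (nat_lit 4), (nat_lit 5), (nat_lit 1), (nat_lit 5), (nat_lit 4), (nat_lit 0), (nat_lit 4), (nat_lit 5), (nat_lit 1), (nat_lit 5), (nat_lit 4)],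 (nat_lit 23), [(nat_lit 4), (nat_lit 5), (nat_lit 1), (nat_lit 5), (nat_lit 4), (nat_lit 0), (nat_lit 4), (nat_lit 5), (nat_lit 1), (nat_lit 5), (nat_lit 4)])) (.leaf ([], (nat_lit 1000000), [])))) (.node (.node (.leaf ([(nat_lit 2), (nat_lit 5), (nat_lit 4), (nat_lit 3), (nat_lit 4), (nat_lit 5), (nat_lit 2), (nat_lit 5), (nat_lit 4), (nat_lit 3), (nat_lit 4), (nat_lit 5)], (nat_lit 29), [(nat_lit 5), (nat_lit 4), (nat_lit 3), (nat_lit 4), (nat_lit 5), (nat_lit 2), (nat_lit 5), (nat_lit 4), (nat_lit 3), (nat_lit 4), (nat_lit 5)])) (.leaf ([], (nat_lit 1000000), []))) (.node (.leaf ([(nat_lit 1), (nat_lit 3), (nat_lit 4), (nat_lit 0), (nat_lit 4), (nat_lit 3), (nat_lit 1), (nat_lit 3), (nat_lit 4), (nat_lit 0), (nat_lit 4), (nat_lit 3), (nat_lit 1), (nat_lit 3), (nat_lit 4), (nat_lit 0), (nat_lit 4), (nat_lit 3)], (nat_lit 20), [(nat_lit 3), (nat_lit 4), (nat_lit 0), (nat_lit 4), (nat_lit 3), (nat_lit 1), (nat_lit 3), (nat_lit 4), (nat_lit 0), (nat_lit 4), (nat_lit 3), (nat_lit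 1), (nat_lit 3), (nat_lit 4), (nat_lit 0), (nat_lit 4), (nat_lit 3)])) (.leaf ([], (nat_lit 1000000), [])))))))) (.node (.node (.node (.node (.node (.node (.leaf ([(nat_lit 0), (nat_lit 5), (nat_lit 0), (nat_lit 5)], (nat_lit 4), [(nat_lit 5), (nat_lit 0), (nat_lit 5)])) (.leaf ([(nat_lit 2), (nat_lit 5), (nat_lit 1), (nat_lit 5), (nat_lit 2), (nat_lit 0), (nat_lit 2), (nat_lit 5), (nat_lit 1), (nat_lit 5), (nat_lit 2), (nat_lit 0)], (nat_lit 21), [(nat_lit 2), (nat_lit 5), (nat_lit 1), (nat_lit 5), (nat_lit 2), (nat_lit 0)]))) (.node (.leaf ([(nat_lit 5), (nat_lit 2), (nat_lit 5), (nat_lit 3), (nat_lit 0), (nat_lit 3), (nat_lit 5), (nat_lit 2), (nat_lit 5), (nat_lit 3), (nat_lit 0), (nat_lit 3)], (nat_lit 27), [(nat_lit 3)])) (.leaf ([], (nat_lit 1000000), [])))) (.node (.node (.leaf ([(nat_lit 2), (nat_lit 0), (nat_lit 2), (nat_lit 0), (nat_lit 2), (nat_lit 0)], (nat_lit 1), [(nat_lit 0)])) (.leaf ([(nat_lit 4), (nat_lit 0), (nat_lit 4), (nat_lit 5), (nat_lit 1), (nat_lit 5),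 (nat_lit 4), (nat_lit 0), (nat_lit 4), (nat_lit 5), (nat_lit 1), (nat_lit 5)], (nat_lit 23), [(nat_lit 4), (nat_lit 5), (nat_lit 1), (nat_lit 5), (nat_lit 4), (nat_lit 0), (nat_lit 4), (nat_lit 5), (nat_lit 1), (nat_lit 5)]))) (.node (.leaf ([(nat_lit 3), (nat_lit 1), (nat_lit 3), (nat_lit 4), (nat_lit 0), (nat_lit 4), (nat_lit 3), (nat_lit 1), (nat_lit 3), (nat_lit 4), (nat_lit 0), (nat_lit 4), (nat_lit 3), (nat_lit 1), (nat_lit 3), (nat_lit 4), (nat_lit 0), (nat_lit 4)], (nat_lit 20), [(nat_lit 3), (nat_lit 4), (nat_lit 0), (nat_lit 4), (nat_lit 3), (nat_lit 1), (nat_lit 3), (nat_lit 4), (nat_lit 0), (nat_lit 4), (nat_lit 3), (nat_lit 1), (nat_lit 3), (nat_lit 4), (nat_lit 0), (nat_lit 4)])) (.leaf ([], (nat_lit 1000000), []))))) (.node (.node (.node (.leaf ([(nat_lit 1), (nat_lit 3), (nat_lit 1), (nat_lit 3), (nat_lit 1), (nat_lit 3)], (nat_lit 8), [(nat_lit 1), (nat_lit 3)])) (.leaf ([(nat_lit 2), (nat_lit 0), (nat_lit 2), (nat_lit 5), (nat_lit 1), (nat_lit 5), (nat_lit 2),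 (nat_lit 0), (nat_lit 2), (nat_lit 5), (nat_lit 1), (nat_lit 5)], (nat_lit 21), [(nat_lit 2), (nat_lit 5), (nat_lit 1), (nat_lit 5)]))) (.node (.leaf ([(nat_lit 5), (nat_lit 1), (nat_lit 5), (nat_lit 2), (nat_lit 0), (nat_lit 2), (nat_lit 5), (nat_lit 1), (nat_lit 5), (nat_lit 2), (nat_lit 0), (nat_lit 2)], (nat_lit 21), [(nat_lit 2), (nat_lit 5), (nat_lit 1), (nat_lit 5), (nat_lit 2), (nat_lit 0), (nat_lit 2)])) (.leaf ([], (nat_lit 1000000), [])))) (.node (.node (.leaf ([(nat_lit 1), (nat_lit 5), (nat_lit 2), (nat_lit 0), (nat_lit 2), (nat_lit 5), (nat_lit 1), (nat_lit 5), (nat_lit 2), (nat_lit 0), (nat_lit 2), (nat_lit 5)], (nat_lit 21), [(nat_lit 2), (nat_lit 5)])) (.leaf ([], (nat_lit 1000000), []))) (.node (.leaf ([(nat_lit 1), (nat_lit 5), (nat_lit 1), (nat_lit 5), (nat_lit 1), (nat_lit 5)], (nat_lit 11), [(nat_lit 1), (nat_lit 5), (nat_lit 1), (nat_lit 5)])) (.leaf ([], (nat_lit 1000000), [])))))) (.node (.node (.node (.node (.leaf ([(nat_lit 5), (nat_lit 2), (nat_lit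 5), (nat_lit 2), (nat_lit 5), (nat_lit 2)], (nat_lit 15), [(nat_lit 2), (nat_lit 5), (nat_lit 2), (nat_lit 5), (nat_lit 2)])) (.leaf ([(nat_lit 1), (nat_lit 5), (nat_lit 4), (nat_lit 0), (nat_lit 4), (nat_lit 5), (nat_lit 1), (nat_lit 5), (nat_lit 4), (nat_lit 0), (nat_lit 4), (nat_lit 5)], (nat_lit 23), [(nat_lit 4), (nat_lit 5), (nat_lit 1), (nat_lit 5), (nat_lit 4), (nat_lit 0), (nat_lit 4), (nat_lit 5)]))) (.node (.leaf ([(nat_lit 3), (nat_lit 1), (nat_lit 3), (nat_lit 1), (nat_lit 3), (nat_lit 1)], (nat_lit 8), [(nat_lit 1), (nat_lit 3), (nat_lit 1)])) (.leaf ([], (nat_lit 1000000), [])))) (.node (.node (.leaf ([(nat_lit 5), (nat_lit 2), (nat_lit 5), (nat_lit 2), (nat_lit 5), (nat_lit 2)], (nat_lit 15), [(nat_lit 2), (nat_lit 5), (nat_lit 2)])) (.leaf ([], (nat_lit 1000000), []))) (.node (.leaf ([(nat_lit 1), (nat_lit 3), (nat_lit 0), (nat_lit 3), (nat_lit 1), (nat_lit 3), (nat_lit 0), (nat_lit 3), (nat_lit 1), (nat_lit 3), (nat_lit 0), (nat_lit 3)], (nat_lit 19), [(nat_lit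 3), (nat_lit 0), (nat_lit 3), (nat_lit 1), (nat_lit 3), (nat_lit 0), (nat_lit 3), (nat_lit 1), (nat_lit 3), (nat_lit 0), (nat_lit 3)])) (.leaf ([], (nat_lit 1000000), []))))) (.node (.node (.node (.leaf ([(nat_lit 2), (nat_lit 3), (nat_lit 2), (nat_lit 3)], (nat_lit 12), [(nat_lit 3)])) (.leaf ([(nat_lit 2), (nat_lit 5), (nat_lit 4), (nat_lit 3), (nat_lit 4), (nat_lit 5), (nat_lit 2), (nat_lit 5), (nat_lit 4), (nat_lit 3), (nat_lit 4), (nat_lit 5)], (nat_lit 29), [(nat_lit 5), (nat_lit 4), (nat_lit 3), (nat_lit 4), (nat_lit 5)]))) (.node (.leaf ([(nat_lit 2), (nat_lit 5), (nat_lit 3), (nat_lit 0), (nat_lit 3), (nat_lit 5), (nat_lit 2), (nat_lit 5), (nat_lit 3), (nat_lit 0), (nat_lit 3), (nat_lit 5)], (nat_lit 27), [(nat_lit 3), (nat_lit 5), (nat_lit 2), (nat_lit 5), (nat_lit 3), (nat_lit 0), (nat_lit 3), (nat_lit 5)])) (.leaf ([], (nat_lit 1000000), [])))) (.node (.node (.leaf ([(nat_lit 4), (nat_lit 0), (nat_lit 4), (nat_lit 0), (nat_lit 4), (nat_lit 0)], (nat_lit 3), [(nat_lit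 0), (nat_lit 4), (nat_lit 0), (nat_lit 4), (nat_lit 0)])) (.leaf ([], (nat_lit 1000000), []))) (.node (.leaf ([(nat_lit 4), (nat_lit 3), (nat_lit 1), (nat_lit 3), (nat_lit 4), (nat_lit 0), (nat_lit 4), (nat_lit 3), (nat_lit 1), (nat_lit 3), (nat_lit 4), (nat_lit 0), (nat_lit 4), (nat_lit 3), (nat_lit 1), (nat_lit 3), (nat_lit 4), (nat_lit 0)], (nat_lit 20), [(nat_lit 3), (nat_lit 4), (nat_lit 0)])) (.leaf ([], (nat_lit 1000000), []))))))) (.node (.node (.node (.node (.node (.leaf ([(nat_lit 1), (nat_lit 4), (nat_lit 1), (nat_lit 4)], (nat_lit 9), [(nat_lit 4), (nat_lit 1), (nat_lit 4)])) (.leaf ([(nat_lit 5), (nat_lit 2), (nat_lit 0), (nat_lit 2), (nat_lit 5), (nat_lit 1), (nat_lit 5), (nat_lit 2), (nat_lit 0), (nat_lit 2), (nat_lit 5), (nat_lit 1)], (nat_lit 21), [(nat_lit 2), (nat_lit 5), (nat_lit 1), (nat_lit 5), (nat_lit 2), (nat_lit 0), (nat_lit 2), (nat_lit 5), (nat_lit 1)]))) (.node (.leaf ([(nat_lit 2), (nat_lit 0), (nat_lit 2), (nat_lit 5), (nat_lit 1), (nat_lit 5), (nat_lit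 2), (nat_lit 0), (nat_lit 2), (nat_lit 5), (nat_lit 1), (nat_lit 5)], (nat_lit 21), [(nat_lit 2), (nat_lit 5), (nat_lit 1), (nat_lit 5), (nat_lit 2), (nat_lit 0), (nat_lit 2), (nat_lit 5), (nat_lit 1), (nat_lit 5)])) (.leaf ([], (nat_lit 1000000), [])))) (.node (.node (.leaf ([(nat_lit 4), (nat_lit 5), (nat_lit 2), (nat_lit 5), (nat_lit 4), (nat_lit 3), (nat_lit 4), (nat_lit 5), (nat_lit 2), (nat_lit 5), (nat_lit 4), (nat_lit 3)], (nat_lit 29), [(nat_lit 5), (nat_lit 4), (nat_lit 3)])) (.leaf ([], (nat_lit 1000000), []))) (.node (.leaf ([(nat_lit 0), (nat_lit 4), (nat_lit 3), (nat_lit 1), (nat_lit 3), (nat_lit 4), (nat_lit 0), (nat_lit 4), (nat_lit 3), (nat_lit 1), (nat_lit 3), (nat_lit 4), (nat_lit 0), (nat_lit 4), (nat_lit 3), (nat_lit 1), (nat_lit 3), (nat_lit 4)], (nat_lit 20), [(nat_lit 3), (nat_lit 4), (nat_lit 0), (nat_lit 4), (nat_lit 3), (nat_lit 1), (nat_lit 3), (nat_lit 4), (nat_lit 0), (nat_lit 4), (nat_lit 3), (nat_lit 1), (nat_lit 3), (nat_lit 4)])) (.leaf ([], (nat_lit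 1000000), []))))) (.node (.node (.node (.leaf ([(nat_lit 0), (nat_lit 5), (nat_lit 0), (nat_lit 5)], (nat_lit 4), [(nat_lit 5)])) (.leaf ([(nat_lit 4), (nat_lit 0), (nat_lit 4), (nat_lit 3), (nat_lit 1), (nat_lit 3), (nat_lit 4), (nat_lit 0), (nat_lit 4), (nat_lit 3), (nat_lit 1), (nat_lit 3), (nat_lit 4), (nat_lit 0), (nat_lit 4), (nat_lit 3), (nat_lit 1), (nat_lit 3)], (nat_lit 20), [(nat_lit 3), (nat_lit 4), (nat_lit 0), (nat_lit 4), (nat_lit 3), (nat_lit 1), (nat_lit 3), (nat_lit 4), (nat_lit 0), (nat_lit 4), (nat_lit 3), (nat_lit 1), (nat_lit 3)]))) (.node (.leaf ([(nat_lit 2), (nat_lit 4), (nat_lit 3), (nat_lit 0), (nat_lit 3), (nat_lit 4), (nat_lit 2), (nat_lit 4), (nat_lit 3), (nat_lit 0), (nat_lit 3), (nat_lit 4)], (nat_lit 25), [(nat_lit 3), (nat_lit 4)])) (.leaf ([], (nat_lit 1000000), [])))) (.node (.node (.leaf ([(nat_lit 3), (nat_lit 0), (nat_lit 3), (nat_lit 0), (nat_lit 3), (nat_lit 0)], (nat_lit 2), [(nat_lit 0), (nat_lit 3), (nat_lit 0)])) (.leaf ([], (nat_lit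 1000000), []))) (.node (.leaf ([(nat_lit 3), (nat_lit 1), (nat_lit 3), (nat_lit 0), (nat_lit 3), (nat_lit 1), (nat_lit 3), (nat_lit 0), (nat_lit 3), (nat_lit 1), (nat_lit 3), (nat_lit 0)], (nat_lit 19), [(nat_lit 3), (nat_lit 0)])) (.leaf ([], (nat_lit 1000000), [])))))) (.node (.node (.node (.node (.leaf ([(nat_lit 1), (nat_lit 2), (nat_lit 1), (nat_lit 2)], (nat_lit 6), [(nat_lit 2)])) (.leaf ([(nat_lit 5), (nat_lit 1), (nat_lit 5), (nat_lit 4), (nat_lit 0), (nat_lit 4), (nat_lit 5), (nat_lit 1), (nat_lit 5), (nat_lit 4), (nat_lit 0), (nat_lit 4)], (nat_lit 23), [(nat_lit 4), (nat_lit 5), (nat_lit 1), (nat_lit 5), (nat_lit 4), (nat_lit 0), (nat_lit 4)]))) (.node (.leaf ([(nat_lit 4), (nat_lit 3), (nat_lit 0), (nat_lit 3), (nat_lit 4), (nat_lit 2), (nat_lit 4), (nat_lit 3), (nat_lit 0), (nat_lit 3), (nat_lit 4), (nat_lit 2)], (nat_lit 25), [(nat_lit 3), (nat_lit 4), (nat_lit 2)])) (.leaf ([], (nat_lit 1000000), [])))) (.node (.node (.leaf ([(nat_lit 0), (nat_lit 1), (nat_lit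 0), (nat_lit 1), (nat_lit 0), (nat_lit 1)], (nat_lit 0), [(nat_lit 0), (nat_lit 1)])) (.leaf ([], (nat_lit 1000000), []))) (.node (.leaf ([(nat_lit 0), (nat_lit 3), (nat_lit 0), (nat_lit 3), (nat_lit 0), (nat_lit 3)], (nat_lit 2), [(nat_lit 0), (nat_lit 3), (nat_lit 0), (nat_lit 3)])) (.leaf ([], (nat_lit 1000000), []))))) (.node (.node (.node (.leaf ([(nat_lit 3), (nat_lit 0), (nat_lit 3), (nat_lit 0), (nat_lit 3), (nat_lit 0)], (nat_lit 2), [(nat_lit 0)])) (.leaf ([(nat_lit 0), (nat_lit 3), (nat_lit 1), (nat_lit 3), (nat_lit 0), (nat_lit 3), (nat_lit 1), (nat_lit 3), (nat_lit 0), (nat_lit 3), (nat_lit 1), (nat_lit 3)], (nat_lit 19), [(nat_lit 3), (nat_lit 0), (nat_lit 3), (nat_lit 1), (nat_lit 3), (nat_lit 0), (nat_lit 3), (nat_lit 1), (nat_lit 3)]))) (.node (.leaf ([(nat_lit 4), (nat_lit 5), (nat_lit 1), (nat_lit 5), (nat_lit 4), (nat_lit 0), (nat_lit 4), (nat_lit 5), (nat_lit 1), (nat_lit 5), (nat_lit 4), (nat_lit 0)], (nat_lit 23), [])) (.leaf ([], (nat_lit 1000000), []))))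 (.node (.node (.leaf ([(nat_lit 4), (nat_lit 0), (nat_lit 4), (nat_lit 0), (nat_lit 4), (nat_lit 0)], (nat_lit 3), [(nat_lit 0)])) (.leaf ([], (nat_lit 1000000), []))) (.node (.leaf ([(nat_lit 0), (nat_lit 2), (nat_lit 0), (nat_lit 2), (nat_lit 0), (nat_lit 2)], (nat_lit 1), [(nat_lit 0), (nat_lit 2), (nat_lit 0), (nat_lit 2)])) (.leaf ([], (nat_lit 1000000), []))))))))))
noncomputable def u5Q : BT (ℕ × List ℕ × ℕ) := (.node (.node (.node (.node (.node (.node (.leaf ((nat_lit 0), [(nat_lit 0)], (nat_lit 0))) (.leaf ((nat_lit 2), [(nat_lit 4), (nat_lit 3), (nat_lit 0), (nat_lit 3), (nat_lit 4)], (nat_lit 2)))) (.node (.leaf ((nat_lit 4), [(nat_lit 1)], (nat_lit 4))) (.leaf ((nat_lit 0), [(nat_lit 0)], (nat_lit 0))))) (.node (.node (.leaf ((nat_lit 0), [(nat_lit 3), (nat_lit 0)], (nat_lit 3))) (.leaf ((nat_lit 0), [(nat_lit 0)], (nat_lit 0)))) (.node (.leaf ((nat_lit 4), [(nat_lit 5), (nat_lit 4)], (nat_lit 5))) (.leaf ((nat_lit 0), [(nat_lit 0)], (nat_lit 0)))))) (.node (.node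 (.node (.leaf ((nat_lit 4), [(nat_lit 4)], (nat_lit 4))) (.leaf ((nat_lit 3), [(nat_lit 4), (nat_lit 5), (nat_lit 2), (nat_lit 5), (nat_lit 4)], (nat_lit 3)))) (.node (.leaf ((nat_lit 2), [(nat_lit 4), (nat_lit 2)], (nat_lit 4))) (.leaf ((nat_lit 0), [(nat_lit 0)], (nat_lit 0))))) (.node (.node (.leaf ((nat_lit 1), [(nat_lit 2)], (nat_lit 1))) (.leaf ((nat_lit 0), [(nat_lit 0)], (nat_lit 0)))) (.node (.leaf ((nat_lit 1), [(nat_lit 5), (nat_lit 2), (nat_lit 0), (nat_lit 2), (nat_lit 5)], (nat_lit 1))) (.leaf ((nat_lit 0), [(nat_lit 0)], (nat_lit 0))))))) (.node (.node (.node (.node (.leaf ((nat_lit 2), [(nat_lit 2)], (nat_lit 2))) (.leaf ((nat_lit 2), [(nat_lit 5), (nat_lit 3), (nat_lit 0), (nat_lit 3), (nat_lit 5)], (nat_lit 2)))) (.node (.leaf ((nat_lit 2), [(nat_lit 3)], (nat_lit 2))) (.leaf ((nat_lit 0), [(nat_lit 0)], (nat_lit 0))))) (.node (.node (.leaf ((nat_lit 0), [(nat_lit 5)], (nat_lit 0))) (.leaf ((nat_lit 0), [(nat_lit 0)], (nat_lit 0)))) (.node (.leaf ((nat_lit 0),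 [(nat_lit 4), (nat_lit 3), (nat_lit 1), (nat_lit 3), (nat_lit 4), (nat_lit 0), (nat_lit 4), (nat_lit 3)], (nat_lit 1))) (.leaf ((nat_lit 0), [(nat_lit 0)], (nat_lit 0)))))) (.node (.node (.node (.leaf ((nat_lit 0), [(nat_lit 1), (nat_lit 0)], (nat_lit 1))) (.leaf ((nat_lit 0), [(nat_lit 0)], (nat_lit 0)))) (.node (.leaf ((nat_lit 3), [(nat_lit 4), (nat_lit 3)], (nat_lit 4))) (.leaf ((nat_lit 0), [(nat_lit 0)], (nat_lit 0))))) (.node (.node (.leaf ((nat_lit 1), [(nat_lit 3), (nat_lit 1)], (nat_lit 3))) (.leaf ((nat_lit 0), [(nat_lit 0)], (nat_lit 0)))) (.node (.leaf ((nat_lit 1), [(nat_lit 5), (nat_lit 4), (nat_lit 0), (nat_lit 4), (nat_lit 5)], (nat_lit 1))) (.leaf ((nat_lit 0), [(nat_lit 0)], (nat_lit 0)))))))) (.node (.node (.node (.node (.node (.leaf ((nat_lit 1), [(nat_lit 1)], (nat_lit 1))) (.leaf ((nat_lit 0), [(nat_lit 3), (nat_lit 5), (nat_lit 2), (nat_lit 5), (nat_lit 3)], (nat_lit 0)))) (.node (.leaf ((nat_lit 1), [(nat_lit 5), (nat_lit 1)], (nat_lit 5))) (.leaf ((nat_lit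 0), [(nat_lit 0)], (nat_lit 0))))) (.node (.node (.leaf ((nat_lit 0), [(nat_lit 4), (nat_lit 0)], (nat_lit 4))) (.leaf ((nat_lit 0), [(nat_lit 0)], (nat_lit 0)))) (.node (.leaf ((nat_lit 0), [(nat_lit 3), (nat_lit 1), (nat_lit 3), (nat_lit 0), (nat_lit 3)], (nat_lit 1))) (.leaf ((nat_lit 0), [(nat_lit 0)], (nat_lit 0)))))) (.node (.node (.node (.leaf ((nat_lit 5), [(nat_lit 5)], (nat_lit 5))) (.leaf ((nat_lit 0), [(nat_lit 0)], (nat_lit 0)))) (.node (.leaf ((nat_lit 2), [(nat_lit 5), (nat_lit 2)], (nat_lit 5))) (.leaf ((nat_lit 0), [(nat_lit 0)], (nat_lit 0))))) (.node (.node (.leaf ((nat_lit 2), [(nat_lit 1)], (nat_lit 2))) (.leaf ((nat_lit 0), [(nat_lit 0)], (nat_lit 0)))) (.node (.leaf ((nat_lit 0), [(nat_lit 4), (nat_lit 5), (nat_lit 1), (nat_lit 5), (nat_lit 4)], (nat_lit 0))) (.leaf ((nat_lit 0), [(nat_lit 0)], (nat_lit 0))))))) (.node (.node (.node (.node (.leaf ((nat_lit 3), [(nat_lit 3)], (nat_lit 3))) (.leaf ((nat_lit 2), [(nat_lit 5), (nat_lit 4), (nat_lit 3), (nat_lit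 4), (nat_lit 5)], (nat_lit 2)))) (.node (.leaf ((nat_lit 3), [(nat_lit 2)], (nat_lit 3))) (.leaf ((nat_lit 0), [(nat_lit 0)], (nat_lit 0))))) (.node (.node (.leaf ((nat_lit 5), [(nat_lit 0)], (nat_lit 5))) (.leaf ((nat_lit 0), [(nat_lit 0)], (nat_lit 0)))) (.node (.leaf ((nat_lit 0), [(nat_lit 2), (nat_lit 5), (nat_lit 1), (nat_lit 5), (nat_lit 2)], (nat_lit 0))) (.leaf ((nat_lit 0), [(nat_lit 0)], (nat_lit 0)))))) (.node (.node (.node (.leaf ((nat_lit 0), [(nat_lit 2), (nat_lit 0)], (nat_lit 2))) (.leaf ((nat_lit 0), [(nat_lit 0)], (nat_lit 0)))) (.node (.leaf ((nat_lit 3), [(nat_lit 5), (nat_lit 3)], (nat_lit 5))) (.leaf ((nat_lit 0), [(nat_lit 0)], (nat_lit 0))))) (.node (.node (.leaf ((nat_lit 1), [(nat_lit 4)], (nat_lit 1))) (.leaf ((nat_lit 0), [(nat_lit 0)], (nat_lit 0)))) (.node (.leaf ((nat_lit 0), [(nat_lit 3), (nat_lit 4), (nat_lit 2), (nat_lit 4), (nat_lit 3)], (nat_lit 0))) (.leaf ((nat_lit 0), [(nat_lit 0)], (nat_lit 0)))))))))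
noncomputable def u5C : Cert := ⟨(nat_lit 6), (nat_lit 10014), u5F, u5P, u5R, u5Q⟩
noncomputable def u5h : List (Ex × Ex) := [((.t (.g 0) (.g 1)), (.t (.g 1) (.g 0))), ((.t (.g 0) (.g 2)), (.t (.g 2) (.g 0))), ((.t (.g 0) (.g 3)), (.t (.g 3) (.g 0))), ((.t (.g 0) (.g 4)), (.t (.g 4) (.g 0))), ((.t (.g 0) (.g 5)), (.g 0)), ((.t (.g 5) (.g 0)), (.g 5)), ((.t (.g 1) (.g 2)), (.g 1)), ((.t (.g 2) (.g 1)), (.g 2)), ((.t (.g 1) (.g 3)), (.t (.g 3) (.g 1))), ((.t (.g 1) (.g 4)), (.g 1)), ((.t (.g 4) (.g 1)), (.g 4)), ((.t (.g 1) (.g 5)), (.t (.g 5) (.g 1))), ((.t (.g 2) (.g 3)), (.g 2)), ((.t (.g 3) (.g 2)), (.g 3)), ((.t (.g 2) (.g 4)), (.t (.g 4) (.g 2))), ((.t (.g 2) (.g 5)), (.t (.g 5) (.g 2))), ((.t (.g 3) (.g 4)), (.t (.g 4) (.g 3))), ((.t (.g 3) (.g 5)), (.t (.g 5) (.g 3))), ((.t (.g 4) (.g 5)), (.t (.g 5) (.g 4))), ((.t (.g 0) (.t (.g 1) (.g 3))), (.t (.t (.g 1) (.g 3)) (.g 0))), ((.t (.g 0) (.t (.t (.g 1) (.g 3)) (.g 4))), (.t (.t (.t (.g 1) (.g 3)) (.g 4)) (.g 0))), ((.t (.g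 0) (.t (.t (.g 1) (.g 5)) (.g 2))), (.g 0)), ((.t (.t (.t (.g 1) (.g 5)) (.g 2)) (.g 0)), (.t (.t (.g 1) (.g 5)) (.g 2))), ((.t (.g 0) (.t (.t (.g 1) (.g 5)) (.g 4))), (.g 0)), ((.t (.t (.t (.g 1) (.g 5)) (.g 4)) (.g 0)), (.t (.t (.g 1) (.g 5)) (.g 4))), ((.t (.g 0) (.t (.t (.g 2) (.g 4)) (.g 3))), (.g 0)), ((.t (.t (.t (.g 2) (.g 4)) (.g 3)) (.g 0)), (.t (.t (.g 2) (.g 4)) (.g 3))), ((.t (.g 0) (.t (.t (.g 2) (.g 5)) (.g 3))), (.g 0)), ((.t (.t (.t (.g 2) (.g 5)) (.g 3)) (.g 0)), (.t (.t (.g 2) (.g 5)) (.g 3))), ((.t (.g 2) (.t (.t (.g 3) (.g 4)) (.g 5))), (.g 2)), ((.t (.t (.t (.g 3) (.g 4)) (.g 5)) (.g 2)), (.t (.t (.g 3) (.g 4)) (.g 5)))]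
theorem u5k : u5C.full 8 u5h [] [] = true := by decide +kernel
noncomputable def u5at : BT Nat := (.node (.node (.node (.node (.node (.node (.node (.leaf (nat_lit 0x1910f01f02301100f0341b1dd02f00e0310330321a11502703100e0130301c20700d02f02e02402d1c12b00c02c02701002b1b13702a00c00d023029100fa01401201902800b1301801800a00b026018100eb01301701002700a1412a00901602600b025100db02401102300d009131460190080210220121213501702100801d0101413b0070190120200141110802001501f00700d1415300601001701b0131300f00f00600701f00f1400e00501e01d00800e1314001c00501a0150111200c01b01a00500600c0c0c80030040180160190c0c200201800400a0170b0bb0160010090030150c0b400001401300e0040b0b101200000f0110030a0ae01000f00000c002090aa00e00d00c000001040a900400b00a004008030a800b003003009007020a700a002002002006010a600100900100100500000008007006005000)) (.leaf (nat_lit 0x5b44681b78a7ec81f7b85981e81e81e7e878a81e582f281d81d7ee8297875b08085378678881c82e5a9d881f81b78481b78e587fb81481a85381a7815b8198197808197fa8195a6d281881877d77e7ed599d77c77ff7b77788075a81681681676e76f816587be7d185281581576e5b81481a76a7df8148145b9d681376981383980f5b81284e76784c8128125a81184d84c7677688115c07076581077381082b5b9d584876383e80f8135908180680e77f75e7db5b6eb76875c80d84d7625c80c75a80c84e80c80c5828279b7997e58517565c9d475280a8287538505b8098097528097d48095b8087d3751849808808599d380784975174f8175954b80e84f80674e8385b9d280574c80584f84e5c80474784d8047488045b80384c74775a8038035c6c274384780274484b5872483184a8018017425b75a8007408007f3849)))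 (.node (.leaf (nat_lit 0x4441f2c65705315c341f417bf5c35c141e2c65c24342d41d2c541d5c15c0431835bf2c241c5be3524150141b5bd41b2c24cf449072c04c54c241a4d1440f42bf5bc5bb3ee382424185ba4182bf3ec418429064172e82be5185b9424165b85742bc416416435b132f2bb5ac4895b7425583f65ac2bb414403409053f45a64135b62b8416a641255b2b92b755a403835b532a4115b42b7444542b55995b355144b445b72b45b25972b85b1431e05b02b42b555b5af414863313725ab2b35ae401eb3ff40c5915ad2b34312d5ac2b22b35ab5aa4090440a5a940a5a82b2431ff2b62b13f64093f4424082b23f62b136c408407464075a74075562b1429035a659e2af4064b3419024052d32b02ae5a5401995a44b24b35a32ae446dd2ad5a24035a04144390132c2ad5945a14b24106a5a059f59a2ad2d2414244b859859c2ac432)) (.leaf (nat_lit 0)))) (.node (.node (.leaf (nat_lit 0x3a21f34734617617721f388a134533e3443431753b36c34217417521d3413b47d34017321c33f33e3902f33833d21b1731763b24b2c917221a33c33b388a017333a339338172392181923313371702183b07d21716f1703372283863123b19f33433616f3a71f33526d16e3323343912417633333216e32b3b4782b316c32f3313303a89f23a32f16c16f32e381b02a832d32c32b16c3c89e16b2b623a16d32a380b832920f2a520f16b3289d32620e16a3193283489c1683273263173253389b32416816920c3233348531d1663212993223289a20a321166167320303bc31831f31e2ef1663416916531d31c2fe31b3401c16431a31916a318322063172061641682063420516320531620520533317204163313315279321e4314313163203168316d92023111fe1623123389930f1612eb3113103489816030f30e20030d))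 (.leaf (nat_lit 0x54a1f8dc9269658fea1f51a1e8fe945a1e8dca1e4ca1d8da97c9428e2a1d49a1ca1c9ca8f28d7a1c4ca1b8d490fa1b9cca1b4ca1a8d39cb91e90da1a4ba199c38d3a199b7a1949a189ab8d79948d2a184ca178ce9718f79cfa174ca168c8a16937950a164ba159558c6936a15a154ca148c38d29759caa144ba138d88c0a13a13a134ca128bba1296c8faa1249a118ffa118f18baa114ba109978b993496ea104ca0f8b799ba0f990a0f4ba0e9c68b7935a0ea0e4ba0d9048b68c394da0d4ba0c9498b49c7907a0c4ba0b94b8b38c2a0ba0b4ba0a9478b2a0a9dca0a49a099d19dea098b2a094aa08925a088b198fa084ba079228afa07a07a0749a06a069a7a068aea064ca058ad9be8d9952a054aa0492e9138aa9a6a044ba03a038a78b098da034ca028a5999a0290fa024aa0190b92e8a4a01a0149a009b89dd9b08a3a00))) (.node (.leaf (nat_lit 0x4898558a55570176b4714b61e54f4706dd61e61e4a5db4716dd4704765884898461c61c58776a4704a61b4f056846f65061b489836866fd61a76946f4998256761976646d5664851e61861876876746d4b5ca66b46c46d7667654898162776461670746c4b61546d46b6265676154a98048162646b5ae5ad4827b61361372d76346b4b6a848446a66c66675c4a6ec46c66c46a6116284897f47576263076146a4c60546948448160a7604814875f47460e6324694960d75d60d60d46760d4b4dc60c4667216e675e4897e4676ab71f75d4664c60a4655f95f760f60a4897d60974860975c4644b3bf54c4634b06087484908763f6074af4637574b6065384614624ce6064860f49260555f6054614908860475b63d45e7544975d60375a74745c5e94a60256e4db45b6cb6024c97c4596016ec4a66ea4b55f60045945a693759))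 (.leaf (nat_lit 0))))) (.node (.node (.node (.leaf (nat_lit 0x2b14211f0db11f11f0f32b11e1700da11e19211e281d40dd11d1911900da2c26c0d818f11c0da18e2b11b18d0d818c14211b2a11a11a18c0d80d911a2810b18b1191190db0d82886e18a1831891880d72b17f1870d60d71171862b3521850d51161841832901d1151821150d50e82b1a20d70d41791141772a1130de1790d417f113283d117b1811121800d42c86d0d311117f0d417e2c86c0d217d17c11017b2a01f17a10f0d210f0d92a03e10e10e0d11741792815616e1781771760d12c1a40d01751740d1173281191721491711400d02c86b0cf17016f16c16e2a10916d0d90cf16b1092901116c14216b0cf1402086a16a1691681640ce241010cd13c167166157212a81661651050cd1642166510412e0ce0cc163240fe0cb16215516113e2102b1611601590cb12b241060ca10110115e15f2119315e10015a0ca15d)) (.leaf (nat_lit 0x4d4a291f88295e91b8d44d48891ea34a1a9199894d47f9f691d93191d9884d47b9f88a28f391c9864d47491b88c9e491f8ce4d47190f96789d8a59854d47091991990d91e9844d46f9709029189919834d46c97a94b917a339814d46a8c094297ca3297f4d4669b38e293e95197e4d4649149b791499e97d4d45ca2ea0486697e8cc4d4538c58b89f18b59794d450a30a209599119774d44594a90486799d8c94d44291aa1b90fa029734d43aa318f590394c9724d43589c90d919a1a9714d4348f689b90190c9704d433a01a2e8d190b96d4d4309eda3094a9578c74d42294da2296f9048c44d4218b08a89088ca9294d41a8a790794fa0c92b4d417a289879069a79654d4138989059f99848c04d40aa0d9109e39098be4d40690398c90ea2f9224d4059f29189028ef9614d4029678d490c9019214d3ff8ca89298d8b08bd)))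 (.node (.leaf (nat_lit 0x4994751f4793853836b24c6183816b13893846b04b9466af3813824796ae4c94538051c6ad4a15c8499444a151b6aa38050e4c09137f46751a51a6ac4b9436ab37f3806aa5f64a55a51863137e4176a64b3d26a737d39b6646a9489426a36a85164de37d4c51537c6a75155155154894151463c6a66a537c4c5bf37b6a45275136a34b4906a237b6996a163c4966169669c3773756a0484c169451050069f3754c94037469269e49d4c44993f49d37769c37451b4b93e69d37337469c69b4813d69a69937b50c373496f850b5ab3723706984c93d36f6933784a54fe494264a55d269636f5a84c93c36e5085083e24fd4993b3e250769736e6744843147d37150647836e4c6bf36d5055055056944b50450436d36e6975044893a37550336f69636d4b50250236b47d47b5024941b69547147236b556486ce36b50051069536a)) (.leaf (nat_lit 0)))) (.node (.node (.leaf (nat_lit 0x3b8d63772094a53784a73a4914a64a52094594a43b8d520b2084a33e12cd3a8d431c4a32084734a2381b831b4a14a031b2083b33d31a20749f31a3f93a23449a49f20720e49e3802d20949d49c4572073c20420649b49a20d4993a3d9496316205316498398d33153154932042713c2722034974963144953b1bd4942032044934923855039a3124913122023931148e202309201311388d249031048f3102013b65220120048c48e48d3a69746848c20030e48b388d148933733132f2003c3001ff48a30c4884893a03930b3ac1ff4874653930a4882734871ff30a3b3224861fe3112eb485388d03434814843451fd3b34a4831fc47f4824813a30648047f1fc47e306398cf38238b47e1fc1fe3b44d4781fb47b47d47c3a29d47647b1fb47147a380331fc3854793821fb3c1b21fa4783012844773c30c1f9300476470475))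 (.leaf (nat_lit 0))) (.node (.leaf (nat_lit 0x5021571f7c060b7ef5ab519b57eb71e7055aa7ef5171d65b7ed71d5a971d535847ee5a871c7ed78c543f05a771b5b777b7255471a5a57ec78a7e871a5379a5aa5a47197eb7e6549b45a37ea7185a47e9507437e87377175a55a3505b87167205b57e75a2507767825cf71565259f5271462a71459d59e7145471359b7137e6713713527127465b35997c4712539b35ee5975b27115ea547105965ee7466c77105136f6c759c5985966ee501db70e7d770e6ed5965304b73f5955cd70d7d75162974a70c5cc59559a5364b75559259370b7e5509b279c6e866570a592544b55906255ad59172d506ab72b6b27e47085905470758e707707616707507d67065c07e36ae58e5175170570571e58c7e25170476b7e170458a704519b176c7036dc5897e0517027dd7df76a587702506707016db61f7de585527005857d9584728700)) (.leaf (nat_lit 0)))))) (.node (.node (.node (.node (.leaf (nat_lit 0x4873609f09f09f0a30974b09e0a009609709e09e4867b0a20a309d09d0954109c09c09c09509109c416830930a109b0900a2437f609a08e09a0a10a04409908c0990a00990994309809708a08c098098437fa09808409e09709f4275409609e084086088446d608109509c08209d41094094081094080094397db09b09307f07d0813c09207b09209207c0923b51a09107308209c08b3b09007d07009009b0903882b07308f07808f0703c08e06e09a08e07008e3a7e308d08d06e06f08a3b82e09906a09808c0803c6ac06807c08b08b091397de06d09806a06708d3b0890790660890890893c6040650880880660963b60708706507b07106e3a54408608606409606b387ee0760820730850643c084063097096064084387dd08308307e0770633c0820610850910950823980e0950940810610933b81c08006008009408c))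 (.leaf (nat_lit 0x4521289f89f8889d78dd4521086c8ce89e9a98db3d20e89d9fe91a8e38da3d20d90d99e89c8d38d93d20c89b90c8d49ff8d83d20a9fe89a8f689a8d73d20198c8999768998d23d20090596193b9fa8d13d1fe8669209548938cf3d1fd9ef8b59fd9f08d03d1f786a8dc8958818793d1f58948948739fc8783d1f087a8cd9fb8978cb3d1ea93b9008879448773d1e88918ff86a9ee8763d1e79f48ca8909f58753d1e688f87698f8b18c83d1e29448fb9fa93b8743d1de99088d9468b78c63d1d995791b8689ed8ab3d1d688b95688b8ea8c33d1c49739ad87f88a8ba3d1bb9ae88987e9eb8b63d1b188588889f9bd8b33d1ad9f998d8929248723d1ac9628869f88868b23d1a88888be8859f78713d19c8849f68de9bc8ad3d19a9f58c59729f48703d1989a291f8778dd86f3d18b87b8ac8818958a63d18786f9c48809f38a4))) (.node (.leaf (nat_lit 0x4349f64a31931a49f49f4035d64949e645648319433df50e31864650f33c424d46476463185fd6454345849b3176445714274228f319644317326643402794996426416403174057346355d49863f316434973973145e463e4974204e3165e431449645f403af32549545e63d3144402a31339749452f3a14149352f4933153134934028e60532354c4923134231e63c49131249147e4451231063b63a4906384257a63948f31048f5f94163031148e63630f39b404a66384bf48d63730f4348c5f230e30f63648c4056848b48b4b963530e4348a54030c48a48a48a4047530d48963441530c4491e30a48848830c6334252f4873b130a30b6324440d30937e63144f3744020b4c452a4854c63094248461260f3084d24844438f30742c48343259d4137a43252962f3075f84045a61430860f5f73074439b30648062862d630))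 (.leaf (nat_lit 0)))) (.node (.node (.leaf (nat_lit 0x388ba3e63ea3e929f1c43c29e1c329e3e81c429e3830329d2353c223d1c33c3f11c23e729c3e53e63a04f29b35a1c23e43db398b93e529a3e41c223d3b8b83e11c12fb20b3e3381ee2983e22982981c13c33c1c03e13e03de3df393493de1c51c31c03dd381dc3dc2953db3da1c0398b72942943d81bf35c3842a22d2932cc35d1bf3b0313d91be1bf3d82cb382322cf2ca2913d71be3b2d82901bd25f3d62613a49a1be25f1bd28f25d384921d73d52db3d41bd3c28d1bc3473d328d28d3b28c3461bc3d128928c3a03c3d23d11bc28b2ec3c56f1bb1c43d028a3cf388b63ce2893cd28c1bb3b22c3cc1ba1bb2883cb380b92873ca2872e91ba3b8b53c71b93c83c92f33a2853c63c81b93bd2853c2841b83c72843012843c8b41b72833c63bb3c53b80b2821b71b82ff3c43a2812352811b31b5281380353bc3c32803a81b3)) (.leaf (nat_lit 0))) (.node (.leaf (nat_lit 0x5199e5537bb6955107ba524517b97b350f6467745469d50d69d7b97b869d513877b851150e50d78f5099d69b5ba7787b750d5469a50c69a6b769a69a5362a69950c5127b65ba506697b577e53f69850b5130e6976975075045685169651173b509503696516955017b469f500695527c85105604ff5535055269369350a4fd600693546924fb50f7b35fe692516915fe4fc6914fb691547ab4fa6907b169057c5499c4f96f768f7a368d534f46f64f94fa68e7b25299b68d68d4f665768f5168c68c5b468c4f568c5099a7b14f76f668b4f5549994f368a7af68a6f2533566894f16897b06885322f7af4ed4ee688689504f77ae6565716444ed5055961a5806807ad4ec536856854ea6854f4685536846844e968457c6845009b4ea6837ac6834e95257c7a96824e76827ab549984e66797a96817aa5024f6806f868672e4e5))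 (.leaf (nat_lit 0))))) (.node (.node (.node (.leaf (nat_lit 0x343c112521624f26317c3319e26512512619e19e3043d12c19d1272641253288426319c1241252623119b15012a26012319b3088319a25a26119a1233340419912212326025f3088225e25d25725c122334a11e212125825b25a322e02592581212552573132b251256255121124321d2194194120241254301001212532522511203112621824c19211e2503219124f19111d24d1913102212424e24d11d2483333b24711c18f24c24b303a824024a24924811c342c711b2472461ce245332c024411a11b1cd24334881119242241120240343e811823f18a23e222323cd1891b411823c16d3118823e23d23c1181883488011712f22418723b3022e16f18616d23a1173487f1161852392372383134d2372331841162363041c1b51181b4235116331be234115182233232330592311121812302213123c22522f18011222b)) (.leaf (nat_lit 0x5d6a28d2959a209ab9875d69f99e89c99e9149c75d69ba3e98686b91093e5d68f99c99ca429bf99b5d68da39a0f99b95699c5d68b99a99199aa299355d68a999a02999a439af5d681998998998a409c65d67ea109979979829325d6758db9fd8b59f19315d67495399596d92393b5d66a8778cfa188fd9535d65d8e68a09938749235d65b9929928ec95c9c355656a4299a9919189345565388d8ea990a0f98e5565198795d88fa0898c556498e18de9f698e9905564298d887900a0396b556418999038f598c98f5563798b951a3297c925556368a4a2197f98a9a255633a329899898c091e5562e9889fb8cda3c91d5562d98f90698792599f5562b98699d8fca2291c5561f8ba97d92f8ff91a5561c9fa9ec9b69059195561a9548d1a2e9ce9185561996ea3d982997957556168b694aa30981917556149378c28b393f963)))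 (.node (.leaf (nat_lit 0x4b7bc59f4016e96ea7154a78358f4063ff7146584939d5ad59d7143ff4834959c59c70f4003fd59c4825871365765859b3fd4976b59a6e94013fc70c4c9603fb4107126ca5ef4995f6ca40070f3fb5d64c5883fa71140f3fe5db4b2ca7103fa3fb70f70e4813a5e770d42a70c3fa4c2de3f83fc4026eb6574b95e5933f770b5935fe4a95d6eb70b3f73f870a4c95c3f559140c70958c4963a70962762a3f57084b04559e3f43f562a5a74b7867073f36296277064a58d5b66293f33f458d4b95b58c3f25aa7055914a4524b25aa3f258b5a9483e661f6e058a7043f14b5896203f05577035894a5973f15573f058861d487256ff58761c7023f04c5f43ef6205864f154e4a7a47005853ee5bb7014c71c3ec6fb7005ba6ff4b7c16fa3ec3ed5836de4995a5826fe6e33eb6f9495815815816fc3ea5814c62c3e96866f8580576)) (.leaf (nat_lit 0)))) (.node (.node (.leaf (nat_lit 0x4439f26739f53639f39f408f039e52f39e5352674359d3e326639d26b38f4339c53426426739c39c4348039b2635174be48e4339a31226252239a39a413b239939952126226444398261353398398398404554974943975322604439625f3d9396533396418ef5333953d625f532438ee2d025e394394531413932ce5302d925d3934439225c39239225e3924363239125c52c53052f428ed35226125a52e3d54148342938f52e25a39d4138e38e52525b25838e403fd52d2db3d538d258418ec38c52c25c2575214455425630552b52952a4124252925b5252563a5448eb25552851e259527438ea5262552565255244069c523522262521255443862542d43553863864124e42c30251f253520445d325238425951e3534341138325225351f2c64314b30525151d3024194238151e51d251252381431f251c25051951b44f))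 (.leaf (nat_lit 0))) (.node (.leaf (nat_lit 0x5b9c579f6656e882a7585c54166479e79e6a78295b9c479d6637538286f05a56370a75366379c66f5b79b80b66079b82779b5871966379a7a079a6605c5e565f80b7a57996715852266e66179867865f5c79765e8267976607975c79665c7968257967965b79582465b65c7957955b79475965a65f794794599c379379365e65a65b537926aa65578c6ab7925174079175d7fd655769517e27907908236547515325578e65365482369c539c278f64f78e82281b5485864e82178d64f820546ff64c73a7927c071c5178b78b78b64e64b78b5043e78a81f71a81e64a547896487dd789649789537887df64881c7887885445e6467397b87b981d5158e78681c6486457d65405c64464a7857ae7fc5478464278481b7847845359e7ec64164278364c527827157826406417825373878163f7817d281a507e86c281978078063e)) (.leaf (nat_lit 0))))))) (.node (.node (.node (.node (.node (.leaf (nat_lit 0x334dd05f04107d07f0793272806c07d04105e069307e404207607707e0412c78503f04e05b05c07c2c05b03e06b05c05b05b2c6a703c05a07206b0662b18105903c03d0580612b22805803a03b05907d2855b07c06907107b03a2a3f603a05603904303f2846505507404607a0392b72105403807905403b2a2a20620790380510762826d0780770760520372a0510750510350530512c05003406f06c0500502a29b07404f03204706f2c49603105c06b0720732967d072037033031071282cb07006c06f06e0312b70d06703004b06d06c2b04a06b02e02f03c04a284f004904906706a02e2b57904802d0680480402a66e06906802d04f067285e206606205506502c2b58f06402b0450630622b2ec02c02a03e04403c2a04302e03e02a056043283a105d06104206002a2c75f02905f05e04105d235cb03d028040036048))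 (.leaf (nat_lit 0x687f485f85f85f85284c6a85e85e85e84b85e85e6b85d85d84085d85585d6a85c85c85c83885c85c6a85b85b85b83385b85b6a85a85a85a83185a85a6985985982f85982e8596878d830858860858827698578578278578268576a8568258298248568566853485585585585d824628548548548208548546285381c85381a8538536385285281585285f852619e082785183f80b82f609df84b82d85085080a6184f84f80684f80584f609de81284e80c84e8056344181180484d80d82a6484480381181284c85f6053385084b85e84b8026384a84a80184a84584a607d483b8078088498006284880f8487fe848848618478478028477fb847628468468467f7846846607df84584584584a7f56084c8448448447f97f4648437ed8248297ee843617dc8427eb8427ea7fe628418418417e98418416063e7e985d8408407e8))) (.node (.leaf (nat_lit 0x420732f454d2f25fc4964078745e45e4956042f24445d2f13a03a144845d4091345c45c5e36032f1403ab33334a60253c2f0434814fc2ef6004fd34a424596016002ef31e4594249b5fc4c02ee2f45ff401ca2ef5fe5fd3182ee445df2ec4565fc2f25fb433974552ec2ed43a5fa404105c85f75f94d32eb439124b92ea4535f85f74358b5f62e94525f55ec4069e5e25f45f34512e8429114504502e73795f3432dd2eb2e65f24863804244e5445f22e62e844e443042e55f13ad43f372421ab3ac44c2e543d5eb432eb33f2e45f03404104244a5375f02e446144a404da2e75ef44937a2e4441f42e344853745d5ee425fb2e84472e25445df4481f2e12f75442e2542409105ed5ec5eb5e82e1421b75ea5e52e05e92e3418234435645e92e05e84290f5db4422df4425e74184d4414415d82de562406575e62e05e55612de))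 (.leaf (nat_lit 0)))) (.node (.node (.leaf (nat_lit 0x382ae39628f2903951993c52819839425e3923553b6431de1981e639328f394b739239138c1981a1398ac2d538a38e19726b384252cc19a39038f1973c2591962593843892593b59b25819619738e38d381e92571e619838c1963b25638b19538838a2563a78f389388195196387381443861d81d92541943b2532d11933833852533a8ab3843831933811d939145195382381193366381a025038037f2501923c68019133419f37d2263b38524e19037c24e37e3a22737d37c19019137b398aa37219224c18f2e63821a37a3763792e718f3b8a937818e3753773763a24924937518e3732493903836637437318e1903b8a818f18d3703723713a6ee36c37018d2b236f381da24536e36d24518d3c8a718c24436c2b136b381d536a24324324318c3b38a24218b3682423693a24124136818b194241388a618e36724036618b)) (.leaf (nat_lit 0x73a4fa4f9dca4f9dea4f69a4ea4e9e0a4e9d5a4e6aa4d9d6a4d9d2a4da4d6ba4ca4c9d0a4c9d9a4c69a4ba4b9d4a4b9cda4b6aa4aa4aa4a9c8a4aa4a63a499dd9bd9d6a49a4962a48a48a489b4a48a4863a479d29b09dda47a4761a46a46a469df9ada4662a45a45a459a8a45a4561a44a449b1a449a5a4461a43a439cca43999a4359a42991a4299c970a425ca4196ba41973a41a415ba40a40969a40998a40)))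 (.node (.leaf (nat_lit 0x536b57994ba79465f7985127379765e7934ba4bd509935f853e6354b94b8537797964b779565c77c5199271d7954b74b5793506aa65a7944ba7934b4516596596595a34b36595364c7254b159b65859e5244065759b4b168d594499916566874ae4ad4f1483c665579273a7914a94b4b46544a878f7906aa4a99064378f4a86536494830f6415a56527154a64c98f4a464b6436516414c7b44a36504a961b73b4c64f4a278e64f78d64f4962178d64e78b4a276c4c64d4a05d364d64d64d4b65878c4a04a16ad7834870b64b6514a278b4a04c5e449f78564a64a78a4c98e49e6a0649789653495cc78978878649e4af4c64749c5d14a66ec6474b64678749c49d69e6464834664564549e78649c4b1cb78549a49b6874a34825d6534a265164349a4b98d7844997836425c74a98c652783499782651495e06406407824994ac)) (.leaf (nat_lit 0))))) (.node (.node (.node (.leaf (nat_lit 0x281571461551621fe1012c1b91001fd15e1011fc281201fb1fa1f91f7100298791c51f815c0ff1f72813e13516713c1f60fe2987815a15a1000fd1f5291591ed1f41020fc159281291f31f21f11ef0fb2c15f0fa1571571f01062910d1f01561360fa1ef2c1550f915f1031ee155291541ee1eb1ed0f91542b0100fc0f80f91ed1352b8771ec0f71e91eb1ea2a8761511e90f70f81e82987519b0fb1500f61e72a14f1e614f0f51e414f293381dd1e51e40f50f72b8741dc0f41e11e31e22a5af1d81e10f41cb1e0283820f51df1de1dd0f42c14a0f31dc1db1da14a291491da10b1d50f31492c60e0f21d91d81c81d72b1471d60f20f31d51472b01415f0ef1461d413b292510f71d31450ef1cf2a2541441440ee0f01d2288731ca1d11d01cf0ee2811f1ce1081cd11b0ed2c2ee0ec1cc1cb0f41ca2b00d1c90ec1c710b108))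 (.leaf (nat_lit 0x5559895f92993a95f96f555939e587791f9e497b555929c098f87695d9b25559195c9e88c999295b5558c9e795b86297895c555829e295a95a8af9b05557886e99f9119599a65556e9588e99588be9ac5556688c957a3e90a982555619c188b95699b8f955557a159b39559558f755552983a358979fb8f6555519958d695392d9945554c8b397a8c8a058f555545a3f98b9489158f45553f8d9941928a168f35553d96a94f9079c79a45553a8a694e94e8cb8f25553990994d8e4a0d9a3555329d094ca2f90e8ef55531a0b91794b94b8ee5552791098190aa3e8eb55524a0c9249ef8a78ea55521948a3295193e8ec5551fa0a8e18e89649a15551d94694688d8e09a05551c8cda1e9458ac96c5551b88e9ef92489293f555199b79438cc9c3978555168fa916a1d8bb8e955514a3d9508c19418e85550f979940977929926))) (.node (.leaf (nat_lit 0x486004b055f60555f3c84b55e4643c55385c455e4c55d3c449855d6e255d4976c6e255c4ab3c4621480576e14123dd40e3c24b5186e03c16de6df4124a6865526de3c15593ef4b4143c23c05584f86dd489555575885896dc3c04b4cf5563bf556407501487483c161f6db5553bf4838b55466a5545543be4b55369f3bd3be694553489545595526d95523bd4b9533dd3bc6da41066a4a3125506da3bc6c96d94b66761e3bb6d754f6d84a5d93bd6d73bb3c6586484673c545f46054d3b7489526083c449254c3b6488066d654b6d554b3b54954a54a3b554a3b354a486c66d45496d35493b34c5483b26d25483bf5484b5476d13b26d05475474c5463b15465463b7546489515456d03b23ba3b14808644e4684464473b04b5434bf3af6ac67b5434a7b86cf6ac3af5424464a79e5416c53ae3b06c04b17d48a3ad5f154063b))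 (.leaf (nat_lit 0)))) (.node (.node (.leaf (nat_lit 0x4235f4f135f2363ef35f4202e35e35e2344ed4f04049e3544ef429293234448e32334ee4ed234294448e22324dc4ec35b3544235a4eb29b23235a35a447da2303593b92314ea404df4e93584e84dc2304135735723035722f357406894e74e24e635622f446be22e42838635525e418e135d4e34e522d35b4442f22c3983534e13844311639022c22d4e541c438e04e422b4e04e34e2423504e14e022b22c350412303b534f22a2284df430373b422622734e26d4218434d34d2252264de4017034c3dc4dd34c2234175e34b3ce2232214dc4430722045b4db4da45a412964da2233ce2204d9403e14d84c74d74d6220448df21f28d4bc2224d54364528c21f2203ce4d44434521e4d34d2308345426b94d14c921e4cf2c1413433084d04cf21e343446cb21d3423423424ce403682c83412c12c321d444aa21c4c34cd44b4cc)) (.leaf (nat_lit 0))) (.node (.leaf (nat_lit 0x5404160e77277177a7e45034b74e63a63b80e60c5160360d7917ef60b763516bb75c80d75c6096125375b73860473675b75b5380080c60380375a7d4503c8794759675759600539bf6725ff67176279f5106e7577617d65ff607533c47565fd5fe7b380b5375570b5fb755755755510966e97547545fb604547535fa79c79d80a753515a380a8097525fa743547055f58088075f6790519be6da7506e15f47d9500de74f74f5f68075f25374e75e5ed74e80674e5474d5e974d74d5ea74d5474c5e880574c5ed74c529bd74b74b5e85eb7475174a70c7fb74a5e774a5174974974963e5e4749545555e3609748804608519bc8048036035e374b504077125e27106b95e1537457e35e07456b5745547445de5e7744802744527178027435dd5de752517f17277427f25dc801517415e07f57225da741547915d88007405d97ff))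 (.leaf (nat_lit 0)))))) (.node (.node (.node (.node (.leaf (nat_lit 0x230fb0be0bc12812a1292274f1131280bc1221272086611d1261251240bc240e30bb1231220bc1212001512011f0db1190bb242bf0ba11e0da11c11d220340d91090ba11a10f210d011c11b11a0ba119238651140b91170d7118220d60bd1170b90c20d6201ba0d51160d51150b92456b0b8114113111112210d31110c00bb0b80d32016b1100d210f0d20b8241ef0b70d110e10c10d210d810c0d00d00b710b200c310a0ba1091080b7198640fb0e31040b6107180c71060ff0cd1050b61b0cc0cc0b50b61040cc180c11030cb0fc1020b51b0ef1010b40fd1000ff1a0e40fe0fd0b40c90fc1b00b0b60b30c80fb0fa180cd0ef0f90f80f70b31c8630b20f60c60b30f5180ba0f40f30f20ec0b21c0ff0b10f10f00ee0ef190cf0ee0ed0c30b10ec1a00a0b50c20b00d60eb180cb0e40ea0e90e80b0192a50c00d30b20af0e7)) (.leaf (nat_lit 0x4d3478df8df8a39b092e4d3328b298e8849d19244d32ea209ed96388289f4d32da1f8958dca1e8c24d32a9968ab9eb87e89e45328a1d8da92a8c689d4532595096ea058c889c45323a138fa97b8d889b453208d7a188cfa1c89a4531f8d69538d68d69204531d92686a8ff92f8c54531ca1b90189b9db91f45315a1aa198d389c8b14531099fa148fda188994530d97f98390b8d1898453088d08cb8d08d0896453058699948d78f2897452ffa1789e8ce9e091b452f394589398893c8b5452f18cc8cc9438f4913452ef8738d08cb94e893452e69008908ca9088aa452e19d887195c8ec910452dba168bc9528d988f452d48c78c79c193290a452cf8e2a158bf8da88d452cd9128839ae8fb8d5452c89398c48e59ac909452c2a1486ea0d8e488b452ba8c2980a0b8c28dc452b98c19289418c18fe452b8916a138c0989905)))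 (.node (.leaf (nat_lit 0x4835867b67a4df4bf34f482366796784de51634d4a05f67757634c4dd6764860c3e735b67635834b4a9313d160234a5696754c4493493e356934a3e2483dd6744c86734d03494c9303484d867247c4fc4a06767166834867066e4992f47c4d66703484d04892e4d54d566f3653474849c4d44d466e4e23464b92d42434566d4544c64a92c66666d3454845c64c92b3444d166666c41a4b92a62634366b4d94d64a55666c66b34334441b486c84224cd4c36063424a4cd4cd4ce3405f04cd483a74214cc4cc66a340483c73da4cb5e63dc33f4c92933e4244ca3df4214a4c94c934433e6694c9499283df4d966933e3dc483f94c73486684c733d4c92733b4c64c64854d34a4c54c541a33b6674c5499264854c466733b50f4c4c333a3404ce4624c3483aa4c233b41a4c233a4b5105c433933a4646664a1634c0458338339665)) (.leaf (nat_lit 0)))) (.node (.node (.leaf (nat_lit 0x3c2df1e82df4422df2df3b5942de1e84344414403b44f43f1e743d2e51f23a2dc43e43d1e72dc2dc388c82db38d28e43c1e6382af43b1ea43a2ed1e53c1a71e44393931e64383b2904371e41e52d8436381684354341e82d71e4383313222d64334311e33936e25b4322d51e24313c8c71e138642842f430393cc42f4051e31e142e3907b2d242d42b1e0401382bc2531e22d142c1df3b2d03941de1df2d02d0388c62912cf1e042b1de3a1bf3932ce1dd1de42a398c51e34254271dc31d381c025a2cc2934291dc3b04c4281db1dc427292385962ca2912ca4261db3b43221a1da4234254243a8c43414231da1db4223818d2c74214202c71da3b2b741f1d72c641e3833907a3d441d2c51d73f33b3cb1d91d622e2c422c3a2c31db22e1d63412c3388c32c241c2c241b1d63c5251d52c13411d63443818c41a2c02c02c01d5))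 (.leaf (nat_lit 0))) (.node (.leaf (nat_lit 0x519a77d06df7cf55a5b4536b36de55955a7cf583504037b461d61e6dd558516dc6dc6dc7035576dc526db6d97015556db6db536da7505505515b36da502026db6d95526d9550507a16d86d85775c554f539a67bb54e54f6d75785409554b7ca6d66d667b526d56d56d554b6d56d5546d45496336d16d46d4526d36d06d35496d36d35381877b5486d25a77ce549a554777b6d46d17cd5377c6d35455476d0779545235426cf7b56cf5ed525007cc63553e6ce6ba5442053d6cd6ee66273e509a46bf6cc6ba6bb53d533426ee53b53c6026c8536ca59853a7c45996ca526c96c97c453a5506c9544ce5396c86c86c86cb509a370f6c76b9710539505496c66b46c67cb536526c55365415346c56c5508246c46c46c47ca534536c36c35336c36f26c3508027806c27c96c2533516c16c16c15c35316c15482952c6c06c05df541)) (.leaf (nat_lit 0))))) (.node (.node (.node (.leaf (nat_lit 0x331d31df14b2d01df2d13288d25d2d014b2ce2cf3101e14e1dd2ce14b2aa3329514d14a2cb2cd2cc3270e2c32cb14a2c82ca342451492c92c814a2c73388c2c41482541d9252321d814c2541482a71d83046928e2c61d72c51483488b1472c42c32c12c2312432c11711491472c03111d1fe2bd1d41462bf331df2be1451d32bd2bc301942bb23a2b61d2144331d12ba1432b72b91d1322f82b82b71432b42b6313662aa2b52b4143145341ce1422b32b218d1ce321cd2b116b14218c1cd331e52a91412ae2b02af326442a72ae14114c2ad304571432ac2ab2aa141341641402a91c91722a83453013f1c82a71482a6330e71c713f1401712a5303732a42a32a21c613d3113215c29613d13b2a13488a13a28a2a029e29f3147a29e13d29613a29d303fa29c23229b29a13a342ea1392991f613c298332cc29713913a296295))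 (.leaf (nat_lit 0x6d8508ef9dfa469f29d46d84e9dea099dea4f9d26d836a49a00a479dd9cd6d831964a4f9dca0a9c86d82f9cc9db9ff8d49e06d826a349daa2b9da9d96d8259d9a269d9a4c9da6581b8c9a319d8a269c2658179d79d69bd89f9d365813a4d9d7a499d69d56580f9d59a99d5a4e9d66580a9b4a4b9d49d49df658079f39aa9b586f9d765805a479d2a4d9d29de657efa099d19bc8de9b5657e994ca4c9d0a319b4657e09e09cfa2da179b1657d99fb9ce8f89839be657d39cd9cd9cda4b9dd657d19dba439cca1b9a8657cda2aa1aa349cb9a5657cc8e4a1ca2ca149c9657c492b9c99c99c99ca657c39699c8a4a9c89dc657ba9fd9bba0c94f99e657aaa0ea39a3a9c69986579f9e18729218f99bf6579d9e98809c49c49ad65793a19a2a8f49439925d78e8eb9c29ea9c29d85d7709569c18c7a399c05d76895da288eb9c09c1))) (.node (.leaf (nat_lit 0x4b4564394375df6c04474a97274473f43674343a495dd5dd5dd7434365dd4b5dc5b94357267425dc4a61d4427264355db597489714385da5b17414354c54e4345b95d97405f4495d87405d84414345d84897072343673f5d74344b96f5d643173e5d65984a5d55d573e4314335d5496e55d473d72f43073c4838473a64d5d373c42f4c96e42e50973b5d273a4a96d73964742e5d14334c5d042d5d07385d05d0485c05cf7155cf73742d4b5ce73642b42d5ce5ce4b5cd73542a70d5cd5cd496485cc5cc70c42a42b4b0405cb4294ef5cb579486175735315705ca4284c5c94275c942f4285c94996c4546f45c842451c4996b5c74274254236424c96a4205c65c65c64d24b5c55c54204216d85c54873e4c15c442255e4204c96941e5c36c141f734487277335c27326b241e495c15c141e5c141d5c1485cf7317067305c041d))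 (.leaf (nat_lit 0)))) (.node (.node (.leaf (nat_lit 0x4049d4c85793df4ca297442e72962fe578297577404d95512b955b2b5296448fc29534c5764cb4c84206f5753db29557429b418fb4cb2bc5742952b5443162923963d9572573414e05723d8294292571413d742b4ac3d72913d7413d63d63d63952903d6438fa57028e38d3d5390413d42c53d443c28e3d4423cf56d4bc28d3d356f4451728b56e56d3d256c431124db28b28c3cd56b423d05682a028a3d03d0403d34e356a3cf4e428a4462728934b3493464e3421895693cd2893d1565442d328846f5683cc567402c4566561565564288438f95632873ca562561415f83714ff56028637a437593c828528656055f434cb2862843c737143f426552853c628354e4ad408f854d55e3a23c52834075655d54c32355c282433c32b92803c32ba3c34303a55827f29d36455b4019f55555a5593c127f448f727e5583c03c0557)) (.leaf (nat_lit 0))) (.node (.leaf (nat_lit 0x5b8457887028147df83c5908a7de7de76b7017e3590837027897dd6ff7b65c8426fe7dc83b7dc83a5c0936fc8397db6fd80e583598388377da7da6fc5a9ce7d97006fb7ff7505c7d86f97b77ff6fb7d85c06c6f370e7d76f770d5c7066ef7767576f17865c7d56e77d582a6e87d55b8497d46e77d480975a5b9cd8086e36fe7d38365b7d27d26e27d27817d2589cc8157d18357d16e25c7f76df8347d06e0833597cf7cf7cf6df6de7cf587ed7ce7ce77a7716d2589cb7cd7cd7cd8326d15c9ca6ce7cc7cc7cc7c4597cb7cb7c37cb6c67cb597ca7ca6d67ca6c47ca5a7c97c97c96c27c97c95869473e7c87c87c86bf597c78177c77c76be7c7597c67c67c67be6bd7c65876f72a6be7c57c56bd5c9c96b96c96ca7127cc599c87bf7cb7c36b88315c7c26b282b7c27337c25a5837c17e46b27326b35a0776ad71f6ab78c77e))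 (.leaf (nat_lit 0)))))))) (.node (.node (.node (.node (.node (.node (.leaf (nat_lit 0x232a705c02702c03f0562010e05b04304403e0262303d04002505903b03d2228b05a05902504a044235f103602405803d054223c205605802402e0572430b02303905602a055202480320540530350222134e03704d0220210522303603b0200360400362028002d035051038020200d905003402903401f2130202502204d01e024202aa03803204f02d01e2329204e01d01e04d04c200e803004b03002b01d2321b01e01c04a0250282235e04304a01c03a0492031803504804703201c2343904401b03f02c0462010202b04502b03001b2449401a044043039042200f204102903402901a1917602204002801902f1902701d03f01b0170271a17902602601601803e181a603303d03c02f0161c1fb01503b03a01c0331a02303901f01501a023191900280330370140381b0210210130140370211c1b3011036020012035)) (.leaf (nat_lit 0x6183f83f83f8517e583f6383e7f47e280f83e83e6383d83d7e083d83c83d607f583c83c83c83d7df6283b84983b7dc83b83b607fe83a82283a8217dc638398397db839813839643b57da83885c838806638378377da837836837609dd8368368368377d3628358358357d1835835638348347d08347e1834607337f183385b8337d0618328327f18327cd832609dc80183185a8317c36076e85882c8308307be619db7be85982f7bd8516308c82e7bc82e85981c6182d82d85082d7b282d6182c82c83082c7aa82c6408f7a27c282b7a88106156282a82a7d579f84d606c082985684381d79e6182882882880a79d8286182085185782779b858639da826797826857825629d9856825796825826646c47958438568248555944382282379078f7b75982282383a82278e8225b82182178d82183a821588277e082085482078d)))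 (.node (.leaf (nat_lit 0x4433f2dd43f3b844d3c74478a2dc3b743e43e5e44319d3b62dc2dd44c5e3414ac43c43c3d42db5e04443b2da33f43b33d43b4290e43a2e32da4555de4302c5df2d953052c5e2402705da5e14385e02d9444372d85df437437437402614365d75de5dd2d84490d2d75dc5db4355da4390c5d92d72de5d85d74290b4334332d65d55d1432c94822d5432483400405064aa5d65d52d62d54090a4304305bf5d42d4443532d342f5c92d45d3405675d24a65d142e2d34341d5d02d25ce42d5cf4142c38548342c2d142c414af3d75ce2d22cf5cc4029342a5cd5955cc2ce4122038f5cb35d2cc3e1447652cb3552d45c95ca415ff5c95c72cd2cb49b415094263254262ca5384125a33c2cd5c72c94a1404004d34ca4245c82c9434234232c82c95c7423409094ce4225c45382c8439084cc2c75c55774ca426cd5c65c52c74205c4)) (.leaf (nat_lit 0)))) (.node (.node (.leaf (nat_lit 0x3b23f22918a23f23f23f3c36018823e23e18a3653b8a523d18836429d29a3a18023c364188189363388a421626523b3621873923a2121d221018623a3a2a02392391853601a3388a32272311af2381853c237184361360185237384de23623635f2a3184398a228129d27f1832a33c31918223435e35c35d3923335c1842331822333829135b1c235a2321823c23118123827a3592313934f3593572301813583b68822f18022f357356381863552c32c422e17f3b22d29317e35235422d3a28835335217e3502c43936322b35135017e1803922a22a22a34f17d22a3863b23f1b51b622917d3b05827717c17d34f2173b24d23817b34e2271b53a4e522634e17b34d24f3922518022534d17b2253c2241791a3187224224391b626634934b17834c3c57e17722233534718a3b06122117717834b1813b42934a176346349348))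 (.leaf (nat_lit 0x5ca3f951a3fa3f9b3a3f59a3e99da3e95794aa3e5ca3d941982a3da3da3d5ba3ca3c93993c988a3c5ca3b935a3b9afa3ba3b5ba3a9af9329c6a3aa3a5aa3999b9c69329c1a395aa38a3893a929977a385aa37a3796a9279baa375aa36a3692b92396da3652a359ac954920939a3553a349da91e9cba34a3451a33933a33a33917a3351a3298994898b916a3254a3190e9d8a319d0a3153a3091190a981a30a3051a2fa2fa2f94c903a2f51a2e91390b9838f8a2e51a2da2da2d9cf8f7a2d53a2c96f8f29ca975a2c54a2b8f0a2b9daa2ba2b52a2a9cb9c38f0a2aa2a53a29a298efa2999aa2952a289069c08ee9b9a2851a27a27a279b98eea2754a268ec9d9a269d8a2651a25a25a259648e8a2554a248e793c939920a2451a2392092f97d8e7a2352a22a229098e6986a2251a2197d98a9ac8e5a2154a208dd91199f9a2a20))) (.node (.leaf (nat_lit 0x4963f60778163f49863f4984053263e7494977804963d4ac73660449563d4c6384915146b663c5124b22963b49075e77f5404a5905ec75e49063a6ab4c63948f5eb5ec6396394c63c48d53f77e77d4904998b77d77c63748d4be4998a63163648e48c6bc496356356ce65d48b6354a6345ab6344895ac634489896336d477b5b74884839177a77963260e4874a2166365184865f27784848e6307776107764804962f62f6bf48247f62f4898877562e76062e47f4c98747e7746af4806a24a5807626b347c6727724898677377177262b47b4b69971447a59058f7714970c62958d58e47a76b4c56d4796284806af611483ce61659047a58e479483304d06146156744784a6257647094776256254b6246b34756246246244972276162362347576a4c62247477076f76e6224964e76e76d62147455c487b358958662076c473))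 (.leaf (nat_lit 0))))) (.node (.node (.node (.leaf (nat_lit 0x2a13f1c81c70ec0f213f2c15b0eb13e13e13e1032950c13d1c31c50ea1c62c13c0e910615b1c113c2b0120ff0e90ea1c51462b5951c40e81c01c31c22a1391c11c00e80e91392c1380e71bf1be1381382a01a1bd1370e71370f2293a01361361560e61bc2a01315b1350e41ba153291340e81bb1ba0e4134281211b91b81b71b00e32c1c50e21b61b51b31a52a5eb1b41310e21b11ab2916c1b31b21b10e21b02c6630e11871a31ae1af298721ae1040e30e11ad2840b1ac1a81ab1aa0e12b87119d0e012c1a91a82901b12b1a712b0e0102290160e319b1a20df1a6281581a51a01291a40df2b1281a30de0df1a2128285f212712719d1a10de2b1921260dd19e1261a02a5e319f19e0dd19c19d2921419012419c0dd1952b8700f60dc19919b19a2a86f17f1990dc0de198281331931971961950dc2c15d0db12019418b193)) (.leaf (nat_lit 0x5550e92893f8ad9809445550d93e8bb91594899d5550a9a393d93d93d939555088aca24a3c8cd938555078929f489888e9955550392ca3895f93a8e5554fe8c4a3ca24a3593d554fd92993893897993c554fc980937a16928930554fb9368bfa15936966554f5a3b8e0a0e93599a554f1934933a109be991554e2a339348b997a8e0554e1932a3aa398c7997554db87d93191d931996554d88b89f59308a8937554d68aaa239858d592a554d5a04a018ba8f18df554d392392d92d953927554d293a92c92c92c96a554d19c9a368a992b907554d08bd92a8da8bf92f554ca93895fa38940908554c893f8c19509378fc554c68a89f0a378b892d554c48d5a1f9a68aa940554bea088ae92598798b554ba9b69499448878de554b892d8a9a36995993554b3a079b2870922903554b297886f9c59e79014d4a7a23897a35a248d6)))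 (.node (.leaf (nat_lit 0x489503af63869853f3ad4833a53e65d6ce53e3aa4b94f6cd3a93aa4bb6cc4b53c3aa3a76cb45b53c4a53b53b6cb3a757a53b4894e3a86ca6c93bc3a64b94d6c83a43a55396c74b5a86063a255e422426492a644a5374483a15304a3b36c553639f5366c64953553553253539e5354c85539c3ae6c55346c44c84b3956c35333966c24894c63e5355323973954894b5315ca41f6c1394491c85303934393915374848749339e52f4943914a52e4e552e38f39052e4c52d38d52d57352d52d4b52c6c038c39143952c4a52b6bb47e38b6bf52b483be52a48552a52a38b4c52938a4826bf38b5294b25e6bc3896b15286be4894a6b76bd5135273894c5263886bc6bb6ba526492c16ba38e38a3886b9489495246b55245e13884c6cf3876b85236b46b74b7986b638739a5226b5499486b452139938738c4837e52047c6b3520385)) (.leaf (nat_lit 0)))) (.node (.node (.leaf (nat_lit 0x4143f44b43b33f21c4cb403674ca21e4c94c821c4331a2ed21b33d43b4c7412974253f933c21a49d4018f4c64c24c54c421a4353e4c32194c12f54c2423393394c12194c03394114e21b2ee4c02193f7416fd33730d2182174bf411a13624be4bd2164b7443352153352224bc335405ab33424f2164bd2154333345b2144bb3aa333428de4bc4bb2142154ba412d640d21830d2134b9406262ac2ba3304b82134332f41521221330d32f408dd32e32e4b54b7212438dc32d2114b632d2ba4272d4024b62114b44b5411953f732b4b4211214408db4b141132a363210446e820f4b34b23294b1388da3284b04634af20e3b7bb3a320d4ad4ae3a23a32620e4ad20d49a326388d94954263254ac20d3c32420c3a3324324324388d83234923c44ab20c383092d64a73224aa20b3b3214a920a20b2fb321388d74a83204a432020a))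 (.leaf (nat_lit 0))) (.node (.leaf (nat_lit 0x5267170d5de5d773f5e5535c47c85d55d673e6cd5373d7fe5d47f473d73d517677fd73c73c5d35d4526e17fc6965d273b650509bb5d378c6557fd5d2547395d17877fc7397395278175b7385d07387fb517377377177375cf7375409f5ce63d75b7367fa549ba5cd7357237355f0509b97f77f97347345c3548335c27f87337c27f7527327327325c27c1732547315c07317f6731731527307f57e35c07307305472f5be7f45d45bf72f509b872e72e7ad6805be5432c5bd72d6137e27095172c7e25be72c5bd72c509b77087a277572b5bd5372a7c55bb5bc72a72a505746b57296ae7e35bb5205e5bb7785ba7006b6515c27427f37275b97bf505a27265db5dc7f25b8535876585b572072571b548015b47247e75b57f1502fb5d77237357235b3516237227f07415b15b6530546f45ae60c6f55f1509b67e67167257205ac)) (.leaf (nat_lit 0)))))) (.node (.node (.node (.node (.leaf (nat_lit 0x1c0fc0ae0e60e50bf0e41b8620df0ad0e10e30e21a2e90d60e10ad0b50e01c8610ac0df0de0dc0dd190090dc0b20d30ac0db180c50da0cf0d90d80ac1c2870ab0d70d60b00d51b20f0d40ab0ac0d30d21b0ec0d10aa0b70d00cf130b30c80a90cc0ce0cd120b00c20cc0a90bd0cb100080b40ca0c90b40a9140b60a80c80b30c60c7110ac0c60bb0c00a80c5100070c40b10b10c30a8140b50a70b00c20b90c1130af0af0a70a80c00af100060bf0ae0ae0ae0a7140ad0a60be0bd0a90ad130b20bc0a60b80bb0ba120ab0b90b80a60a70ab100050aa0b70aa0aa0a60c0040a50b60b50ad0b40b0030b30a50af0b20b10a0020b00af0a50ab0ae090010ad0ac0ab0a50aa050a50a90a80a70a60a5520a40a40a40a20a40a4530a30a309d0a309f0a3484e909d0a20a40a209b490a10a109b0a109a0a14a7e109e0a00990a009a))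 (.leaf (nat_lit 0x452b596c9368c692a8fb452b28be8858be958904452ac92a97b8fa96c900452ab8bc8c897a8b98ff452a3a1293e8e29428a24529f9858a492ea1188a4529a8b9a109338bc8a5452999309129ba9278fd45294a0fa0e8e088d8e345289981a0d86e8b6889452868fb8969969128cd45283974a0c9bb8b48f84527d952a0b9808ad888452768dea0a8b2a09886452718b18b1a0888f8d34526b90887ca039008ac45269865a078af95a8f1452678ae9258aea068f045262a058ad93f8b38844525b93c8818ac9458b0452529bb8db8788ab88c4524c92f866a049268ca4524a8a992392b8a98e7452479279088a89308e645244907a0387c9498e44524094e8a19fc8738814523da028a58e391a8b94523b98a8baa018a4880452388e98a38dfa0087f452358a291c86c9688bb4521e8a18a69a38a187c452198f29938a086987b))) (.node (.leaf (nat_lit 0x486e654348d4bf4df3374b9254be33666439b637491aa4bd66433633465e4c1af3323d33473356634b6a066233233353d6614892466065f65a65e332481e34534b948b65d331499234003a84b833065d4925c4b765c65b32e3364b4b65a232c32d4b64b6487095a94b532e65b32c4a6545a14b432b32c65a4b9224b33294046594064a92158b4043294b2402487a532a6586574f6329434b055f3286084b04b04142b4af4af607328648414ae4f25716563274ae434a94ad3263276563c64143c63d3d74ac325640414ab4ab4ab55c3234ab413404314aa4aa3223a7444ad3214a965046f655444a83206546534a84a8409204a73224a74a731f4448d31e42e647601652434a550931e31f50a4a54047e6514a43204a431e432ad65031c31d4f06444091f64f64364b64e31c4319751b31b64c51c425427e564d64c31b4a064b))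 (.leaf (nat_lit 0)))) (.node (.node (.leaf (nat_lit 0x380da4192bf4182a11d43c2be1d31ec41737e2be392bd37e1d42bd1d32bd382d12bc3da4162bc1d33c2bb1d24154142bb2bb3c8c21d13302ba3c332d398c13c33dd4121d13ed3c8c01d02b83fe40f4133b2c62b71d01d1412411381f94092101d22b61d03b8bf4101cf40e3dd3da3a2b440f40e1cf1d02b43b2e52131ce40b40d40c3a8be40840b1ce24640a3c5e11cd409408244407392b03f91e34051cc2b0382da2af3ff4062af1cc3b25f2ae1cb1cc405404384a34034023fc4011cb3b8bd3301ca3fd4003ff3a8bc3fe3fd1ca3fa3fc390321cf3fb3fa1ca1dd3b2a91cc1c92a93f92a9381052112a83f83f71c93a03f1cb2a71c81d83f6385372a63f53f43f31c8380c03f22a520f2a51c73c2a41c62a43f12a42a43b8bb2a31c63ef2362353a0533f03ef1c62a23ec381a53ee3ed3ec2bf1c53a2393e03d01c43e83eb)) (.leaf (nat_lit 0))) (.node (.leaf (nat_lit 0x525056cc62f52952b7c8503557787c56be7c7528537646bd5276a47c67c5539a25285266a96bc6365275c52b6a95266cc6a85436a5256ba6cc5266ce503447c46b96c7746525536b86a65236b87c36b8505ed5276b769a6b7523540695226a663c6b67285065f7295246b5745522546b45216c66b45236b4526de62462c5206b37c1509a17c27087c15c251f536b17a151e5286b16b15046d6b06b06a367e51e546af51d7a162d6286af509a06ae6ae72970651d526ad7c06ad51c64c6ad5008b6ac5425437a651a5470851960b7c079263a5165a7926aa51b5196545056c7746bb6bc6a9517536126a85166a86616bb5305a5175156a779e7b9524126b86b65147bf518516a56a56a57bf5146a5536a47bd5136bd7be6a4505705166a36b06795135499f5127bd6a27bc62d516a17bc6a17b65126a1504bb6a06496a07ba511))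 (.leaf (nat_lit 0))))) (.node (.node (.node (.leaf (nat_lit 0x332ce1bf1382922942933218228f2921381be2913431313729028f1bd28e3026e28d28c28b1bc1363388928a1342881bb289320d51f62881341352873415e13328628527c26f3331b2841332821fa1693244428328213327b278332231b61322291b61703237b183229132281227341b413118918327f1b4340201301b3281132280333011b213027e1b21f83288827f27e13013127d3021127c1f727b133130304bc27627a2381af12f341ae12e1ae26912f1ae308871ad27927827312e3488612d2771ac2752763244c1ab17a12d274131314bd2751aa27412d273311a92642711a912c1a93088517c12d17a1a812c332d927212b1a72712703002526f1a626e26a12a342a112916e26d26c1323110c26c26b1a412926a343eb12822412f2692393111426926012a128268313361a126726412725c302501781291a0266126)) (.leaf (nat_lit 0x5d7589bf96b97099c9c55d7509bea0596e9349ce5d74b9f7a499d78889bc5d7479bc9bc9d18849bd5d73a8ab9c78b49bb96e5d7359ba9f18b8a379765d7349a79b9a27a289695d72ea009f79b88e99685d72b9439149b7a199675d7209249749849f99625d71e9b59e29d38729d15d7189d49b4a489b49d05d7119159559b3a3f9745d70a8f99228649e195d5d7039a8a449b19b19cf5d6f99b0a47a008df95a5d6f2a3a9afa3b9af9995d6f18899728c59a097a5d6f09ad88a9f2a469c45d6eda3597fa218c49585d6eaa189ab9a299f97c5d6e79aa9d39e286d9a95d6e49e69d59a989e9aa5d6e29b19a8a459a89cc5d6df9b9a069a79069645d6d78f1965926a049595d6d19a59a59a5a449cb5d6cc8e59ee8e797d94f5d6c793d9fc8a19a394d5d6bc8829a29aba2098a5d6b29a197e8fe9659475d6ae9eb9fa8fb9ae946)))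 (.node (.leaf (nat_lit 0x4c51341c5bf43072f5704996872f72c5be41c72e4b96772d41b5bd72c72b4b9665bc41972a5bc4fb4a6f372872a4195857294c77141869b728584699489655dc5d95b97274174c7164165ea5b85b87264840f5b75b771b6334154976a58d5b65b64137224c5b54117257167245b54996472468c5b44116df4a46e5f47124106da7234b5b25f340f7115b25b2484155b15b15da72240f4c5b040e5f35f46e15b04814c5af5af6f34f740e483745f772146661440d4996359d47770940c6144c96240b4144156347204933463450b40d40b71f480e171958b58c71e40b4b5ec4b540a5a971d58b495385a871c5a840a5094b06271b4075a76d258f4c5a64064135a65a65a64896171a6525a57174054c5a44047195a47185a4497527185a36594047174b7264b64035a25a2716495a14b46ea6eb4025a14c5a04015a05a04035a0)) (.leaf (nat_lit 0)))) (.node (.node (.leaf (nat_lit 0x4460827d5563bf5485554352a47227c5534ff554428f654e55327c2855524020928055155053a27c443bb27b54f54e2833bb4046b3ba3ba27d54527b413b93b93b935927a3b9443b82793b843f3ad3b8442f727843e3b754654d438f543d2782793ac54c4183834f54a3b527754b423b434e3b42763b43b4435363b32753b354a5494039954854754527d274428f45464872732785454206b3b03b02725415444049553f5435423af272443ae2715345412723ae448f327054044d3b853f423ac44c30b2703b63ac4345b3ab26f3ab3ab462434c253c26c53d33353e423a93a953d26c26d3a94018e53a4b83a828026c444cc26b53c53b3e34aa448f226a3a63a626f53a433693a526a5393a538a423a43a453926a26e3a4408f13273243a34f2269446fb2685383c53a23274304246126845d5374944213646045d2683a026e))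 (.leaf (nat_lit 0))) (.node (.leaf (nat_lit 0x5a41e7c37bf6a56a67275981582f7be7c66a48305b4736a46a27bd82f7b35c59f6a182e7bc6a27765b3276d769f7b47bb6fb589c77ba6ff7ba6a069f5a06669e7b969d7876a75c54269c7fc78769d81f595e87b77d881769b823590637b67b66a16997dd5c7b56987b56cf7b57b55b6506dd6957bb7b46e15a6207b369e6927567bd583617b27b27b282d68e5c7b168b7b16907b17b1597b07b076c7b06897b05c7af6887af68a7af7af5c7ae6877ae7ae7857ae597ad7697ad72e6867ad5a7ac7ac7ac6837ac7ac586907ab7a87ab7f8682589c67aa7aa7aa82c6815b7a968267e6817a97a95c7a867c7ab7a882b7a85a57b7a77a767c7a467f5a7a67a67a667b6ac7a65c4b16757e57997a56e8585857a47757a27a76705c76266f6ed7a368f6eb582f482b72b7a467c66b586d86b16af7747a16675c7a06657a079a7a07a0)) (.leaf (nat_lit 0))))))) (.node (.node (.node (.node (.node (.leaf (nat_lit 0x3907f07f07f09305f07f3907e06007e08305d07e3021709005e05f093058347fc05708b07c09205c312d209207a08705706a312c507a07b0650550603367608905305407905f3407805207808f078078337c007705205d083075323ec08505d0520760533477e0510710690620773407404f0550620690743045f08f09108507304e3407204d07205a04e0723067307107505708704d3481004c09007008e08f323db06f05004c08d04f3175708e06e08d04c0873106d08a06306d04b06d307d705e04c05006c04b343b004a05b04e05a0863140106a08c08a04907b346b604705707507405e3306808b047048068068304d704b06704908a047347b904608906608805a3106508808707a046065347ec045064086084085317b608406d063045083305a705304607407504533221082042061081059313f307e08006004207a))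 (.leaf (nat_lit 0x3d1858ed9f288a87f8a33d17e9f187e8898db86d3d17b9318e88e187d86c3d1759f08b08a79ef8a13d1728818e79ee86a8a03d16e8938fe97e86686b3515c8679639ed8688953515a9ec9eb8ab8788943515299495e882963892351519ea88f95d876891351508758619e98758903514d8fc96687499388e351438cb8738948a68683512e8729c586f9b58873512c8f58c99e887188535123870864922870883351228809218729d3882351189598c38b686e8653511186d9e78659aa87e3511089e8f38a29e687d3510a8688fc99d86787a2d1078958d589187b8642d0f58cf9e58698a08632d0ee86b9e488c8798732d0e28799e391086b8622d0dd8978aa91387a8612d0d78af8f986d9e286e250ce8628709b286386a250c68618639e1864869250be86486295b861867250bc86387597886286672860860860858860860))) (.node (.leaf (nat_lit 0x4391d47f30630762f62e424a462d52b3053064914121c506369502304367403724d652062c4d83044391c47b30330450262b401c347a62a627629303424e362851f30251d62743213304301478506626401f84775ad6254773014247630347630061d476404896106244756233004091b62260e4746212ff427bd4735782fe31c620434723be2fd5013694724291a61d5012fd30361f449192fc61e61d30061c449182fb3cc61b4a961a405b34ec46e4eb46e2fb436b06152fa617619618429176116172fa46c616443ba2f9615614466613449162f861261146a610431d760f2f82f946560e4246830e5442f74684684054d60b51a46760d2f7449152f660c5ae46b60b4205560a4652f646930b4391455e2f42f54c16094066b4986083286072f4432f02f52f36064c33ab427603a16062f344a605434603a02f254d460460))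 (.leaf (nat_lit 0)))) (.node (.node (.leaf (nat_lit 0x3c17c1b13c22351b43c13b27e3c01b11b227e27e388b33bf27d3ba3b21b13c1661b03be3bd1b93bc3a6133bb2fc1b01b73ba3b56a27a1af2313b92653b4993b81ad3b62702043a2e33b73b61ad3b11b73b2772281ac2773b5277388b21af2763b42761ac3c2751aa3b32751ac2753a2642742741aa1ab3b23865e27330a3b11ad1aa3c3141a72723b03ae3af398b13ae1a92711a7315384383ad1ff3ac2791a73c1fc1a63ab26f3a61b93a1bc26e26e1a63a43a03a05226d2151a53a934e3c11c1a43aa3a91a53a83b8b03a71a426b39d25b381733a63a53a41a61a43c8af1a22691ae1a33a3381773a23a13a02681a23b8ae39f1a139c26739e3926622339d2661a02663c3ea19e23b26526527a392741a939c1a119d3993c26319c39b37d19f263388ad26239a38739919c3a43639839019a261290395fa2601a219b199397)) (.leaf (nat_lit 0))) (.node (.leaf (nat_lit 0x523e46784e64e266e7a75099767e7a96796b04e15104d67d4e54e34e0673505717a867c7a77a24e05409d4df67b7a65436d65367a67a4df67a77c67a546794de68167e6a36795367867f4de678798678546774dd566677677677520796764ec4dc4e84dd509967a56757596754db549954d96f5567626507520717666694d966b67d526727586724d862c6725473f4d76f1758777799527017776704d64d77a4523e97a366f4d54f979c5204779866e4d467f4d75366d66d4d24d35f966d5466c4cf6116124d166c534636174cf4d06737a25199457755466a4cc551526986696734c84c96f8526686f04d74c76686685254f6676674c44c57a1503754d26664d16124c1501047a079f70a6654c05366479e4bd4be5176645012f79a79d79c6634bc546624bb56d56e6cd662505116617986616a84bb547e64ba79b66079779a))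 (.leaf (nat_lit 0))))) (.node (.node (.node (.leaf (nat_lit 0x3211712217f11111322e3087e17e22d22c22b1113354017d11022822a2293227f1a822811017c19f3087d1122272262251103417a10f1ab1a817a17a3002622411311417910e331781a010d2212231783226822222110d21f1143102821422021f10d21b3387c17510c21d17521e3217417421d10c10e1743026a21921c17321b10c3487b10b21a1721c9219321711711d510b1c71713334c11e10a2172181b63277818621710a2122163087a10d1a521521410a3456510916d1862101893413010821321210a211320d22101cd10810920f2c2fd10716a20e2071f32b20816910720c1691b82a2d720d20c1072062032a16716715b10620a1672c27c10520b20a1062092b1652081051651f8165281c9207164206107105284c02052042031631042b16216210315f2021622c1611022011ee1031612b3f42001021f41601ff)) (.leaf (nat_lit 0x556108d19ac98a97f9165560b8f89a187a91391555609a21985a239a49145560197ca1d91698b9ab555fe97b8bd8d897b95e555fd9179528bc9339ae555f7940960979938912555f69219e986195b943555f3977977940a38911555f09e89768999769ba555ef9e38fda14a2c960555ea8b49b69ec9749b3555e788a973a4197390f555de9729ae88396190e555da8f3a1796297190d555d79188ed9bfa4290c555d6a2c8e69099e395f555d29828d99bea109bb555d196d96d995a3690b555c88bf96ca128bd945555c7a419bf8ed96b98d555c694fa379f09fd92c555c39c8a409699699b9555be9689689e68a29b8555bd90191a9fe9679b7555bc9e48749669e5936555b99659a6a1f9a1906555b49dc964a259479a7555ad8fd8798dd877980555ac8868f79719629b6555a59618989f497290255599960979960960975)))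 (.node (.leaf (nat_lit 0x4b57f6fd3e93ea6fc57f482226fb6fa57e6f93e84a57d6f857d3e657d57d4b68257c3e557c684690487a76f76f64f76f33e44a48f57a5693e353b4eb4b0486f53df5796f45cb4a9593e84733de3e06d7481ec66a5776d84213de4a7725614dd3dc5e65804c5753db5655615e55754a7295e54163da3db6f3484985ca57352d5733d94c5723d86f25723d95724867c5714ae68749b3d84c6a33d541f5ca5705bf4828a6f16f056f6ef3d34b9586023d26626ee6ed4a6283d36623d256d6ec486a95fb6eb6ea6e93d2480d46e85fa56b6e73d14b27a4ef3cf56a56a3ea4c5693cd57a4da4db5694a48b3d061b3cc5686974842e6196e66746153cc4c9573cb6775666e56194a16d5655753cb6e43cd495646e54436e43cb5644c79c3ca5633eb6e33e94982a6e35f55623ca441489565763cb5754403ca495605606943c93c8560)) (.leaf (nat_lit 0)))) (.node (.node (.leaf (nat_lit 0x4237f51a51925037f37f405202bd4865182be24e448e924d51726324f516438e851524d24e37c514401b551351250c37b24d4448224b37a37a4493c94237937936a24b4503794437824a4fd50a31f3784137731f50e51124a377408e737624b36a37624a4366650324924a511510435ae50f24850d50e486421c637350d24824950c4147c24c40d50b24744d408e63c95063713c72474337037024624750b3704070f50a36f503509246432d5508245504507506428e550550424536d5034221d24636c244408368408e4500502369501244446ba24337937636a500403a54ff47d36b472242433414fe24124236836c4333e4fd2403674fc47d411cf2484fb366240251404f23654fa4f94d523e434ed4f823c23d3c24f74022b4f64f536332a23c4136233636236223b362437b24ee2374f33614f44223e3604f32372394f2))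 (.leaf (nat_lit 0))) (.node (.leaf (nat_lit 0x5177f77f77f80e63b77f5207577e6986388187c05477d63777d81863877d536d077c63777c67a65c5277b6d26d163371b77b5477a63277a7ce75f77a5365c77963277976d6d05016f6be72869b81763153777670630762671777517157767d67616307bc5477562e7a472b775775532e86a962d7a177469e5477362b7738107737735257677075f62b77262c505ba77162b75f7ce62a539c1772622765770768527c576f7656228167645483062176e8166228155376d76d62176d77976d5155c7037b076c62064e5159a70476b7de61f629515b676a81470261c623517ff7ad81376961a791529c080d7686188117705173c7678128116186e5517666737666196177665042881076f770765617536bd62561676476476f515e976380f7e261375d537a362c61077775880d51761623757776610761504617e476062e76060f)) (.leaf (nat_lit 0)))))) (.node (.node (.node (.node (.leaf (nat_lit 0x200c413b0cd0ff15c0ca241030c90fe0fe0fe15b230fd0fd0c90ca15a0fd200bf1530fc0cb1590c9210df0ce1500fb0c8158200191570e50e61560c8230f11550c71531540e5220f80f81530c71510f8213f71451521510c714e230f61230c60f61500f62086914b0f514f14e0c6244190c514d14c14114b230ed14a0c514714911f220291481470c513f137230f90f10c40eb0f10e9220f00f00eb0c41440f0200ca0c71460ef1450c4248680c30ee1440c4143230f30ed0c30ed0ed142200b714114013f0c50c32001713e0f00f10eb0c2230ea0ea0c113b13d0ea220e513c13b0c11390f12103013413a1390c1115201c71380e71370e70c0230e60e60bf0fa1360e6220e90e50fa0bf0e50f9200c90c10e41351340bf210dc12a0ce12e0be133208671320e21311300be235aa12f0bd0be12e12d201ed0e012c0e012b0bd))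 (.leaf (nat_lit 0x4d3fca118918d59858bc4d3eda1e87a9a1a1f8c14d3e39639758d29948b84d3dc87486b9868e69284d3da8b588e9a08c58bf4d3d59428d88bda128ed4d3ca9b28659e79c59564d3c597e8f89cea2e8b44d3c08f7962a17a2d9554d3bd90c8f689a8f69544d3b687190e98c8f59524d3b18f48f09c38cc9514d3ad97186c91c8f39504d3a68a0a2ca1c8cf94e4d3a39a68f1a1192e8af4d39ea2b8f4a2a8f08ae4d3959dfa298ef90294c4d3948ee8eba28a2794b4d39087f97096b8ed8fa4d38ca268ec9928c99484d3899c28ee9c08eb94a4d3888ea9908ea88b9494d37d8a39588e99b89424d37c8e887d947a259414d376a2487b9a4a238a94d37199396fa228fc8a84d36d9a48e58c4a2193a4d36b9ca8e494d8c38a74d35c8e38e38a589d8b74d35b8c69158bba1d8e14d35498e94787d8e18e24d3518e09358b7946933))) (.node (.leaf (nat_lit 0x4c4ff3693c96943be4ff4c9393684fe4fe4fe50a4c93836737869345a5084993745a6914fc3674d84b9366923664fb6915bc4b4fa69036568e4fa4fa4a4f968f68e36566f4f94c4f83644f84f85584f8486874f768b57b5af3644c4f63634f668d4b14f64b9354f53634f568c68b4868e4f44f44f46853614b4f368a3603614f34f3483654ae4f24f23a33604c93435f6894f15866564804961b3e03e14a335e4b4ef56a35d5cb4ef4ef4b4ee36135c6884ee4ee4a3644ed68835c35e6874a3ef46e67635b4ec6864c5f935a4eb46e4eb57a486fc6836854ea4ea3594c0a23586844e93e76834a4e84e84e83586764e84c4e73564e76824e74e74a4e668167f3564e64e64922652e67d3543526804c4e43514e44e43cf4e4494793cf35467d3513ce489334e235667f4d43514c9323504e14e135367e4b3d84e035035167d67c))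 (.leaf (nat_lit 0)))) (.node (.node (.leaf (nat_lit 0x3b8ce2ff1f91fa2824743c2fe1f83de4732082fe3c16a1f74724711fb3ee3a2fc47027b1f71f92fc3b72346f1f629932146e3c2fa1f546d46c2fa2fa3b2f946b1f54692f62f93a1d046a4691f52f81f93c3b71f44464682f7467385ee4662f64652f91f43b2f54621f346433a2f53a7a245f4641f34584633c8cd1f24624612e42863c81d1f146045f45645e3b8cc45d1f11f22e345c3b4622f01f02f02f045b388cb45745a4592091f03c1411ef3384581f34573b2ed33d1ef4552da2ed3a0444564551ef1f128b3b44b44f1ee201309454381c12ea4532ea2ea1ee380bd2e94522e92871ed3a7744474171ec44e451383de4492e745024b1ec3c8ca1eb44f44e1ec24c382b344d2e544c2dd1eb3c3e21ea44b44a2f34493a27844843a1ea2f14443c2e21e92e24474462e2398c94461ed1eb1e9445381962e04404444431e9)) (.leaf (nat_lit 0))) (.node (.leaf (nat_lit 0x5078c5877ba6ff7dd584536fe7dc5827d36fe6fe5433757f61a6fd7db6e6514ea7db6fc58157f7da543a257e5847d97d87bb536fa58357e6fa6fa6fa519b07d86f96f957e5825450b57d6805806f8669546f757b68f6f77d76f7536f668e57b68b6f66f6546f55796746e67216f5516f47215c86f45796f4505bb7d76f35af57b574539af6f25726f26c368a549ae56f6715ff7d65fd539ad66856f6f06f079d516ef7d66ef6ef56f6ef512466cb6ee6cd56e70f509ac6ed7a36ed70e56e506115fd6ec60164756d5380d59256c5a15947a3529ab6ea5a156c59f601516e975459a59f56c6e95432956b70a79f7d57a5519aa7d57d46e756b6e4534bf6e65676f560c6fd545d45646e56e5566767529a96e45e95645656e7546e35627d35825636e3549a855c7d26e255d7d15473b55b6e17505b07b4546e055a58a6e07d06e0))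 (.leaf (nat_lit 0))))) (.node (.node (.node (.leaf (nat_lit 0x3040930c27030b30a160318971d430920215f305338961fd15e1fd1fd3083026f30230730630515e3402415d3043032fd302331fa30115d2ff1b81fa322b63002ff15d2fc2f8334772fe15c1f81651b2308952fd1b02fc15d15c311f61ba2fb1c115b1f6308942fa2f92f81f515a334482f71591601f42f6343ee1582f52f42ee16a333802f31582f11ea2dd321f12f22f11582ec1f1348931562f01f01572ef300d12ee2ed2ec158156342981542eb1611552ea310e01592e11541532e9345771522be2e82e62e73140c2e61542e11522e5308922e42da2e31f2152332572e21511522e12e0308912df2de2d71e8151308901e72dd2dc1e71503488f14f25725d2d92db331cc1e514e2d81e52da322032d92d814e14f2d7314b92cd2b02d314d2d63088e1972d11e22d514d331e12d414c14d2d31e13040e1e01e02cf2d214c)) (.leaf (nat_lit 0x419ff9ff9ff9db89b9ff449fe89a89d9679fe9fe429fd9c799689696a9fd419fc9fc9a38a68949fc429fb9ce9888939549fb429fa9849a088e8989fa449f98879f99059b69f9429f891c9f88869f89f8419f79bd9b89f78859f7439f691d88498e9f69f6449f58839309f58909f5419f489093b9618839f4419f39d39f39f38809f3439f290287f9ad9df9f2449f187e9ba9129969f1449f087c92796a8969f0419ef89694494987c9ef429ee9ee9a487b8919ee3a9ed90a8dd87988c9ed3c9ec8789849749ec9ec3b9eb9a08788db8899eb3c9ea8769ea9c29ea9ea3a9e99c49788759e99e93a9e897695c8719e89e83b9e795b86d8f99219e7399e69a99e696886c9e6339e595e8699e59669e5339e496686891b95e9e4339e397586790496f9e3319e295a9b59aa8659e22a9e19c59e18639b29e16d8519cfa4e9e08ce9db)))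 (.node (.leaf (nat_lit 0x484275ff7586f17574584b97b6914577566925934a97a6ec75645749c6f14a5fc4585fc45645f5fc4844756c7555fb7544564826075356b5fa7524554a4eb5f960a45466d48f493c965d5f85f8453482489795ae45460a4814534c9784525f674f751519495f57515625f54525f54b5865b34515b07505d9489775b25b04515f34504b12748c44e44f63174f4b03b5f144d5405f17214b9765f044a44b4cd7354b9755ef4495ef5ef599482f67117105e25ee4484c6b744574e5ed74c6cf4b5a963a4456395ec4524a1315eb63944574b44c4c9744445b85ea74d7114a76374d6e4443444603487b774c5e874b445443489735957445e774a4424c5e64405e64cb5765e64a79957444444057573f4864a5e449649774943e481257485e345c74743d480464517465ee5e24394b2b15e14385e1524746496407417455e043843c)) (.leaf (nat_lit 0)))) (.node (.node (.leaf (nat_lit 0x4090040c2af59e59d2ac443fe2ab3fe2b85973fe4338d3fd2ab2ac59c59b408ff3fc5942ad59a2ab433fb5992aa5965983fb421c25975962aa2ab595414c72b033c3f92a931a423f85943f82a85923f8410f732b5935922a8338400564144084093f62a7433f55912a658f5903f54216041358f2a658d409410603f358e58d2a62c5443f22a558c58b3f23f24229c5883f12a43f158a4471b2a25895883f0587434ec5862a22a335f559441f32a13ee5854192fd438fe3ed2a15833ed2b9420765845832a14182a2401a33eb3eb5635822a0432653ea29f57f58156a4266f58057f29f3e95634218a5783e829e2a057e433e74dc29c3e74e93e74058a29f3e657d3e629c443e529a57c3e529c3e54267f3e43e429a29b57b408fd39d4da57a3a7299432e45072983e25084da433482992974f031d429423e02a04f02975783e0))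 (.leaf (nat_lit 0))) (.node (.leaf (nat_lit 0x587697ff8177d87d97405c83a73d7fe8487fe842597fd73c7ef79173a7fd5a07c73b7b87397fc7855881a7fb74a7fb847738580977fa7fa7fa8197365b7f97f97347f98447f95b7f87f87337f87ab7f8587d07347f78467f77335a09a7f07f67317f67e15c83c7307417f07f58455b85f83e72f73d7f48445b7f37f37277f38007f3597f27f27f27427267f2587428338327f17f17245b7f07f67227f57f07f0589d17ef7fd75d71f71e5c08571c7ee81d8437ec597ce84371d7ed71c8185b06478371a81f7ec7ee597eb71e8427eb7197eb5b7ea7ea7187ea8427ea589d08407e98417e97185c7807177e881e71a840597e77e77e77247167e75a6607207e67137e6719584a07e57a580b83f70b5a05d7607c17087e475f5a08d7457307067297de5879072c83e76372d7055b0a07e17047e18347f6589cf82083d7e07e0703)) (.leaf (nat_lit 0)))))))))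
noncomputable def u5a (p : Nat) : Nat := row u5at (nat_lit 5) (nat_lit 31) (nat_lit 80) (nat_lit 1208925819614629174706175) p
noncomputable def u5ft : BT Nat := (.node (.node (.node (.node (.node (.node (.node (.leaf (nat_lit 0xc80692c64b1c00b0b1801a003e0220b2d2cac08700e0b7a01640d42d38b84014cb45034c05703380512d0c0cd2d080cc01580cb01400ca2d34b41032405503200c7013cb3f2d000c600b4b3d2c40b0e2c34b29009c01d2ba4ae8005cae72cc0add00ac05f2c24b082c2c05e00940170100ad72bd003f2bcc011004803100c000c00bcafb2b5801300ccb1000340320038b0f00a00562c24b220088b452c2801c01200162c38adc2c68b0f004402e00b400c00b000b2be802701540212c1cb0b2d04b0a0098b052c180202c0cb182c100242bf801e2cac0532bf0afd008c052014401d2cfcafb2be80222be4050013c01c2bdcaf8003801b0020ad32b9caf3009c00c0098006005cad12bd402500280232b5c0042bd8acb2b58009005000300340222bf0ac6002001800580022c0c00b2b14007004802100800012bdcac4001801f007801d00700002b0c0040028ac12b4cad12b34ac6000c0090020ac02b40acb2b14002001c0062b3cabf2b28ac400040052b300042b24abe2b0c0002b1c00300080010000abd))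 (.leaf (nat_lit 0x1a4468b24be02460e183769bca599512541950e552294e542190463b5d657585d5d75a5d5885d7724a15215e0b1772207e24d60dd24be0dc29860da836ca0994fe6218ffe5409000a032abe6bd9af0aa99aea6be9aec52b51dd476656c83214948311b3d8ed253094b700d8ee1b24a1d9172459916e5a3285e45a27bc9e92a50a938e923a39694a8b98826212a1661d987e61e266c99590ee43a897e43d8978aa79a5e6982a866949a5a69529224f8290a59e93e64f693dc510142881b50b9ace50bd42d260c97d29c6207890a208897858c16188815559a935555a7c225889086c63b57a4df7c7a48a419368a3b9366648935e4d823088bc8e35f577d6220f81a08be28d88b87cb1fae7caca3522f5f277ca88b77c95f267ca08f17f4dfd223adfcf7f45fd00f5d18146006ca5b683d11b248878ac88812899e6279862b8299a5df95eca6095e657a991494d84e494784ea13884da137253213529a094684ca13484cca3a92f8a342ab24bd92f24bf29d8a709700ab396fe5be96f4953853215293ce14d93d094d))) (.node (.leaf (nat_lit 0x219ddea2185de9844e45d77a08627764a18899ddd8775c85c1d0da61691473d6910997768054452e14ba63f94b9761453e1db47677525d476addd4b752071787d87118301c8d6755df80558cc133082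cc0b2ce9305402693aac4803aa42633af0eaa140c80a506592213f541820247886c209c36c247826c19b0710f873410e130c5ad5a221ccc44a4a184445ad930b4a1473f1ba217e1b89f6264c218064bc457500529d114529c5c7d41a10a12491c5842249207155c787036c9599366521041bf5b241e61bd61e489c66d31b4b6f604564a6474d4c81321114129a10cd383497d3825ac042d4e04432497872549756c71c9042c0d1033e181123548d860341184305b892595b2d2581c8c42a109523e48f441f48ed23c490c42448e523448dc41e673d238108d7a948cd24248e871210745e462ec8ca5e9171458f45de23d64ee7f7dfe07f788ef292c3c50efd6d1458d1641ac570f1d15a476925a4a69220831cfc43862b84325c3982068256ce19c866c246de837a117eb5fa86fd6edc6f7660096d65f997f)) (.leaf (nat_lit 0)))) (.node (.node (.leaf (nat_lit 0x4e8ca90a5829504d0f0632a068a6bd9e0b608dd5c755468416e19d3229c5b256b95af6be82ed655457b0b9cf6a15e8579025c091058015f2e3415e2e3039d19fd8180e5d0f05f8867e0bb91ae0ba057e15f4f6b3db041c4891221488d9ac1059222106922048744144870707487c4194e1121b48793a063944130a3d39c13382893fd4ff7133413c32a81360a6c29a38f4e71044423c39bc10b39dc23b08e811008e4e6a08e010a3988237043ce3636d023608d4234042410b08c010508bc22e38e422d02b40a7063cbbd2fd4bbc2eec39519d4674438038f437c6730ff46eb0fdd5c760018121ba83fc1ba55d90fd91d447546e80fed94164f03f561996f965003b11a7912e61a112d0eac69d0e410d60e2866a19a50d443543fa5a203f41b9c6e65a0168703500ce07381cd07301cb365c39a43b181343a839443a50eb0fd91c40fc11c550ed1c2470c3f560511c60fbd1c75f0160d0fd11bf50e51c80fb91bd46f826b1210eaf120c2653ab84820fcc6e464a03ed4c613131b8c3f11b803eb1b7c6de46ed9b0))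 (.leaf (nat_lit 0x1cd1a1d1cb9a1c7791a1a686c7336861a196c01a161cb5a172025cb482ac9ef200dd7c72cc5ab564d592227c5a5564559426fe2ec8bac9b98ba65c98ba8a5f9574a59968255e956e55c255a15a25421a28566157856085b7711e8c2155dc28619dc31c819eb1c69f516a4a20d67a89f38ec63ae8ec23ad27b63af1f65c238b45d2a1f4dc2170888d37da88cd861df697d9df68294e5269494a4d948a524948c977876897187661d8875a1d722fdf2f7cc1f2d22e5ff87cb8a5594be530293e52c94ba52d280e3f327f63f48fca3f08fc4a028fbca9e27f23ec8fba3ed2279eb37ad9eb47ad48987ac8a3e93324cb28e24c993364ca25da1d5915e1d325c21d28750568544c562545151277b95151f8dc3e71f49dc70f07dd70f4914813e3c3813490e813204e172d5e157805c5577d5e55788a2391b246d287646991ae46a2071ce4205a2938669f9a738c6c76339d901b058cc7cc58cd2265e9f7a8de9d224df4b7a789b78b249b12a062c88b1a2c7252612784f6125250e12484987e070d5c332769c551f69c34))) (.node (.leaf (nat_lit 0x11a87651d91abe6a98762119075e6a3e1dd6ae87586a35a8e11b076a11992da1da52d96e007ad7e21b906e387a78cd5b8f19d57f419bd85d61720885fcc84d7638847763dd8d90e1d8c14d483b61694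8514bdd5f616c8562141db576d21af2849db314c5cfd14ad86120e547e73c02dc156c2d61568f5053c45591cf9a347581ba71ce1a3268cc4ac1ec95fb57c9ba51299a001c247036ea99a266849736ea08082009e1072c9cb172c23b20b80565540c564158d4950b6886a8955df177c9df077d086415e087257fde0e15c95fe6d443df0f6519e1b4519d4a1d27f28ce4a6928e4a59288a2d929027b4d04f0012902754d584a31ed5ba47b5dba36e89fb31ebc4494a104431cf935d57f928324122df807e01e80763b323f88357541d5220be0a274c5d510b082bc14910bb148c52250b05b656a55c657085b07abd5a821e087278b9e2d7b65e2c78ac591162d564221c8865d55e31240a0168052017804c8fc805459655bd56c164156b222d56d21b23ba77f1dfa219a07177ec7ee7b61c6371887e88bc5e7c)) (.leaf (nat_lit 0))))) (.node (.node (.node (.leaf (nat_lit 0x1f0b712dcc0762dc0bb731001f83794e6507c8de30f1cde40224b8230c8cd504dc08330d01f73e7c1f10f18de13780de20434c6f08c4e5c399c107396c1f53770ddd39a01ef3768ddb01ecc0e045cbb82dbc07530b41970cbc32e409832d0cb019103bcdd507f80e930f0c3d07f4196443c32a0640d2b0ca432803680d430601d8305cc19305817f3404d02340c1793400f070600d05341817a3410dd0357419335ccf8535c8d5f0c8818d038c1e70374c2c0798c2b07941920c8418c0c8031f34a0f8901bc06903e4b652eb8b6430b817e05e0d0a3570d5b0c3ccff04e4ca738f02940a4c13335681e337041dd0e7cfb236fcdc00354c0e07481d107400cf395c10908a810308a422831ac227041cc680894e540404c6731a803400b807001bc06e01b4b4403f021236742110840da003d80fb313c0f53518dcb387cc4e03e8db3083c20e31340f436900f90834c4c3f74c4b03cc20c03e0c4a03c8c8c3234e1731240f7312020b0828d2403c4c4702d4c4f02bcbce2f34ccb2f780b431f8ccc2f30d2d02b8c7f))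 (.leaf (nat_lit 0x1ad20b662846ae627d8a024f89a1266e27529e655e8b9651f15d857054c953155c5574789847511bc7704b9d6204bd19bb18bd9075ca86295c9d8a05ca046d119c76c1dad8026a21ab226f89b88ba22e78b9a2e58b9093d24de16f93b60fd95ba0fc217c85981c0a167742418773c80a72d5fe220123b78d822521edc7b12745d7a6eba2776eb490523fe022808602086822dd0f4d7481b086c10f358ca5d388ac7ba5ee87f71ee72299eea2351fda7db9f6c2339f6b7db43504480614184c34a48a11241dca0051db09b96b062c67ff888321f60ea7955e547c85e5325a619e258e19f8b9a55b8674948848e1228484942848216c253a13e84f494884ee13c8d0c8df7e448d97e41f8f7e3a1652281f10226a1eb7af1ebb82f089a7a848947a95ea27a81ea425fa1f625e21f587e24cd87dc810202a1ac76e1cc577b1de7258217e256a17d85f217b85fc6195b89eb6184d6e07aed6e11afd8bb62f1f9c79509451ae4a4693b8a4093b64ec93ae4ef1ae58ae753611725098af1acc8987a6de9c7a69f4a2249e99))) (.node (.leaf (nat_lit 0x56c2d9332015533182d80b5c54d2140547213d4d8535dcc1055c2d00b3c2ce0544cc30b346446c0463e5d7d75e5d8193e130c7cd5d8538c1f3138b12f48272085efb7b59d06741dd05185d6dc5c11ef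85b75c0b18442ad13f8f1f4df82a750614000aa8f153c4c2a450304fa13e42a813dd3f813d91754ed02a20a98f160a80f143c44f103c5c2a513d0f184fc44f313c829f0a904f10a784f013bcf0f13b82a313b44ec0a7536c13ac4ea1f25c728a39bf36fc87c371d87c87931ec66fc5ec48b807c20a244c30a0c4c21305396130028812fd3974da53790a084bd0a144ba12e427f3b804b812dc2843b744b612d4edf3b7827e1d91aa56a91aa21d79aa16a8c7cc2755bf68bc87c681e9bf7262e225888e28b8a30985889098a88889848886220887a21f1eca01b6ef1b9a83d1b991eb044469052b167d927c10f99f7262221a260a2198862216885c98788522152606211884e2121f2a3501f11bf46fe22906fec4744bcd2e665812e511b92f011ac7671d984654b6196167608a28e5c89c7b0dec47b05ec2)) (.leaf (nat_lit 0)))) (.node (.node (.leaf (nat_lit 0x19c1b385f9866a81dd7e76cb066f5f9207224606695f8d7e51bb593d64f06e764e593b64e86ec845993764e06e67e260b517445cb581d60623056055a1c1d3367cda307350e1425839307490dd0e4839107310df0e401ce072038a0e243880e1cd971a01814604dcf519e98127d2051950f051350f543b50e8825198c90c5f0d7c15f097c0197451750dd439572851150d88220df10ab0dd91c8471d7861930488565d6934c554dd4c44482122531b1e104834c493134c506e9257193364c9fc664c46e31b9495964a06df64a5b0d74f06e483cde3864a86de649da3610f47321cc59ae49d443766c044e4ba84484b3d28c6939a23045010e31d424309082413a0844c4a2c741582c4464a2528a09b04873ba42664c48486121457221b1d5654ac86b21a856c05893c93d8015c3d902e30b8816135f4f560b8415b3d30cdf05642d3054c2d20b44cc4331411b3a452b00454e9b09602570468e8f09582550450e96095004000e808f023808d0230b6e105c4114ac9218485d5ee5a0c4764ba92e94ba04706ae4771))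 (.leaf (nat_lit 0))) (.node (.leaf (nat_lit 0x133d39c4f8c4c96e896bd5ac8347584c60941906080d0460723b1fbd7ee9fbc7ee48e67eec79d6d647977c49b5874d5b62127d347126534668a5b751e8090d80e251c241e036295e0370d296bc0d1060d417d6c218308ee2929fc49429fc323a0a49251e11e954ca67847e51925049818c56201880097b96e220228a0a229a6a47a91e647891dc7746b2476e6b21ac76b15ac623b5fc27f05fbf239dfbe7f007c66fadbea841c7c07b25be91f0a3496f747bc8c85bdc7d107c16f3c7bb6f41bd16f35bce1f01bf96f321c76f2c7ba6fe86d91b4d90f643990d6ff190c0e8839c1a0d0f9519d0fa478c6385cf08f85ced73a18c9e871b8895879606dc64959267d643f7472d66847303f147251ca1575705155c85867fd7015c1855b53e5d4453dd4fa53e055515654f6154d70a53cd4f153c854b73b14d4212d97215154d518396db5b056c018216bf68549bb8b6c9b52a0a2da8b622d91ebc9cf8cd1b928b287a927387ac6e35b8b27349cc1e99b8c1d95aed6aadb1a6a9a0591d7c7666aa87607c59aa86a9daa9)) (.leaf (nat_lit 0)))))) (.node (.node (.node (.node (.leaf (nat_lit 0x296e54d952e54a952654c295487979723db21ce03478c1e2f22162ab8a54a247979e5d21fc8267421d02741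1d012081d031d589a61d409a569eda7a269081d27e1ce6205dce58a609f7247e082246607d8f7207b81f091681760572442054815a0552430a56815c90680d2035295457c21d153521cd79b15d9536162c8801615553740555221fc58a555d55416115505df955111647511d412a24cd84534a844514a5c44b4a4128f4a3528e145482150d050f50c882050cc45a4a984544a952a469e92a30a344cb42d4eee0a1ceed42d850e50c0508205d42b50a542a10146f247991e747943ff5f34671246891919ae0545fa57e811507494a5044e4a4929350cc66724457cc24417cb19857cd09d0f8f09b8ec73b18ec43b142fb162cf8b3e30f8a0bd553605382bc32e02bb3a1c1483c902eb15dcf673d990b315d82e509c449009acf7e42d0eb942c46575e84651241979b5e6579a0a2c4c63baceec4cac28542c02f73e202f13df94325548f7d0bd858616145843df02f04a8464e772577f192177d5df97e8)) (.leaf (nat_lit 0x8fc2394510e7d484c43949c823608c101f1095143109124a19ec675600c924600a096829c6f11bac9632589969811e1971bbc6e9659e121846095f862c6a41a7a0b06591b3261bd86e1ba86e47e799357e7d934860c6e61b8095a809e01c76b5a2509b42673ac0489122108a3d3857315b486f568c86e21b5e1210091dd0ff126d47791db47705fb1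7d567e59d56746bc16730db036645e863618d508a5c9064318f48fd7a6975d704175c10011d9477c6ee0fe981b47683760dc0643190909d190509c1a59845611c69065b584680c46af1aa5c11769ddaa8061892148c51d20b54655191d1974a0363465862a18a435d5a293021b586d064119036409cd7640463718c48f723d97395ce1ff417585d0768961558516795948416104121448552131c199a617505ce23108c35d75c6c583c60818088df5ab1ad35ab56ab101c401485125b47ac6f447a82b10aacf23141d3ed14194230f283c45da06b81add76b45a03c30ef46af1ab91b649cd15a099425f43c847b46711db4bec3c8457c3c25dc115e62a46b4))) (.node (.leaf (nat_lit 0xe5d0e319e039143850e243903964eec67743953d619d83900e3d3b84e5c3895f5d39619a038e4f5066719983885f493d52089cf273d9cf573d1cf3207039843983925c4467a5ffc67923208c27d263e79134a3a7d2082b7445d1327edd12745082517115cb16f95ca5731f1e57242b60ac051314485113ca543520a1d097431d0b7429e6e20881c707043763ff4d8e0dd4ffa1945788192d7895f097865e1c6525e2de2e6595a5c5e3064c15417e45a514de53754dc15284f313b59334fdd500532547923bdfc923a5fc77f19fc57f2078a6c407846c39c096c35b0f20e607320cdd3e74f63bb74f06ce63b06c864a992970218eb1cfda3f68e9a351ce61c268d84664b404604b3d2ce4b352d11cddad41cc5a247ea1a22688c747266c7416941a4f693a258091d0aa3a14447111824111142874e0cee93b844bc12ec281122d9414e394e34c5c78712148717845e10783886b8d45e0f0b953c63d802df3d7c56b15a82e915d552a53a952e0b8c5740ba13e957ed52b15c95fd0b882e15038f563d542db5364566))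 (.leaf (nat_lit 0)))) (.node (.node (.leaf (nat_lit 0x18d48f57fc9c455cdd73318bc61f5bb06195bad6ed5ba56ea0944e8f4425107092d2b544086346f5c62e6da97327f9c8f409f82783b544aa43fc4a947a063323cc8f25cc572f18b573018948ee5be861f5be16f97168493123532a1e513294ca132718857df186d6f25fb96f15bcc1af481c35206a50690d4435018816ee66d96f05bbdb0c186851b209d442510451551017f814754485135449512944b145c14a05102b40acc2b20ac4f27147945551799095158829146037f51b90ae0de515c19411670df90e642b515b0de10ac457437d5e2d18b193c64e19343770bfcf980be4f9952c4f963e5c2fe3e54f9a0be0f935280f94026c09505a01670598b94339854021114ad52b884352b053a14f565314dd4a1528d4a052881e80ea43a80789010371c3a702c00aa2f081932f04bd230a031116b85ad0c2d59e16b10910c40fb016ac5aa0c2959d3ebc5d0580c5ca57c55f057b95ef17388bd17215ec57ad9a077cc5cd22f15ea171d5e857a48bb0410c640880c6203f8e30318c10103ec21b0868c5f0864c5a)) (.leaf (nat_lit 0))) (.node (.leaf (nat_lit 0x26f62e38b8a2e126de2e08ca84c75eb138f1f404c15f687cf12fd39112e537b4e41a6d4de84be5a5da6c6fcd37912e169812f53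764dd53734ddc7c912dc4bc4dc04b64dc47c84db936f12ed36d4dc84b54db179d4dd052d51e8834149da9a6569aa324ee0f383da0f583d221324d49a88a3e28e268a28c8a4228d1db1d4e1d99ab626ddec16ad48a3911dec67b7c89d7b1621727062f58bd22f226ee2f18bcc4c864713931309c1a5f5539413294d05f59adb4e644c44e68a0f2826429904e42790a252b25ba1b58dfc96886ca1b386d0a869830a80982a609982260b233df707d79f5d2325f5c86d097f87f61fa87f21f925e61fb1d6c9b026bc7558af5a876a18a04983e4af8fd64b08fd89fe249a09a827609c826ca5e24806785ff092119ca0905fec92019d97f563d091d5fe57f619c054352dc8476b9853d76214b628ba4929244a28923e4e39240a2d923a48d289e48b94a248c26b09a68a7a37529f629d8a70a0d94aa42f90364309038a072784a8e8db49db90ae36c2a342ce3cfd114520453d14f02c8)) (.leaf (nat_lit 0))))) (.node (.node (.node (.leaf (nat_lit 0xf3d2c20f2521e45cd17145c83ce45e06bd0f2116e45c116f0d005fd0ce903f410169041041460aacf1237ac14037982aa0294b9a3f6009f3454fdb359c1f30f10dd945303c337601ed07c43bf375c1eb3758fec0ef81f00ef43bc0eed1480ee81ea07bc3b90ee01e945283b70ed81ee0ed43b40ecc1e83c803b20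514e7233602a90aa0cb004fc11f0988c8132001193a942610478c7e31f4ccd0980ccf04603cd4809221630116d0f1d5ba04f4cad444ccd604dccab32b003d00dc0860214084020cb7c0f318d449503c645b06bb635812d38a4ea409f427c049cde208dc42908c4428109ce6e1098231107041b39a0e6708ac41a047425f045c25e0974c7c0970334179432e179103059213ce0ccd02e40bd0540cb52b940b433245085e34add2b80cb102c081115f07f8e053810e030f5420344f4e633808e6439a41fd0cc05e20ca902b56c164340a832f44405e144650290ca45e00cb94b8409d026414d0280ca01de3cb10de0760dba0e7839d05a41630bd0d7235c02f33dfc3284af13a617550200c89130)) (.leaf (nat_lit 0x1fec7f58615dba76e5e8b76d89688b8e1a1258a19c868230f10793761c2c70a10612284df095b86d616a85d0a6b255616b2355f7090d23f47dbc8cf85ac9b626c242595c22c596562c42a1e60f9838a8198366f39840a942a3a644990e6422ae2688283240c94c240b9024a06902871d678c71778699e467859e21ecc7ad6e75b9c2741b9b806455766494f01545dc221599951b7d97c672591f64786d9660c61d68496e45b95839185d8f1298ca5d96aa57095be56e95b483374b082d74b9d2b8fc1d2d1bd5f367cd46ef65b604c7e747f67211c831fc1c817209d2d23263e47d308c37d29f4b85c48e39131f9e7e708dd7e6df9d2a025ed97b8a7a97aa5ec97ac945846611b8f1e253846893f294a520947a5219474a4c947c87721c5e2878a5e278bf9e26215c8517cd5db876de3c076d871066f19c01c299ba25d59bb1dac7657fdc9b66acdab46ac88dd7e21f87235e39185ee2e41e51d8e1e39d916cde00f83f084120ee30d75b1d6b2819d6a158455b59516e3216d505773c7b81eca1ed6ec9bb16ec1baf)))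 (.node (.leaf (nat_lit 0x2249e8d7a09e832231e8191dc65a80ec6545e91a066b157a515c1582680d5286b1da0415a8973872a1c9871c96d871a1c81aa86a47f05882620d88468bc8937a21e862235e847a15e8712d47c112bd9941f019821efc4b41ef99816601bcb12b87bd12cdbd412b47bc6d31bc66f4c4b2642c7bb12b13671ee990c0da436318cd0f9440063243f868861006826f0d820607d8210fbd72d46e43e964951b85f503ee478157c1b703e846dd1ca18416c65c016c85b1d70118282db15605570b552e415585550e0837c19511bc53ed37842dc2da155055315492e20b514d51b9d92e256d92d64ac6e164b0348412505e41803425afc60a0d2504a418c3434185062182c76a7fbc7647329ab18b61b8312993536e284a06e087a94d504a56f51b7e6e0449f4d49b801291b786d813551e9c7a612784a31e9449d1e913516e107a311a47611d812d7118d2d61d7c4986d64492712daa84cd4799125d5091e604914ccd33454948af7bd9ef528c1ef422a6379278e3748dc63738dc09dd8dc877c1dd9ae76b99ae56b91ae3)) (.leaf (nat_lit 0)))) (.node (.node (.leaf (nat_lit 0x253e3c5252614191f213f8500650240d78a19297857c718e2167558271715b8560059756048e07e5604b2369f927e51f9313f940e50344f850308066c3c5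0a50a16931411a6350854201425979507d42273305035a486bb62e06b562d58b462c98b30c68ffe16f8ffd3ff05bd0c505205169459146945820ad45b1ad8940749d8a5628c6b062906b224f589d1ab189b627093c0af90810ae10c1431515843086b162686ab62658986259897193d7805e0d7845e097811924545212053f52fd4be52f579313813c613693c54f1144f56046a9621587f620587e1a8d8801aa1a31749187c61ed87d1a8865e60ed7af19617ad5eb9ccd0b6054f3d342d2537c54e153430765514e8453459d453c301141c8121405cbe536141e73005062044810140141d5621d9914156972039a65507080d13fc4844c2047e64598784c193070250b89056408e3318158055c4821e0047c4c05300535d85f0b792493d48f533d442d8158009232c8153054815102301500b50f48151c2ce3d14f463d1c3720db063e56f16dd4e2d388)) (.leaf (nat_lit 0))) (.node (.leaf (nat_lit 0xfe11ce473c3f247356611b942fd54e54103e48f910bdc58d182d7715ae06055adc8e279405f817c966859b166b599dc5027a638e8e349e38e2e5cb8e3060c5af06065aed6ba5ae5c682335f557d59f57231df537d50669699066371c17d171d1c7127a238a2788a908e263878e209968938990893649b893224f264623e8ca098b88ee23d88f099088e623a262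a23688e2237255c951857e15e857615c856c7db70a9c297b987d5709dc2828d24f592a24aa929ca2e92a48f07f29fcd7f39fcc7f2c8ea14205022054814683c8135a6081b838881527d9ce28f460db2a8a67e99f671c99f0a9c99fc4cd6d858951f587d5131db6229ca5af96b25ae96aca6c96b490624020258092036294e0231f69c2671ec7d47091c7a709492b82d233a24960b182ce0b216497545f6da6a69ac58c5d5855a15514f5215d80453d1ceb0f643d35c4980a460c6cd4a54a67960257f95f4a6195f257e243a03b242244e8f9a03980e8aa89a7669a9a726992a8a69b20d8a0574cc83074c8a04280ca3795564b72aa64b692d4a31)) (.leaf (nat_lit 0))))))) (.node (.node (.node (.node (.node (.leaf (nat_lit 0x9cc4943b0cebe3af449309b437853210a64290372428d0a509c048f3adc26a3ad848e3ae02010f4c1fb3800dff37f8e8c05f4d0b05dccfe37fccfc33f409a05940942e4cb92338016402641632e440932e40c7805881160924c790440c7731e02480454247091824531d8244043c1130900c7331c810d33e8c74044823f31c423e364423d04300820490b7901f0c932de0b770204123048812101ecc57048008504b412c04acc922df407f0400c6032e8c5803e8c5731640fe314c0f808582153144c5204ac2783a04c970494d963afc1490ac01433800ce132c42af00fc08b0228b2c00e4b8302241480ab82ad3b04ec00ab0142077439c433c1d736e439b3b080962e3815d30340902e28b8b073c38c3664d98433438b07241370a40ca5329028f328c13107343863a28ef9071cd960e141ca0df4d92364cd913cd81c4072437c0dec1c3364037a36500980584c073000b972e3c09205f0d5e33ec17633e0cfa33e41c63fe4eb73634d8c0dd01c0071437306fcebe0dc8d8b3ae008704c8b810204b7f2e00131))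 (.leaf (nat_lit 0x2a74a97999a6659992669999caa69a4e6929a40aa09a3e6912ac26c29b04aaa9afe6c39b00a85981e6069810a7f980e6052ab26af9aba6ac2a9a6ab9ab4aae9ae66b89ad8aa89ad66b7298a56c95a656b95a0a5c95a8a9899f8a92994cab999466522aee6fa9be4ab59bda6f89bdc88e79d8a2b222232679d5e742984a5b959e56695966c39590abc9bfe6fe9bf0ab69bee6fd286e453285645295024509144a99995a65a2a4e65499a6655261898029ce210936e20f8e68a3b93a24c22ab64c19300a3528b248a9224a26921e57a9220a952a3e698991e648991a64523648d3290a13a7df5f7c7deca6e99a0a68967a69496766672820a02930a4242a823fe92fcab99bbe6ee2ace6ec9bc26ed1b418f025386ca7f3d8ef2534a779720a71971e66097165c62aca6cd9b30aac9b266cb9b28aab9aaa6a99a9caa59a9a6a82a34a8798a6628989e6f09898a9c99a2663998a6612aeca961e71b5774d89c76d547966d588eb2921fb82395fb7291ca462ad66dc9b6e6d92abe6d89b68a3828ca5122aaa4b992e2556))) (.node (.leaf (nat_lit 0x145851057415cd57395cf50d46405d517535d49d0a5d5463a0c34fa842383073fe05a73e9c63d5d217475d1974523f06370c5030e4f293c855ac5b14f2c4eb4fa5ada4fa87e86bb84e518e973f77f1c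6218d17e35cf858673c954c1601546551dce80e350d2434c665199038743442f543242ef3dec58342305820bd0ffe3de82ee3de45813ffc78e6c95b1f6c79b208c607881d01ee91ce9a3b68e5a3768e01a14128347066cd350d1834519757ac195dc1d24257ab64908f37f69fd97f608ed831203e13053874df58284e184bb4e206cd63a58ea1b1d8e764858e80954e914ab424f4b244621184409100d2cc47c12615a791ef1e3c7896c85b232715b226c908b17bfc8ab8c75efe7bf1efd1fb47e77181c61717dc5e71745ad566d74a56695be169d7a719857b8648d7bf60c57b9196c3a91a2c3a3585d83260b468a0e9d1201a2111f44846870e845cf17248c022fd5ed22f974c1aadcdd62198887cf46a5621c8ff8016007802600880188f917cc8d3598165d234983e17b45f059648d15961f3f17a983d)) (.leaf (nat_lit 0)))) (.node (.node (.leaf (nat_lit 0xf11710516515b45706b00ef83c21ab43bc1ab115962598770f0580c455c3bb46a515845743c049d06ab5e117ad0ee917e0ef595e1a9d14d61f83b745383bc1a9944e45314be513c3b60ee98340ed11534c0141e45503b91a911520ecd14a1a8c6a20ee114945551aa45217ae0ec82af3c88f4d0aa541d453cf210ab850214045000aa0f2013fc267464047e462118c3ba02610578cd00b78ccd3d44158333826611f447c3d4c2603d1918e0560cd933601523d14ccf33685bc16d95bd56f08aa56ed5ba0a48f3f444d3a145cd1120a3008b2e24ded0214caf334813c0228c9d04ec13a0210cab04e46c163098bf63018be1aed8c11a1467f62358d724a981a635828312d04b309f536812c84b10a08edc3b984b009f0eda3b6c08401f812a04a4128049cb7c10b8720495042867b938a1c7c42d66fd9d21c78427494c71d10b1252494471c1c6d25010984211c4041b48b870f48b5962108122c1c3922b48a922910682646550ea809792fd3a9d950098d19b3a984790974ea53b9c26211e0ea44bb8ee33a8c25c))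 (.leaf (nat_lit 0x289a5c391cca2091c647291d09828826204881a20325f2205266a43c265225d29de25b8970ab19b226c72aae6c49b1a6c52ad26d69b54aae9b4e6d79b50aad9ad26b39ac4aa79ac26b225ea1e78dac97487921e68794ab69b866e09b78ab09b766df279e38697789e18e0e3858e10a5694da53394d653229425342af67049c0e7012ade7009c08a9098d26362a2a63298d66332aea6f59bd0ab49bc66f39bc8a7196a65aa969ca6b969a5a8295e53b94ea538294653794e4abe9c227069c267052ae2707))) (.node (.leaf (nat_lit 0x1fc1d9b7d587ea88d9c6771c47ef71949e2719a15d1fa5c641bf197c65f5c8625b197b1bd873569349901cbe23b687898f1cbda127ee898b6844729856c72c7039a0e2629a088570726179563b58e563a62985df58f05e26251b7a177188358e17a5178565958dd882176df5c6084923297608e247608c823608f22ac8a57b91ee67b94a2e83e872e1ca1a108431a0f7f2dc0d2069d2c73848148429ce0737c95f256644f946e17a91e21792169f3621521777cdddc12850922822c91c822a0f7822208927f23d88f5c9f68f54a9c8f58a6595e267d95de5ab297e576271a30a8c249c08c1a3088c1c6b062518957d1c6aa624e03a257895885e217785d8a6c85d467e602c6786029809602202319f5c8419ddc79601dc7a737c67c6019c7b249580419d980519b57de199c91724597dc5f7466c5f657db19997d75f697d8138c4dd4f613d74f594f44f54629188d7125c45cf45fd97ed19fd80c73849267cdd80d19e4a008f9257f8f9e3e68f949fa286a44c913e44e9134aa22850a40935a4d3935669928ea4d4))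 (.leaf (nat_lit 0))))) (.node (.node (.node (.leaf (nat_lit 0x200bfa01e811f0478c862f7816033dcccc0b80cde332c15a0470c7b045825b0968e9831fc19b0ce0d310cdcd300654e990388c3b03701e43514dc830a819a0cd8d2e34bcd2d06503350644d27349431e349018b34980ca34301bb06e81b9355c0c40324bfa030cbf92fe0d8131380c8329c1b82fdcd1f03081b70494c90323c11f323426932381e53710eb50e801df3708dc3016c0552ea40da03640d82d1c20e0f9c3e608211224479265079c3a6371912337141e10e940cb06f8fd80314bfb31081bc082ce100f84e0c0814f31383414d33941470ae82b932d8cb708283e0467c20446843df45582090f791850f7420341c43dc052ccb232cc2b60ad414532d020839802020f6c3da43bce0b075cdac0e581d143b4e5f39782060f642000f6118441bc3d70814e080f581ff38190ee381c03900cc07a01e4b2501e0b39048ccd93220ead321c11d09a01b84640d4e35341b2353119206dc35a3b583590d60eb206c40752dc410801bcc6c041ce5606d0f7606b83570d58d4b3b5c05801480d239480d0033cb44)) (.leaf (nat_lit 0x1f107be6f91c1e274dbe36f886315cb572c5cad89f18ac8f1100d1e01bc06ef47891e10ff43525b1905d5a8d126185c34c06ad0490d34d3d0694fe70d305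ca7bd95de57995dd1711c5717b96f617a1dba23396557cc8502505d41613f141566f880818c185518a9729670df8e75a85ef59588d0640d657233c5e926e49b38b463488b3e2d08b3848e6c5078e1e344885d0078c1c106fe6e75b3a665a1ce66548e27e61f9981be0327e688dc268899c29eca7a89e227789d880572a21981ffdca627b5ca71f7c7d92765c3287e231183285aa16915906d115955c8d58f168859c226958722648987aac8bb22d4a337c8a12d7c8611c2872458915ca169152456915461a70086145b8df8f6705cda25f61f4932e1f387c497787c87d0733dc06275e2781f29c070b7c2d915894ab3d5056154342d60b40f5a3d2d464524d4d61e11b016c09b006bfc77e6ee07d31f35c11787dc6d7041c0f0f616dc1b311825d3c6cb0f484fd13dc8052010803666140b13e84f420007ff662940350084c9130dbb464747d21f458d2))) (.node (.leaf (nat_lit 0x22a1ed88295eda7b65edb22888b37c21f0422b5f0288adf0328063eb8fa89fb8fa0a9d8fa4a3d9322681931e4c528de4c60934247114845144184503a3850413f880c506d526202d41a12854b76c555274d3134d126c2534a1824d117510a4af445c1d7c9b36a41b816e089b21d64718753d9d76af19d61c499d81d75a8c1d5dabe6c61a8a6a2c555153d4eb66414ec63799491dcdac48b89ac21db5ec56b0c78b6c51b156c487856c45b1310386fe47dc40866306fd1bf040d565d1f61bec407562d59825e21df8774972876e1dc87787a98695b867f59b886e1c7a316b88a157155cd16a159c228074b7e61d527ce5a5c696c74526c62b28ac62b329fa2b026ac9b28af22b726b22b48ada2b5292e677975a504978e50329147a46dcdb741e79b706dc9b7125c61c18cbc96b89ba1c086fc74969687436959a557b4da541d2099c694e26d6949a511d0857d15dd8ea21d58325ee55372456053814890f81422aa814469069ba0d869c183660d468a15f953954e08765f185785ecc254406c460117c24e3a4045e))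 (.leaf (nat_lit 0)))) (.node (.node (.leaf (nat_lit 0x12893501e8934f590449c4d381d00728d9b366838e0e350d913713bb4ef04d64ee544b4ee8677247d7fa24786715fdd7f814f8842529d4a652a14a514e04b04d8c7b612a93614d91362163c885162555f221155e220c58d69f888255695595560587163955d5580588556d62555708438268a0a20f605e75c1d6f1a9d9b21a8587961e187661dc2cc14e53bc0b18f3d44e05381a7e1011a658b5618185e617c2cf443c53f44ad1370b2453e0b2453414cd13a0b0cf3b14c82ca42185350b1113644b113b116d2a81d4d2a758604551d48086020013004bc12e2df8c9b0a4d1103bd0ef54e9428d134c41d105d2271c2533b489922514f149e5274536526d49c527c29f4f242994f20f9c4fa04e50a7920713912064814298481029d4f015f73db44e257d42970a704e00a58f99137d3cd137829b1374f9a0a54f0b48204dc21c1e0d782e31a8d4c86a783083e7aa9df67579d5c20e1d5d20f1d577558836754dd5575508ad7bb88a77bb5eec7badeef1e0c77d6bf9afc6bedafd6be85816ca057b569c8796c88878)) (.leaf (nat_lit 0))) (.node (.leaf (nat_lit 0xde4373467864719186454cbc4a952787ae540535955544a323a6016928e4aa238dfb387889f427ba3b68ed63b48ece3b22235e7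3901c887925de7279c48cc8530a3b805e1327d488c62241e7d88e9e7b2229e7a79f06eb64d9ae873a9c586ba46e5143c50950c481a206481850b091a81ae06a245206781a60682211e59796087e7959e5a795c87a21d1e34796de3378c9e3117195d5170166c5addf2b57505c562a08b822dd5d316fc8b618596db18408eb5b696d923a8755268da7969e074f6f69f1807f41f737d8df541443d145fc7b46e847ae6e81b9f7985b9e28fe4d228e64d193424ce933c933835092d29820d383460d218619ab5b796df60a8612631c8fe80108f8294a003800600220a9d0f7435d0e7c8082474406c56a306bf80798c984d9d511b118c8251c946804c6be631c65c5ea5bea1959bd17a9d7aa25c21bd25aa1be86f21ba86ec900803a00d23ea00b92f200c22f211e28d1f2984a1f2422d8a2296d4a1c919e5cd919a5bd297a55929625b1956a5579560a4793d4a4193ce4f193c24f2)) (.leaf (nat_lit 0)))))) (.node (.node (.node (.node (.leaf (nat_lit 0x28cb993f34fcb05f409d05f00eb07dcd063f240e530d41f603a81f530c81f407ccc3303900602e6c05a03800df2ee80de00dc03101dc0762c800752c7c0e932080e307c8c303780c3403a0c2f30c4e540388dda30b80e739641f139701ef0384c2d02bc19234080a930f0bc006440662d58b5403a4b530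180b5502b8c292efc1902ef8c1902a00ac06380a6340cd0430ac18d0178b4b0374bb60160bb92d280ab2eb418c2eacbae2eb00a50374d59035cc1d356cdbf35680dc39641dd3070c1b0358e5701ccb6a040ce4b040406d391406d03dcb613f68c4b019c0f601b0b5f03d4bcb2d800f4019806b2d70b5b0194b5a03ccb5d01a8b5903c8b5e2ea80f1019004b2dd80af0114bc302b80ad0128ba502b00ab0110b372e9c021006cb152c58ae1013804d01a4b5f2f84c2330900f0018c06803bc06203b8b582d5c0ed019cbb503b00eb03a8be401840502f7c04a02f80bd2f9cbe0013cb6a02f00bb2ce804902e802c0098b142c30b130180b500148b592e70bdb2f880c101300510300b3c2ed8b3b012c0bf)) (.leaf (nat_lit 0x13984e04f793dd4f7c7e471484ee13a13ee1fc13ed1fbdc6b10f04361cc168d5a3927349c843a10d072e49b526e1cb598510a44231c5d30559d924b4928929248e0ab82aa0a982a20a7259c961866230e866a199865c964257a525863618c863a18b155986d53bc855154159161b87956ce1b3b6ce9b396d0878f100593d65203fb65b193f62e8944845a2eb845e118882893e244890c29661a2812204781189622572185861e184861a1831ce07322645d9184eda26689487221b1e167855e14784de120b642d33d3c5511540fa63d3842b4be871a109524f1c6572818f17436c08636789db035d1063f18e57515d4174f695d74e18b972618a1e155c957235c9064860a5e9c19097697a8176a0ea83a41a35125449868c449090b24163ae80ce0328666031256895485a6168859e166859483220b1d7b74a9d2982a1d281af99137ba06b876a1da662e892e24a22fb82fa21b82f60bc17b590023345e77ad5eb764046ff1be59876ec897066199851c006fa662d9c7662998966208f623c1fe22935fe1293217f)))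 (.node (.leaf (nat_lit 0x1d61a7e26a89a969fdb971d484d958f87dc1f6d3b54ed04d312684941e6d9b84ced33c4ce849c4d0479c5298496556149f0c045910bec5903e71566163c4ea1f9c4e41f995684fa1bbd0b151054d6052c0afd47c48104771dd15f74bac77311c477213a13e71f955431389aea4f9847963844734bb477757d55f413907e34f693d91f887e113784e24f513d24f453d352344dc272a3178c6631a8c6e31827109da98f89d48d523538d4635221addf977d9df777d486577e052f20dd5f820d852951f15f414c1d4f618852a754c838752089d225df0d7ac5eb07abdeef21fde48791deb121e631c791887e7905e44790de45790887821f5e3d7901e3f7dd5e3e21dc7e4710dc407109c3f1f79c4114d1959520dd5e609452e5210532671948014b147f60919b40bbd0e73de0f6d15fcf6e0ba478d88a5b1c6c75b1b1e1c9c424be0c3830a0c024a60bf83044c6634538e4e607ce60644c016d55a656915a77ac05af56947f81fc9c8c722dc8d7229c892201e4c88b487a7925e4a792c2f24700f7216002ec54f51c1)) (.leaf (nat_lit 0)))) (.node (.node (.leaf (nat_lit 0x1a558441a3d84380218416108694610183f1a3996a60f983d0dbd3874b5108f5a752630da437542786405a8436f426909b19509055e4987c193a02e5e445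275c4d47151bd54851c05210e190c6431c38043151a8196852651b97bc148146c51b58b60ff83f81bb46ec47611d7475844310f538949ec73c1ced9431ab59ed1a9d890623d88e69006dc25506d6645991583f9ca01a7869824e1fe068f9a3d83bc45211312981d1c7464a6d7ea0b9130e0b791503d74f5c3d78522518d89d14714605189461148482c517945f5175a5d146c14c3cac2b832d41463cb42b71b69913644591264406d464e84df4f0d44e4f0944a13654510ad02ae1439454514850b3c9c6d8642d90a64259087c306d21a0d88c606067d82dd88b6ed868224a1afe249c67c605df0e10bc429495c7221c8525649545665c80861543d50e775c56011184405e3473d49f52805c2069a1a51853615185261458501a9987461d46a061c9afd61cc6d564018ff63f98fd752c6cf1a0595f19ed8166bed8157574422107071148c923148c122f)) (.leaf (nat_lit 0))) (.node (.leaf (nat_lit 0x2045deb27cdcc7781880b731856f15a5ad8549d52621a55251189a4769dd2da1d612c411709b88b4a2cb8b362ca26ca2cc1e31b191e19b1a6c61b166c5c7016639a791bed98c841998d12284841e1931c1e1531656608582149dbd76f1dbb88c61de23c9fd47f5dfd6876dfd523b088622022b12895e60797e2ae2a1260298065ff29fa5fe9800a7b97565d629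d65d297525d329fa5e529e25e4978e5e1978849e51dc79f1e79345126079d273ca848cbc9c9974a32e2a0c99f89b0a7889b626e89bc99924d20d583620d783660d624b89eb8e5e4a18e549e58e523961f79c301f61c2f70c5c2e8d307dd832ddbf70b5ebe72b47d72245eee79fde9579f888b7a005a96d19981168dec7660958e16a1596563489e168958b56305a1225c59b56195855611e8016808966f315832255bcd1668aa099de6752a6a67399d267621f1e3c288c8768125e3b78e8a60958e561958255f9588a5a28164238fe23fa8fdc9ff8fe4a0792fa4b78ff4a9f8ff0a0129aa58d962a58c9624a64962c65f5ed06595ec97b15ec17b3)) (.leaf (nat_lit 0))))) (.node (.node (.node (.leaf (nat_lit 0xaf0f303cbc2b65180f2e3d782bb147515714702b53cb451b0238088051cb85051814532603e15bb919f0f6d4521b514510f806d361d54540f698171b4839c494839619f467c43bd2550f79196614c3d8463118d46383da461d18546211840f511860f7527e462d50f46292800f5c3dc1b403d6615187260546cf0e6d22c19ec39543b50ee48bc07e2e0811c046cb7401e011a09a8f303c70ead3ab02641204268098847f4655194464d1920d7d19947ec3595c751fa41d035e4bd462718983584c7507909b8eb13acc48b1228eb209a010e31c010808cc23239b8e610428c6e08b010431b022b31b435d41cd0720d5d70c18946240d7062343106220d59071188427f4348ed649e04ab09e4ed70360da103481d63554dad075435b42f835541c10bf41bc6200358c103550e5a0340da8303c2773b3849a48242713b30ecd02f4c6134c41a906a00b7069c36818c436252b86305ba462f0d55101186434f41a506a440836743f462e43f10ff18b43610d693260d5061f41b906d4c9c3574f0c61b41b106b0d4461a))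 (.leaf (nat_lit 0x29164e893aa4e794c8a3f93a49e22a3e36f277236e91ca5e027824fe8dac9da8e0e36a93fc86928848632881def77b8a1f261239b29ca20b883220a25f8ab79b966e49b8cab19b8a6e629a25839608a6296066c69b98693837468d24c983c837893110fd8ed49d873566a043949dc73b26549941cd61e468b5a2c1c7897d67a0718679c97c68b0a3c28da5172aba4c4930e4e90f191811ac916558403c049dca7d977e5de9774a7797725e01fd5c7f71f5c8071f07ef71f8a39944ca332aae4bb92ea514261633d25fe20e8b4e20d8cf890180488fb8046010803e2912928a44940a50194026d793fca789960a722ad25ca972663829be61829a65a0979a59f98648a59275ecb227deca7d9e35b277235e275a35d8d7235a8d6ca2597126a591d4aa791c0a1f272232d8c409c293263118c3caa49a24a9e9a1e6869a166880fa91ce0f911b446cd1b21b6864a5dc46445dc176f5db9ffa1b44951254094f69606cb63c4937838a0e483960e6838c931235a02b2341f72859e4317dc46f6259c6f0259a0e765b9f71))) (.node (.leaf (nat_lit 0xe1d0c90e0465c43217b0196c882794a00d7d0de517c9087c252a12c84a612b84a094484a896b86a61a82596241919a1a71dc076a801e23f8029abf6f4c911811090b810e045955e04225aa1a525921a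686924f0868c8d87df8a417de48d27de1f7a24ca16d833e0cd24b20cc83387c36f85be06f7c9d26f787bd2672263898a34b265a26089849f08e9e3a62a549ea8e963a81e1878070ac9c06c109bf84089a78c2e28a8a2c9a18a22289247634581d491783ca07481d89a58a0499f8a0240589fe282269227d8a0e47a89fa59a26789a389f2499267627989ee27a149546920b851f519d46a51a0524601946651ad73a1479a5f04e013235c42920a44ca63bec82573f5d008445cff73f881f2091cfc2079cfb83fdcf973e84ae1ed5b1f12a135f1ed193e208e17273e081d73de0b927e898f8da498988d623488ce352263a23088c898888ba23188bc98d8d3622d88b222a88ac9872878aa4286245e962645d2a8c562217c85e541885d157085c267626889962678990997899885189f4a11212e1b67685da0)) (.leaf (nat_lit 0)))) (.node (.node (.leaf (nat_lit 0x136d3b852004d54edc7de5bcc35818783525a0861d5bc461c0d5910547dd1f844193220d4070f66d59b61c259b778f99b4101840061e91e95bbc6f347a07897695e401e0db0a6c31b0b0ae943c0ad051a420144314642b73ca851642145150ac451420bdd20747a1967474829747c6565e617955e5d8a319417961955cb6725c64f61ed7945e4c6535e3d78d5e40904193578e150453b52c14b252c54af760816e3c541680bf4f5733ac2fc05b4d730bec1673e4c2fa35d08497605d8075f884375f5d7f0b3453b0b1d3bf3cf948f14e82cb3cf053714d920548202c50c0102e1638f9b528c2fa48643ae1a603a81a5c69644a86950eb46941a4d12952906920e9c19940cc334064cd2c0ccc33216c99e567d59567b705ac67985b079f55a016a959e228c8a216cde3d16b55f156899f356845b122945ab567d5eb6e1c8a417008ae57148ad16e95c477cc8c181ae3ea7ce5f3828dc8bb0880e2c101821a38a840538ac117044424d093024b0928e8e11852c21d5d41b4d312c3116c4631d692c711752c54b18759))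 (.leaf (nat_lit 0))) (.node (.leaf (nat_lit 0x274ca878ce89cd98763392a18917244605b817205a816605813304c66e2c7d44e6db5e5e70a4e292250e942e50c943667a1d5c75126a09a769f5b9369f088b22162ba28a5e6d79b22a622e20127c5df1622ca1457c608b77c563787c5214422c5f1310103fe533190e47906f1478c81f73b09f978008198189ceb177962d176162e598d62b58b05dd63c162f175d62a7c988c62368a447f488d492c5f7f290ca0a90224029a0a40128124032a6a6582a526592aea6579a109f996dc9f32a663cc8f2e5b421bde0a781de09781886978207a374d1b6f6db9b6d6db079d2a26618985e61698566eb2a0ca3292764a1928249f9278a2c2a7a66d99b0a9899aa67499aca2b921a4852896483958a4842a9668e9a3668b2a7e68a9a30a19911e44b912a4499120a13254a14b253214a852614785209ed8e8239d8e7e39c279e39e2141dd12129d9e7675d9c767c8a48d79ec82279ec77b24a2c27ca5c427b0a988eb23ab9704564545c55e5ba150b777d50a158d50954315071575dda542028c0a184ca13244c8131cf37)) (.leaf (nat_lit 0)))))))) (.node (.node (.node (.node (.node (.node (.leaf (nat_lit 0x3b41fc07ec0e730d8c3731d00a105e017705d8b972e5809b010cd6e2e0403d2e40b6c2c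bc0420254094024c03c2e2809201e41122db407331dcb6c2ddc0780444c730440072303010f01dc10e01c4b6b0434bff043003a01f807d01f007b2d9803400ec0802ca0b2c00d4b2701fc0713174b6d01acb672e00b6801c00fb302cb6903e8b6601a806e30bc0f82d8cbfd2d88068005403a004000f00e40382c78083049807d2dec1253028b7a0234144050cb84021cb8305080d93054c14075cc1330480d301040912cb4b43024003b2cb80d30728cfb30340cd30301c903481c8302cca4071cc0a03300d00714c070328c3630181c4033cc4830141c33010c1203240cd07040c73000cf82ffc1c00330c3f06fcbfe2ff4bfc031803c02080360204b2a2ca4b2e0190b522d380e72d3405e2d3c0450270b322cc403f2cc009b005803e004003d00f003b004403601d003001cc0722d08b1e00d4b2101c4b1c00bcb402c7401400dc036003c035003803400e0b262c90b2200c8b272c8c03301b002d01acb1b2c6806a)) (.leaf (nat_lit 0x290a4df93724de936ca3c937499389163aa263624289122432a3a62c98b8a8898aa62d98aca8c9896624988e62298b4a862552150253a14f943214e8544aa199ee6792a6e6782af267a26b62a18a949a78a7e43d8a809b326b62ba8aeca7f8ae62b828be4969254a29924e4fd9250a4993fa4fc93ee4fa93f4a432b027139c4a71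02aea70f9c44a9f99ca6712a6666e99c266f2880a1a96ce4622a9a46196d0ab89baa6e92aca6e79bae6e8289ca2197025c22aa247697049ee9690a922a463a28e849e827b239b8e6656b8e609e68e68920246a081820207f297207e2ace6d19b40aad9b3a6d29b3ca97993a6502a4664c993e64d13444cb522d6e84e7d48950b45f517bd66459896635985f7b164d7b455948886d5575a16348e87ec9faf7ec5fae2389fb029e663129ccab597325cb9948a969b9664a2a426499be264b28c658328ae49c926e49a992c9cd958e328271e3268c9e5642065cdd27d5cde7f3081373709fb8f509f52a6e3d38f463d22b0a71d9c6a71c9c64abc9c6ca8f98c4a8998c0ab698be67f))) (.node (.leaf (nat_lit 0x11a19584b512d56a70462568464624006407b457645d8ded0180c5fd5a7d6a15a7569e5a7090a866e03080bc90480ba0410bc109951c553b3dbc2ea3dc058721f55495d2d548160487c072c1c50e043800dfc37e42e06605ed490b5edd7b6242865a19897bd5ef065c5ee97bb5ef86bc1ad98b78335e5125118b61bce19e1bb4965802996b81086f2848c9641bb196a7de20ce1d0a13e690da421cf226081d8571623152a624152915ad97f1d05a416c9dbdf265873b69008027e45c9f72787fc8e95ca024fa10124e210083fe0fe840893a24d228a83c60f283c20ef1d35a61267c74789e5a60267815f37c01590b7ccca3d70cdb1d31a5e747899d1d19a5d697c2bd51210c3147d10014782b70a60f0513682924ee44d9136051473c450e61e591573e481f1445ce9207881d644050b20708b58895f0b7c29f097c308af1ab06a6622991273dd88b62247ba6ede3197109bb51ed1bb624b60bb82e892782de0b982e08b67c41f0d7c3e22a22c1f0e1ca1ea1791072288b99fc710472770c0989262072167ec987))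 (.leaf (nat_lit 0)))) (.node (.node (.leaf (nat_lit 0x17a964f59385e4592d64d59305e97bcc5e359296495921c4e11787564ad92b711612b55cc045f4af12ba11652b84ae52bb0f6d8b0486d8c546246ce0f5423444fce6a465422e39a4e6b16e573556c95b156c08a816cc291134828b3e113b03bcd02a179d64517848cb7bc164359105e658f9642590164158fc5e0089840c08811074421028102c39443750de437038e5fdd3ba0e9111a5fe9119445c39e44603a351554a743f1361445839d0be8f830bd0f84162955e3e182f94aa05891620f820bcc587176d7fc58985d5589162575bc3b644f46a11a8185244f83b00ed113951343ae44dd13844c43af0ea469944ad13544b18500ec924c44bd13a44d83ac44c05d85871619586d618174961a103d2c8593840947f11fe47f424f0924456407501c115521f04d0c9d0a2c28a04b8c9c38c41353300def04bcef20a3428c13553a94e993a84e944cf4e9c181342017b0c40e04341cd09104040a56d9206526d20048944e11f804db4f413cf4f353ce0be02f23e1cf813e0149c3dfc13b3c1429904d4f0b0a60297)) (.leaf (nat_lit 0x2a065f329ee5f297c65ef97c0711671470b67119c367059c22019cac2001d6c72adca972a89c48c0a3018bfc9be8bfa300284a41f283241e908641d9080a1590de5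31283e68690da435285243390d2687283a43190c89de8d9a3658d8c9d88d8a36429a658896165879610a63961897487361d1872c96e8d061cc1e4db3678a878d6cd22fc6cd4a7f97a66e429e65e697a25e7284641c282e41b906a41890649dd8d8651e275e5ea8d8235f24e20eb83a893283a24ba83a48617759f6e7e4085b7751dd5252e13184ba13084b494584bc6c863406c22521b377c198cf26ea2d78b522d68b4c9b48b545ac56659cb1699eca6731b43296a54829525472ac654595189558558a69253e153855615429b25979658a66964e595965096c86b61ac259a1aa91ba1ab29ae592963e5919638a6596409368384930298a0e0837a0df13ed408501540754404f550187966cf5b3e6cf22fd1e41b401e5db4a1e45b498b71b476d2097b87b21e987ae1e825d61ea27e23ca8f263c727ca3c68f2073668847307db1db9687da20))) (.node (.leaf (nat_lit 0x14a947514908306045d1451d08ba28c88b47c7df207c78a312231e708654a2a2219e6e79bc4f051e16944fc53f24fcc4ea11912c84b493f74d6475b117855e1561703540550053fd4fe18516d823a56d618396d55b5c52c51e08336a6052674e147927da5ed8efe3bd8ef23bb27c07d184647cb7029c097021cbc25ca1c5871239525b21c2870c8e67ea88e07ea5fa87e99fa72662520895ca758958992896044b5e017721d012884a1c44513093841f2d37e12f13854dfc56c6c4151b21a1df0219c56615d557654bddc054b856f54c057421c487054b1b5454b456e15388515369c1915214d95a6c4781dd87754bb04726b7577a11cd9bc1dbd7785de52f111b44724db476e11b12e44de177511c573c4b8d92d4b8846b6abc15c0b70156331c2db3d282da0568f3c0b582d53a682d4055044110ed5f857c873857e52792179dce77348587729dcc772c56e6b5c5686b59524548952327022f08bba2ef8bb49ba8cdc959858c953858a1649686161256257829aa273858095293187aa7071b8a1e91b89272df8d))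 (.leaf (nat_lit 0))))) (.node (.node (.node (.leaf (nat_lit 0x6c8d4a0d54e5a06b0d4835240ee30ec0e830e8c3930e0c4906b8edd350034f06a0d3f3b341b1351c1ab3518d4541b4d4401380482f740b902e00b72ce41bc0d8c36206d906b41a836106c0d430d5106c35041aa35081ba35581b441f9084353cd5003380c80708c02300cc0130f81903488d203484d1f0628d2301700560370b482e980db2d1c18f3478d1c0c74d1b0624d1d0630d19346831a0c64e3706181033184fdf087821d03f421c068c3490d20d360674fea406410531940ff088c2223f78221067c3400664e053ed90020cfc18d0c710043f741873f7031b067433e0cf5016405c33c065c19c0cec33a0658d320ce501803440cb30241c63020c20311c04601000a0027c09e0274b330608d0c38bc3113438d0d05f01833444fca3f2417d343cd1007f03d037d0df341003cf07d81fa4808de707d116e37a0ff307e43ca0f243c807ccde6410408c32a808637a814030cc13f03981ee310c0e03758fdb07b40e507b0dd207ac0df30d41ea0390d1931f41e907a0cb0037807d31ec0772dc811931f0118)) (.leaf (nat_lit 0x13144bf67216965a55bb0703c4c012e93926665bae1f2937c276c9d58d663588d5e3568d54785888877f6cf09be6c0e2f6240e01b23f601a807201880649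d98d40a8c8d8c9d38d3a34f270c9bd8bee2ff8bf62fc8d549c226f22fa8be62f88bde2f625f21f087b61ef8eb497687b84cb131591b6d347d3533d4d12115d73283083f8fb1d728b109d0272a3328cc652c8cc256d211083e282e3317fb606d75c48472105d77283ca0e859a40a165c59155cd57255c5570678877a1dd1fdd7a99ae16b821ee1b298e11b11b496acd93f75607e91f8dd908495ff5714dc5225d631725be1cf87421ce889ca9298f8a8c98f663c98ea63b1f35df9275a1cb1f1dbfd87dc83d20ddd5b756a0a97565d581f5dc438be9c1e27607d17a9071267199c8671dca625d870c2632229261a2289612226889c6c963459486871f331b0d8d227dc9f18f0e3c28f063c097ac7f21fb09e487cdc6d71b1c6b1bf86f825bd98425b9b9b660c3cb45ad5e045a83c545a46b90f1d16245803c146cd1611acc48f6cbc7911225b341e4078f))) (.node (.leaf (nat_lit 0x1d89ca86a65a986a69a9b1d707f77221c8772189e572147f113487d91f604cc4fbd3ec1f5c5b756b15aa56b5e7e16c55ab225de987a5de952245e947a5830a1690fa4168c5a23e943040c1859c166c3003e88fa316685c17c455c616edf0222c08af16f56fb22ad5bf56f85b75700a2991f8a2391f647c91ee67622e5f237c748b37c69f1c7c6c913296e04b24360498128a5a20c4a02749e3fa749882b28045c322d48b422cd5c816f58a4250a458844a111844ca6424f038542f90c0430437f5e055c00ded0aa192c64a42a437519242d03d042ca3d013c452f511520c1d257491d2220a9d21748c38442f465919617820df90bc15454ed72bc54b537c8535380553651d4e4538d4e2539454d15518dd53a14ea76f854e53a46b31ab5cbd72f9dae62799b313d5c0270007f913bd3f9730081673588107351cd37af5cd5168d95f226d88116755887aa471987d19da76699d91c4dd9920520d52039cd273463cd734074e69907486995a636989d95204dccf27d1cce733080d733415d3324cdc3a782dd3374157))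 (.leaf (nat_lit 0)))) (.node (.node (.leaf (nat_lit 0x16019586c8553b54e857a21dc57f655dc40608d82560905790594d9f0bac15f33902ea0ba466e5f7d88a5f857e05f886681a118d46c71c8b24a581919f858472215a415f9e495505c89160d54054fc87a15f553d54f816633941600bb42ec3dace141c35b9566b59ae66b07076e586cc1b198f972e98e663958e413513e213393a44f3d3db4e8c4d35ac53a24e853a05acc4cd0a84f0d4f2829b4fac4e93c302a013a13dc139c29a3fdc4e6090443d497d22349d423b10f024010ec43a47cce7a47d423a08f8e7c10e023839dc43739e023d10d8e7639e526810d423708f043439cc23649a8e7447d023b10cc43210c4235499843008e8e7239c0e7510bc23439c4233108d0231088e6c108422d0655022063c3270c98d2a0c94679248d80f24897fd5ff867316fc8ac570d5c77b85d1616e467a60046747b8d8005ffd80e1bc09617431f0a65a09601ba85c857915d917095d757695d81bb895e65999657ce095d1ba048d121d3891e2d31a1e299401a8594683e1868619869b619c6a361b493a61b186b61a869d)) (.leaf (nat_lit 0))) (.node (.leaf (nat_lit 0x1a25c591a0df4324b18227d089d88d3644b8d2c9d28d2a34c2a6e65e997ca95996e65d99709c5911a3048c1630326fe3a81d49a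721d309a22685a7182247dc70b1c2b1f59ee57ed62891d41a6981d5a6a1d29a6769a0a0b28164079012405901a53e29b659c966ca67966259a9664a30953649928aa497926254e20d211020b9d308341d2f8c78aa99a866a09c6269f9a78aa32190a1a217a4127781ddf28648637775dde776c85d7769ddc285e4422846441910e43f910096f86e4a6d25a61b686e21b72005c9d76189eb27a87fb727054252d54b352d084614f084510e44331cb1270668472b5c18994892498e892a248891a24720edd467510835788dd437514547533884a15054c253114c3151997421254c153019731500548532054253194c56a9d4c7219485f2870a1b7789de37784992263224088fe24129d23161e99b786de9b7b7eb1b791e8098029c097a87fca6f87f8a6e1a8869c833d8698341963840c9998bc225929da55a264e25a04a812409dc27609d427432588e78e49fad8801fac7eac8e1)) (.leaf (nat_lit 0)))))) (.node (.node (.node (.node (.leaf (nat_lit 0x11c0a401040a30288b34028404d02d8fcd011cbd13f480b301300b22d500b10118b3802c0063039805d3f2c0e52ee80e400a40230168bb30160bb22c7c0612ed40e3392c0e2038405b01240aa010c0a92d4cb3602a0048029c0a60108b352ee40a50168e51035c0542d180d639140312c5cb1500acb5a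019c06600c0b122c5006500a8b38019001a0050aed01140442b68aec00bcb1700a4b162c44b57018c02e2ed00622eccb3b00a006100780180128ae62b780492b940202c4801a2b80b132cd804c007cae42b880192b8c04b2b7c01800480412bc8af12b60af0006caeb00540470118aea2b6c02a2ed005d0090b352ec805b0064aef010c042004caee2b64025007cb020150b012c00aff004000a2b5402b00a8aea2bb000f00240292b50ae300a0ae5003400700680192b48aee2bc000b001401500900132b38aff0014ac22b54ad42b48ace2b20a8297e25f797d4a7c97d25f628aa4829204a2491fe54c92009aa8a5a2958a6ca7c8a509a426ae3768a649a58a5e2988a689fd98523db8f6a3dc8f649f7)) (.leaf (nat_lit 0x1e647936eedb4d74a5d59768c43110ad25c496d25a66f96e11cf4737756dfe572ddbb97a647bf1ee5bdb80ce06e7fb1bca1c146ff25c599975e5998665c8fb23d5ff77fd9ff57fe1ff423e48f37fb8a4f7fb5fec7fac8f423b9fdd7f7210d8899fdb20b482727f49fc7469d1982545ec594d6547ad05e6594565216d05ae76915a367908a65d108c322f5f8528e1f3c7cedf3a1c2c7057e661d36ec59a766984da13513ee54513b61f756ab199465f5f257c82439846811859f16648946098893224995d0c78318401c5c540205c45770950252a3c48f0a14391ae142142c50520594275a559a7508c481657877f11ed2ff1df995d120c47d1e053054c113034c083d463086c40f398cc1b0d76a12e84b46cfd9841f1d69a63707261c809867a959fa6b819f91c5871025e1e9d67509777ae447e11e15901dec77a4bf12fb1d7075626c5a89825da887fac6ba62c211b7fd894362c46b413604d24ecd3b24f7c7da5918412103120d4b9d20c1c019971e05af66d1477b7ab5af56bd03e846b91ac647d1ab0f891ad)))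 (.node (.leaf (nat_lit 0x1ec47ab8149d3e6e61b976e5880c27c5cb972e9cb820189f0181c6015abd6b463996b371904e54f813dc52c84df4f6d3e113b47ee54744e74fad3ec1fb44ec1fb07eb1fa9a081fa44e611099451ce927a1ce597b10f040a1be06f710111f147d46f610ed27449c472f6844435639043749bc72a10c526a49b126b10d97055b3126949a072910c04351ca0727499c42f49987260cb516b409432745905df177832c4589063458c32640916ce0cad630408c5dc176c5da0c94928829a0a5248a0a282920a314a5a5e6041473148d7fe601482c745dd18209a08c7459d1522aa0fb7b89ee37b8608d2290966866e195865a19425824d4258e18f862218a931495d86247906ca1b276ca5b261e29b2a24f20fb83e20f983dc93683e8940842c93a843210a84221091e45b2f6cb878b6cadb2d6cb091c81ce07283c491681c6179247a079888c91881de07a81e0552153085453b986b53857e519cd7ec247193864e466d5fb492c82da3d7249a176297e0b50efc3b95d856061aa976062248c77d6e3097d1c8c17d1a175)) (.leaf (nat_lit 0)))) (.node (.node (.leaf (nat_lit 0x480c823308c85098cd3e04682ac3c78f1c46d44fd0a98f1d0484cd737c411b320c26432104874c393101e0c7824c3c481121530d11fd30c4c2d3094c2840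b1be51fb47cd1f210151f410306fa10191f84a711fa47e462d23c06275c89bc86d2d92f18b17205c846265c7571f5c78235466923d08bd19439b50791244793664c48b4c853226c2c4904c7c7924c8048a4c7531e08e442e39bc23348d842d10b023810ad23448d4232494c42a08c842008b041f107922d107462b5c717195c6dfde189571a18a97135c55a075c5171818906285c4170d188970c23bd70f189d7ec692570e6f097eb18844401cdc43a49e073665f9a0512c47b91ee1a2e12ad3661edc12c0498eb309ec27a09e4c980770db641c81d636d571736dc1db36ccdb436e039938541d508081fc4310e0142fc3d43a0c6265bed6fd5bf96fc5bfc62003180c006d4bf62fd4bf4303c4a04d2c49a4d287a14d2134910446ff4829209482d63f102c129048c27309c82713254eba06b4e2d3a5034e3aecd3e069c6365cd57f175f86305cd1736)) (.leaf (nat_lit 0))) (.node (.leaf (nat_lit 0x216621a76fddc076f8853284c70e66c870876799b1851d9b31ffdc9a72647f972609e7767c80d7309cbd735080772edcbc201c9ee72bdcae734dcad20048a17b0089b7afdebe7af6396226deaa7b21ea82255ea77aa480472947fe7349ca48eadca31f39c017001bff1f21bfe734045311347484ffd3f24a454c7213dd9b2125d9a765a1ba76549fa8f409f42a6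a3cf8f363ce0b8c56915a12ec0b74f5b54202dd157c55e53dc55d15702d72155db276c484f76b9db076bc7fc7585c94724c7f675d1cc10b54f590b3c5491520f4a52502d315194963d254c015142cd134139e13293e45d798934e7474f1d25a6669c20502681d0513394f95c11ba31321c2753f87d27039c2970307cc702dc0d13fd40f7061cae201d41313e44fc200940a13d940971cc80105ac1653c4cf1435d42f73e344f950047fe4ffc4f3728540013e14044ff13fe1ff44f24ff44f652f1c9213c1c981fe93fa13d07f74fe13fb1fd9c3913b84f21fd44ec1fd13f6723969b13c54ca1fcd3f55e7c4eb4fd07f41fb9c7871e5c778cadc76)) (.leaf (nat_lit 0))))) (.node (.node (.node (.leaf (nat_lit 0xae0f2b41fd07e0ac9440145c2b93cb10ad0acd084420c51807210ab07083790de0d8f0ddc16c33a82f90be016633a4d230c8c5d052b431d404101152880e130a41e30788d1b036cc2805e4cf7346830b0c2830905cc320172c5ca0c695e8402d00a0c7c5c917205c70c6520e17182241028fe808791fc38ccff6088ce32409c4090874e3038c434e41543484151053443105201c806c03fcc5e03f80fd31682291044e38088d20f3fad03908a0410443440f0888fea103822738d8fac403040d38dc2210d153e04ec55614ec10470cfc31d4025004400c31740090050c845ce40345cd579c5cc0c6c343180833d4aad0455aa13ae0878403389c218405c4024064342180460041111ec0cf160a0cfd04317f10cb40f433940f821d10050154058217389901807310c60e101c636543830e0804400f809a3590098025cb330888e2d38bcfbf38b8f9e087017037042ff0bf8cf0343416a0c585b43f283103ed8ff416cc0a43404182060409e343c1800f546c645f46c55a443cf45f831716d8fbe0c44fbd16d4ff3))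 (.leaf (nat_lit 0x1b81936648095725589551b689a9268e2928a4e30c8cc22911c319ab66a497466a070666a850c632142455e1c7c14199aa1e1dc2c1e049c27cf1b052704941844210e24ee10d298e10f28926a1287a46f963a46e9a8850152d5c3366f541413ed99c1b49d461b3202163ca15775309ea8e489e48e4e3918e3e3901755613584561258405cf71f8a50292a5179458ab09456514275e34927463488d1e5ef8d18219472d06645a821338883fd27549cf2a2ca8a8d0233f8cf87ea8dedc562785c551f91c572818a0094c63fb908642298408528199da276a5da8213206c23f1ffb7ff08f67fe4a507fe880e730de2a89509f282f4808225088e7a31e8a7a25e8b8ee43b7451d14645951450ec524e10a9627587471849344244938a919a0ca8b98e4ab798de63821a1deb2878a1d77b5dec21888c07f508ba7cd1f337cc5f322a28a84987261b986a6359864931832e21d24ae0c98b7a0ca22708968d65eae7ab5eac7aac6b573086af6289e89687c93f159455f54598cb5b98860543454c151967a213884d21314d6))) (.node (.leaf (nat_lit 0x13dc4f152e94bb1ff07fb725484b7611d868929d8776148451cc9d4a1cb1d476eae24675142d21510f440b314c23d0cf420b4454315085410b2d2d615004865ddc4804dcd4c54cd5374203dde686a21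a67311de320249c98c549c38c523138c4a3161ce5bd668a1a2768a49921ccc9618ce095b860a181860225a1c719e01c59b7b25ee1fe677c71b677897a87f19dd1c55cc624fc93984161078412106840c9cc8c96324271a3218c8e3221ce873468ada2a81149936f6075369d474d80f5bd969cda740f903de46911a5532d2b34a6827c3b484a709d935a12993811ca9a01680da0267fc724680060a7e906045ad96b57e988e118256b12381aa25ac06035ac81a006683440d0c3420d0504618456c95b316cb5b288e6182c7297c459fe7c499fd1c8e22409d827012652423b2049842dc8d07d8c8ca7d89f617d7df602946518947251b946a519292c6135b496d118356d023a16d31add8a87f118a762986b12504730263072a6929a14684e2021cb5a0d1c9da0b6829a096830921821c91b821a085820e084)) (.leaf (nat_lit 0)))) (.node (.node (.leaf (nat_lit 0x1c29d501c11abc668db726a2c46f651c4694b7476d652994916bdb306e19ac216a559d6c4c221435821b10204073e94fad1c21bac1c089726e219a066947076ea59a4667d99e69447012229e6b79a1e672211e6679a47636a81a9d6a7da9c1d75a9e2299ed27b39ed17b31ed3228044f5a9d69f580560c11247451d649ad1d4c9ac6a05a8026ac136327c13037b828e3278ca0239247e7e848de7e822b629146fb65e5b7425ada5265e86f511347441d0c44758216021d082ec0b98f693da143815e15371999d096a6490f60d97ca19806645f1c65e24357c65f117c511956214b2845f4b2475d1d702493a192cc090d2441124ecb05ec30e360017535f0fee0c304ef1fc95aa4fc13ef13a47f10a38ef13bbc4cc3e842883bc021f38a4fa41010e280864fa01679e4116615ad2245c5b6ca81730c1816d3fc0d7b33c430405c83033fc816c3e88d7f0c0417133b8d7e0c0016b33b4cef0c705c3570c5c240185c10c5831916f031316ec5ba3fec5b90c60ff916e03123fe05b73fe817434883080c1cd1433c816e))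 (.leaf (nat_lit 0))) (.node (.leaf (nat_lit 0x200ddd927b1ca21ff5ca1778480027a6399726e39c1fe89e81fe9f8c72487f472409e672447f97a347f38201c8f7239dff22c88ac7f5e2e17c65f017c009ce8cb632c27223298cae32a0bf02f64e3cf8e4e4058c3e3475169b9a6c1d2da6b69b5a6f1f3dc057011f14700c7c9737065819497a05e7979f5e7579c20e9d4220d1d418365d3f7500754822da776ad9f1969d874e1f59c1c706c7d0706a0697244a4428fa4e693964e49b4a60b26d642626be2c3909e2c18b08a6495d657295d2571297a573249e0a124860a092c209e827c6d363dd8f463d98f31b358f52131d8b2841d892119d887628a8397f65fc97e8a7d97e65fb2108a0975b883c75b4a08281ca939a26641990263f993ca8d284e42e90bca0d90ae42d90b0537522053120f148a522548714d9a84523148614c1aac5f409a68a1e2848a1a2af2682285177d63058c88c8231d63117647671d85aae7891aad6ab1aec2255e917a41e8f7a3a1b3223c52e574548b20d5aad51ec528153c85276c4549705d4db70503f9474c3f347496ba47411d1)) (.leaf (nat_lit 0))))))) (.node (.node (.node (.node (.node (.leaf (nat_lit 0x126533d4cdd3394cd84934ce04944cc532c4cb932b123932d093922011510a43af4453092024c11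3c2461138e8d4a34e8c092844c112ce8b3a1c24443602431100e7e3a2cf3408f50a8049c26f09b8121324cc9409b4132328812c32f42873264c9a04c428632f012b3ad828532e412609b026b09a8c923244120053c2bd32e81493a20cbb32e42443b24e8108f8e7f3a24e800ad451042d450f42d0f280abc09035dc08a2e18b9232c4b87023c14a2e2014931d814802242b314282ad4a94f2650a50b6087040038942163b003ff3afc2b214245083c951e50ab0f240e850fb5f310f843d839b43dc21b0ff90a63b042153890ec2058c2e60574cfe3384ce00b9439119b10d719ad7cb0e2d0d8092c44d3a282453a20e8942942953bfd2943be428f3be0efa0e2d3e7433d0ce43346610e1416a0bd8d923b1cce80bd41640b050ba3e2c2bb3cd0f363cd4381194c37b42c90b35e650b10e0065219450f842bc37a42c012809c0122364ce7f32ecd9405a02f20bc4d8d339c2f0058837a5c2532c19210a70dd10a8)) (.leaf (nat_lit 0x17a05e276508cc5ce564759183b50ebc69f44cd614492d13213584d055cd3ac52a93ab4ea868b1a15e1960999d47875af40e7839843c86811a010f146b43d245f117a5b9c6c00f3117b0cf833840f05fb17e903b477033c0cd85f717d930440dd6730fb43e753c172b46d968f5d703ac0e986911a411e244a11da07101be3f90fe30dc4df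942703e60f81917534d1a71b658920d8035a18a119859d12fc41d43220c7100f46d100e173d60f0d0433b17fd12517f904247a81f407b8dfa3f983c53f9516807c81ec0f083c140383c045683350cbc5e8179c5e6450103107b41e7374d05937503b144c83270c8501f175120c174d3aa08c022a39984191060fe945ec21808483fc0fec3fa43c4e2108302063d3c3e3383c3e238381b906cce660d7835d40ed075069419f40f034b0d28fe934dc1fb07d4eb00f383cd0f30df20660192401c331375033040c40fd03dcfe23f982133140e2103d40ef3118df7081cc5038380bc02d8fe22f601a53f80d3703b00e63118fe307e4fe037c8abf9c3a70d9c2cab99c2a70c))) (.node (.leaf (nat_lit 0xb9c5703d942e13d9056f15b82d715314da152c2d13d3054a09799554ac59524b9425811d025d4b4c4733a7847211c4257096c46f3a742553a6c46e11b425a4404ea211b0e9a11ac254024ccbf05581550234cc3055024208f12b04860e7b10f927917fc5f95a15a0277296845a0c25c442c2563a704704b64ea11dddad477c5ad66b549ba1dc46d7641c9531b4590525499062379f8c7e2df8a2361f897e34258426046909492d86538e97095c46711984650944e96119076f26e1abb6ae87696ae5b8f1a74937615c697617093676306a024e5865618dbbf619069a20fdd617581d6220e5d5f76cc55f21655036185d6354085591ed9ba96e99ba76e947b06ea056972d5d6572c85635460864111d27e57fd60059b444149fc87b78e5e3821d5e3578dde36229c8a17b5ded67b54a2d7b504aa1ec535e129135a1ec07af091423f110ceca11084413a0864523fdf0418fd76279288fe14a1472744c82f5ff452257483124f3109242405b016bc30c16f9b5316e15c25705efc78ac30e3eac30842345a83ea4faa))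 (.leaf (nat_lit 0)))) (.node (.node (.leaf (nat_lit 0x94901e443424c442110c116c41548592c7103d20f484121110507051c11212667997a103830f3eb8fac4b745a90c24fad104c7031c092df103520e1c04590558d562558458a79998c6174c8c26a745cd583160e58345cc5d35ece58055e758085c611712ac11592ab4aa9a804aa429413513b13bdc28e3bd93ae18196ae18008de5aa96a85aa44085a811ed47b91ec10086f51749c65582560b58205cc582838a50dc38443314385f106600e2465f19790cb432838319743885ed52ca490524458383820280b95026817535b4cf105cc09e33a8d6c35a009833b416e04cc12d328428938b8288326c3053e7c2ff4fc0fa13e78fa00c1059916602fe3e74597453809d338c16d05b016b025c16a06203180608d160c5cff40c581863c203130c48d14344c1801b2c94a25246c57e498e363885bb56e55b656e15b516d55b71b0dc441af58c563118c363186025a805fc23696915a416920aa4f1b3c484f80a8d17145d02b01415176141141c140c2aa0f246b61ad54bf0f0d166459c1870c54d170604d153fb0314)) (.leaf (nat_lit 0))) (.node (.leaf (nat_lit 0x19a17cf71d49125f386625f408469031d752835d7675d0840024408b35e414e053414c32f82c850fc53144f053051ec2c226c22a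b26aa2ac8abe2aa8ab89af8aa62ad26a62a78efa2a81f89c3b1f709db75d9c3970e87e170e1c751f6dc3671d1c371e85b671e6db666d95b636d9027509bcf90125c496125533a16559e358c956e222956a163c4a81eb5358128985957e47ac054014a0b042c00afc2be32f87796b89ae86b787736b75adf1fadc591f960657161e057d5077d6bb5e046bac7776ba9aec1fa1c517a41c4f1f8a37c714038c0e1866343413d319893e6267a26b89a63548c6c99889a856a54858621591cb121955190b1147214ac52a14a42be14a07026649991664198f79086fc0b1947a4a802c051fc52e14b4585551487b550c57f55095441f521df704dc121f3a0bf70507cb1f149d46fd5df572c1e4b084c20d0fcc3f20fc4e1b470450050454105ad1cb813e94120d18340181860559ad0484f8456d547951d159d51c70b951f1fcdc7271bdc7071b9c731fb47f171a87eb278dc698e1dc68)) (.leaf (nat_lit 0))))) (.node (.node (.node (.leaf (nat_lit 0x7b0dd53748dd10798dd00ec01eb0ebcdcf0eb91350eb01e50c9901b406832040705d247f43254079015407431f40511720a404d03e1428a3bc84cf3e240ff31580f908602173150c55028809c05ec17a05e4b9833fc29a3c28fbe0a50f804800f090a64f08136cf810a4cf063c1c088020813604d413404ccb8c0e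94685447039f56b911b1a103153ed4fb316c8fb20c3cfb40590ce30ba02e7338815e37001d80e601d20e5cdae36b4f6c0758daa36ac3950740da836a422f105ce6508a521c1058ff608b8415398c41408a0e62104c22d45f0e3c3efcff538f422708ac4120894e3a3990e3940b40763194070042c10a31ac10901d0bad041410401b8c672eec1d13670d9d425438f072cd9e085d688425c2114750e2040282160fe03f70fd821043a51be07a8dce37341e4372c3ab37302153eb820f0fd512d387d0d50850e1e0fd020e387103a38741d436841ce36883943680da408491c00fc03ef0fb8e1a0830124322cc8a323011e3ab8c890844e19082c3ed3ad0e1738602100fb03eb08290123859240)) (.leaf (nat_lit 0x265e2552646254894e25189486c66e91f05632c6c06329bad26f22df8f249b68b722de8b749f58eea3b827be3b797b23b923ddfe37f99fe58631fe423c491b245607081be06e81b606c1ee47b36ed1bef6ece2f77ba81ff414116042801f93f9c3d21f6203f7081c1f1f4a3627db48e18c808db7e5df9f7e5a10f1871be71859dc67da59cc6fb08dc7e19f858e4c8d67e1234623f600023ddfff2945ffd7ff86bd79498b976a46b78099e53232e0442315f517e8df50867495c85b616f85b8956969a16c186dbe1672d9ca7af06156f889c78c2e30d8c3a30c94b89c1275a3458d1234227423418d0c7bb1ed5bbb6eea1d86ee5bb8257617294e895785c217385c49df8da49d9961e3688d9e63b2aa8aa49a967099a926a39a88706761199b667599a1c0199c1dc5d4a753476b82b1ac0753054a151191a534d4d264654d12199de67795f347790860779c5676778863544551015848621805a0177145fb5a3968f6ebc8e57e908df7e95fa37e8a390241e51880a2027240602693bc7c71f05bf06fbdbee6fb5bec)))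 (.node (.leaf (nat_lit 0x236df837e088d57e022a27e047e61f81c497131c482779c472101d6920e9d687fcdd66759ca5494aa529293a52794a252b1d69a846a149ae1d51a826a0c88f7f25e782225e777a51e790a582903c044d53bf4efc3bec6235bd96f57e2861d5fc88ec18898db66456f476ed9fc18705f266e45ec66e19b77dcdae317c565c61e965a17adf40596c6f965d1f416c25b0a1bcd975147dd11740145c20a9457146451c511451620a1444510d446146943f511c8265fe5cf314507fd1fddc9777a5cff7259c9521288448191e4f760e3df7608303505d56c0bf551c16585950b882dc52c05673d5cf585468302503d54a165059316482fc065018e0c9100134a432335d04dd558c4d74efd3be4ef47df1651569163888955a1566559c69c68fdd80617469661589351a6c93461698586165a321a5469961546936d9984f83b185b1060412486965a529162848646986138933622184c1a4984d0ce85f20cd103559a965e17c033917bc5ee41310340ccc5ed0ce165617b112917ac5ea0cc88a97b81edd7b7dedc228dede)) (.leaf (nat_lit 0)))) (.node (.node (.leaf (nat_lit 0x22c1efa7bedef822a9ef77be41423324df13b842a70a9813c05042a504ec2a40a8d1120a881400a842a004e8caf334c29f04fce320a7829d3b7ccae04e45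7b15d588d636157771799e624c20c8831e0c524aa0c483184b96d044b36bbc7c65f9d4e612e16995f993696fc84b24da84b763654e7635d9ce4dac4b112d87c51f104b04da07c31f0812f3b4828304a4ee00a0828104b8ece3b9427f04a0eda09f84674b4d8bf4e0875e4e284611c959f867d59f667d19f31c7c72467c19ef1c799ee6a859f11c8dbf96fd99f26fe09851c7472267b49841c722116e659f71c8498326089811c6d9ec6fec715674d9d2674070f673d9d11699eba2271960168196165887147b0070e83159ce6735ec20c243031685952168194e654047f1df477c11e52fd4bf99d111e99571de12ee4bbdad911d01303ac412a0a10ee23a8ccda1f9dc5471349e0277c7e17138250436c45a11644580928457109d24c58cc714491c4214aec6d463f18f963ed8f81b398fa2344a3e824c8cb92adf6428f48ae7bcdef128bdef022a1ef2)) (.leaf (nat_lit 0))) (.node (.leaf (nat_lit 0x1d85a976a51a966a4c75b6a542c30af4f38149c5261494f3720e1d3b8efdd3920c9d3874e899589b22508ef624b8ef898f1e95b771e7c9c98959b756dd864b5dd17725df1b6d19157731d19a4d6930740692c99a266441b1054708531937763b937f21b9e0378108687805e05780886d2889dfe7801dfd219ddff21d9e2521c1e24788de2178887d57055c1870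65c1770587cf1dd5acd1dbdacc6b39aca6b2c64d66e4902191d7795ded77a19317775dd97781919b6c5dd490880ac902858a02a80a61ae2181dd1774ddd28590a172168a709690a6a968a5a396865a5268227489c627389c099a89c89d1932233495d2333272e5761da1e8826d5ab081687626abc9d28ce23362a149cc8cd6337285a43e284243a90e643892a496d259e1b186c21af93da1ae28624469110aa193e4a1291142c73ce82c14a7c52f51f8f392085cf1206ddd280a9cef73c05607269dcd15695045c2c85a25e61e387862078780973878877b7a4477577c9e016ba5e922081cee8bb881a77f5df473b479b6d4c7956d49b546d41b51)) (.leaf (nat_lit 0)))))) (.node (.node (.node (.node (.leaf (nat_lit 0x2ccbdf2f74bcb2f2819502b40b231280ac2f20bc72f18c2a02c4bc52f240ab2f0c1942f100aa0290ba92ea0baa062cba70150b992d840c52cf804e03100532cf40c32e7cba0030804d037cc22323cc230364dc230840e0309cc260368c240784c2503d8209322020837140f032dc0f437e0c4303b8c413108c4403cc20632ccc450814cb603b40f233040ec0810203352ccb403c4e5d08080eb3818e5f31000f030fc20007fc0ea3520c3e0310c222fb80be2fb0bef2fb40c32fa8be92fac0bd3530be801fcb762f840792dd411d2f800c206cc0bc2fc01b22f9c1b10304e5d2fc40bb2f94be639580c039441ae39481ac2f900ba019405f03a0beb2fb0b512d400be2f68bdc2f6c0b834fcbd902fcbe306ac0b92f881aa2fb40c73054d1c06d8d410304c160314c1006d0bf3300cbf202fc0a92e88ba1028cba00628ba302a0be32e78b9f0288b9d30840a72e94b9c2e90ba606240a10298b9b0280fda061cfd206180b9067cfdf2f5419d3f780b302dc19a06640b12f44fdc065c0b63078bd00658bcf30800b0))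 (.leaf (nat_lit 0x1bd1bc57cc06ee65b1ab46f2861e1861a195b9d6e668699882171dc77715dc686108567f6c41f66d591710659ba1c3470c214dda57691da72135da6768c80b72d88058635cb78759d920cdd033419833141691b217a48b422b9f057c1e0107c19f3a1d8075a6a45fa56a489b48b387926cc21226ccdb326cc478c18156a717fde5523756a6237074a1d11a5980b5a58695e276176962123145d45881622729c30c0c191ac16985a53e9958f17245c322e95e322e5c535770909240ca5480b615380b2142251894093a8a6684764eb847094324f611584521aa29964552138848765216e85c1d93764869260ec93060e98391a31c0720608128392114839dcdb73688172045cd974b9cd8735e1f20aac2a54ecc4fc3c684fb502c2a70a84f194eb0f5413d54021a1d8d96cf86818325b47637071367e19c9672a1e81c359f92624983887621c886e3c68d3c89f7ae9ecb7ae08997addeb9249491f8266098825e09682548482109d7b75e9d7975f1d7814fc539720d4ab52a94a975e053a14d149720fdd1a524dd71))) (.node (.leaf (nat_lit 0x169d58a1685956227594a638078226f477c6be5af86bddbf71df89bc1de1aef26edaee887c77887c1ada6b6dadc6b647720a284c54e4c2843ba84c43d089e68e0a42927826098e06380279637e8dfe6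0a277e37c8df44604b0445a4b012bf4af52be11757f54ad07551d512b3115c5e058d563358d88c917696341c69d736770714676c9796a18a4398324e293864e0938ca3d28d64ae92bca2f92ae4ad92b05c77151d18576d5d61705ef21ea09ca1e8a09c6e15b84823c3920e3066f19b93c119b50d90a5cf04135c4d60a44f023c0c9248252093247a090824a0910e4d0db436867219c438d19c049d4d09865125d4a84d0d4b61ef1bc11ed9bc06efdbbe79e48898a8e29e28a1e6a799488322222962208a277991e638a7049b4d0133e4d11559125533f2842417282a41690c24149054918818636d244a05e818205f0550cc00b2814e3cf42c90b2053952605335249491523d490054ccbf0b1c2c60534f3b0b1453820f948e20f57ce523453214ec84114d549a526585e21001523ca8d7a0b102c305302c2)) (.leaf (nat_lit 0)))) (.node (.node (.leaf (nat_lit 0x11f52fa4be44774be15e964185fe5a245f85a088d85a016810464d9c094c252094411309404704b85abb4b7c46a4b792e00ec069c615c3aa5be069b1a685fa59fc5f47589d6359c567217e56706e985f359b566f59b847c4bd5d6558012f74bd8476175ded2174561778d56167b504485ea135e4a0444259bd2820dd1093424836e5d89541425037357455d018fc36d551d5d20dc57430dad090570575b424436e18ec36842355ce423063a0db46394238367422c63818dc36b4f310890d9508742213cb0da9726434d3ea18d10d40d902f33dd8f730bb55463dd10d10bc4f710bacf753de54703ddc16705842ef0bb8d58360cce612307894df53194c604861e204924c9932568ed3244c8c48c02e00b22f5019b2f4cbd2307c6e1705592364886db6485924189061e71816f723b581a636868c60a468660a18e7609d8c110d042e4ab5262498526349806426d3c63c6c8defe5d6dc5d18f974d5d2974b5d246385d3068f60bc68960b983160b583007983a40e8c1e044743a20e843bb0ed583359615ed1a9514b))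 (.leaf (nat_lit 0))) (.node (.leaf (nat_lit 0x1e7db616d809c86d7db5e1e64a3692d250e28c24b192ce4b21ec1b957e09d8f6e51b931ea89ae8a8c9a88a923708a8a2a617085bc7125c4b22c88b17c0079e6d747987131b5c6d69b5b279237b8de237a8ddc9de8de45336a9483a5205ae5520852d1bdd9716a1496865bc6f165c09b48b00a8026ba2bd8afe2be09e8ed13c044a212842743b4027d3b5027712a0efe3bf0ed3152454353314cd532da8265d482e2801d1c20a1d1b27fc9fe24660668192065818e062244c8817fec87b793de4e7935e5027fe3e327e63e28f863df8f8059c66fde7f55fdc311659bfa166dcc355f9e8f55f5bfc165456b15957d354808665f7151a166889055f0594682981f223c599223957b682c5937a05dfb166157a78d088d223059255e432a408832447311cd58ac5d90ca514717605d7408432317584a71ead35761604a14d587aa24e63a724ce0ee83b60ec91145dc589d6297cf984c58a05d617d166517b88d47bd165e597caa39a0e6819a0a6802a766841161a72114929e1d3da731d38812732c80c7329cc98f2dcc8)) (.leaf (nat_lit 0))))) (.node (.node (.node (.leaf (nat_lit 0x92123e112124109092894900122099c11c09982653218cc50b9856d3d8c2e03d84f6215b00952e5408f057015b33101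5a01e8074045811504501132db82613a812b2096d2f8402ce9f098119a4ba447709692de11d833d17e45f80cdd03840e903909651dd094d00c11a8e983a641e937281e30ea906e3720dc90cec5f517d05f34bdd0360cd4324566c5d10c79012404d2820704e9206ec36e0db4f7436781c00db036b06e908b0da836906fcd850da036706e4d8336101be0d981b80d94d82360436406f4d593dccf753560d5706dc26f1234eb54c64eb409a448c0378c1e34941e0077c0d8307c3ec636c3e646d46db609d8da0e9925e1a183a0447511e498037018f463c51bd7490da92650ea11491a2512344883a2452c3ab476468f1a391d8449c3a50708370362908f0dbcd8606f03e761143e146a91a946a17910b010733ccc2ba51b0f3214842bf46fd0c714802b93cc51d60f95945644571b68f83df650c3be1aa43b8454115162391560f8d1a61b583dd4685a3d46883e24a651a0468d45d4a6c3dc)) (.leaf (nat_lit 0x25961938642192883095f864492a82be0b024920ac82ba0ad21d1e1c8c41e1a21ba367786c7806bcdaf27ab877a6bc1af118ed74223ede2918d57405d0485476b1f872139daa76b5dab2329f4f2311f4e85f238f7d347766b487706b45ad36b3dad01be997866a59bd65d86f465dc50d5095532141dc8155d5426191d7675da1ea65d946415d986495db464380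689015dad76c1ae18ad1ac98ac62ad8a962a88d27d98a402331ff928fdf651a958711a7c93b7b9d9e161c08737861e1988a236821b5e1721d5e2021bde1f87c5e1d7878686607981d24ac680606d81c180168c236568d17e968a5a2c5fd59f05f7235c8d659ed67d17f167859e85f659d967959dc697612c691612a0e661218490ddd0a219110a00dc509f42846045a948db5a8c5fe5a896a40d4d05b0d35059416916141705d9587d61d588d99a174d61e0fa51b15cb03e346bd91946c036441e991a0d7972718ad1970d45058185834b5b80615415c33640c95de58491450cc11410834e130f90e11081ce22384871f260097f88199e91c6497e))) (.node (.leaf (nat_lit 0x2079ce9739dcea818c81873a066b7f8d7d619960675f557d419a89155f4c91419917d2244c589553554c552c583573d54e16217b8552887e553de32160831b0c545c0400500016fcfff1d11bc1691873e6c809987f2057a679597d54d153368dc57412b47b3129db1e4d755fd68e034d4140347413d0515b646110d31065184104c412c34641347ab1e961057075bd96f6a1a3243e03f8c9203d242603c80f83d60f406c81b1d3864e1517f046011231e824f0938d6f32589cb8c8231f8c749c58c7231e1f15be76f99c616fa1be51efc65b5ea1bdd6f406555e997a71a39c011a21ba060b20d124b834b5b25703447c60e41383450d3c34941596d6448461247bc8c67e188c08c51f459339f4423121e328e5f3e7cf48be805468d701492d60ad82a1a1d88718e600018cc8fa5cf600123e48d77ddc8d17dd9f757dcdf742315f557d048bf7cfdf407d08518602d43e14495cc2091ed00f403ca1afd1795d146be5a703830df4657195865542e50b8109842049197b749147135ea89109358a5886fa040242a041))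 (.leaf (nat_lit 0)))) (.node (.node (.leaf (nat_lit 0x1cade9b1c95a076819a0468147be6f547b86f25bc86f19bc71cf1a3168c1a2e1cda1c668bc7bd6f15bc46f0dbc27a147b70a04ed912bc27b4d9c4ae3b6028043f44ad12b027a4d990fe0e650e75c657e143a17170e4c39f43d468243cc39946dd0f4083c20939c03e90fa0e153850246090044448dd23b3a10e8315714fd5c016fe53ec55653f03f20fb06e246f16fc1b8524315617095c1c55264ad6ff5c201bb35481b541810613544d531e9dbd76df9b7d1e85b7c6e0c2794d1c273128049f3b3c49e09e13421274272482c49c126c2563a48e943a544633a4c2500d5061841a034e4ccd06747e427209b04921244ebb3af0eba16e85b456d15b359a88a95cd87e57111c467115f8027747df17d9c516b9c8d55cdd66617c05eb17956f559416ed5cd1c471e89b6b1e71b6a6da5e636da08fa7fbdff27fc5ff37fc08f423e1fea23c8a4e7fa5fe77fa04af5f3d3604d9572f12a5a831fb1dc771707e679ddc5b716879a6d3dbbc1e51b4e8879bbd13793c05be96f24f0593b13606745fc17f119b97ee5fc97ef)) (.leaf (nat_lit 0))) (.node (.leaf (nat_lit 0x254643e851894b851214593c8a4c99ee65f94166609418a4623a9fb68c108e4929dfb57ed0455113c74c1d2c74a4a5929529625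3f94f4a5294f26cb94f8a5c295a551954254f9afa54e2b067179c567189c50abb9c58a0e90aa410904a40f2822411287e5b79a824602a9645f28649fe27e25db8f7a4438f7661329ce62529b65b1975e5b098989f12a5e3aa27ae65b8ea4a96288646591a0a1b918e4f49190a7a97465ce97425cd29d25cf29d25b596ccab296da5b229b8a7c976a5db29da5d797665d81835c7f5af88e4238d6bd181c49612407974cc97571e597a220ddd3474d9fbc74ddd3520c4659194c908241d8385e8d7a2183d6c518248e55b116c25b0ca4d943e508942a507291e509293e513944a5112abe5102924a5d95565539552552295e55629d65bc96ee5b929be5b896e861271a9fad5b508e75b3c60c2339f5b7d688c87d60a3c7d64495123c795541d4fa4cc132f1be06f225a896965c997381607317f2898e26361e01cada152a226149848a829846670984c9d48cf4a892a2233c8cec9ce)) (.leaf (nat_lit 0)))))))))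
noncomputable def u5f (p : Nat) : Nat := row u5ft (nat_lit 5) (nat_lit 31) (nat_lit 98) (nat_lit 316912650057057350374175801343) p
noncomputable def u5vt : BT Nat := (.node (.node (.node (.node (.node (.node (.node (.leaf (nat_lit 0x11900000000020f00000000031200000000010600000000040100000000001b00000000071e00000000060600000000040b00000000071500000000001800000000030300000000018b00000000061300000000018900000000049b00000000011700000000040e00000000049900000000031d00000000031a00000000000f00000000020400000000050900000000059500000000010200000000038d00000000041d000000000191000000000412000000000299000000000404)) (.leaf (nat_lit 0x59409a40370115e00740360d5945da0c760329850c6114086c43133970111dd2cb1c328745365908971a4483d62c150a5dc1474cf69900234934c60d10065925868b1dc69d78740770f75305200c4552081834074102080c700365111509301139d0071834081c019635b5857530df4cd5174037c54cd60538c3da0c72852955d975328f7530554031953dc4de7c82021d80534cf3892c30d061961e5015161466832954df7d82017533d80df2020c86196ce61e78160c20d68b3dc4427d200c)))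 (.node (.leaf (nat_lit 0x28969775e7193407896400953dd3de01300c1d91da2cb51724c7891c371669501365900f15f6df35301261264f7de40d5dc1c264e41869a28b6415935c971809a20704a6cc0df11a4de25878b61659274345e68161f5da54a20c3863534064995ca51f40620770b7de7560142921923dd70d3866d531360b6803d371761d7c72426507164947c111159718724201008301534008000569a5cf60f7052d600778b4187084cd69f2854582de5cf51e35f18e2c808d15b18e4066995027d3602303)) (.leaf (nat_lit 0)))) (.node (.node (.leaf (nat_lit 0x58615f1114853866d52c25096803d364000f2927172c26130961d949158715e4c22c271e1880102c23036c54547c000a4842df71868148428c7ce68958670c2de38f5865dd6cc20f2927c130a0972d72422de0146c53406cc01250565050c18d51c64951510f2982037c569b2975de3d81133061c320370515f0df7d901818a09a35b11941c08c7d94996121044c329300148858401200e35a19640d0ca4431850813d01852d550d7874d32d501e30d05465f11910960729501b79f7dc753691)) (.leaf (nat_lit 0xa00000000051a00000000059100000000011700000000048700000000000300000000020100000000020a00000000071900000000040d00000000059300000000031d00000000020900000000040d00000000031e00000000031500000000020100000000020200000000008300000000008300000000059300000000048700000000071200000000031600000000020900000000019500000000059100000000048500000000071100000000071200000000060e000000000003)))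 (.node (.leaf (nat_lit 0x68818e71f7091dc74745960e1dc7d704b6151dc2571496035087db55411d49a65f0520993411857c87026510916dc6033411153da6156871c37de51e40c2d57c848511f2d53da1061997c56dc4142df78365640129a7837c750728c6972d71935921157c701b7cf1157de09954b58b7d05137932d575f6812067c56ce6895cd11550120a65f61120371674b3d72d510b31c4882d530f48430e1c331d48478f4d310f08244954541129578f09a38938028b35b31d29751f35b4953067de35b119)) (.leaf (nat_lit 0))))) (.node (.node (.node (.leaf (nat_lit 0x1904551812997db59d71751a29840c65008f38c40c1d96137db68728940431c3412191172986512891913102df08c1933067cf09a50771428c45e51741c3807567167147cf7d869129765e2cb11d68574a24d09941c00d64949538c65e34009b31c65108051d48468801330758638e1813116c56502c231a4986492c259509629a6cc21d74b68711120a18824d1814996855413d72165086117d95955087d809448b2970477c521e75a25075310225910040340161231839719170c45525e715)) (.leaf (nat_lit 0x68100000000041100000000051d00000000070e00000000041800000000070900000000060300000000009900000000051e00000000019300000000068900000000071600000000001400000000001800000000021300000000061d00000000010500000000028500000000069300000000009b00000000021300000000020700000000018b00000000071e00000000040b00000000020c00000000070200000000031200000000021500000000020c000000000489000000000706)))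 (.node (.leaf (nat_lit 0x38e0475806816c765e6882075dd2432df01420e09f24c08f5947d241f60b7575c97c061b5dc74224c4021161992df68141c11f2df19350848a28c51719050259220959411f7cf21541c7da1dc38319048a74a18f00138650831238c11f41c49b1906cd38e3111907045dd20f19011f70c38f00148a21c70e2d704624c21e7d41dc5dd1022d728c38e40131038e6c719148a5dd18a71504029a49a71e58604161241204070c50860609621c15f40b69038e75a7115055dd30d31274b38e71040b)) (.leaf (nat_lit 0)))) (.node (.node (.leaf (nat_lit 0x41c54a7d938d00e01c35b01b6124c209421d6121044c36813020100c73871900df41550300109a19640200108c09410600e74758b01d4484d31150111491852d550a0ca7831853833d01152d518f21954474b51d75a05465f20a41960778510f25921a29518d70f35e75321339b3d87533810cb2d50076167891154155815c81854cd3156c478109f01850271c58f38d41668d5dc18904130e49820a6123d601a4997da3d735370628c2037d138f70c30175721d48a6116df4171dc5de093702)) (.leaf (nat_lit 0))) (.node (.leaf (nat_lit 0x2844943dd29b64e54e31330f4cf5801922016562df6cd51705f30a50c6937c67535cf7195c909a45e10520b00775661e55f4034060954dd71854a30b55f09a4d029159245e69240d54f5da01c0817047d115031d19d14815011a04609320008359231470318b61f3da5547167dd7de41310b5d901c58230f31c21908070565f30d51501e20d79110d4024547912444895185cd75e51324c7891073892c31c379171d2427ce31b7121dc6cd55528f1dc70f7d40036871927de38b29a6c67c7591))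 (.leaf (nat_lit 0)))))) (.node (.node (.node (.node (.leaf (nat_lit 0x58300000000040700000000068b00000000060d00000000061e00000000068300000000060500000000020200000000049700000000041100000000028f00000000019500000000058500000000051300000000030b00000000048700000000001100000000071200000000071d00000000040800000000061b00000000031900000000020900000000010100000000021b00000000060300000000038300000000000300000000050a00000000071900000000009500000000000c)) (.leaf (nat_lit 0x41400000000009900000000038b00000000051700000000021500000000051d00000000010f00000000038100000000049900000000038d00000000058700000000030700000000001800000000070d00000000021e00000000041700000000050d00000000009700000000000600000000038100000000000500000000070100000000001700000000000600000000038f00000000001100000000041b00000000038b00000000029300000000028d00000000071e00000000051e))) (.node (.leaf (nat_lit 0x1904cd00759300118e19600619054a4c309700101c09401400e74758b29b41c7d758b08d40a25749f50d04c1c31151050ca7834437194487831157010ca6970916933d01151850991491152d53167d41157c509b2891c67db10f00421a0c809b00b69739751d40a44965f49534d30e7850992c969829511d21f35e75330715a2d51962090cb7c54037026982d54cd1011da1150df3855944d17d221d6c469558f20459230e58f31d41668d1c148b4160de11659550268d1d849970c30e498495))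 (.leaf (nat_lit 0)))) (.node (.node (.leaf (nat_lit 0x30265f7ca70104111821431e21c01520d29b61274b6de1055dd7d464138b70c50560930f6c77d455b4996c730658d2995dd48451109738e18728b70d1d93d024560b30218578b71d61209169f69b71011578b7097c61c369f41b49a78301321559b7830c648941f69744418f2986143d760e71408261111d2971c67c569161231c6de11a15f4482c30175dd04c64159749a1dd7d000558645568d18904041030e20a04031871c51a38000d71c01738004730168148a08e64f40d08e40c7cb48b)) (.leaf (nat_lit 0))) (.node (.leaf (nat_lit 0x38c3866854011902df70c38119050204131e19038615f61d59411f21c29b41c7da21c08119048a7da50d7c744264870e48a15f5083076c521c70c0831185dd71008304008e5941023066886c711700129a38e00a68524d5dd51a5023d954028734154f3d641e59d3d920d49765120d51f50a3056483141952df1c13da40829728c10728738034101c00c29821c25840838c7da60f69949a1dd7d018f3101dc38e71a5862df6cd00904028c38e70a18a1dd2432876c721265e49729a50668750d)) (.leaf (nat_lit 0))))) (.node (.node (.node (.leaf (nat_lit 0x29740c65008d30668724d59378765164900600e34168769b68545554100a5085417d838700e04735a68140a1002cb68915f45524d70618a41024d38f50865168720f00e4103403075080026503111887043dd41729808e24240d00140c29a2167db59d41f71e29840c5dd30309629a1d950974b6872191026856511d931a04059208c6163806cd01c5817da0466df31571b7cf7d711a2122df18e0177141dc31369371428c45e41e31068854a11341c38075641b71428c24d20c41c380687291))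 (.leaf (nat_lit 0x18d00000000000500000000038f00000000050a00000000041e00000000000c00000000068300000000058300000000010100000000001b00000000071500000000001800000000071e00000000071d00000000029100000000041b00000000018f00000000010b00000000021e00000000009b00000000038500000000050700000000010100000000011900000000009900000000021e00000000061d00000000020700000000018d00000000061600000000011a000000000012))) (.node (.leaf (nat_lit 0x15b18e1c038570b45e25850e50245e60208f59274369271161f5da34c70e5d950c49621b3863531c038d5023847935095ca51f49661570b7de15031238a64f58270950508050c01d38c28901038774b21911150e20d79175e69b54079164008d1c231349111364869d0136992ca21f0c631560935a79138b6dc6496d510b68819d7d11051dc4545557191dc5804817011dc59618769374a70451f0996875963da69b6886c67c71132df1c13da70530218828441120e29539d60d30d65f7ca01e)) (.leaf (nat_lit 0)))) (.node (.node (.leaf (nat_lit 0x18c3177476057cc44375e00c21c24d7d848b2dc4557d820200e59d6cd58159b65134151925900224d71d6c75de7472097874434d320c75a44301348725908910d58530d60735a61b1512081c35911092502cb51379f09135a3855dd1c32cb50e70c7d864908f38e0476877111d944364970e2c910064921b61265140c38d70c0023415096c765e29a6155dd24334131249a24368770975a25024d60e70c4551922936c700d2427025dd0473d341815f6516cd10618a24368848515e7d224c012))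 (.leaf (nat_lit 0))) (.node (.leaf (nat_lit 0x65f75a10750d29248a69a1010966c44cd30b48471048838338c6122424877db3027d70117db5083d348958641c2de41b18804158071265659269a6056566cd5ca20248418a7ce5192d738e19d71d41f09a6ce5913400073953851c13d22c171d59b30a0c87096c47173971053021d910e61e59b50c6ce1137102196dc1975944cd40330b6852de3d820129818e2032021905da4c320729850c3d738900109a19651e2d679178508150b31305801e2c921f0c53161dd2cb4d368300465908968b)) (.leaf (nat_lit 0))))))) (.node (.node (.node (.node (.node (.leaf (nat_lit 0x21500000000048900000000018f00000000011a00000000060e00000000070200000000041800000000068100000000068900000000001700000000058100000000038700000000050e00000000070e00000000040d00000000051900000000069b00000000061500000000038f00000000070900000000041b00000000048500000000041400000000050300000000040200000000019300000000051700000000069100000000011d00000000009900000000009b000000000417)) (.leaf (nat_lit 0x72d50c65830583096ce11e15b2952c371a04a05805211e2811c25cc11e0532811c211e2987da74a19529804128c70a7db4162df00965611f60a40774219938a58361215f49811e1dd64954160509165960f71a38c3da25e5857855d975368b3525163df00941511205228775354e64941e4037c54c24970c83096ce70a3d679d7cb71a3dc0467d240818e59000760540f7567cd0092cb0dd34911e6d47d534c5834914c075e5834cf70b7040035547c55cf6836194937d011e15b75335268b)))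 (.node (.leaf (nat_lit 0x4c71c3d861544821a7dc60335668254e11d65f78f2034143106097d938d71474e7d918929764f35b20a31c7cb19638f2986df09421d04c7c458b70274b39300741860a51858f18979b5ce5dc20458f10a7c841b10e14764e6911181517ca30715e6487d210601a2ca2844856c564854021611810a20d69b29258f6de1892d71d864e20a6c55dc7ca20450521751101775744e1037027576471db61510e41a28b70951c7072456893971c424521b21711b09d0113dc34528b50a09f25124501d)) (.leaf (nat_lit 0)))) (.node (.node (.leaf (nat_lit 0x40a44375e28575a2502cb51e59b09135a08d2591002cb69970c45568730315f5416492166c700d65031e5dd04724d21e49a10064929b15f65134140e18a24368761d40a10065021315f4557c100a18a41024238150865129a0974982143dd50368508e24201d19059d6cd38700108e68850e18870424c5877db19950b31a29859d18a50929808e15f71100140c38e7060966cd41f3034846881d918b58638e5dd41d35629a21949b65f68730d41271465141f41d2972431d96066853415dd71e)) (.leaf (nat_lit 0x900000000019500000000060500000000000900000000071a00000000011e00000000020200000000011e00000000040700000000060d00000000011e00000000071a00000000000900000000031600000000008100000000071a)))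 (.node (.leaf (nat_lit 0x965087ce10b6c570c19d30f11f70f08731a6562df5ca4087c729a19d3194845dd7ce38b1c40084961972d418134c01e34508034c50d7144df78f3851d94cd75f58150b71805838b40a6cc49f10b40a25875f09975a11140f09b15f0df7d901730234039748730228925e58530d0800582092d611118350e7100804452151904cd00761b41c2de58b41b29818e7c531941c34c7d911d1905da4c348500150c58441441c7d758b6895083d349f48959b7910c870e49a6d540f18f25969d05550a)) (.leaf (nat_lit 0))))) (.node (.node (.node (.leaf (nat_lit 0x30271c39759504131810e20421c54174e31170c7d82905876c74096ce10238e0476dc3072c910049308338c71c3d709741c3017d91912983d60947156c468d39740415e0de25e40e11629f44518b4987812c370d5dc7c47d021e29831861141711630e5cf40d15e3d67562163023d778b0972d620378b0146c430169f0126c461149140e15e7d82c240450b5de44418d1161c301331d3023010c761320e7cb35258761c09a4cd30760a08c5cf31118824d01038d20e48878b21d498649491189)) (.leaf (nat_lit 0x41d00000000029300000000001e00000000038b00000000069b00000000010100000000069100000000000500000000070200000000051700000000061b00000000001b00000000020400000000008d00000000069900000000050e00000000049b00000000019100000000040b00000000058500000000061b00000000061500000000031200000000021b00000000028500000000041400000000048b00000000020f000000000006000000000113000000000705000000000715)))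 (.node (.leaf (nat_lit 0x9644378f51d35605e3180831dd44354148740908948858568819945828d7cf59d4dd28565e08e59909b1dc6cd55551e1dc38e18730b24365114871624334111b10b08e34169529948a24339331d08e2432d410f11f68778101840c3417c411928c7cf7812137da65e7c418d1dd34445511a3561853d74890932117d670a0167523d20095c84df71828741000234c2015cb4555da2023442507d851300d41008c38911c39149f2070982860c871909879540f70174f7953d841161718558b705)) (.leaf (nat_lit 0)))) (.node (.node (.leaf (nat_lit 0x38029a5da31600131049641400169040640229874a69f3195081dd35248918a2127d05197141dc29a28f31068868758568574a34119550869065140875a3442cb11a70c49468708d6c708b6506165dd4dc24d11315f35634169918a2126873151183053dd58529821c3d370e00131068850a08e1d928938748a15f2196813106c734049948a18a28921d04049a10401258661250c20704050808001479b2c82c240470425764018b11f21f49140e29d7ce10d4122847d724440b29230a2c2595)) (.leaf (nat_lit 0))) (.node (.leaf (nat_lit 0x7cf11509318f7937c535b28520619609d69929548809a0055445d81124077533d84cd4082123da75f51d74b74e00701d31c08c7c521b2987de4c36814483450c820908204d05510165f38a7537192951c44030953dc4de7c831909f04b2844951d82ca65641460941a04a4870c86192455130c70d05117127850d02c371d15434c58d71208244931860d65f4df54141b29578f4883194542514d040164804d2c820125104a09d48778515418358569560c60928f5187005cf0033dc015214291))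 (.leaf (nat_lit 0)))))) (.node (.node (.node (.node (.leaf (nat_lit 0x7146517d80972972432cb01468534124d01241c00264921d00100201020438c40c34048b31c34108011938c3412895957147cf48859729765e4cd08368574a5cf00568565e64918d00141010420a38c24301010f09629a49171518824d2c21917db6871810186854553d770650854109461300e04719671140a10040349b15f4550c731a18a41018300f00131858471e59471c5013031903180df48b5945410c64996c461141531a15e7d84c220400e00d00740b50840950118b1900474c2119)) (.leaf (nat_lit 0x60300000000070900000000001400000000041700000000018d00000000069b00000000011300000000070500000000011900000000029900000000070d00000000028500000000041e00000000001b00000000069100000000029900000000018900000000020c00000000018900000000041400000000020400000000058700000000070900000000001d00000000060300000000040200000000021d00000000049b000000000401000000000503000000000387000000000616))) (.node (.leaf (nat_lit 0x51c2113dd09500171428c41e40c1d921970508e15f30d2853806c734001b7da6c71d901808e49a28970d31049a64908f04040a10440248a2c910460b09630201c60304041c08041460a69f2c259570b25864010245410710d40b08e21f0c620f59d69d01331278d2de01910268071864011738661a2c21913863dd18108f79b45e2c271e70479164071111f31349170658650b4c250320e78b2c21915dc4446406065940c64917156c56cc2c24044984912c241d11811164018b74b21901321e))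 (.leaf (nat_lit 0)))) (.node (.node (.leaf (nat_lit 0x69559909d08158f34564150d7db68d30101231c30e30159341f21a78b50d1886953522931c17c440611301a3937567051d82d435201e61209469f71504158440671e30d3d80c620771019678b38155f09a4063896126112c84177103012585937c661160f00661c7cb49669b3025840c670d6123d74c260b7107c544461d7c620310771620e0df2c230361c09a64018b60a08c2c241d1d91da01320c24c78944429149a44f75e59759b54e75e08341f1da35a0051c174710d49b1d875e244412)) (.leaf (nat_lit 0))) (.node (.leaf (nat_lit 0x30570428e5857cf11f05f2151dc6cd15111a1dc5dd7d460d65134159951959d68739320a40c6512d451d6882df69530721c7cf3936917de60c48668b48128174611e69878f7184071da44f30a60504745534c41e2863185da4975cb04754a4087d538875f01140c1997c500f7da5023d840b08e11f2d549b74a2df7c510211f68768d40440c34130e1171dc65e00d41268824310040b11c3913d368311c38809a40709871c08c58310908964000941908924470a08005410d60d45f7dc488101)) (.leaf (nat_lit 0))))) (.node (.node (.node (.leaf (nat_lit 0x3023012c85032d630160f40220e7cb40660b3023d70c620f2d620301331220e4882c250949a44f01369159b54e0c611d41f1da44409950b5de75e4015dc35a6401023027cb25e48b20e20d2c341770818e4cd21379b54a45e00a69a01c5cf38160a6df7560976c565034040e11824d08031d20e0df78b29361c09a78b28d60a08c69f70d49810449148b1c174744449501a2cb01311921c58074e70e38e0166dc70661274b6de61570c50560938f15f3562c37096c721209d38d5dd7d464120f))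 (.leaf (nat_lit 0x28f00000000068300000000049700000000061e00000000058500000000028700000000068300000000010500000000038900000000040800000000000c00000000068b00000000069900000000028700000000030f00000000061e00000000028f00000000049500000000058300000000061e00000000049700000000010200000000041200000000070a00000000040100000000049700000000001d00000000061b000000000319000000000011000000000693000000000383))) (.node (.leaf (nat_lit 0x6c64de1c061651c7077d02853971c450119769505f2c371921711b7d070178159975669358f0156de0993dc34560931609f2512c309b4164c31c041d04109449660608054500841121949f4c261630d58b5cf59730258460f2130d34cd1c06054ce4cd4d000c4ce0df15020235f74e41351915b08c58271d4164150085032197dc44470130d58b44431e60a75649148b2d600701321e5ca34c10d41270b5da64060638a50c24440b0100c410d28f65069d2445857173de6401953dd3de107408)) (.leaf (nat_lit 0)))) (.node (.node (.leaf (nat_lit 0x1d948451158738e2d71db31129a09328b21d2893d02452161d93d024569b34014924501230d1150c610571011578b30f55f35a4062012c93496401971d92c001301e24c0c44443162982067c511a2975db3d859730640020318d61238c64e60e30231c7ca51e6124486de28d5dd0ca6414955dd31c5116911d944824519350b04c6415175864550de59558604729f11958631868d48b31000d30e49569040931850769044361128511f59d20d51a28c59d14868965e40c11b4891dc29a09361b))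 (.leaf (nat_lit 0))) (.node (.leaf (nat_lit 0x1dc2c921249724d7c131471d28c45f48441e5946c535f2871512954d009570878539d68b38e01a29d58115f49829d31524d31451141b38c6d518569908b4197d73164dc4534cd00c01a74b04a4973440896490092500897d870a3054541de61e30538660c19744354125850a68271c5da5833411993d841274f75b5800094523d66df71a00b01924411e04110048a4126c70464545136c728c5dd60d6c768829a61b6872506511021c130545461e6874434944876884d30162151517dd24c01d)) (.leaf (nat_lit 0)))))))) (.node (.node (.node (.node (.node (.node (.leaf (nat_lit 0x50700000000021300000000000a00000000038100000000029300000000028d00000000049500000000021600000000021e00000000051a00000000008f00000000051d00000000070d00000000060b00000000061d00000000071600000000009700000000001400000000001200000000059700000000000500000000018d00000000010f00000000058700000000008300000000030700000000031100000000021d00000000020a00000000070600000000071100000000048b)) (.leaf (nat_lit 0x31c30d2191973521152572021dc29a50671a1dc2c93065831162d77dd6051906c535f6835067534d01954580c84d070a35f7857ca71a10e65f04a5832c001935a11e7521925890092115401de70a0d13d674371a4d121154070a68570c1dc68b29821c28c09500131038000c7ca7dd2c371a6c730638071a3410c44441052951095cd50a38608e38a4116c520e00760d38c04168861e18841604668365650260a28765659d69a4971517c025130f20e3dd10e7126c441f09f0096125dd01a70a)))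 (.node (.leaf (nat_lit 0x9668d71c08f04c30e71c61b74b29f30140224c44978b50a6c51d835251a1182177d06815963931c01934d12d44065177574de40620910e79735221569559935238358f3452c318f61209460f3074164151c061304109440631a2197dc4c260330d58b0c670271019669f6914ce4cd1c040804148860251a55f4884963197086df58238b04158400801230d3d844461571019644438f55f09a5cd0056c441549170660a5cf2c261361c4cd64071170818e24449b79b54a2c231a69a01c64000f)) (.leaf (nat_lit 0)))) (.node (.node (.leaf (nat_lit 0x58659254a20948a70b6df10121c58074e21b74a45464f38571b2df3d351e08b04618e11d3061dc7916033101dc7173837141dc31300331068854a50a7da2427d301d00138040600668574a5cf20150869035210b7141dc65071971428c68709541c38034100c40a4092cb50715f05e24d59118a08b24d1935086906873851883053dd1977db2df31370574b7cf71728529828c7c101e2987da24250d00138029a3167d41dc25760e48a5dd28929358604150c70204070c08041804018a010106)) (.leaf (nat_lit 0x51300000000031e00000000020900000000011700000000060500000000040700000000000300000000060600000000011700000000060600000000031d00000000040700000000051300000000031500000000048700000000060e00000000019700000000011d00000000060d00000000040400000000060500000000020200000000019500000000071900000000060d00000000071200000000019700000000040400000000040e00000000071100000000008300000000011d)))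 (.node (.leaf (nat_lit 0x4c35a11571240034908928f4000c42080031d95db09609b4537dc49f21500469805848900b1da0c751940030e0c818f7877c451c29149a0cb65f0176d51c77536064493d749331e3887c54cd4115de1155cf29111605374228d21c21a1885814164cc59411750278f15e51d15f7c449818d74a7c575750e65e2d57d170e2df7c57d101d24209a31b21b38e71c01a01729a61135368908e3d725e09740c3017cb5931dc1da0162091dc7897d410124378351f71900d01901c09504101038420c)) (.leaf (nat_lit 0))))) (.node (.node (.node (.leaf (nat_lit 0x5dc35a44420a75a34475341270c49425e21e6c708b6ce4045dd4dc44530315f3562c361d18a2127d040e6c444378b5191164d344410f6850543d730718a34418349b5081dd35208331000230121d04040c08c21638034101c69b7da3416df01271b65e7d761530641020338f21224318e7093d024309a41b34d4100070057140025413113103417d858730624335a4857872432cb41471468724d50329734124d40241c34168760b41c4557d829300e4102cb28d50800224d70d41c002340715)) (.leaf (nat_lit 0x60b00000000029b00000000041200000000059500000000031100000000000f00000000010200000000019100000000008f00000000050300000000040800000000038500000000069900000000041100000000010f00000000048b00000000020f00000000020700000000019100000000041200000000000f00000000060b00000000031a00000000021600000000059500000000031100000000029100000000061d00000000031a00000000070500000000008d00000000038d)))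 (.node (.leaf (nat_lit 0x7d504749f01e08e1993d741d48a11f7c518b7da6cd3d740428c68820311708e34171c59528c24341000f7d460778340118720811549511c7957d72877cc08910d19518c31848849710908964061e34d08901909521960775e30b5062081c358139b18575e29138e35a2cb40d28944310408170f0917d831561224308e31d30234140c29904100240c4046c77cf6cd11a6c774a38e7015dd65e40c08338e41034118b1d924365171649a65e29a10550b24334110b2c941024d30f21c541596387)) (.leaf (nat_lit 0)))) (.node (.node (.leaf (nat_lit 0x2923dd49148b3863132c230309641f0c641759400849158715e0c62c231a1881812c25091180806407117db2894917062d70463d24182d728c19d69958604118e31e09621c7ce29b04018a30a40e58615f2de61d2921927c03113866d561a5876803d37184857c72427ce41429271730a5032d73402de4020961d96cc60b01534001c09925110425809b38c2032d538b30644f78f19368554e3d85917871da7dc51771b5de54e2092124d320321515f5cf7d92045dd4cd35b20a49a18e75f51d)) (.leaf (nat_lit 0))) (.node (.leaf (nat_lit 0x48d2c16414894164c315000f11111200840708005500810130d58b5cf50721949f0df19330258460f60e4c10df1502874ce0074d01950d34c220049774235341351d1044c001968b24d5cd65961e24221f2441977c03de2576053dd7cc5152020100c42cb00365069d2cb50a7c03de5de0067173de35a2013dd3de4d310b18a7de7d15931d964f7d10065dd51f48108d1d82812840954de5df51130b54f01c61a38354f74348328f2147d158210f64738269f4113861c124c29378d2de61a701))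 (.leaf (nat_lit 0)))))) (.node (.node (.node (.node (.leaf (nat_lit 0x41c25041500f71465148820f2972434cd31268565164910600100210401838c34101018968565e0df40129824310401b7db68749120441c45558430300e41000718b50800250141d1903184156131904554c218959454100819141c00d41549b1900470081170011000084126856510df40e2986511044992982434c231d38c3410c629941c0024155091904550085950014100081022986514c238d00100200840400000000011e00000000071a00000000070a000000000009000000000287)) (.leaf (nat_lit 0x1200000000071600000000021600000000029b00000000001d00000000061500000000021b00000000018900000000031900000000050700000000049900000000050700000000040200000000010500000000050a00000000030300000000061600000000000c00000000069b00000000061300000000069100000000009700000000041d00000000061300000000018b00000000031a00000000030f00000000011a00000000069300000000050d00000000041d000000000613))) (.node (.leaf (nat_lit 0x7c74427d620c68074a5ca3856c521c19d21b58661218e61504050871831209615f7ce7093865966d471511f21f48371e7c768819d3896807177185937c76507ce0064841d92de69b7974c260f2152c11042c848934501034c18f7db7c52d551938c09a2d571d30644f78f3157144df78f58134d78954541e08b01909a19770c7567d91915dd4cd35b49549a2de40f51950845e7d929900e34c35b18d00e5da35b31d40a50c75f10f6124c209428d3020100c72856c4181501216710080445705))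 (.leaf (nat_lit 0)))) (.node (.node (.leaf (nat_lit 0x6126df74e08f15e5406de00a6c420d60951a60a6092c35034582de4cd60e38661a3134175027d345e2935ca34c69f70270b5da45e41838a50c0df69179b74e75610669a64f7564852927c171720f2d72423403125056500804016c441578b00a60a5cf69f38761c4cd78b68170818e69f68979b54a2c870669a01c60f38f60a6df40620f15e4c20c651a18801018108f1517d70c60174d125744458110e2cb10751d21c19d3530817da0466df50d28c1927de01e29a5067c82166127db64e207)) (.leaf (nat_lit 0))) (.node (.leaf (nat_lit 0x4141008e1026c72df6cd51e6c728c38e30b18a7cf59d50715f65e08e40138e00d40c40b29a10065149b50b7cf6cd48718a74a38e01111665e40c48941f24365141b2c900d65071228c1c350670529a4434942856c77cf2df60e6c774a28c6035dd65e59211d1d92437cf41461c48d24c40d3534dd6d430b1c135f24c08d11674241f69b50811f7cf59715f48a74a00500150259261611659d7cf28515e38630519741c21c1dc7195087da1dc6931907da74a09919004038031600129241c716)) (.leaf (nat_lit 0))))) (.node (.node (.node (.leaf (nat_lit 0x30218578b38b2d64d378b10b50b78344409b6855443d721315f04c2c350718a1dd7d040104000271c01831045530129338041030128d58659d54a38704008e01c50e38040c34c59148a40c6df08f21c68774e50374a34164f4027da6517cb10671b74a3d370171b00d54e31e21210020329b21265e2de10569065150c38b08b41018e30f1494102032017d424318e10b2dc04719651731000245571504040c4887067da34154171e71b65e7472073064101c338134d4102cb389310687649417))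 (.leaf (nat_lit 0x50d00000000058100000000031900000000071d00000000059700000000011900000000028f00000000041e00000000041b00000000061500000000021b00000000070a00000000051e00000000050e00000000068b00000000041100000000028700000000028d00000000030b00000000040100000000049500000000038500000000029100000000070a00000000009500000000038100000000058300000000018b00000000000f000000000017000000000681000000000014))) (.node (.leaf (nat_lit 0x2896972cb6933407892cb41e3dd3de1c341b50874e3535035dd64f7d140215f51f09301d1d84d264e20c5ca1db51161b4dd71818e60364769278b10154f5da61a71961f7437d30957047d149601b19d1481c060e4de11b40660304609340611d61f3da3524143865963dd21d11f21f31301229d7ce30a6156805803dd38f2847d73137096563d37c141b7c768829a0054427171115175ca69f60f2097c640369f20c4584cd5cf48715b0074065855c971845e61b35f18e60259120b2de756513)) (.leaf (nat_lit 0)))) (.node (.node (.leaf (nat_lit 0x24365151f41b48a65178138d48a2437c401b08e3413d618974a65e3d611d65e2436df41471b28c68860d4847dc3d840d1dd25054151e3560913d708d1873053d261e7147da7ce0814dc5cb71868300d00201c31940910048869911c79558b60309831749f3837df3173d80033d144358b50e3de4d358459158645531829948a59d3d750948a08e20371108e40c30161321c29a61159548a65131819121c65100241d74a24304760671b4091da6162122507835977d409111518d690100443213))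 (.leaf (nat_lit 0))) (.node (.leaf (nat_lit 0x5dc70430558568521c1dc28f00121c28c20c1903103802917db38671459729829268500519059204170219079b61261515e38621c21b19004031050a3da05f51808111818a2d650700168870c4181997dd6095835925dc7c760574a34164f19568521c51560538c48a60f5132c934418331604021c70c11e49a1dd2436836c730674a5836c729738e4072893d06517121d93d024371d2c128e3d260d1dd18a24d09b08e34d01038b7d430d08c51740c78944470911644410721365f710257081)) (.leaf (nat_lit 0))))))) (.node (.node (.node (.node (.node (.leaf (nat_lit 0x19700000000031600000000028500000000051e00000000069900000000038500000000070500000000008100000000050d00000000001e00000000001d00000000059100000000070100000000031e00000000029b00000000010500000000038b00000000030f00000000020100000000010b00000000020700000000038900000000008d00000000059300000000000600000000061600000000031500000000069300000000041e00000000011300000000020c000000000291)) (.leaf (nat_lit 0x38300000000049500000000009b00000000050900000000030300000000021d00000000009700000000021300000000021d00000000070e00000000050300000000058700000000071500000000029b00000000010b00000000038700000000068900000000059700000000058100000000018f00000000070d00000000070600000000048b00000000031100000000020f00000000010600000000019300000000021600000000008f00000000060b00000000001229804121c11e)))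 (.node (.leaf (nat_lit 0x41629f15e1196127c449801b3105847993037da3d775721674a7c57d121e6882037d129b38e30175728d48a3d774e58708e3017cb5031dc54e48131e1dc1da18761665e4d364f20c0411042904187da0df25f40e28c09a31b61d1dc74745920718a74b14618d6c735655b10f3411857c82076874d33da11a59d2d57c80146887837c75972df1153da18d45f35e40360e54b3d818351e6022d56ce28d69d11550149574b30120331231c6112d570909671c54138d48429f1c301b1dd29f78f60e)) (.leaf (nat_lit 0)))) (.node (.node (.leaf (nat_lit 0x74a40c51f08d28c6877de59365e65164f00648a6513d649974a2437cb01471b28c24230b7d40917c501d6901006116897d47cf71848730674a7ce01108b00d2de71240900250c71d08b10009a21b18c31758b69348f0477c541e7cc44319611304000231820438041004730704008e09a21e48a40c61130321c6875416137da65145531a71b00d5de7022121004d36912dc04735a4087da24d64951a71b29a65061b34d00264931900e40c29a59140a65168738b18a1c335a7052970471c3418)) (.leaf (nat_lit 0))) (.node (.leaf (nat_lit 0x5dd7d42433196c730638e41138e18734129b1d93d065130f25160c7c028f48d21124c19541c7141dc00319068574a20134128921920940c5dd30d2156906c765010f08e49a1d931140c40a21938f38040a2cb40d31075a64908d48a25910469b48471008c69304000e01000669a60f6401176cd5cd75e08340c69d44461d11f48349120459d79101321e58659b4c259311644401330751c51524449b65f30d10770e2927da5ca31509630209a70131050871808304041c7187167db6123d3105))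 (.leaf (nat_lit 0))))) (.node (.node (.node (.leaf (nat_lit 0xe00d2cb01750840924d5817db7cf71721531c65e34048929874a65018f04c65108051948428c10721304038e01000a58670c1113815865dd1810972927c12c241d2d72426406066c53402c271e4981042c261301a2cb6401170966cd30a2934846882de28d58638e6cc70d35629a50c4956c56506cc10611824d11101b2986113d760b7145416113872971c37c550e18a20335b1175084887d918915f6494c351a41c7d858408f7874432d570e30d60729511710925075331d79f091403597)) (.leaf (nat_lit 0x59700000000028d00000000031200000000058100000000038700000000068900000000020400000000040200000000030700000000051d00000000038d00000000011a00000000001100000000068100000000038300000000018f00000000050900000000019300000000030700000000008f00000000070e00000000010200000000068b00000000050a00000000010b000000000417000000000418000000000585000000000106000000000701000000000418000000000299))) (.node (.leaf (nat_lit 0x2d665f39d71904149868061671065f7ca0814161187d268329a09328b3196c73d055b11941f48414641770c6c55c938129a7c75df7152193d024550e2893d02455913401492454022191154c201130d1150c671271011569f21b2892c075e38338c6022d551e30618c78f40168554b3d85077875db7dc1932120042030996c474b39d61b5dd78751120a15f38c1032131d931c5113812894482456161d90ca24558134008224531511631c5116931c104c28b41e41f4482451135860474cc117))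 (.leaf (nat_lit 0)))) (.node (.node (.leaf (nat_lit 0x1a2843dd5935941996cd29341c08e68811319011f2df70500148a28c01e09619911619174b19959b6066856cd6c740400170418a40e38c19949a41d29811f50818b19059d38e70d00108e70c21e6c545424c7065866cd50b6134842df41f71148428c5dd49b04038e18a31a58670c15f00f7d468828940b35638e30d18b65f29a71000f31034150b50930624341f00f71468718a61341c34138e58708e61f7cb41128c1927de69965e54064f29171b0465805136851dc6d54973061dc791411)) (.leaf (nat_lit 0))) (.node (.leaf (nat_lit 0x20054505519708271c05850d0ca7c42513163d039348d00c3183d70df0031c311569f31644f4d345e00c1161476566897da7dc18859121c4497db38511f4df20e51950839315e69124318548108165e2d535301e7cf2d57d150d24378314838365178351f30b41034934c28f5cb0195da19561228974e09524218e71f30f1dc69d3d04112c929505229124309125e6930022084454113411153da31e6511157de7013411c364f61b7ca19644538974a2c068011328c0c44843155921152d710f)) (.leaf (nat_lit 0)))))) (.node (.node (.node (.node (.leaf (nat_lit 0x15f5414c371e6c700d6ce4125dd04744560649a10049340b2983183d758700171c09431a59468d0c750911630e18371115e3d635270600131848851a59471c5cf08f6c461178b10659454149138d1161c344401b3023d758441d2d62030076066c430150171e20e4880df71549864910429915e7d80c601840a40940300f15f05e0c771118a08b1835095086903523125944430c651d41c60758460600e2c000741d50834450140b71400261170d31034108c60b30624309a61d7872434cd716))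 (.leaf (nat_lit 0x38f00000000029300000000049900000000070600000000010600000000050e00000000011300000000001700000000030b00000000010f00000000048900000000038900000000001e00000000059500000000070200000000040800000000009500000000030b00000000001e00000000030f00000000070100000000071600000000051700000000021500000000050900000000030300000000040b00000000049b00000000071d00000000008d000000000489000000000389))) (.node (.leaf (nat_lit 0x4040c11640471b65e41f41271429a6c759571424d18a48b41c68738e41711f3d920d40740c61f7cb0031dc1920935136885963da38924320d51f3167cf4d17de00c6851dc7c15832971dc2574072121dc7911013806875da2910017145820141903561c059329828c2c82022987da60f38918a1dd7d009b6c721209d51d3101dc38e68b04068829a61e38029a6871975081dd65160518a21224320238e01668701d61274b40c51370c50534168915f3566513896c721229a1015dd7d434121b)) (.leaf (nat_lit 0)))) (.node (.node (.leaf (nat_lit 0x74a1c364f41804110429000a21c48879920f28c35a3144856c735655b01b6874437c860e6cd1857c811d6884d33da69145f7dc49311a21f1851830177db30161140e31c3017c561d09668d54149904c30e3d820774b29f20301471420d7d92996856df7d901838c7cb58470d7db78141500a31c7c419638120e51809f49960a5ce01a2991d84cc7c871601a05364e3811881c17ca71549864821409718851820d60b6c51d86de01811821764128d7574de51131e01a10a28b61d10e79724529b))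 (.leaf (nat_lit 0))) (.node (.leaf (nat_lit 0x28c6c62d75176c418874240759b65f4d020c61c29539d28f70c49829d19341615e2d720961249868010130d65f7ca70e6877de1db2016cd5556dc20241f7d455b00a24c2d73df51a65045964100675a4d349168338c21f1856897db7932d561b38c2c82d55133067df78f49b21209829f00568545f7dc0173d018c21a11378754b35e58134d5db54531521241954e18f08b00409a29141f74b1464180100822451013404002453855dc31c1db0033440897d861e6881997080177cf6cd78d487)) (.leaf (nat_lit 0))))) (.node (.node (.node (.leaf (nat_lit 0x39b1850071933023d610e18941631809f29904171c01a01821c61135370d7da5416df00a28c1c37de38170c64929041721c7d83840976c769009d31d29a4437c821370f09149350738c3013d720f7db68d61110631c30e7c54856857cb7d920438c3d658431120e0de10e38d5dc4cc6dc3124984d16de31149851860920f1886952c321d01a39364138f1d82d47d070e38c71c30150350b30e69f01d4987817563875dc7c475650e30258478b3116123d769f5877107c578b4857c620369f414)) (.leaf (nat_lit 0x19700000000051900000000031d00000000060600000000020a00000000048500000000031e00000000008100000000020100000000051900000000051a00000000000a00000000051300000000071900000000020a00000000040400000000040e00000000071100000000048500000000060e00000000011d00000000008100000000059300000000051900000000059100000000031600000000051a00000000000a00000000040e00000000031500000000040d000000000095)))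 (.node (.leaf (nat_lit 0x31c6df19629b29874e4c329329864f09428d04c3d658b31e4482d449f61665f79740320c69a10a58f1195025ce11619179b0de1d801858f6477c80063dc3937c820109f48164e18d51c5556de2135dc2ca7420142926484d138768058f64e11929201a39d29901570751150725e41a1db10509f41a6dc10b51c41a60938b25104a24551e7851542456993970d064130f70751f58d1057d251c24540d48d2c124508d44821a31830b65f78f6110061927974d05975403451c000564804d69f41e)) (.leaf (nat_lit 0)))) (.node (.node (.leaf (nat_lit 0x79b45e2c82165ca34c60f31e70b5da25821e38a50c60f29b79b74e1c040e69a64f49661d5940080c641711808011140d7db2891812165553d34c25075407910135910536d50c619364869d44438525e2cb25751928c19d7d10111dc19209338374a45464f18f6875067c860b6cd1517c83876885963da50e3027db64e6036c465f39d30b71065f7ca38304118828470261231c6de48730265f7ca01104111821471238e18728b71d6c73d055b1896c729758d20418a48414610615f096103485)) (.leaf (nat_lit 0))) (.node (.leaf (nat_lit 0x3dc50570438550c11241528708005541531571019669f11a0c55cf5546831c70c62005834c255101971a24d00b6590096490dd34970a3d27cc6d52877c03d12584971810c435a49758f2817421956475df1db60d05f65708768b7d67d52c840764e05e71721b65659259d6934cf04645441e7c629545e38310320345e7127cd19675600920b40335270a55f75375628f28e3d27d360d5df54a08c01131c30d08021504631324409b24c39b5153192c34d37913193d37ce6dd6831dc6cd15168b))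 (.leaf (nat_lit 0)))))))))
noncomputable def u5v (p : Nat) : Nat := row u5vt (nat_lit 5) (nat_lit 31) (nat_lit 48) (nat_lit 281474976710655) p
noncomputable def u5wt : BT Nat := (.node (.node (.node (.node (.node (.node (.node (.leaf (nat_lit 0x1000020000100003000010000200003000010000200001000020000300002000010000100003000010000300003000010000300002000010000200001000030000200001000030000100001000020000100001000010000100002000030000200001000020000100001000030000100002000010000100002000010000300001000020000300003000010000200001000030000100003000030000100001000010000300003000010000300001000030000100001000030000100003000010000100003000010000100003000010000200001000030000200003000030000100002000020000100002000010000200003000010000200001000030000300002000030000100001000030000100001000010000300003000010000300002000030000300001000020000100002000010000100002000010000200002000020000300001000020000300001000030000100001000020000100001000010000200001000010000200001000010000100001000010000100001000020000100001000010000200001000030000200001))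 (.leaf (nat_lit 0x1a49718513566d1a5e111955150559a5e11566d11851318415505591b4d525a61a39aa185119a512185121851390599535991b4d65561118511a057918511f6e735561118511505591851167e111851118c25119795561119455198f51851318513ba5a12547af542a1b5d118513185111b4d5a5e1118511185131ace51a497185111ace51bc651851166ae218512198f51a4951b8b5d761118513f0569705aad4e2190ea618512699a11b8b5605f9aa9e1699a31851118513605f9185121a49518511a057918ca5b84a61851297ea319ca527631a2d9a24e11374e91851312e65f895218512184151bd63badf1185131bc6531ad5198f5f5a111b5d31a5921a49518512185111851210519e3579185131851110519185121a495978fb198f5568ba185131955276a1119455f5a117642bf54291851218511529fb18513305291851126671198f51851130529185131851118512185121ace518513f5a111851218513185121a87518c251851320e5724e111851118511185131851167e1124e11185111a875185131a4951b4d618511))) (.node (.leaf (nat_lit 0x1851318512185111851218c2518513185131a8751851118511a0579185131b8b5185121851118512185121b8b5185131b8b518c25185121a87518513e853118511f85237852118c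25a8531185121851218512e167619455185131841518511626b6e05b9605f918513185111b5d1185121851362d991851118415605f9d44db1851354459a582b18511966115445b18512605f99661196612d44db55611185131851150559915db1851118511d2559185125445b18415185111851318512185121851119456194551851318513185111851318511185131851218512915d918513185131851218511185131851118415184159261518513185111851318512185111851218511d05d918512184151851318511d3616185139059934a1190599185139059a185111851250559556111851350559aa826185111851218512185111b4d596611905991851318511185111851218513d761296611185121851118513185129661118512966115445a18512d44d918513d761118512185121851118513185111841518512185111851319455)) (.leaf (nat_lit 0)))) (.node (.node (.leaf (nat_lit 0x18512185131851118513a057918513185131851118512185111851118513185111a495185111851318513e05b918513185111851318512a0579185111851118511185125055918511185111851118512185111851318511185111851318511185111a49534a11185131851118511f056934a1270a97185111851218511185131b4d518511185131851118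51218513185111851218511185131851118511185131851134a1318512185121851118513185121851218512185121851118512d361734a111851318511185129661118511b05e918511185121841518511185111851118511185131851118512185111851218512185111b4d518511185131851118512626b718513d761118512185111851318511185121851218511185121851118513185131851118511185111851218512185121851218511185131b4d5185111851296611185121841518511d7611198f51841518512185111851218511185121851118512d7611185119661118512626b518513185111851318512e167518513185111851318512185119661118511)) (.leaf (nat_lit 0x1000030000100001000010000200001000010000200001000030000300001000020000100001000030000100002000010000200003000010000100001000010000300001000030000100002000020000100003000010000300003000030000200001000030000200001000020000100003000010000100002000010000300001000010000100001000020000300001000020000100003000020000100001000010000300001000010000200001000020000100002000030000100003000030000100002000010000200002000010000300001000020000300002000010000100003000020000100002000010000300002000010000200001000030000100001000010000100002000030000100001000010000100001000010000300001000030000100002000010000100003000020000100001000010000100002000010000300001000030000300001000020000100002000030000100003000010000100002000010000200001000010000100001000030000100001000020000300001000010000100003000010000300001)))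 (.node (.leaf (nat_lit 0x1b8b69355be167518513185111b4d518512195531bc651945518512195521851118512198f5d76111a495198f51851218511374ea1851318511d587b705a919457b05ea705a91851218511258eb556111851318512268691bc651b8b518511185121851118c66185121851118512185111b8b718512198f550d2a1851118512185131ace5258eb1ace51ad231ace5185131bde319d611b4d51bc65fa89518513185121bd231851218ce5a8866699a11851118ce718511d7611198f51851318512198f51851318511185131bd221ad215055b1851118513185121b4d59059a1851118513705a9b05e918513966111a49518513a1dd9aa8e51851118512e267763d99185121851118513e3ddbe3ddb9059ab05e91bc6519da2184151851318511184171851218511d761119da11a875d76111851118512185111a8761851318511ba896198f5199f21b8b518415a0579185111b8b5185131b8b518513185111bc651851318511185121a495f3ef619553185111a496605f918512a5e111a875185121a875a5e1118512185111b4d718511)) (.leaf (nat_lit 0))))) (.node (.node (.node (.leaf (nat_lit 0x194551851218c251851118511185121851134a11185121b4d5185131b4d5185111851118511185131851334a111851318511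185121851118513185121851134a1118513185111851218c25185121851118c2518512185111851318512185111851318511185111851318511198f518511185121851234a111851318511f05691851234a1118513185111851318512364a91a875364a918512364ab185111851334a11185131851234a111851218511185121a87518511185121851118513185131851118c251851118513f05691851118c2518511705a91a495185111851318511185121851218511185121851118513185131851218513185111851218511185111851218511185121851218511185121851118513185131851318512705a91851218512185111851218511185111851118512185111851118512626b518511185121851118512185119661118512185111a875185111851218513185111851218512e16761851318511185131851218511185121851118512185111a8751851218511185121a495185111851218511)) (.leaf (nat_lit 0x100003000010000100001000010000300001000030000100003000010000100001000010000300003000030000100001000010000300001000010000200002000030000100003000010000100001000010000200001000030000200001000020000100003000020000100002000010000300002000010000300001000020000300001000020000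1000010000200001000030000100003000020000200001000030000300001000020000300003000010000200001000010000100003000020000100002000010000300002000010000200001000030000200001000020000100003000010000100002000010000300003000010000100001000010000200001000010000100003000030000100003000010000300003000010000100001000010000200001000010000100002000010000100003000010000200003000010000100003000030000100003000020000100002000030000200001000010000100002000010000200001000020000300001000010000300002000030000100001000010000200003000030000200001))) (.node (.leaf (nat_lit 0x198f51b4d718511185111851118513185131851118513185111851318512185121b4d518513185131a495185111b4d51b5d11b4d519455185111851319455185125587b194551b4d5185111851318511185131851174a91205391a593185111b5d118511185131851218511364ab1851118512185122053934a13185111851318512184151945524e1124e1132d3a18511185121851118513185132053934a11185111851218511185111851132d3920a261851318512185111851134c3b34a1120a251851318511185121851218511194561a4951945618513185111851219455185131851118511185131851118513185131851334a111851134a11185111851218513185111851234c3a34c3af3d3b20a25f3d3bf9db2185111851218511185121851134a11e0d1a18511e0d1a18415185111851218415195511851218c2519551185111851134a11185111841520a2534a1118512185131851218c2534c3a18c251851118513185112053918512a0aa5e0ae634a1118512a0aa760a6618511aa825185122053934c391851318511))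 (.leaf (nat_lit 0)))) (.node (.node (.leaf (nat_lit 0x1a49618513185111b4d7185111851318512185111851318511185121851218511a36f618415d7611185131851118511185111945518511185111a495185111b4d51851318511184151b5d1185131851118513185111851118513185111851318513185111851218512185111851318511185121841518511d7611185111841555611185131851355611185131851318511556111851118512185111851118511185112582b1ace518511605f9185111851318513626b7185121bc651851234a111851119ca5185111851218513185111851318511185111851218511966111851118512bbdf27adb1bbdf2185111851218513f05691851318511705a91851218511185131851118513966131851118512d76111851318511d587a18513185131a49618513185111b4d7185111851318511185111851318511185131851318513185121a875194561945618511185121851118512185131851318512185111851318511185111851318511185121945618511194561851118511185131bc651a49718511185131bc65185131851218511)) (.leaf (nat_lit 0))) (.node (.leaf (nat_lit 0x705a934a13919f918512185111851118c25556111851218511d44da18512184151851318c25185121851218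41518513f3d391851355611185116782a1841518513185125769118512505591851318512d761118512d361518513185135561118511185111851318c27194551851118511d05d95055ad36151851218511d0d6a185121b8b551e67185111bca71b4d518511185121a8751851218415185111b8b5d05d91b4d61851318511b589ae05b9a0e551851318512d05d9a0e5518513a0e561b4d5f29da24e11f29db185131851118511b546924e11ab4761a495774eb185111a49718512185111a875ab475605f91a875185111851218511e4e9218512185111841518511e05ba9587918512905991851118513125995445b18511b0d79b0d7a21ddb1851150559185111851355611d7611309db1883518835185131851122d5a1851155611705a9556111851218511198f518511a057918513198f5939ba198f518875185131851118511185131a875185131a875e05b917a33568b9185131851118513f4cbb18511d587a605f9)) (.leaf (nat_lit 0)))))) (.node (.node (.node (.node (.leaf (nat_lit 0x1000010000100001000010000200002000010000100001000030000100001000010000100001000010000100003000010000300003000010000100001000010000100001000030000100003000010000100001000010000200003000020000100001000030000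200001000010000100001000030000100003000010000200001000010000300001000010000200001000030000100002000010000100003000010000300001000010000300001000010000200001000020000100002000030000100001000010000200001000010000100001000010000100001000030000100001000010000100002000010000200002000030000100001000020000300001000010000100003000020000100002000010000300002000010000100001000020000100001000020000100001000020000100003000010000100001000010000200001000030000300001000010000100001000030000100003000010000100001000030000300001000030000200001000020000100003000030000100001000010000100003000010000200001)) (.leaf (nat_lit 0x1000010000100003000020000300002000010000200001000010000300001000030000100002000020000100003000010000100002000010000200001000030000100001000010000100002000010000100001000010000200002000010000200001000020000200001000020000100002000030000100003000010000300002000010000100001000010000100001000030000100003000010000200003000030000300002000010000300001000010000100002000030000100001000030000100003000010000100002000010000200001000030000100001000030000100001000010000100003000010000200002000010000200001000010000300001000020000100003000030000100001000010000300001000010000200001000010000100001000030000100003000010000100003000010000200001000010000100001000010000300001000020000100001000030000100003000010000300003000010000100001000020000200001000010000100001000020000100001000010000300002000010000200001)))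 (.node (.leaf (nat_lit 0x185131851118511184155055918511505591851118513185111b4d718511185111b4d71a59118513185121851218511185131b4d51851318511e5c9a93559185121851218511185131851155611185121851118512185111b8b71a972198f518512185111841718512199f1185121bc6518513199f318511556111a8751851319ca51a8751851218511185131841618415b3a1618415b3a17d76111851218511905991ade318513185119059918511185121ace518511605f9626b51851318513185111ace5185111851334a111851119ca5e1675185129661118511185121a83518513f9d72194551851218511e167618513185111851319455b05e91b4d57adb118513185111851318512b05e93052934a111851334a111851332e76185111851230529b05e91851218511f056996613185111851218511185121b5d218511185121a5911b4d719457e6e111b4d7185121a9321b933185111a4961a875185121a5911bc651b5d2194551b5d21b4d518511185121851119932185121b93118512185111851219ca5185111851218511)) (.leaf (nat_lit 0)))) (.node (.node (.leaf (nat_lit 0x18513185131851118c251851118512605f9185121851318c2518c251b8b71b9311a8761851118513185121945518512185111b4d5185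13185111851318511185111a87518511185121a875185121851218511d587a1851134a1118512194551851118511185131851118511185131851118513185121851118513185111851134a1118511185131851118c25d761118511185123a911194561a87518c253b911185111851218513185111851318c25198f518c27198f5185121851118c251851218c251851218c251851218c27185119661118c2518512185111b8b51851118511185112486a18513605f996611248aa1851318511d05dbf0569185131851218511605f9626b5185111851318512605f91851118513b05e9185115055a18511185121851318511605f9185111a49518513705a9626b6185111851318511185111851318415185131851318513185121bc6518512185111a8751b4d618415185131b8b51851118512185111b8b518513185111b4d5185111b4d71a4951851118512146111851218511146111851218511)) (.leaf (nat_lit 0))) (.node (.leaf (nat_lit 0xf3d3b1851220a25185121851118512185121851119456a54391851220539185121851324e1118513185121851118512916d524e11a543b1a591185121851118512184152053934a112053918415185121851118512a543918513aa8a7968bb18c251851134a11184151851118513246f134c3bf9db2185111851218415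185131851234c3918512d761120a261b4d6185121945734c392053920a27185111945634a111851118513185111945518415194561851120539185121a495185131a87519551f5a111b9f1185111a8371a875374ea1ace5198371851218511b7a11185111a87518c251851334a131ace518c257b8161a8751851334a1118512185121b8b734a11185111851334a1118511f0569aa8251b8b518513d05d9185125b8f5185121851218513b05e9598b51851260ae629d11a0a67185111a496f0a5528c95185111851196611185113052928571605f9198f518512184153adf2d7611185125561118513705a9185111959376a11185111b8b51851118513225fa195911a8751851110519e153a3a4251a87618511)) (.leaf (nat_lit 0))))) (.node (.node (.node (.leaf (nat_lit 0x18512374ea185111851334a1118513185111851118415b05e9374e9b05e9185111851318511185121841518511185111851118511185131851118511184151b4d5185111851118415185111a87518513185111851118511185121851318511185121851119456185131851318512185111851318511185111851318511185121851318511185121851118c25194551851118513185111851218512185111851218511185111851334a111851318511185131b4d5185111851234a111851118511185121851118511185111851234a111851118511185111851218511185131851118513185131851118512185111851218512185121851318511185131851318512185131851118512185131b4d518513374e9194551a496185111851334a11185131851318511185121b8b51851118513364aa198f51851134a1334a1134a11185121851118513b05e9185111851218511185111851334a1118512185111a495185131a4951851218511185111851334a111851218511185121851334a1118511374eb185121851234a111851318511))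 (.leaf (nat_lit 0x2000030000100003000010000100003000010000200001000030000100001000030000100001000010000300003000010000100003000010000200001000010000300001000020000100001000010000100003000010000100001000010000100001000020000100001000020000100003000020000100003000010000200001000010000200001000030000100002000030000300001000020000100001000010000100001000010000200001000020000200001000030000100001000030000100002000010000200001000010000100001000030000200001000010000100001000010000200003000010000300003000010000100001000010000300001000020000100001000030000100001000010000200001000010000200001000010000200001000030000100003000020000100002000010000100001000020000300001000030000200001000020000100003000030000100003000010000200003000010000300001000020000300001000030000100001000030000200001000010000200002000020000200001))) (.node (.leaf (nat_lit 0x556111851376e31b7e3218511d05d9185131851318513d7611184171b4d5185111851119455d05d91851218511185121b8b518513d7613d7613198f5185119661176e32185111851318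5111851218513185111b4d71a4951b4d71851318511185121a49518512185121851118512605f91851218513185121851118511e05ba185131851118513185111851251616d3615b1d7bd05d91b4d51851118511184151a495b1d791851318513185131851118512966119449918511184151851265c9ae7c591851318511d05d91851318511e7c5ad05d91851218512a6cd965c9b18511d7613a6cdb18511185121a8759661118513966111851318415185139661218511705a9556111a87793a76605f91851218511939bb18512188f51851218c2518513188f718511198f5198f51851318c25198f5185121851118513939bab7a111a87617a3118512f5a1118511568b91851118511f4cbb18511d587a1851174cfa185121851134a11199311b4d518513374e91851318511705a918c251851118513f5a1118512354691851218c2519455)) (.leaf (nat_lit 0)))) (.node (.node (.leaf (nat_lit 0x1851334a1118511705a9605f9e05b918513f5a11185121851163dda18511705a91851218415185121851318512b05e9b7a11184151851218511364ab1887530e76185121851176a11184152053976a1118511185121851118513198f6194551841518c2518416184171841518511185131851218c2718c2518511198f518512b05e918c2518513185111a9b21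851318c251bc65185111a9b3185131b9f118512705a9185131bc6518c251851334a111bc65185131851118512185111b8b518513185131851318c251a497184151851118511184151b8b5185121851118512b7a11185131997318c27f5a111851118c2518512185111851318511185121b4d71851118513185111851318513185111851218415185121851218511185121851118512185131851218511185111851218513185111851318511185111a9b218c272053918c25194571b4d718511185111851118513198f5185131851218c25198f51851318511185111b9f21b4d718511185131b4d71945518512185131851118513205391851218512185121851218415)) (.leaf (nat_lit 0))) (.node (.leaf (nat_lit 0x194551851295879185121b4d518512f05693052970a961851124e11185126257918512b0e35a057b6257b18511f0569185111955218513e05b91851124e111851224e11a0579b05e9185111851219553a0579d05d9a0e55e0e95185131a495285f2185111851118511e05b918513f056918513d05d918511d7611a05791851218513185125561190599e15fa1851218511505591a495e05b950559185111851218511136d71851355611126965561150559785235445918512626b550559605f9185111851251ab5d05da185131851118513574999059b18512d05d91851218511185131851350559185111851118511d159b556111a49621969d05d9f056918511185131b4d5d05d918512d569118512185111851291e66d761118513198f553ee61851318512505595561118513525db1a4951945718511556111851318511185121a87518513185121945536cfad3615185125561118511a0579d05d95445a1851118512a0579564d9b099ba057918512185111a875605f9185111a875199f318511184171851118c2519ca518511))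 (.leaf (nat_lit 0))))))) (.node (.node (.node (.node (.node (.leaf (nat_lit 0x1000020000100002000010000200003000010000100001000020000100001000010000100001000030000200001000010000100002000030000100001000030000100003000020000100001000030000100001000020000100003000010000100001000020000300001000020000100003000010000100002000010000100002000010000300001000010000100001000010000100001000030000300003000010000300003000030000100001000030000100001000020000100002000020000100001000010000200001000010000100001000020000200001000020000100003000010000100003000010000200003000010000300001000010000300001000020000100002000030000100003000010000100001000010000300002000010000300001000010000100003000010000300001000010000300002000010000300001000020000200001000030000100003000020000100001000010000200003000010000300001000030000200001000020000100003000030000100001000010000100003000010000300001)) (.leaf (nat_lit 0x18c25e05b9a057973ef518511605f9f056918512e05b924e11205391851150559e8d5134a1176a11e6e111851234a11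19455105191a875185125055919455a5e11105191851224e112053934a1118512184151851390599185121a8751851324e1118511d05d918512a057918512198f518512d85521851196611b05e9d05d930529b05e9b895118511146111b8b51851255611d05d9595135561118511505591a875b7a11185111ace5658a9a5e111b5d2505591b4d5185131a591194576543924e1167e11185111b8b51851230529185129661127c5b24e11f7429d76111851179db1185131bc651a972d2a351851379db2fbd711b8b5185111a496705a918513605f918511105191851167e11656311b8b5a892233ad61b5d376a1118511abc1718c25185111b4d5f0569556112643a205391851218c251ace5705a91851218c251a4951b8b5966115561157e211851118835f5a1134a11f4cb918511185119449bd541918513198f518c2518511556111851323ed5905992053918512d05d9d76111851318511505599059918511))) (.node (.leaf (nat_lit 0x185121ade218511185121a8751a875184151a875185121851118512198f71a8751a49719ca519ca51a8751851118513185121b5d219553185111b4d7185111b4d718511185111b4d71955118513185131851318512605f9185131945518511185131851118512185121851118512185111851367e1118513185121851167e1118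513185111a495185121b4d718511185111b4d718511195531851330529185131851218511185131a49518512185112547b1851218511305291851124e111a495185111841718511185131851118513185131841593e6618513185111851330529185111851196ea21b4d51841596ea21b4d5185111b4d5185111a59318511185111a5931945519de318513185131945624e11185131851324e11184171851218513a057919de11b4d61851118513605f91851393e66274f918512568ba93e651851293e651851218513185111851318511185121851318511185121851124e1155612185111851318511185121a495185111a875185111b4d51b8b5185131851396611185121851218511d761318511)) (.leaf (nat_lit 0)))) (.node (.node (.leaf (nat_lit 0x1851318c2618c251851218511185131851218c2518512185111a9b218512199711851318c25185121851218511185131851119455185121851118513184151b4d518511185121851118511185121b8b5185121851318c25198f51851118512185131851118c251997318511185121851118513185121851318513184151851318512185111851218511185111a9b21997120539185111a4951851318511185111a495185121851218511185121997118513185111851118513185111a4951851318511194551851118512374ea185111851334a111841518511185111b4d5185111851118513185131851318511185131851234a111851118415185131851318512184171851118513185131851118512185112053918512185111851234a1118512185131851318512185111851118512185111851318511185131851318511185111851118511185121851118415185111851334a111851118513185111851118c25185115561118511185111851218511194551851118c25185121851318512205391851118512205391851118511))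 (.leaf (nat_lit 0x100002000010000200001000010000200001000030000100003000010000100001000010000100002000010000200001000010000100001000010000100001000010000200001000010000200003000020000100001000010000100002000010000100002000020000100001000010000100001000010000300001000010000100002000010000100001000010000100001000010000100002000010000200001000030000100002000010000100002000010000100001000010000100001000010000100001))) (.node (.leaf (nat_lit 0x18513185121851150559185111851150559185111851218511195531a5936a9a218513185111851218512185139661164ae19261718512185111851218511605f918513185111851318511d7611f0569d7611185139059951616185115561220539d7611d05d9556121851134a12d05d91841535cbb18511185129197990599185129449918513185119059918513185111851312599556131851218511605f99661155613d159a96611e5c9a18511185139059b55611e05b95561118513d761118511e167694499185121851350559185119661118512f0569185111851318511185139355a1a4951b4d5d05d91851118513185131b4d7d169590599d05da18511185121851118512185131a495184151851118511135db966111851296611185131851218511185121851118512525db185111a877966111851218513185111b4d7d05d9966115055918511185131851218512185131851135cba9745996612d549b556111a87518511185131851318513e05b993559966121851118511185115561196611e05b9185131851318511))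 (.leaf (nat_lit 0))))) (.node (.node (.node (.leaf (nat_lit 0x1851218511568b9185121851118513185131b8b518513185121851218512185111851218511e16771851296611185111851118512978fa1851218513185111a8751a495185111851318511626b71851218511185121945518513185111851118513185111851218511605f918512185111851219455978f918512185111851218511d587b1851218511185131851218513185131a495568bb185131851118511978f91851318512185111851318511605f91851118512185131851118511185131a8751851318511185131a4951851118512198f51851118511185121851118511185131851118511185131851118513185121851218511185131851218512185121851218511185131851218513185131a495185121851118513185121851118512185131851118513185111851218513185111851218c251851318513605f918513626b51851318512e05b91851118511d7611184151851118513185111851218512185111851218511185121851318511185131851118512185121851118512185111851318511185111851318511)) (.leaf (nat_lit 0x10000200001000010000100003000030000100001000010000200001000020000100001000010000300001000030000100002000010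00010000100001000020000100001000020000100003000020000100001000010000100003000010000200001000030000100003000020000100002000020000100003000010000200003000010000100001000030000200001000030000100003000030000100003000020000200002000010000300001000020000200001000030000100001000030000300003000010000300001000010000300001000020000100001000020000100002000010000100003000010000200001000010000300001000020000300001000010000100002000020000100002000010000200003000020000100001000010000200001000030000100003000020000100002000010000100001000010000300002000020000100001000020000100002000030000100002000010000100001000010000300001000010000300001000020000100002000020000100001000010000200001000010000200001))) (.node (.leaf (nat_lit 0x19da31ace518415a5e1118511199f31851219ca56a4361a875185121bd6319ca5185111a875185129059918511185131945518512525da1ad21d15991851118513185121851118512525d9146131851318511b05e919d2118513185121b4d51b4d618511505591a836198351851218511505591851214611f8cf778c7518513915da18511f0569185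111945519552505591851118511229aa18513185111a4965055914612d05d91851119ca518511a063718511185121b4d71955314611185121851118513185111b4d518512185111b8b51851118512185131851118513b4621185111a973199f21461118511184161851318511905991851118512605f91851334a11185115561118512705a918512e05b9185131ace518511605f91851118512185121461118513705a918512185131851290599d76111851318c251bc6518513146111461118513185111851218511e6c5bb0ad767c99e6c5b18511e56731851265c59a4c1a34a111851365c5b18511d05d967c991a495f0a571851118513f0a151851218512a56f13052934a11)) (.leaf (nat_lit 0)))) (.node (.node (.leaf (nat_lit 0x185131b8b5185121b8b534a1134a11705a918511185131851228c9718511298272ad11185111851318512185111851229d1118512148fb18511198f528c951851218512185111a87534a1118512605f934a11185131851118512198f518511374eb18511605f91851234a11185131b8b51851218512185131a8751851118511198f718c2634a11185113b4261851218511185133a425185121b8b718c251851318c251b8b51851318511185121b8b518512185121851118513185111851318513185111851234a11b05ea18c2518511185131851134a131851318513605f9374e934a11605f91851318513185111841560d19185111b4d51851134a1139c37185111851118511185121a592185111851219551185121851239c351851218511185121851218512185121851118513b0e37185111851318511f0e37185121851239c3518513185121851118513194561851118513185131851118511b8521194571851218513185131b4d518511705a9185111a49518511f8522605f9b852178523185111851218511185111b5d218511))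 (.leaf (nat_lit 0))) (.node (.leaf (nat_lit 0x185121a4951a495d05d953939a2d9b374ea364a9185121851118512e8532a1dd918513d05d91ace5185131841518512fbd716bcd618512eac9518415a05791851218512185131b8b596611e357be05b919551f056918511e3e5618512a2ed575ef31b4d5e05b9b6e721a8751851318511a5e111851318511194551851125e5318512605f9e05b9e6e11d587ae05b9605f9185121851118513e357aa25f918512e6e1118513185131b4d5185111b4d5185131851231a5518512f7859a64fa305296a531185126982576a1130529764291851318512d19ba18513305291851176a1118513e6e1124e1118513188351851118511305291851324e1130529198f518511185121a495605f9195d1605f9185131b8b51a875e6e1119da1185131b4d518511199f319ca5185121a971185131851218511185121a4951a497185121b4d5f66e218511a263618512605f9776635561118512e0e9724e1118511605f91851218c2518511185131b4d5194561b8b5274f918513185111851161637a057918513198f51851218512194551851318511)) (.leaf (nat_lit 0)))))) (.node (.node (.node (.node (.leaf (nat_lit 0x18513185111851118513185111851318512185121851118513185121851218512185121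85111851218512185111851218511185131851318c251851318512185121851134a11185121851134a11185121851118513185111851218511185111851218511185121851318511198f5185111851318512185111851234a11b05e91851334a11185121851118512185131851118513185111851318513185131851218c2518512f05691851118c2518511185121a4951851118512185111851218511705a91851218511185131851118512185131851318512185131851318512185111851318513d76111851318511198f5185121851118512d7611185135561118511185131851118513185131851218513185111851118513185111a495185111851118512198f5185111851118511185121851118513185111851218511198f5185121851118512185121851118512185111851318513185121851318511185131851355611185131851218512198f518511185131851118513185131851118511185111a87518512185111851318511)) (.leaf (nat_lit 0x1000010000100002000010000200003000010000300001000030000200002000010000300001000030000100003000010000200003000010000300001000020000100001000010000100001000030000100002000010000200002000010000100001000010000200001000030000100001000020000100001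000010000300002000010000300001000030000200001000020000100001000030000100002000010000300002000010000300001000030000200001000010000100001000020000100001000010000300001000010000300001000020000300001000010000300003000010000100003000010000100001000010000300002000030000300001000030000200003000020000100001000010000200003000010000300001000020000200001000030000100001000010000100002000010000300001000030000100001000020000200001000020000100003000010000100003000010000300002000010000200001000010000300001000010000100001000010000100001000010000200003000010000300001))) (.node (.leaf (nat_lit 0x1851318513f5a11705a918511185111851318c2534a121851118512a0d1a185111b4d518511e0637a063618511f0a5618511f0e371a592185113bc371851118513606353bc3618513e0637185131b4d6185111945718511185131a495185111b4d51841518513185111851318511185111b4d519455185111851319455e05b91a4951851170a961851124e11e05b918511e4a23185121851218511185111945618511a8532185121851219457f852118512f0569a853118513785211b5d218513185111a4961945518512185131851218511b8521f85226853268532a94f718511a0579b8523185111b5d2905991851218511905991851218511e26b71b4d562e55636f5185111851118512f0569a167518511f0569185121851118512e05b9a16761a4971851318512636f51a495185131851119455185111851218511e05b91945618511a0579a8532185131851290599194561841518511185121a4951851218511b852319456185111851118512a853118415185116853318513185111945518511e05b919455185121851318511))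 (.leaf (nat_lit 0)))) (.node (.node (.leaf (nat_lit 0x185121a495185111a875e05b91a495185121851118512185111851218512185121b4d6185111851318511185111b4d51a8751b8b519de21b8b518512185111851318513185111a4951851118511185131ad6118512185111851218512185111a495185111851218511185121a87518511184161a495185111851218511194551851218c251851118511185131bda318511185131851118512185121851118512185111b8b5185131851118512185111a4951851318c2518513185111bda318511185111945518c25198f518c251851118513185111ad621945518511185111851118513185121851118513184151b4d51b4d518c2518513185111851318512185111851218c251b8b518c261945518513185111851118512185111851318511e853318513185111851118511185111851218511194551851118512185131a8751851119de318512185121a875185131851118512185131a875505591a875185131a87618511e8532198f518c2518513198f518512185111851350559e853118513e853118511f05691851118c2518511)) (.leaf (nat_lit 0))) (.node (.leaf (nat_lit 0x18512b05e91851118513935591b4d51851218511185121bd2134c391b5d31a59218c2518511905991b8b51a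835185131945514612f462218511f056914611e3e5718513185131b4d65055914613d05d91851119ca518511194551461119d21954db18511239eb18512185111b8b519d211851327829b7a1134a11f0569f5a11e05b91851234a11705a918512326e671529e05b9556117152b1ace518511605f9b05e9946d11851314611b8cb61851118513946d2315a9d05d918511325ea1851218513d05d95561118512b05e9e267590599e6c59185116b9e3185111945512de918512705a972db919457f06e511dab1461112de911dab1851172dba18512185121945717c691945618511b46e3194561851114611b46e318511185121bc65185111bc651851118415f066552daaf05691841593deb1851118c2562539605f9185131851118512364aa18511f056918c25f5a1119ca518c251851118511b05e91851218c2518c26a057918416e05b918513198f518511198f5e05b9185111851319ca51851218c251ace51997234469)) (.leaf (nat_lit 0))))) (.node (.node (.node (.leaf (nat_lit 0x1a495185131851119455185111bda318511185131851118511185111945518511185131851118512185131851118512185111851218513185121851118511185131851318511185121851118513185121bda1905991bda1185121bda31851118513198f51851318512198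f51851218511185131851218511185121851118512185121851218513185111851218511e05b918512185111851118513605f91851318511185116847618511a057918511185111851318511185111841518512185121851118512185111851318511185111851318511185131851218513185131841518512185131851118512d7611185131851318511185111851118512185121851118511185111851318512185111851318511185121851150559185121851118512905991851118512185119059918512185111851318511185131851318513198f518511978fa1851318513185121851118512185121851118512185111851318511185111851318511185121851318511185131851118512185131851118513185111851218513185111851218511)) (.leaf (nat_lit 0x2000010000100003000010000100001000010000300001000030000200001000010000100003000030000100001000010000200001000010000300001000030000100001000010000100001000010000100003000010000300002000010000200001000010000300001000020000100002000020000300001000010000100003000010000200001000030000100001000010000100002000020000100003000010000300001000010000100001000010000100001000020000100003000030000100001000010000200001000010000300001000020000100001000020000100001000010000100001000010000300003000010000100001000030000200001000010000100002000020000200003000010000100001000010000100001000020000100003000010000100003000020000100002000010000300002000010000100001000020000200001000030000100002000030000100001000010000300002000010000200001000020000100001000010000100003000010000100002000010000300003000010000100001)))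 (.node (.leaf (nat_lit 0x18512185131b4d51ad6360ed5185131851218511185121851124e1118c2518511185131b4d51945718512264b91851224e1118513264bb185111b8b5605f91851324e11605f9185121851118513194561b4d5185121b4d5185131a875185121851118c25a0e57185131851118c25185111851118512185111a4951a4959661118512185131851218c2518c25185131ad61185131851118512d255b55611185131851118512e99a31851118c2518511185115359a1851118c2518511185131b8b51851118c25205392053918513198f5185121851118512185131851218c251b8b51851218512185111a8751b4d5605f91a875185111851218511184151851338c751b4d5e1d5918c271b8b7198f5966111851118512505591851218513d761119456a1675f0569185121b5d19059918511185121851353599185119059918511194556853150559185121851353696705a978522b05e918511b88571851118512e05b918511185131851118512505591851119de318511e05b918512198f518513d05d91851218512185139059918511)) (.leaf (nat_lit 0)))) (.node (.node (.leaf (nat_lit 0xd58fb1851219455568791851118512d587a185111851218511148ba529ba1b931529ba1851118511109f918512d58f9d58f91851234a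11185111851118511d58fa939fa1851218512529b91851318c2618c25185121851118511d76111851118512185111b8b6fb4661a875185135561118c259661118c251851318835185121851118c26a057918c2518513a0579198f61851196611185112486b18512e05b918511185121851318511e05b918511248aa1851318511d05db18511185111851218513a057934a11f4cbb1851234a11b4c7a1851118512288e6288a5288a5f4cb918512b05e9185115055a18511185131851218511a05791851118513185121851118513185111851218512f05691851318511194561b4d518511185121b4d51b8b51851218511185131851118512185111a8751945618415185121b8b518511185121b8b518511185131ace514611185111851318512185111851218511194561851114611194561a49518512185131ad211a49618511185121851318511b05e9185111851218513194551b4d518511)) (.leaf (nat_lit 0))) (.node (.leaf (nat_lit 0xe5cdb18512198f518c2518511a05791a875d587918512b8df11851166c5be05b918512f9991185131b4d51851134a11185111851318513b05e918511e7c191851318511f5a1134a111851118c2562a2618511bbd73f8cf518513206f7bbd71185121945518511f98971a875185127a8d51851213dea1a875185131a875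18513a5e11e367618511198f5a5e1118513b05e9a36f696611a36f71851270a951a4951851190599185121bc6519da2305291b4d630529185131a8751851118513185131a495185111851119455b05e918511185135561118c25b05e9706a7f9563185115561118c2519ca5185111851118511b05e9185111945512de918c256253ae05b918512f0569f5a1130eb518c2518511f056918835a0579185121b8b518c25d6af176a1118511205391851160ed71a4951841518513198f524e1118c2520539185131b4d51a59218513184151a495185111851215af215af252ab7b391918417215bb205391851118511185121b5d31bc65199711b8b519ca55393a185111b9f2185111851234a12185111945753ea5)) (.leaf (nat_lit 0)))))))) (.node (.node (.node (.node (.node (.node (.leaf (nat_lit 0x1000030000100001000010000100002000010000100001000010000300001000010000100002000020000100002000010000300003000010000100001000020000200001000010000100002000010000100002000010000100001000020000100001000010000100002000030000100002000010000100002000010000300001000010000100001000030000100001000010000100003000020000100003000010000100001000010000300001000030000200001000020000100001000020000100003000010000300001000010000300001000030000200002000010000300002000020000200002000010000200003000010000100001000010000300001000020000100002000030000100003000010000200001000010000100001000030000200001000010000100003000020000100002000010000100001000010000300001000020000200001000020000100002000020000100002000010000300003000030000200001000020000300003000020000100001000020000100002000010000200001000010000200001))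 (.leaf (nat_lit 0x24e11966111b4d51851318415f2e3618513a76b2a0579b05e9e6e111851119ca51a495198f520539198f51b8b51a49518511f8d331b4d51851134a111a8751ace5e64f91a875a54bb1851118c2518512705a9f056b905991851267e111851334a1194ea1a5e1118511f5a11fa42518c25f0569d05d99059968c95185111a8753052918512198f51bc65b05e91851219455b689a1a875525da1b8b518513905991851155611d4af119ca518511d05d918512105191851324e11185111851373d3967e1124e1118511185131851318415185111a59134a11185131841518512935591b8b523e551a49518511b7a1134a11219a919ca5185111a87518513195521bc65e78ea19c251a495d05d99587b18513748d950559985d313655f1dfb1851124e11f0569a35b918513194551a59318513e05b918511185115055918511e05b918513205f918513d05d918511d76116053918513d361618511966111851150559605f91851118512d64595055962e955055918513e05b9f056918512d05d962e961b8b5a1d5a198f5185139661118511))) (.node (.leaf (nat_lit 0x18513184151a8751b4d518415185121b8b7184151a49518511198f718511185131b4d518511198f5966111b8b71851318511185121a591605f91b5d21b4d5a057918513185111a4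9518511185131851219de11bda3185111851218512e05b9185131851118513185121a4951b4d524e1124e11185121851118512185111851318513185111b8b5185111851218511185111851118511d76111a4951851118513185111a5931851318c251a59319455184171851318512185131851118c251a49519de118512185111851390599185131851218511185135359a1851118c251851118512185121851318c25185111a4961a59118c25185121b4d51a87718512185111851218511a0579185131851118513185111b4d61851238c7618512a3dd9185121a87618511185121851118513185111851118513535991a875795a31b4d518512bbd3118512185131851318512184151851318513705a9185131851150559185121851118512705a9e8533b05e918511bbd3318511185131851318512636f7185111851118513185111945518511)) (.leaf (nat_lit 0)))) (.node (.node (.leaf (nat_lit 0xf056b185121a4951b4d5705a9185121b4d51a49518512185111b4d51851218511198f71a8751b4d51851318511185121851134a131a49619455185121851134a12b981734a11185131a87534a11b05e91851118512b0ad5705ab705abb0ad5d05d918511185111851318511185135055950559198f5185131b8b71851119456198f61b4d5185131b8b518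511705a9185111851318511185121851234a11185131b8b51851318512185111a8751851118513b05ea34a1118512705a9185131851334a111851118511e05b91851334a11185121851118511198f71a87534a11185111b4d71851318511185121b8b5185131851218511185131a87518c2518513185111851218511705a918c251851118513f5a11705aa364aa35469b7a1118511b05eb185121851118512f0569b05ea1851118512e05b9364a934a1118512185111851234a1118513e05b9185121851118c2518511b0ad6f0a57605f9705a91a497185131851118511185111851334a111851318512b0ad534a11185131851118511f0a561851318511185131851318511)) (.leaf (nat_lit 0x3000010000100003000010000200001000020000300001000030000200001000010000100001000030000100002000010000300001000010000100001000020000200001000010000100001000030000100003000010000100002000030000200001000010000300001000020000100001000020000300002000010000200003000010000200001000020000200001000010000100003000010000100003000010000300003000010000200001000020000300001000010000100001000020000300001000010000100001000010000300001000020000300001000030000100001000010000100003000010000200001000030000200001000030000100001000010000100002000030000200001000010000100002000010000300001000030000200001000020000100001000010000100003000010000100001000010000300001000010000100001000030000100002000010000300002000010000300002000030000300001000010000200001000020000100003000020000100002000010000200003000010000300001)))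 (.node (.leaf (nat_lit 0x1a875185111a875185135561118416556111a971185131851118511e99231b8b51851396611185132292b27829a05792392934a111851270a951851234a11bbcf670a97185111ace565c5918512f9c76bbcf51bc65194551851234a1118511185111851118512185121a4951851336e71e16779661118511185121a931705a97bdf2bbdf31851255611bbdf234a1118512f9d73b05e99661155c2b1851132e77185111851218512d76115055b18511978fa1b5d2185111851118511198f518512198f518513185111bc651a49718511185123052918513198f51b931305291851118512185131a4951851326e911993119457185131b4d718511185131851318513e05b9185111aca61851252e65d1ee718511198f552e66d1ee518513185111851319ca5185111a496198f5198f652e6718511d1ee6185111a5931ace51ace51b4d718511199339251918511184151bc6519ca7185121a875198f51ace518512198f51a8751851218511185131851218511185121ace5185131851319455185111945563ddaa1d5b1b4d51851118513)) (.leaf (nat_lit 0))))) (.node (.node (.node (.leaf (nat_lit 0x18513185131851318512d761118511a05791851134a1118511a05791851118512185131851118512978f9185131851218511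978f9185121851118513978f918513185121851118512185111851318512185131851334a11185121851218511d7611198f51851218c2518511556111851196611b05e9626b5185131851118513605f91851118513626b518513185121851118512705a91851218512185111851218511185111851118512185111851118512194551851118511185111851218512185121851218511185121851218511185121851118513185111851118513185111851218513185111851318511b0ad5185131b4d5185121851134a111851319455185121851118512185121851118512185111851318512705a9185111851118512185131851118513705a934a11b05e91851118513185121b4d518513185111841518511185131851118513185111851118511184151851118513185111851318513185111851118511185121851218511185111851118513185121851118513185111851219455185111851218511)) (.leaf (nat_lit 0x100001000010000300001000010000300001000020000100001000010000100001000010000200001000010000200001000020000200001000020000100001000030000100001000010000200002000020000300001000020000100001000020000100003000010000100001000010000100003000010000100001000020000200003000010000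1000010000300001000020000100002000020000100003000010000100003000010000300001000020000100001000010000100002000010000100002000010000200003000010000200001000030000300001000030000100002000010000100002000010000100001000010000100001000010000300001000010000100001000010000100003000010000300003000020000300001000010000100002000010000100002000010000100002000010000200002000010000200001000020000200001000030000100003000020000100002000010000300003000020000300001000020000200001000010000100002000020000100003000010000200003000010000300001))) (.node (.leaf (nat_lit 0x1851234a11636b69059918511185111b5d21851119455185111851318513185111b4d5185111851218511185131945618511705a9185131851163dda1461118512185111851118512185111851118513185111841518511198f71851219ca56a922e99211b9f2f05691a9b118512f05691851334a1118511705a918511605f9b05ea76a1118513705a918513364aa18511f056918511185131851318c25185111851118417705ab1841518511185111b8b5198f618511185121851119ca5185121a9b118513f0569f446a18512b7a11744ab18511198f718415185111851276a11185121945519455b7a111b8b51851318513185111a9b2b7a11185121b4d7185111851220539184151a496205391851118511185121b4d51851318512185111851118513185121b8b51851118513185132053918c25185111851318512185111851224e11185131851318511185111851124e11185121841557a7318511185131851220539185121851118513185121851176a11185111851176a111851118512185111945519455185111a49518511))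 (.leaf (nat_lit 0)))) (.node (.node (.leaf (nat_lit 0x1b5d21a591a0579185121851118511185121851118513185111945518513e05b91a59318511185131851250559185111a59118513185131851218513185111851318513185111a49618511a057918512185111851290599185121945718513185121851134a11ab9e318511185111851234a12185121851118513185111851234a111851218513705a9b05e970a971851118512185111a59318512185131b4d71a49518513185121851118512185111851218512ab9e118512185111841718416d76111851118511516161851318511ab9e3d761150559556111851118513185121841518513185111b4d518415d361718511185131851118511185111b4d518511185131851118513926165055934a1218511185131851318511f0569185111b8b51851318511185131851119da31851218511185131ade118513185131851118512198f518512ea5b2198f518513185111851319da218415194551bc651ace5185121851118512185111841718513505591851318512185131851318513626b6d05d9185139059918511a057918511)) (.leaf (nat_lit 0))) (.node (.leaf (nat_lit 0x1b4d6185131851118c25185117766118513185111a49516c69185121851219de11a495556111851296611d7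611185121851118511e99a31851118c259261518513d255a926151851318511185115359a1851318c25d7611ba4e71b8b51851118c25185112053918c261a8751851318c2518513f9d32ba4e518c251851118513a0579a05791b8b525479185131851119ca518c251851118513185131b4d51bda1185111a495505591851119de31a875185131883518511d05d9e05b9185121851318512505591a87518511185131b9f11851376a1176a115055939db3198f7185111851118c256a475648aba09e9648aa18512198f518513d05d9609aba853268dd190599185111955318511185111b4d5e6e1126e91e6e111a495d1ee71851118512e2e1618511626b725e511b4d718513194551851119551e05b960ed6e0e951851218511d44db18513556111bc6518415185121bc65544591851318511264baa0579a05795561118511a057918513a05791851318511a0d1b18513d2979e0d1918415d3617d05db55611b05e918511)) (.leaf (nat_lit 0)))))) (.node (.node (.node (.node (.leaf (nat_lit 0x185111851318511b05e918511185121851318511185121851118512185131851218511185111851318511185131851318511185131851118512185131851318513185111851118513185111851318512185111851218511185131851218511185131851118513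18513b05e91851318512185111851218511185131851118513185131851118511185111851118512185111a4951851118513185131a875185131851118513185111851118513185111851218511d7611185121851118513198f5185111851318511198f5185131851118512d7611185119661118511b05e918511185131851218513185131b4d5185121851218511185121851118512185131851118512705a91a49518512705a918511185111851318513185111851218511185121851118511185121851118512185121851218513185111851218513185111851318511185121851118513185121851100001000010000200001000010000100001000010000100001000020000100003000010000100001000020000100002000010000300001000010000100001)) (.leaf (nat_lit 0x2000020000200002000010000100002000010000300001000010000100002000010000100001000030000100002000010000200002000010000300001000020000200001000020000100001000020000100003000010000300001000010000300001000030000200001000020000100001000030000100001000010000200002000010000200001000010000300001000010000100003000010000300001000010000300002000010000200001000010000100003000030000100001000020000100003000010000200003000010000300001000010000300001000020000100002000010000100001000010000300003000010000300001000030000200001000010000100003000010000100003000010000100002000010000100001000030000300001000030000100003000030000100001000010000300003000020000300001000010000100001000020000100001000030000200001000010000300001000010000200001000010000200001000020000100001000020000100001000010000300003000010000300001)))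 (.node (.leaf (nat_lit 0x97ee2e99631b4d5705a918513305291851318511b0ad6e4aa1f0569185121851118513185111851270e361851118512185111851218513185121b4d51851118512185131851118513185111a59219455ab9e118512185111841519552d76111851118511d05d918513185111851218511d361718511185111b4d5556115161555611185111851318511926161b4d51851118511185119661118512966111851296611185129661318511f0569d761118512185111851134a11185111b9b21851218511d7611184151a875d761118511185121851134cfbe5c9b1851118512a0579184151851218511185131b8b518511eac971b8b518512185111bc65905991851118513194551841618511d05d9185121b4d518512d761118511e167618511185121851218511605f9966111a49518512d05d9185111851118512525db185111851318511229aa1851318511229aad05d9185129059918511a0579185111851218512185113ad31526d518513d16961851118512185111b4d518511185121b4d5184151851218512185111a49518511)) (.leaf (nat_lit 0)))) (.node (.node (.leaf (nat_lit 0x185131841518511e1675185111851118513185111b5d11b4d51b5d218511e05b918512184151b4d5e1d5b18511184151851118511185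1218513a0579d76111851118417505591b4d7184151b4d7a3ddb1851118511e1d59185135055918513185121851150559185131851118511185129449b5445a18511a057918511185131851118513a3ddbe1d5918512185131851118513e05b9185121851318511185121851118512185131851218511185111851318512185111851218511185111851318511185111b4d51841518511185111b4d518511905991851318511185111851118512185131851118512185111841618513185131851218511185131851118511185131851118512185131851118512185111851218511505591851218415185131841518511185111851118513905991851118512185119661118512185111851318511185139661118511b05e9185111851276a11185111b8b5605f976a111851218511198f61b8b51851218511185121b8b518511185111851118512568b9185111851318513185111851318511)) (.leaf (nat_lit 0))) (.node (.leaf (nat_lit 0xb391a1b4d6185121851318511e0e971851218415185121851124e11185122053918512185111851118513184151b8b519d21185131841618511b391a18415185121b8b5b391918513b391918513f5a111841557a73185111841618513205391851124e111851224e112053918c2518511185121841730eb5f5a11a4e51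e4e91185131841557a721851118511225f9205391851318c251ace61a496185111a49518511185135393a185111b9f218511e64391851218513198f51841520539184152053918c261851118512e643b1a4951945724e1124e11205391a495d293b18512185131a4951851119456705a934a1191ee653ea5985d21851118512d78fa185115541b53ea55541a194551851118511925191955218417184151ace51851124e111851320539346a2184151851218513184153546b20e15184171841618511185121851124e11f05691851118513194551851318512205391851224e111851324e112053934a121851118513185121841518512e4e911851334a111851218511f0569105195151a1a4951851318511)) (.leaf (nat_lit 0))))) (.node (.node (.node (.leaf (nat_lit 0x18c2518513185111851318511185131851218511d7611185111851318513185119661118511185111851218511605f918511185111851318511605f918511185131851218511185121851118513185111851218513185131851318513185111b4d51851118512185121851118511185111945518511f0a551a495194551a495f0a57185131851370a9518513194571a49518512705a9185131a4951851118511185111a495185131851119455194551851318511185131851118511185131b4d51851318513185111851318513374e91ace51851118512198f518512185131bc6519ca5185131851118512185111851318512705a91851218511f0569b05eb185111851318511185119661118511185121851170a96185121945518513d7611705ab18512b05e9966111851118512185121b4d518513185111851218415185111851218511185121b4d71851318512185111851118512705a9185111851118513364ab1851118513374e9185121851218511185121851134a11185131851118512185111b4d518513b05e91851318511))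 (.leaf (nat_lit 0x1000020000100002000010000100002000010000300001000030000200001000020000100001000010000100002000010000200003000010000100001000010000200001000030000100002000010000100003000010000100003000010000200001000010000300001000020000100002000020000100002000010000100002000010000300001000020000100003000010000100003000020000100002000010000100003000030000300001000030000100001000010000100001000030000100003000010000300001000010000100001000020000200001000010000100001000020000100002000010000300002000010000200001000020000100001000020000100001000030000100002000010000200002000010000300001000020000100003000010000100003000030000100001000010000200002000010000200001000010000100001000010000100003000030000100001000010000100003000010000100001000030000100001000020000100001000030000100001000010000300002000020000100003))) (.node (.leaf (nat_lit 0x1851318c251a9b11851218c2518511185131a875185121851118511185131b8b518512185111841518513185111b4d51a495185131851118513e1675185111851222e9618511626b721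e551a4961b4d719455185111851318512a057b1a49518415185115055955611185116782a185115561296611d761118512185111851318512d44d918512d05d91851368477184151851153599605fb18512185111a49718511e05b91851218513505591a495605f91b4d5605f9185121851118512e05bb605f9d255b24e1124e11605f962d995445b185121b5d218512919f91a9f218511184161a49692616185121a9f1185129261651615ab9e218511ab9e3185111851118513185111851255613966111851318511544591851318415185125561190599185131841518512185111851218512d05d9aa827d05d918513516161841519455d7611185125359b19455185111851318512185135561118511505591851218c25d761118513185115445a18513d761155611185115445bb7e33f5e311851218c251851355611d761118513198f5)) (.leaf (nat_lit 0)))) (.node (.node (.leaf (nat_lit 0x18511185131461118512185111945618513185111b4d718511185131851218511185131851118513185111851118513185111851218513185111851314611146119059918511185131851234a111ace534a1118513184151851319ca51a875966121841518513198f61ace518512185111a87618512185119661318511705ab18513b05e9185111851134a123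4a111851119ca5705a99661118511b05e91851318511185131851218511185121851118512d76121851118513185111945534a11185111851218511185131851318511d05d91851118511f0a571851118513505591851118513a56f35561318511a56f31851318511d76121b4d518415185121bc6518511184151851318513185111945618511705a918512185111851214611185131b5d314611185131851118512185111851163dda1b4d518512185111bc65185121851118511185121851118415184151ace5185121851318512b05e91b9b2199f319ca53546b1851118512185131ace5b05e91b9b11b8b6185131a8751851318415198f51a87618511f056918511)) (.leaf (nat_lit 0))) (.node (.leaf (nat_lit 0x18416f05691851118513195511851234a1120539185131851118512185131841518511184171851218512184151851364ed1f3d3a1851320a2534a119093910519e7ed31945518512185111851320539185131a4962443918512d16961a495185121955124e111683a1b5d118513536951841534a1118513185136bd911851219455968b918c2534a1120a251851334c392053920a2520539185131851119455184161b8b5194551a495185111851118513198f51955134a1118c25198f5916d65055918513e6e111851334a1118511f05691a875185139059950559e0aa734a111b4d7905992b96218511198f530529d761118512f0569184151ace562539605f964ed31851134a1118c2519ca518511185111a5d218512195911883519ca518511225f92053971e771ace52053934a111851137e3218511b7a1167e1118511585931a49518513274fba057930529b0e35188351a8f719455e4a2318511185121ad22a057970a9719d2118512f852319455e78eb1851122e9523ed6a6ed1d05d9185111851219455a057990599a0579))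 (.leaf (nat_lit 0))))))) (.node (.node (.node (.node (.node (.leaf (nat_lit 0x1000010000100003000010000300001000020000100001000030000200001000020000100003000020000100002000010000200002000010000300001000010000300001000020000100002000020000100001000010000200001000010000100001000010000200001000020000100002000010000200001000010000200002000010000300001000030000300001000020000100003000030000100001000010000200001000020000300001000010000300001000020000100003000020000100002000010000100003000010000300001000010000100001000020000100002000020000100003000010000300002000010000100001000030000300001000030000100001000030000100002000010000200002000010000300001000030000100001000010000100001000010000100003000010000200003000010000300001000030000300001000020000100003000010000100002000010000100003000010000200001000010000300001000020000100002000030000100001000030000200002000010000300001)) (.leaf (nat_lit 0x30000300001000010000100002000010000100002000010000300003000010000100001000030000300001000020000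1000010000200001000030000100002000020000100002000010000300001000010000300001000010000200001000010000100002000020000100002000010000300003000030000100001000010000300001000010000100003000020000100001000010000200001000010000200001000010000300001000020000100003000020000100001000010000100001000010000100001000020000300001000020000100002000030000100001000010000100002000010000300001000020000100001000010000100003000020000100003000010000200003000030000200001000020000100001000020000100002000020000100002000010000200003000010000200001000030000100003000030000100003000020000100003000010000100001000020000100001000030000100001000010000100001000010000100003000010000200002000020000200001a5e11198f51851224e11a0579))) (.node (.leaf (nat_lit 0x19ca51851218511185131851118513194561851118513978f9195511a59235c7918513195511b4d519455185121b4d5185111bc65185111851235c7b185111b8b5185131851118512185111851219456185111b4d51851118513185121ace519551185111b4d519457185111841518511185121ace518512185131a87518512185131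b8b518513185111851218513194551851118513d7611626b71851118511185121b4d71851236cbb1a5931a4951851336cba1851118512185111851318513185111851318511185121851318511d587b18511194561b4d51b4d51bc65185111851318513185111851318511185111851318512d7611185111851318512185129059918513185121851318511d761118511185121851318511d05db18511185113546a1851396611b05e918513e2676705a91851218511185121851263d999059918511185121a495185115055a1851119da218513185121945518511198f6185131851118513185111851218513185111b4d7184151a87718512185111b4d718511198f5185121ade367e1118415)) (.leaf (nat_lit 0)))) (.node (.node (.leaf (nat_lit 0x18512185121b4d51851318511185131851118511194559059918511905991851118513185111851218512185111851218511185131b4d618512185111851334a111851234a11185121a49518512185121851196613185111851218513185111851218511f056a18513b05e91851134a111851234a111851119ca5185111851118511b05e9185131ace5b05e9966111851118512185111ace5d76121851118513185111851334a1118511185121851118511185131a4951851255611185111851318511d761218511185131851319ca518513185121bc6518415185111851318511b05e91b4d51851218513b0ad518511185121851118513185111851318513b05e918513184151851318513185121851318511185131a875185131851218511185131851218511f056918511185121851218513f0569185111b4d618511705a9185121841518512194571a495184151a4953546b18512185111851218511185131851318511185122053920539185131851118513185111851218512185111841518c251a87518513185111851118512))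 (.leaf (nat_lit 0))) (.node (.leaf (nat_lit 0x215bb185121851137e321851134a11185132053918c271851119ca518513185111851235e311851134a1118511f3ef6185111851267e111851113e27f056967e1118512b7a111393b18c2518511e153b2053934a1334a116253a1851218c25385e3e05b918513e063618415194553052930529a063618511f0a561851118512605f919551305291851118512e0d1a27c191945618415199b31a4951851119457a4a21e747b1a495185111945624e1118512f2dbae74791a9f3254791a9f219455185111851118511185131a4951851170a9618511264b9e05b918511e4a2318511f0569185131851119456e05b9185131bc261ac2518512188351ac2718512185111a49618511636f71b5d3d05d9185131a592705a91a4951851218513266f1b1d7b185111851119455e05b9e05b918415185111851318511f8523d05d978521fac3718511185131851318513d05d918511185131851318511b0ad690599185131851318511f0569185111851370e36f0e351a49624e1124e11185121945514af3185111851318512a05791851218511)) (.leaf (nat_lit 0))))) (.node (.node (.node (.leaf (nat_lit 0x185131a87518511185121851118c2518512185111851318511f056918512185111851218511b05e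a185131851118c2534a11185121851118511185111851118512f056ab05e918c2534a1118511b0ad670a95605f9185111b4d51851318511185111b4d51851218512185111851270a9518513185111851118513185111851118512185111a49518511f0569185121851318512e05b91851118512a05791851118511185131851390599185131851150559185131851118512705a9185131851318511185111945534a121851218511185111851118513194561851118513185111851234a1134a111851234a111851318511185131851318511185131851218511185131851118511184151851118513185111841518511185111b4d518511185111851318513185131851196611e16771851118512605f91851318511185111851318511185121851196611185121b4d5185131b4d518511185111851118513185131851355611185115561118513e167518512e05b91851218513626b51851234a111851218513185115561118511)) (.leaf (nat_lit 0x200003000010000100001000020000200001000010000100002000030000200001000010000100002000010000300001000010000100001000010000100002000030000100002000010000300003000010000300002000030000100003000010000100001000010000100003000010000300001000010000100001000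0200003000010000300001000010000300002000010000100002000010000100001000010000100003000010000100001000030000300001000010000100002000010000100001000010000300003000010000200001000030000200001000030000100001000010000100003000010000300001000010000100001000030000300003000010000100002000020000200003000010000300001000010000100001000010000100003000030000100003000020000100001000010000100003000010000300001000010000300001000010000200002000010000100003000010000300001000030000300001000030000300001000010000100001000030000100001000020000100002000010000100001))) (.node (.leaf (nat_lit 0x1851318512185111851234a11185121851318c25185131851118512f05691851118c25194551a875185111a4952a9e31ad6118513185121a8751851218511b05e9f056a18511939bb1b4d518511185131a49518513529b918512d587a18511185121a9315687a76a111a9315687a1851134a11109fb185137b913194551851334a1334a11fa91219455fa913939f918513185111851118c261945519455705a918511185111851118c2518513b05e9b05e9d3ee63a91151e67185111851318513198f5e05b918c251851318512556111851218511e78eb18512248691851218511185112486b18511e05b918511a36f71851218511185131851118513e1676f05691851218511705aa1851334a11b7a111851118513b05eb288e7288a634a11185111851218511a057914e61f0e761851210e65f0e7618511185121487b34a1118513f0e7534a1134a1218511185131851118513d76131851118512e05b9185131a49570a951851270a9518511e1677b05e9185129661134a111851334a1155612185111a8751a497185111851267e11))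 (.leaf (nat_lit 0)))) (.node (.node (.leaf (nat_lit 0x1851318511185111945534a111a5931a593185111b5d11851118511185131851118512185111851218512185111b4d51851118512185111851234a1118511185121851120539184161b4d52053920a26185131841634a11185121851120a271945618511194571851218513185131b4d5185111851220a251a4951851120a2718513185111851118511185131851218511185131a591205391851118512185131851118512185131851318512184151b4d71851318c251b4d71851134a1118512185111851218c251851318c25185111851318511185131851318512185131851118511185131851118415185111851234a11185111851320a25185131851320a2518511185111851134c3b34c395561118511185131955334c391b5d2185111851118513185111945534c39185131851320539185131955118513185122053918511185111a87518513185113546b18511185121851218511194571851118512185121b8b534a131851134a13184151a495185131a875185131851218511b05e91851134a1118513185111851318511)) (.leaf (nat_lit 0))) (.node (.leaf (nat_lit 0x34a111ace5b0ad518513184151b4d5bacb6185111851265c59185131b8b518512185111ace51b8b5185131b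4d523d1a37eb1166d1156931851132e77b05e91851319ca516cead05d9705a919ca518513556115055a55611274faa447b1a59118512185111bde3185131a8751ada21ace51b8b57391b1b8b51851227ed1185121a8b6f89d1305291bc651b5d318512e5ed119ca521e55185121a49518511a05791ace51b4d61a49518512a0579185111a495185121a495aa572185111a497185131b4d5a5e111b4d51a4951b4d618511185121a49518512a5e11185111851318511a5e11185121b4d5d05db96611a1d5bd645b1b4d51851118511198f5605f9a36f5185121851155611185131a87518513185111945618512b05e918513978f9e8dd31b8b518511185121b4d519ca5185131851118513258e919d62d76111851218513605f9185131a4971b4d5e05b91851119d22185131a8751b8b51a4951a4951851356e6118512d05d91bd21185131a875e7aa2eb96118513a6a631b8b518512966115393a19ca51ad212053918511)) (.leaf (nat_lit 0)))))) (.node (.node (.node (.node (.leaf (nat_lit 0x626b518512966111851118511185111a875185111a49518511198f5185121851318512d7611626b6556111851118513185111851318512198f5185111851118513978fb568ba185131851118513185131851118512978f9e05b91851218511185121a87518512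185131851318512185111851218511198f5185121a495185131a4951851118511185111851318511185131851318511185121851318511185131851118513185121851118513185111851118512a36f518415a36f596611a36f61851318512605f91851118512e05b9185111851118512184151851118512185111841518512d76111851118511185131851118512185131851318511978fbd587934a1118511605f91851218511185121b8b518513185131851118512d587918512185131851218511185111851318c251851155611185115561118512a36f718512e05b918511a36f618511b05e9626b518512605f918511185131851118513185121851118513185111851119455185111851318511185131851218511185121851134a11185121a4951851318511)) (.leaf (nat_lit 0x3000010000100003000010000300003000010000100001000020000200001000020000100002000030000300002000010000300001000030000300001000010000300003000030000100001000030000100002000010000300001000010000200001000010000200001000020000100002000010000100001000010000200003000010000100001000010000300001000020000100002000010000200001000010000200001000010000200001000030000100003000020000100002000020000300001000010000300003000010000100001000010000200001000020000100002000010000200001000010000100001000010000200001000030000300001000010000100001000020000100003000010000200002000010000300001000010000200001000020000100003000030000100002000010000100002000010000300001000020000100001000030000100003000010000100003000010000100001000010000200001000020000200001000030000100002000030000100001000010000100003000010000200001)))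 (.node (.leaf (nat_lit 0x185121b4d51851319456185111851118c25185111945534c3918512185111851119456185111945618511205391851218415185111851320539185131a495185121851218511b7a111a4951851118513185113546b1a495185131b4d5194551a4971a875198f5185131a87592616185111851318c251851234a111945518c2518513198f5185121851176a11d05d990599385a118511185121851218511b05e990599a0a26d05d95055970a9618511185121851290599198f7a3d9970a97f0a56f0a562b92118513f056b185112a8251b4d5705a9185121851318512705a9f5a1134a11185131851118512185111b4d7148fb18511198f518511185131b4d51b4d51b8b51b4d5185131851130529b05e9185111851318513184153adf11851118415198f518511374eb34a111851376a11185111b8b5605f9185121851318512198f534a111a876185121851118513185111851318c251bc6562a27b7a1162a26185131851118512e1a2576a11185131851137e3218511185121ace518c2518512185111ace518512185111851318511)) (.leaf (nat_lit 0)))) (.node (.node (.leaf (nat_lit 0x1bc6518513185111b4d51851218511626b718511185111a49518512185131851118512e1675185121a49718511185139661118513185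1218511568bb18511185111851218513556111a875185121851318511d05db1b4d5185131851218511556111851118511a36f7185125561118511185131a495185115055a18511185131851218513194571841518513185121851118512185111851218512185111a49618415185131851318511185131851118513185121851219455185131945518512605f918511185111851318511185121851318513185131a4961851118513185111945518513185111a4951a49518512185121851118512978f91851218512568b918512185111945518512305291851118511f5a111851219455568bb185111851218512185111851218511185121a4951851118416185111851318511185111851318415185111b4d5185111a497185111851318511185121945718513185121851218511194551851118512e05b9185121851324e11185131851218511185121851124e1118513185111851218511)) (.leaf (nat_lit 0))) (.node (.leaf (nat_lit 0x18512a7e52605f918513185111851218512364a934a1119ca518512705abb05e918511705ab1851218c251851118513185111851362a26185111851320d99e1a271851218c251ace5605f9185121ace518c251851218511185132357b1851318c2594e6118512188b61b8b518513194551887618513198f6905991b8b5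185111097b1a495109b934a11109ba568791945518512b7a111851190599939f91851318511d76111851118c2518c2778c7518512a29eb198f518512198f5e396a185139661155611248e918513556119661118513605f9a296be05b9e39a918513f3a5518c251a933f0569f3a5618511198f7705a91a8751b8b618511a29e918513a5a21e396a1a93155611a5a2218511e6a231a875626b7a5a23e6a2118512a057918512a26f5a26f518511248e91851218512705a918513905991a495185131a4957ac75b05ea1851276a1134a1118512b0ef534a11d76131851118512905991851118513b0ad51851350559185131851319ca5185111851118513d05d9fa5219355a34c39185127585b1a4951851190599)) (.leaf (nat_lit 0))))) (.node (.node (.node (.leaf (nat_lit 0x18513185121851118513185111851318511978f918513185111a495185121a8751851118511185131851118512185131851318513185121851118513185111851118513185111b4d51b4d518512185121851118512185111851118513d76111851319455185131b4d51851118513185111851218513185111851219455185111851218511556111851118511185131851155611185111851218513185111851218511185131851118513194571851118512185131851118513198f51851318513a0579185131851218512185121851118512185111851218513978f91851318511d587a18513185121851118511185121851218511185121851118512185131851118512185111851218512185111a4961851118513185111851118513185111851318513185131b8b5185111841518513185111b4d5185111851219de21bda118513185111945518511185111a49518511185111851318513185131851118512185121851118512185111b4d71851218c2518511185111851218513185111851318c25198f518c25185111851318512))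 (.leaf (nat_lit 0x1000010000100003000010000200002000010000100001000020000300001000020000100001000020000300002000010000300003000030000200001000020000300001000030000100002000010000200003000010000200001000010000100001000020000200001000030000100002000020000100001000010000200001000010000200001000010000300001000010000100003000010000100003000010000300002000010000200001000030000300003000020000100002000010000300002000010000300002000030000300001000010000200001000020000100002000030000100003000010000100002000030000100001000020000300001000030000100002000010000100001000010000300001000010000100001000020000200001000010000100003000030000100002000010000300001000020000100001000020000100001000020000100001000030000100001000010000300002000030000300001000030000300001000020000100003000010000100002000010000300003000010000100001))) (.node (.leaf (nat_lit 0xa057918513198f518512185111b4d71851318511194551a4951a876185121851118511198f518512e6e111851218513605f9568ba18513a0579185131851118512d587b1b4d51851118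513b7a11529fa185111b4d7568b91a592185113052918512185111a59318511529fa18513185131851176a1132a951851336a9118512978fa1b4d5185131a875a057a18513605f9185131b4d5e05b9605fa185113052918511d587b185121851218511185131b4d51851155e611841518415a057918512185111a593a0e551a4951851224e11185111a49525479274fba057918835185111851318512305291851252ee5ab8e718512e9865198f51851130529e986718511185131851118513e05ba24e111851225479185125561218511185131a49518511198f5185111851218511a057b274fae05b918512185111851324e11e54f9ebd121b4d5aad121851218511ebd1318511198f519da21bd611851218511185111a875185111851318511e0e9618513a0579966111851124e1118513605f9f66e2185111851118513a05791851218511)) (.leaf (nat_lit 0)))) (.node (.node (.leaf (nat_lit 0x184151851118512185111851118512d05d91851218513d7611505591851118512185131851155611d44db185111851218511185131851218513185131b4d51851318512185111851218511185111851390599185131b5d118513184151851118512505591851118511185121851118511966115055b905991b8b51851118513185131851118512d05d9556131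85121851118513905995561118513185111851218511185121851218511705a9505591851276a11185111b8b518511185131851318511198f5185111851218511185111b8b51a93118511f5a1118511d587b568b9f5a11185111851134a11529b9185111851318513568bb185111a49534a11364a91851218511f05691851218511185121851118513185131851118c25364a918513a0579185131851218511148fa185131a4952b961705a918512f05691851118c251851118511185111a4951851318c251a4951a875185111851218511939bb148f918511939bb185111097b185131a4951097b148fa1851318511374eb978fbd197918512374eb185111851319455)) (.leaf (nat_lit 0))) (.node (.leaf (nat_lit 0x18c2533ad7e99a16a9e2185111851318c25185111b4d56743918513ab477516151851218c2518511d549b1851218c25d44d996611195d1205391851318511198f59661155611a3d1918511f05691851119ca5e1a25e05b950559185121a49525e52705a918512b05e91851318c2518511556131883518511d05d9e99a1185139487a556119059918511a48eb185121a9b118c25185111bc65185121b4d51a49730529605f95055960ed51851318415915db376619059950559185119661218512556111b4d555611b05e9bb856d297918513185111851390599f4ef118512f3d3918511185131841518512ea571d361718513956d134a112196918511185115561118513b05e918c2518512d7611185122053918512205391851350559185111851234a11956d1185131851150559205395161518513966115445a18415185111b8b5d44d924e11a0e561a495185121851121ddb21ddb185115055922d59548fb1851218511e7c5ae8961f2e3718512e56f1b1e36185111461118511a057952af7bbd71d19fb1851119ca518c2518511))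 (.leaf (nat_lit 0)))))))))
noncomputable def u5w (p : Nat) : Nat := row u5wt (nat_lit 5) (nat_lit 31) (nat_lit 100) (nat_lit 1267650600228229401496703205375) p
noncomputable def u5it : BT Nat := (.node (.node (.node (.node (.node (.node (.node (.leaf (nat_lit 0x1765d4004680000115558000012e0012d63c0042800001800013d68400001674ac006100000000)) (.leaf (nat_lit 0x0))) (.node (.leaf (nat_lit 0x1634100052c0000159500000014900102658000010e5440045c000018c67800001000014746c00)) (.leaf (nat_lit 0x0)))) (.node (.node (.leaf (nat_lit 0x1374900061c000038c0013857c004f80000259478000016100123624005ac0000109001985b400)) (.leaf (nat_lit 0x0))) (.node (.leaf (nat_lit 0x19b4c40062c00003150016653800448000028c0015b670004c8000035900118664006180000215)) (.leaf (nat_lit 0x0))))) (.node (.node (.node (.leaf (nat_lit 0x1a450c000015c47c0043c000030058800002494a400003095b000002610011c5c0000010662000)) (.leaf (nat_lit 0x0))) (.node (.leaf (nat_lit 0x17c4d0000013654000514000032e6480000200001535dc0000183420004fc0000349520000022e))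 (.leaf (nat_lit 0x0)))) (.node (.node (.leaf (nat_lit 0x172430000010b628000017e594000011d494005b80000380644000020949800003614500000280)) (.leaf (nat_lit 0x0))) (.node (.leaf (nat_lit 0x11963400001a36080000130458000018e48400001524cc00001a253000001225e4000015a5cc00)) (.leaf (nat_lit 0x0)))))) (.node (.node (.node (.node (.leaf (nat_lit 0x35a0021950400508004bc006040000347002024d4005a4000039800223003060021c49c005e000)) (.leaf (nat_lit 0x0))) (.node (.leaf (nat_lit 0x31d00252440004340065c004e4000032d002470038e0027248000578006400052800003020022d)) (.leaf (nat_lit 0x0)))) (.node (.node (.leaf (nat_lit 0x383002305c40040400003a20027c4ec0058000654004e8000033d00298680005f400003230023d)) (.leaf (nat_lit 0x0))) (.node (.leaf (nat_lit 0x35c0022253c005ec000030b002535900051000003360027e6740055c00003a3002a46680056000)) (.leaf (nat_lit 0x0))))) (.node (.node (.node (.leaf (nat_lit 0x318002a3003220029b5fc00650005180040c00574004a80044c004440000367002060031c00267)) (.leaf (nat_lit 0x0))) (.node (.leaf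 (nat_lit 0x338002a20037e0025b4b00041c005a0005d000003660020b00330002374a00064c0067c0055400)) (.leaf (nat_lit 0x0)))) (.node (.node (.leaf (nat_lit 0x30e0028e00353002660035b00236003520026353400414005bc005a800550005e800614004f000)) (.leaf (nat_lit 0x0))) (.node (.leaf (nat_lit 0x3760025a003a4002180033700283003720020e003630021d0037c002380039b0025c0031900276)) (.leaf (nat_lit 0x0))))))) (.node (.node (.node (.node (.node (.leaf (nat_lit 0xdce8dd624f00000d562c0000000000c6e96cf24d0000000000db68900000e2270de22700000)) (.leaf (nat_lit 0x0))) (.node (.leaf (nat_lit 0xc9633d829d00000c0e280000000000e3e1b00000c860cd127100000dd27f0000000000e5a8f)) (.leaf (nat_lit 0x0)))) (.node (.node (.leaf (nat_lit 0xc2216d7a640000000000d3234d5e1000000c46540000000000e866ddaa5d0000000000e26a1)) (.leaf (nat_lit 0x0))) (.node (.leaf (nat_lit 0xc7e79d0a9a0000000000e2a77c06200000000000d4265c363b0000000000e0a43dee4100000)) (.leaf (nat_lit 0x0))))) (.node (.node (.node (.leaf (nat_lit 0xe668200000de631d2a6800000e4e9700000df66f00000dea950000000000cae8800000dc22b))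 (.leaf (nat_lit 0x0))) (.node (.leaf (nat_lit 0xd7e4c00000d969ce069f00000e52900000000000d3a8a00000c5a24ce64600000c1e2f00000)) (.leaf (nat_lit 0x0)))) (.node (.node (.leaf (nat_lit 0xd462100000dde4e00000e725000000cce04da68500000caaa000000cea1300000c163500000)) (.leaf (nat_lit 0x0))) (.node (.leaf (nat_lit 0xdd67300000d0e9900000c920800000c325100000c122500000cd25f00000cc61f00000e3675)) (.leaf (nat_lit 0x0)))))) (.node (.node (.node (.node (.leaf (nat_lit 0xe1a7be6a8bd2207e7e450000000000c5205e166e00000000000000000000e1278c9e84)) (.leaf (nat_lit 0x0))) (.node (.leaf (nat_lit 0xcfa57cee32d8a93d1a3f00000000000000000000c4a01d9287e4a94da20f0000000000)) (.leaf (nat_lit 0x0)))) (.node (.node (.leaf (nat_lit 0xc5e44c82120000000000cca0de764bdb27ac4e260000000000e462adbe290000000000)) (.leaf (nat_lit 0x0))) (.node (.leaf (nat_lit 0xc6a58d06860000000000e1e5edc6170000000000d2e60c423e0000000000e2e42d3e1a)) (.leaf (nat_lit 0x0))))) (.node (.node (.node (.leaf (nat_lit 0xe7a74e4292cfe39ca240dae6ae8291c9a3ad521e00000000000000000000))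 (.leaf (nat_lit 0x0))) (.node (.leaf (nat_lit 0xd5a55cbe48c3e4adfe9e00000000000000000000d0203e5e62d1681cb256)) (.leaf (nat_lit 0x0)))) (.node (.node (.leaf (nat_lit 0xc2a3ccd614ca67dd766bc7a11e566cdba69d360a)) (.leaf (nat_lit 0x0))) (.node (.leaf (nat_lit 0x0)) (.leaf (nat_lit 0x0)))))))) (.node (.node (.node (.node (.node (.node (.leaf (nat_lit 0x0)) (.leaf (nat_lit 0x0))) (.node (.leaf (nat_lit 0x0)) (.leaf (nat_lit 0x0)))) (.node (.node (.leaf (nat_lit 0x0)) (.leaf (nat_lit 0x0))) (.node (.leaf (nat_lit 0x0)) (.leaf (nat_lit 0x0))))) (.node (.node (.node (.leaf (nat_lit 0x0)) (.leaf (nat_lit 0x0))) (.node (.leaf (nat_lit 0x0)) (.leaf (nat_lit 0x0)))) (.node (.node (.leaf (nat_lit 0x0)) (.leaf (nat_lit 0x0))) (.node (.leaf (nat_lit 0x0)) (.leaf (nat_lit 0x0)))))) (.node (.node (.node (.node (.leaf (nat_lit 0x0)) (.leaf (nat_lit 0x0))) (.node (.leaf (nat_lit 0x0)) (.leaf (nat_lit 0x0)))) (.node (.node (.leaf (nat_lit 0x0)) (.leaf (nat_lit 0x0))) (.node (.leaf (nat_lit 0x0)) (.leaf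 (nat_lit 0x0))))) (.node (.node (.node (.leaf (nat_lit 0x0)) (.leaf (nat_lit 0x0))) (.node (.leaf (nat_lit 0x0)) (.leaf (nat_lit 0x0)))) (.node (.node (.leaf (nat_lit 0x0)) (.leaf (nat_lit 0x0))) (.node (.leaf (nat_lit 0x0)) (.leaf (nat_lit 0x0))))))) (.node (.node (.node (.node (.node (.leaf (nat_lit 0x0)) (.leaf (nat_lit 0x0))) (.node (.leaf (nat_lit 0x0)) (.leaf (nat_lit 0x0)))) (.node (.node (.leaf (nat_lit 0x0)) (.leaf (nat_lit 0x0))) (.node (.leaf (nat_lit 0x0)) (.leaf (nat_lit 0x0))))) (.node (.node (.node (.leaf (nat_lit 0x0)) (.leaf (nat_lit 0x0))) (.node (.leaf (nat_lit 0x0)) (.leaf (nat_lit 0x0)))) (.node (.node (.leaf (nat_lit 0x0)) (.leaf (nat_lit 0x0))) (.node (.leaf (nat_lit 0x0)) (.leaf (nat_lit 0x0)))))) (.node (.node (.node (.node (.leaf (nat_lit 0x0)) (.leaf (nat_lit 0x0))) (.node (.leaf (nat_lit 0x0)) (.leaf (nat_lit 0x0)))) (.node (.node (.leaf (nat_lit 0x0)) (.leaf (nat_lit 0x0))) (.node (.leaf (nat_lit 0x0)) (.leaf (nat_lit 0x0))))) (.node (.node (.node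 (.leaf (nat_lit 0x0)) (.leaf (nat_lit 0x0))) (.node (.leaf (nat_lit 0x0)) (.leaf (nat_lit 0x0)))) (.node (.node (.leaf (nat_lit 0x0)) (.leaf (nat_lit 0x0))) (.node (.leaf (nat_lit 0x0)) (.leaf (nat_lit 0x0)))))))))
noncomputable def u5i (p : Nat) : Nat := row u5it (nat_lit 5) (nat_lit 31) (nat_lit 10) (nat_lit 1023) p
noncomputable def u5T : Tab := ⟨(nat_lit 2640), (nat_lit 6), fun g p => fld (u5a p) (Nat.mul (nat_lit 12) g) (nat_lit 4095),
  fun g => Bool.rec g (nat_lit 165) (Nat.beq g (nat_lit 5)), fun p => fld (u5a p) (nat_lit 72) (nat_lit 7), fun p => fld (u5a p) (nat_lit 75) (nat_lit 31)⟩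
noncomputable def u5l (p : ℕ) : ℕ := fld (u5f p) (nat_lit 84) (nat_lit 16383)
noncomputable def u5fi (g p : ℕ) : ℕ := fld (u5f p) (Nat.mul (nat_lit 14) g) (nat_lit 16383)
theorem u5t : rng (fun p => band (u5T.chkA p) (band (u5T.chkP p) (u5C.chkT u5T u5l u5fi p))) 0 2640 6 = true := by decide +kernel
theorem u5g : band u5T.chkG (allLt 6 fun g => Nat.beq (u5l (u5T.pt g)) g) = true := by decide +kernel
theorem u5c : u5T.actw [4, 0, 3, 4, 0, 1, 0, 3, 1] 165 = 1279 ∧ u5T.actw [4, 0, 3, 4, 0, 1, 0, 3, 1] 1279 = 1321 ∧ u5T.actw [4, 0, 3, 4, 0, 1, 0, 3, 1] 1321 = 165 := by decide +kernel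

theorem realizeEqns_Hl_U5d : True := by
  have := @CA.QP.u5P1110001.eq_1
  have := @CA.QP.u5P1110001.eq_def
  have := @CA.QP.u5P1110001.congr_simp
  have := @CA.QP.u5P0100101.eq_1
  have := @CA.QP.u5P0100101.eq_def
  have := @CA.QP.u5P0100101.congr_simp
  have := @CA.QP.u5P010100.eq_1
  have := @CA.QP.u5P010100.eq_def
  have := @CA.QP.u5P010100.congr_simp
  have := @CA.QP.u5P0001100.eq_1
  have := @CA.QP.u5P0001100.eq_def
  have := @CA.QP.u5P0001100.congr_simp
  have := @CA.QP.u5P1001111.eq_1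
  have := @CA.QP.u5P1001111.eq_def
  have := @CA.QP.u5P1001111.congr_simp
  have := @CA.QP.u5P000111.eq_1
  have := @CA.QP.u5P000111.eq_def
  have := @CA.QP.u5P000111.congr_simp
  have := @CA.QP.u5P010010.eq_1
  have := @CA.QP.u5P010010.eq_def
  have := @CA.QP.u5P010010.congr_simp
  have := @CA.QP.u5P1110.eq_1
  have := @CA.QP.u5P1110.eq_def
  have := @CA.QP.u5P1110.congr_simp
  have := @CA.QP.u5P0001111.eq_1
  have := @CA.QP.u5P0001111.eq_def
  have := @CA.QP.u5P0001111.congr_simp
  have := @CA.QP.u5P0111011.eq_1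
  have := @CA.QP.u5P0111011.eq_def
  have := @CA.QP.u5P0111011.congr_simp
  have := @CA.QP.u5P1011100.eq_1
  have := @CA.QP.u5P1011100.eq_def
  have := @CA.QP.u5P1011100.congr_simp
  have := @CA.QP.u5P0111001.eq_1
  have := @CA.QP.u5P0111001.eq_def
  have := @CA.QP.u5P0111001.congr_simp
  have := @CA.QP.u5P10111.eq_1
  have := @CA.QP.u5P10111.eq_def
  have := @CA.QP.u5P10111.congr_simp
  have := @CA.QP.u5P111101.eq_1
  have := @CA.QP.u5P111101.eq_def
  have := @CA.QP.u5P111101.congr_simp
  have := @CA.QP.u5P1100001.eq_1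
  have := @CA.QP.u5P1100001.eq_def
  have := @CA.QP.u5P1100001.congr_simp
  have := @CA.QP.u5P000110.eq_1
  have := @CA.QP.u5P000110.eq_def
  have := @CA.QP.u5P000110.congr_simp
  have := @CA.QP.u5P1001001.eq_1
  have := @CA.QP.u5P1001001.eq_def
  have := @CA.QP.u5P1001001.congr_simp
  have := @CA.QP.u5P0011.eq_1
  have := @CA.QP.u5P0011.eq_def
  have := @CA.QP.u5P0011.congr_simp
  have := @CA.QP.u5P0111010.eq_1
  have := @CA.QP.u5P0111010.eq_def
  have := @CA.QP.u5P0111010.congr_simp
  have := @CA.QP.u5P1000011.eq_1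
  have := @CA.QP.u5P1000011.eq_def
  have := @CA.QP.u5P1000011.congr_simp
  have := @CA.QP.u5P000000.eq_1
  have := @CA.QP.u5P000000.eq_def
  have := @CA.QP.u5P000000.congr_simp
  have := @CA.QP.u5P010110.eq_1
  have := @CA.QP.u5P010110.eq_def
  have := @CA.QP.u5P010110.congr_simp
  have := @CA.QP.u5P0011101.eq_1
  have := @CA.QP.u5P0011101.eq_def
  have := @CA.QP.u5P0011101.congr_simp
  have := @CA.QP.u5P1101011.eq_1
  have := @CA.QP.u5P1101011.eq_def
  have := @CA.QP.u5P1101011.congr_simp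
  have := @CA.QP.u5l.eq_1
  have := @CA.QP.u5l.eq_def
  have := @CA.QP.u5l.congr_simp
  have := @CA.QP.u5P0101000.eq_1
  have := @CA.QP.u5P0101000.eq_def
  have := @CA.QP.u5P0101000.congr_simp
  have := @CA.QP.u5P0011100.eq_1
  have := @CA.QP.u5P0011100.eq_def
  have := @CA.QP.u5P0011100.congr_simp
  have := @CA.QP.u5P001111.eq_1
  have := @CA.QP.u5P001111.eq_def
  have := @CA.QP.u5P001111.congr_simp
  have := @CA.QP.u5P1100010.eq_1
  have := @CA.QP.u5P1100010.eq_def
  have := @CA.QP.u5P1100010.congr_simp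
  have := @CA.QP.u5P1101101.eq_1
  have := @CA.QP.u5P1101101.eq_def
  have := @CA.QP.u5P1101101.congr_simp
  have := @CA.QP.u5P01111.eq_1
  have := @CA.QP.u5P01111.eq_def
  have := @CA.QP.u5P01111.congr_simp
  have := @CA.QP.u5P0001000.eq_1
  have := @CA.QP.u5P0001000.eq_def
  have := @CA.QP.u5P0001000.congr_simp
  have := @CA.QP.u5P0100001.eq_1
  have := @CA.QP.u5P0100001.eq_def
  have := @CA.QP.u5P0100001.congr_simp
  have := @CA.QP.u5P11100.eq_1
  have := @CA.QP.u5P11100.eq_def
  have := @CA.QP.u5P11100.congr_simp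
  have := @CA.QP.u5P1110101.eq_1
  have := @CA.QP.u5P1110101.eq_def
  have := @CA.QP.u5P1110101.congr_simp
  have := @CA.QP.u5P001000.eq_1
  have := @CA.QP.u5P001000.eq_def
  have := @CA.QP.u5P001000.congr_simp
  have := @CA.QP.u5P10010.eq_1
  have := @CA.QP.u5P10010.eq_def
  have := @CA.QP.u5P10010.congr_simp
  have := @CA.QP.u5P01110.eq_1
  have := @CA.QP.u5P01110.eq_def
  have := @CA.QP.u5P01110.congr_simp
  have := @CA.QP.u5Ft01.eq_1
  have := @CA.QP.u5Ft01.eq_def
  have := @CA.QP.u5Ft01.congr_simp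
  have := @CA.QP.u5R.eq_1
  have := @CA.QP.u5R.eq_def
  have := @CA.QP.u5R.congr_simp
  have := @CA.QP.u5P10110.eq_1
  have := @CA.QP.u5P10110.eq_def
  have := @CA.QP.u5P10110.congr_simp
  have := @CA.QP.u5P101.eq_1
  have := @CA.QP.u5P101.eq_def
  have := @CA.QP.u5P101.congr_simp
  have := @CA.QP.u5P1010100.eq_1
  have := @CA.QP.u5P1010100.eq_def
  have := @CA.QP.u5P1010100.congr_simp
  have := @CA.QP.u5P0110001.eq_1
  have := @CA.QP.u5P0110001.eq_def
  have := @CA.QP.u5P0110001.congr_simp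
  have := @CA.QP.u5P1001100.eq_1
  have := @CA.QP.u5P1001100.eq_def
  have := @CA.QP.u5P1001100.congr_simp
  have := @CA.QP.u5h.eq_1
  have := @CA.QP.u5h.eq_def
  have := @CA.QP.u5h.congr_simp
  have := @CA.QP.u5P0101011.eq_1
  have := @CA.QP.u5P0101011.eq_def
  have := @CA.QP.u5P0101011.congr_simp
  have := @CA.QP.u5P010.eq_1
  have := @CA.QP.u5P010.eq_def
  have := @CA.QP.u5P010.congr_simp
  have := @CA.QP.u5P0111000.eq_1
  have := @CA.QP.u5P0111000.eq_def
  have := @CA.QP.u5P0111000.congr_simp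
  have := @CA.QP.u5P001001.eq_1
  have := @CA.QP.u5P001001.eq_def
  have := @CA.QP.u5P001001.congr_simp
  have := @CA.QP.u5P00111.eq_1
  have := @CA.QP.u5P00111.eq_def
  have := @CA.QP.u5P00111.congr_simp
  have := @CA.QP.u5P011100.eq_1
  have := @CA.QP.u5P011100.eq_def
  have := @CA.QP.u5P011100.congr_simp
  have := @CA.QP.u5P011.eq_1
  have := @CA.QP.u5P011.eq_def
  have := @CA.QP.u5P011.congr_simp
  have := @CA.QP.u5P010001.eq_1
  have := @CA.QP.u5P010001.eq_def
  have := @CA.QP.u5P010001.congr_simp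
  have := @CA.QP.u5P11.eq_1
  have := @CA.QP.u5P11.eq_def
  have := @CA.QP.u5P11.congr_simp
  have := @CA.QP.u5P0010110.eq_1
  have := @CA.QP.u5P0010110.eq_def
  have := @CA.QP.u5P0010110.congr_simp
  have := @CA.QP.u5P110011.eq_1
  have := @CA.QP.u5P110011.eq_def
  have := @CA.QP.u5P110011.congr_simp
  have := @CA.QP.u5Ft0.eq_1
  have := @CA.QP.u5Ft0.eq_def
  have := @CA.QP.u5Ft0.congr_simp
  have := @CA.QP.u5P01000.eq_1
  have := @CA.QP.u5P01000.eq_def
  have := @CA.QP.u5P01000.congr_simp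
  have := @CA.QP.u5P100000.eq_1
  have := @CA.QP.u5P100000.eq_def
  have := @CA.QP.u5P100000.congr_simp
  have := @CA.QP.u5P1100100.eq_1
  have := @CA.QP.u5P1100100.eq_def
  have := @CA.QP.u5P1100100.congr_simp
  have := @CA.QP.u5P0001010.eq_1
  have := @CA.QP.u5P0001010.eq_def
  have := @CA.QP.u5P0001010.congr_simp
  have := @CA.QP.u5P01011.eq_1
  have := @CA.QP.u5P01011.eq_def
  have := @CA.QP.u5P01011.congr_simp
  have := @CA.QP.u5P0000110.eq_1
  have := @CA.QP.u5P0000110.eq_def
  have := @CA.QP.u5P0000110.congr_simp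
  have := @CA.QP.u5P0110110.eq_1
  have := @CA.QP.u5P0110110.eq_def
  have := @CA.QP.u5P0110110.congr_simp
  have := @CA.QP.u5P011110.eq_1
  have := @CA.QP.u5P011110.eq_def
  have := @CA.QP.u5P011110.congr_simp
  have := @CA.QP.u5P011111.eq_1
  have := @CA.QP.u5P011111.eq_def
  have := @CA.QP.u5P011111.congr_simp
  have := @CA.QP.u5wt.eq_1
  have := @CA.QP.u5wt.eq_def
  have := @CA.QP.u5wt.congr_simp
  have := @CA.QP.u5P1101111.eq_1
  have := @CA.QP.u5P1101111.eq_def
  have := @CA.QP.u5P1101111.congr_simp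
  have := @CA.QP.u5F.eq_1
  have := @CA.QP.u5F.eq_def
  have := @CA.QP.u5F.congr_simp
  have := @CA.QP.u5it.eq_1
  have := @CA.QP.u5it.eq_def
  have := @CA.QP.u5it.congr_simp
  have := @CA.QP.u5P010011.eq_1
  have := @CA.QP.u5P010011.eq_def
  have := @CA.QP.u5P010011.congr_simp
  have := @CA.QP.u5P0000100.eq_1
  have := @CA.QP.u5P0000100.eq_def
  have := @CA.QP.u5P0000100.congr_simp
  have := @CA.QP.u5P1100000.eq_1
  have := @CA.QP.u5P1100000.eq_def
  have := @CA.QP.u5P1100000.congr_simp
  have := @CA.QP.u5P0010101.eq_1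
  have := @CA.QP.u5P0010101.eq_def
  have := @CA.QP.u5P0010101.congr_simp
  have := @CA.QP.u5P0101010.eq_1
  have := @CA.QP.u5P0101010.eq_def
  have := @CA.QP.u5P0101010.congr_simp
  have := @CA.QP.u5P1110111.eq_1
  have := @CA.QP.u5P1110111.eq_def
  have := @CA.QP.u5P1110111.congr_simp
  have := @CA.QP.u5P1010010.eq_1
  have := @CA.QP.u5P1010010.eq_def
  have := @CA.QP.u5P1010010.congr_simp
  have := @CA.QP.u5P1100011.eq_1
  have := @CA.QP.u5P1100011.eq_def
  have := @CA.QP.u5P1100011.congr_simp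
  have := @CA.QP.u5P000011.eq_1
  have := @CA.QP.u5P000011.eq_def
  have := @CA.QP.u5P000011.congr_simp
  have := @CA.QP.u5P1010101.eq_1
  have := @CA.QP.u5P1010101.eq_def
  have := @CA.QP.u5P1010101.congr_simp
  have := @CA.QP.u5P0000.eq_1
  have := @CA.QP.u5P0000.eq_def
  have := @CA.QP.u5P0000.congr_simp
  have := @CA.QP.u5P0111111.eq_1
  have := @CA.QP.u5P0111111.eq_def
  have := @CA.QP.u5P0111111.congr_simp
  have := @CA.QP.u5P110000.eq_1
  have := @CA.QP.u5P110000.eq_def
  have := @CA.QP.u5P110000.congr_simp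
  have := @CA.QP.u5P0001011.eq_1
  have := @CA.QP.u5P0001011.eq_def
  have := @CA.QP.u5P0001011.congr_simp
  have := @CA.QP.u5P1001.eq_1
  have := @CA.QP.u5P1001.eq_def
  have := @CA.QP.u5P1001.congr_simp
  have := @CA.QP.u5P110010.eq_1
  have := @CA.QP.u5P110010.eq_def
  have := @CA.QP.u5P110010.congr_simp
  have := @CA.QP.u5P000001.eq_1
  have := @CA.QP.u5P000001.eq_def
  have := @CA.QP.u5P000001.congr_simp
  have := @CA.QP.u5P1101110.eq_1
  have := @CA.QP.u5P1101110.eq_def
  have := @CA.QP.u5P1101110.congr_simp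
  have := @CA.QP.u5P0001.eq_1
  have := @CA.QP.u5P0001.eq_def
  have := @CA.QP.u5P0001.congr_simp
  have := @CA.QP.u5P010111.eq_1
  have := @CA.QP.u5P010111.eq_def
  have := @CA.QP.u5P010111.congr_simp
  have := @CA.QP.u5P1001000.eq_1
  have := @CA.QP.u5P1001000.eq_def
  have := @CA.QP.u5P1001000.congr_simp
  have := @CA.QP.u5T.eq_1
  have := @CA.QP.u5T.eq_def
  have := @CA.QP.u5T.congr_simp
  have := @CA.QP.u5P0100010.eq_1
  have := @CA.QP.u5P0100010.eq_def
  have := @CA.QP.u5P0100010.congr_simp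
  have := @CA.QP.u5P1100111.eq_1
  have := @CA.QP.u5P1100111.eq_def
  have := @CA.QP.u5P1100111.congr_simp
  have := @CA.QP.u5P001100.eq_1
  have := @CA.QP.u5P001100.eq_def
  have := @CA.QP.u5P001100.congr_simp
  have := @CA.QP.u5P11011.eq_1
  have := @CA.QP.u5P11011.eq_def
  have := @CA.QP.u5P11011.congr_simp
  have := @CA.QP.u5P1001011.eq_1
  have := @CA.QP.u5P1001011.eq_def
  have := @CA.QP.u5P1001011.congr_simp
  have := @CA.QP.u5P1101000.eq_1
  have := @CA.QP.u5P1101000.eq_def
  have := @CA.QP.u5P1101000.congr_simp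
  have := @CA.QP.u5P0100000.eq_1
  have := @CA.QP.u5P0100000.eq_def
  have := @CA.QP.u5P0100000.congr_simp
  have := @CA.QP.u5P1111100.eq_1
  have := @CA.QP.u5P1111100.eq_def
  have := @CA.QP.u5P1111100.congr_simp
  have := @CA.QP.u5P1000001.eq_1
  have := @CA.QP.u5P1000001.eq_def
  have := @CA.QP.u5P1000001.congr_simp
  have := @CA.QP.u5P1011000.eq_1
  have := @CA.QP.u5P1011000.eq_def
  have := @CA.QP.u5P1011000.congr_simp
  have := @CA.QP.u5P0110111.eq_1
  have := @CA.QP.u5P0110111.eq_def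
  have := @CA.QP.u5P0110111.congr_simp
  have := @CA.QP.u5P0000101.eq_1
  have := @CA.QP.u5P0000101.eq_def
  have := @CA.QP.u5P0000101.congr_simp
  have := @CA.QP.u5P0010011.eq_1
  have := @CA.QP.u5P0010011.eq_def
  have := @CA.QP.u5P0010011.congr_simp
  have := @CA.QP.u5P1000101.eq_1
  have := @CA.QP.u5P1000101.eq_def
  have := @CA.QP.u5P1000101.congr_simp
  have := @CA.QP.u5P11010.eq_1
  have := @CA.QP.u5P11010.eq_def
  have := @CA.QP.u5P11010.congr_simp
  have := @CA.QP.u5P00101.eq_1
  have := @CA.QP.u5P00101.eq_def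
  have := @CA.QP.u5P00101.congr_simp
  have := @CA.QP.u5P0110.eq_1
  have := @CA.QP.u5P0110.eq_def
  have := @CA.QP.u5P0110.congr_simp
  have := @CA.QP.u5P0100110.eq_1
  have := @CA.QP.u5P0100110.eq_def
  have := @CA.QP.u5P0100110.congr_simp
  have := @CA.QP.u5P0000011.eq_1
  have := @CA.QP.u5P0000011.eq_def
  have := @CA.QP.u5P0000011.congr_simp
  have := @CA.QP.u5Ft.eq_1
  have := @CA.QP.u5Ft.eq_def
  have := @CA.QP.u5Ft.congr_simp
  have := @CA.QP.u5P0011111.eq_1
  have := @CA.QP.u5P0011111.eq_def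
  have := @CA.QP.u5P0011111.congr_simp
  have := @CA.QP.u5P101001.eq_1
  have := @CA.QP.u5P101001.eq_def
  have := @CA.QP.u5P101001.congr_simp
  have := @CA.QP.u5P110101.eq_1
  have := @CA.QP.u5P110101.eq_def
  have := @CA.QP.u5P110101.congr_simp
  have := @CA.QP.u5P1010.eq_1
  have := @CA.QP.u5P1010.eq_def
  have := @CA.QP.u5P1010.congr_simp
  have := @CA.QP.u5P0111100.eq_1
  have := @CA.QP.u5P0111100.eq_def
  have := @CA.QP.u5P0111100.congr_simp
  have := @CA.QP.u5P11001.eq_1
  have := @CA.QP.u5P11001.eq_def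
  have := @CA.QP.u5P11001.congr_simp
  have := @CA.QP.u5P10001.eq_1
  have := @CA.QP.u5P10001.eq_def
  have := @CA.QP.u5P10001.congr_simp
  have := @CA.QP.u5P0011010.eq_1
  have := @CA.QP.u5P0011010.eq_def
  have := @CA.QP.u5P0011010.congr_simp
  have := @CA.QP.u5w.eq_1
  have := @CA.QP.u5w.eq_def
  have := @CA.QP.u5w.congr_simp
  have := @CA.QP.u5P0000010.eq_1
  have := @CA.QP.u5P0000010.eq_def
  have := @CA.QP.u5P0000010.congr_simp
  have := @CA.QP.u5P1110011.eq_1
  have := @CA.QP.u5P1110011.eq_def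
  have := @CA.QP.u5P1110011.congr_simp
  have := @CA.QP.u5P101011.eq_1
  have := @CA.QP.u5P101011.eq_def
  have := @CA.QP.u5P101011.congr_simp
  have := @CA.QP.u5P1000111.eq_1
  have := @CA.QP.u5P1000111.eq_def
  have := @CA.QP.u5P1000111.congr_simp
  have := @CA.QP.u5P0010010.eq_1
  have := @CA.QP.u5P0010010.eq_def
  have := @CA.QP.u5P0010010.congr_simp
  have := @CA.QP.u5P110111.eq_1
  have := @CA.QP.u5P110111.eq_def
  have := @CA.QP.u5P110111.congr_simp
  have := @CA.QP.u5Ft00.eq_1
  have := @CA.QP.u5Ft00.eq_def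
  have := @CA.QP.u5Ft00.congr_simp
  have := @CA.QP.u5a.eq_1
  have := @CA.QP.u5a.eq_def
  have := @CA.QP.u5a.congr_simp
  have := @CA.QP.u5P0010000.eq_1
  have := @CA.QP.u5P0010000.eq_def
  have := @CA.QP.u5P0010000.congr_simp
  have := @CA.QP.u5P00100.eq_1
  have := @CA.QP.u5P00100.eq_def
  have := @CA.QP.u5P00100.congr_simp
  have := @CA.QP.u5P111001.eq_1
  have := @CA.QP.u5P111001.eq_def
  have := @CA.QP.u5P111001.congr_simp
  have := @CA.QP.u5P111100.eq_1
  have := @CA.QP.u5P111100.eq_def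
  have := @CA.QP.u5P111100.congr_simp
  have := @CA.QP.u5P1110000.eq_1
  have := @CA.QP.u5P1110000.eq_def
  have := @CA.QP.u5P1110000.congr_simp
  have := @CA.QP.u5Ft11.eq_1
  have := @CA.QP.u5Ft11.eq_def
  have := @CA.QP.u5Ft11.congr_simp
  have := @CA.QP.u5P1100.eq_1
  have := @CA.QP.u5P1100.eq_def
  have := @CA.QP.u5P1100.congr_simp
  have := @CA.QP.u5P0011011.eq_1
  have := @CA.QP.u5P0011011.eq_def
  have := @CA.QP.u5P0011011.congr_simp
  have := @CA.QP.u5P001010.eq_1
  have := @CA.QP.u5P001010.eq_def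
  have := @CA.QP.u5P001010.congr_simp
  have := @CA.QP.u5P00.eq_1
  have := @CA.QP.u5P00.eq_def
  have := @CA.QP.u5P00.congr_simp
  have := @CA.QP.u5P0011001.eq_1
  have := @CA.QP.u5P0011001.eq_def
  have := @CA.QP.u5P0011001.congr_simp
  have := @CA.QP.u5P0.eq_1
  have := @CA.QP.u5P0.eq_def
  have := @CA.QP.u5P0.congr_simp
  have := @CA.QP.u5P1111000.eq_1
  have := @CA.QP.u5P1111000.eq_def
  have := @CA.QP.u5P1111000.congr_simp
  have := @CA.QP.u5P0000000.eq_1
  have := @CA.QP.u5P0000000.eq_def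
  have := @CA.QP.u5P0000000.congr_simp
  have := @CA.QP.u5P101100.eq_1
  have := @CA.QP.u5P101100.eq_def
  have := @CA.QP.u5P101100.congr_simp
  have := @CA.QP.u5P1010111.eq_1
  have := @CA.QP.u5P1010111.eq_def
  have := @CA.QP.u5P1010111.congr_simp
  have := @CA.QP.u5P0100111.eq_1
  have := @CA.QP.u5P0100111.eq_def
  have := @CA.QP.u5P0100111.congr_simp
  have := @CA.QP.u5P010000.eq_1
  have := @CA.QP.u5P010000.eq_def
  have := @CA.QP.u5P010000.congr_simp
  have := @CA.QP.u5i.eq_1
  have := @CA.QP.u5i.eq_def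
  have := @CA.QP.u5i.congr_simp
  have := @CA.QP.u5P00010.eq_1
  have := @CA.QP.u5P00010.eq_def
  have := @CA.QP.u5P00010.congr_simp
  have := @CA.QP.u5fi.eq_1
  have := @CA.QP.u5fi.eq_def
  have := @CA.QP.u5fi.congr_simp
  have := @CA.QP.u5P1111001.eq_1
  have := @CA.QP.u5P1111001.eq_def
  have := @CA.QP.u5P1111001.congr_simp
  have := @CA.QP.u5P1110100.eq_1
  have := @CA.QP.u5P1110100.eq_def
  have := @CA.QP.u5P1110100.congr_simp
  have := @CA.QP.u5P011010.eq_1
  have := @CA.QP.u5P011010.eq_def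
  have := @CA.QP.u5P011010.congr_simp
  have := @CA.QP.u5P101110.eq_1
  have := @CA.QP.u5P101110.eq_def
  have := @CA.QP.u5P101110.congr_simp
  have := @CA.QP.u5P01101.eq_1
  have := @CA.QP.u5P01101.eq_def
  have := @CA.QP.u5P01101.congr_simp
  have := @CA.QP.u5P11110.eq_1
  have := @CA.QP.u5P11110.eq_def
  have := @CA.QP.u5P11110.congr_simp
  have := @CA.QP.u5P0001110.eq_1
  have := @CA.QP.u5P0001110.eq_def
  have := @CA.QP.u5P0001110.congr_simp
  have := @CA.QP.u5P10.eq_1
  have := @CA.QP.u5P10.eq_def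
  have := @CA.QP.u5P10.congr_simp
  have := @CA.QP.u5P1000110.eq_1
  have := @CA.QP.u5P1000110.eq_def
  have := @CA.QP.u5P1000110.congr_simp
  have := @CA.QP.u5C.eq_1
  have := @CA.QP.u5C.eq_def
  have := @CA.QP.u5C.congr_simp
  have := @CA.QP.u5P1110110.eq_1
  have := @CA.QP.u5P1110110.eq_def
  have := @CA.QP.u5P1110110.congr_simp
  have := @CA.QP.u5P0000111.eq_1
  have := @CA.QP.u5P0000111.eq_def
  have := @CA.QP.u5P0000111.congr_simp
  have := @CA.QP.u5v.eq_1
  have := @CA.QP.u5v.eq_def
  have := @CA.QP.u5v.congr_simp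
  have := @CA.QP.u5P1011011.eq_1
  have := @CA.QP.u5P1011011.eq_def
  have := @CA.QP.u5P1011011.congr_simp
  have := @CA.QP.u5P101111.eq_1
  have := @CA.QP.u5P101111.eq_def
  have := @CA.QP.u5P101111.congr_simp
  have := @CA.QP.u5P100.eq_1
  have := @CA.QP.u5P100.eq_def
  have := @CA.QP.u5P100.congr_simp
  have := @CA.QP.u5P0101110.eq_1
  have := @CA.QP.u5P0101110.eq_def
  have := @CA.QP.u5P0101110.congr_simp
  have := @CA.QP.u5P0001001.eq_1
  have := @CA.QP.u5P0001001.eq_def
  have := @CA.QP.u5P0001001.congr_simp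
  have := @CA.QP.u5P011101.eq_1
  have := @CA.QP.u5P011101.eq_def
  have := @CA.QP.u5P011101.congr_simp
  have := @CA.QP.u5P1001110.eq_1
  have := @CA.QP.u5P1001110.eq_def
  have := @CA.QP.u5P1001110.congr_simp
  have := @CA.QP.u5P100111.eq_1
  have := @CA.QP.u5P100111.eq_def
  have := @CA.QP.u5P100111.congr_simp
  have := @CA.QP.u5P011001.eq_1
  have := @CA.QP.u5P011001.eq_def
  have := @CA.QP.u5P011001.congr_simp
  have := @CA.QP.u5P000010.eq_1
  have := @CA.QP.u5P000010.eq_def
  have := @CA.QP.u5P000010.congr_simp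
  have := @CA.QP.u5P1111110.eq_1
  have := @CA.QP.u5P1111110.eq_def
  have := @CA.QP.u5P1111110.congr_simp
  have := @CA.QP.u5P00110.eq_1
  have := @CA.QP.u5P00110.eq_def
  have := @CA.QP.u5P00110.congr_simp
  have := @CA.QP.u5P0100100.eq_1
  have := @CA.QP.u5P0100100.eq_def
  have := @CA.QP.u5P0100100.congr_simp
  have := @CA.QP.u5P1101010.eq_1
  have := @CA.QP.u5P1101010.eq_def
  have := @CA.QP.u5P1101010.congr_simp
  have := @CA.QP.u5at.eq_1
  have := @CA.QP.u5at.eq_def
  have := @CA.QP.u5at.congr_simp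
  have := @CA.QP.u5P0010111.eq_1
  have := @CA.QP.u5P0010111.eq_def
  have := @CA.QP.u5P0010111.congr_simp
  have := @CA.QP.u5P00001.eq_1
  have := @CA.QP.u5P00001.eq_def
  have := @CA.QP.u5P00001.congr_simp
  have := @CA.QP.u5P1011001.eq_1
  have := @CA.QP.u5P1011001.eq_def
  have := @CA.QP.u5P1011001.congr_simp
  have := @CA.QP.u5P0100.eq_1
  have := @CA.QP.u5P0100.eq_def
  have := @CA.QP.u5P0100.congr_simp
  have := @CA.QP.u5P0101100.eq_1
  have := @CA.QP.u5P0101100.eq_def
  have := @CA.QP.u5P0101100.congr_simp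
  have := @CA.QP.u5P111000.eq_1
  have := @CA.QP.u5P111000.eq_def
  have := @CA.QP.u5P111000.congr_simp
  have := @CA.QP.u5P00011.eq_1
  have := @CA.QP.u5P00011.eq_def
  have := @CA.QP.u5P00011.congr_simp
  have := @CA.QP.u5P0101111.eq_1
  have := @CA.QP.u5P0101111.eq_def
  have := @CA.QP.u5P0101111.congr_simp
  have := @CA.QP.u5Ft10.eq_1
  have := @CA.QP.u5Ft10.eq_def
  have := @CA.QP.u5Ft10.congr_simp
  have := @CA.QP.u5P1001010.eq_1
  have := @CA.QP.u5P1001010.eq_def
  have := @CA.QP.u5P1001010.congr_simp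
  have := @CA.QP.u5P0111101.eq_1
  have := @CA.QP.u5P0111101.eq_def
  have := @CA.QP.u5P0111101.congr_simp
  have := @CA.QP.u5P0100011.eq_1
  have := @CA.QP.u5P0100011.eq_def
  have := @CA.QP.u5P0100011.congr_simp
  have := @CA.QP.u5P1111010.eq_1
  have := @CA.QP.u5P1111010.eq_def
  have := @CA.QP.u5P1111010.congr_simp
  have := @CA.QP.u5P0101.eq_1
  have := @CA.QP.u5P0101.eq_def
  have := @CA.QP.u5P0101.congr_simp
  have := @CA.QP.u5P1011110.eq_1
  have := @CA.QP.u5P1011110.eq_def
  have := @CA.QP.u5P1011110.congr_simp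
  have := @CA.QP.u5P100011.eq_1
  have := @CA.QP.u5P100011.eq_def
  have := @CA.QP.u5P100011.congr_simp
  have := @CA.QP.u5P0011000.eq_1
  have := @CA.QP.u5P0011000.eq_def
  have := @CA.QP.u5P0011000.congr_simp
  have := @CA.QP.u5P110100.eq_1
  have := @CA.QP.u5P110100.eq_def
  have := @CA.QP.u5P110100.congr_simp
  have := @CA.QP.u5Ft1.eq_1
  have := @CA.QP.u5Ft1.eq_def
  have := @CA.QP.u5Ft1.congr_simp
  have := @CA.QP.u5P111111.eq_1
  have := @CA.QP.u5P111111.eq_def
  have := @CA.QP.u5P111111.congr_simp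
  have := @CA.QP.u5P0001101.eq_1
  have := @CA.QP.u5P0001101.eq_def
  have := @CA.QP.u5P0001101.congr_simp
  have := @CA.QP.u5P0110011.eq_1
  have := @CA.QP.u5P0110011.eq_def
  have := @CA.QP.u5P0110011.congr_simp
  have := @CA.QP.u5P10101.eq_1
  have := @CA.QP.u5P10101.eq_def
  have := @CA.QP.u5P10101.congr_simp
  have := @CA.QP.u5P011011.eq_1
  have := @CA.QP.u5P011011.eq_def
  have := @CA.QP.u5P011011.congr_simp
  have := @CA.QP.u5P101000.eq_1
  have := @CA.QP.u5P101000.eq_def
  have := @CA.QP.u5P101000.congr_simp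
  have := @CA.QP.u5P0101001.eq_1
  have := @CA.QP.u5P0101001.eq_def
  have := @CA.QP.u5P0101001.congr_simp
  have := @CA.QP.u5P010101.eq_1
  have := @CA.QP.u5P010101.eq_def
  have := @CA.QP.u5P010101.congr_simp
  have := @CA.QP.u5P0110100.eq_1
  have := @CA.QP.u5P0110100.eq_def
  have := @CA.QP.u5P0110100.congr_simp
  have := @CA.QP.u5ft.eq_1
  have := @CA.QP.u5ft.eq_def
  have := @CA.QP.u5ft.congr_simp
  have := @CA.QP.u5P110110.eq_1
  have := @CA.QP.u5P110110.eq_def
  have := @CA.QP.u5P110110.congr_simp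
  have := @CA.QP.u5P11111.eq_1
  have := @CA.QP.u5P11111.eq_def
  have := @CA.QP.u5P11111.congr_simp
  have := @CA.QP.u5P000101.eq_1
  have := @CA.QP.u5P000101.eq_def
  have := @CA.QP.u5P000101.congr_simp
  have := @CA.QP.u5P0110000.eq_1
  have := @CA.QP.u5P0110000.eq_def
  have := @CA.QP.u5P0110000.congr_simp
  have := @CA.QP.u5P1.eq_1
  have := @CA.QP.u5P1.eq_def
  have := @CA.QP.u5P1.congr_simp
  have := @CA.QP.u5P01100.eq_1
  have := @CA.QP.u5P01100.eq_def
  have := @CA.QP.u5P01100.congr_simp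
  have := @CA.QP.u5f.eq_1
  have := @CA.QP.u5f.eq_def
  have := @CA.QP.u5f.congr_simp
  have := @CA.QP.u5P0101101.eq_1
  have := @CA.QP.u5P0101101.eq_def
  have := @CA.QP.u5P0101101.congr_simp
  have := @CA.QP.u5P1010000.eq_1
  have := @CA.QP.u5P1010000.eq_def
  have := @CA.QP.u5P1010000.congr_simp
  have := @CA.QP.u5P1001101.eq_1
  have := @CA.QP.u5P1001101.eq_def
  have := @CA.QP.u5P1001101.congr_simp
  have := @CA.QP.u5P.eq_1
  have := @CA.QP.u5P.eq_def
  have := @CA.QP.u5P.congr_simp
  have := @CA.QP.u5vt.eq_1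
  have := @CA.QP.u5vt.eq_def
  have := @CA.QP.u5vt.congr_simp
  have := @CA.QP.u5P10011.eq_1
  have := @CA.QP.u5P10011.eq_def
  have := @CA.QP.u5P10011.congr_simp
  have := @CA.QP.u5P001.eq_1
  have := @CA.QP.u5P001.eq_def
  have := @CA.QP.u5P001.congr_simp
  have := @CA.QP.u5P110.eq_1
  have := @CA.QP.u5P110.eq_def
  have := @CA.QP.u5P110.congr_simp
  have := @CA.QP.u5P111110.eq_1
  have := @CA.QP.u5P111110.eq_def
  have := @CA.QP.u5P111110.congr_simp
  have := @CA.QP.u5P1111011.eq_1
  have := @CA.QP.u5P1111011.eq_def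
  have := @CA.QP.u5P1111011.congr_simp
  have := @CA.QP.u5P1000100.eq_1
  have := @CA.QP.u5P1000100.eq_def
  have := @CA.QP.u5P1000100.congr_simp
  have := @CA.QP.u5P000.eq_1
  have := @CA.QP.u5P000.eq_def
  have := @CA.QP.u5P000.congr_simp
  have := @CA.QP.u5P1101001.eq_1
  have := @CA.QP.u5P1101001.eq_def
  have := @CA.QP.u5P1101001.congr_simp
  have := @CA.QP.u5P0011110.eq_1
  have := @CA.QP.u5P0011110.eq_def
  have := @CA.QP.u5P0011110.congr_simp
  have := @CA.QP.u5P1111101.eq_1
  have := @CA.QP.u5P1111101.eq_def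
  have := @CA.QP.u5P1111101.congr_simp
  have := @CA.QP.u5P1011010.eq_1
  have := @CA.QP.u5P1011010.eq_def
  have := @CA.QP.u5P1011010.congr_simp
  have := @CA.QP.u5P100001.eq_1
  have := @CA.QP.u5P100001.eq_def
  have := @CA.QP.u5P100001.congr_simp
  have := @CA.QP.u5P100101.eq_1
  have := @CA.QP.u5P100101.eq_def
  have := @CA.QP.u5P100101.congr_simp
  have := @CA.QP.u5P01001.eq_1
  have := @CA.QP.u5P01001.eq_def
  have := @CA.QP.u5P01001.congr_simp
  have := @CA.QP.u5P000100.eq_1
  have := @CA.QP.u5P000100.eq_def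
  have := @CA.QP.u5P000100.congr_simp
  have := @CA.QP.u5P1100101.eq_1
  have := @CA.QP.u5P1100101.eq_def
  have := @CA.QP.u5P1100101.congr_simp
  have := @CA.QP.u5P101101.eq_1
  have := @CA.QP.u5P101101.eq_def
  have := @CA.QP.u5P101101.congr_simp
  have := @CA.QP.u5P1101100.eq_1
  have := @CA.QP.u5P1101100.eq_def
  have := @CA.QP.u5P1101100.congr_simp
  have := @CA.QP.u5P101010.eq_1
  have := @CA.QP.u5P101010.eq_def
  have := @CA.QP.u5P101010.congr_simp
  have := @CA.QP.u5P0010.eq_1
  have := @CA.QP.u5P0010.eq_def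
  have := @CA.QP.u5P0010.congr_simp
  have := @CA.QP.u5P100110.eq_1
  have := @CA.QP.u5P100110.eq_def
  have := @CA.QP.u5P100110.congr_simp
  have := @CA.QP.u5P0111110.eq_1
  have := @CA.QP.u5P0111110.eq_def
  have := @CA.QP.u5P0111110.congr_simp
  have := @CA.QP.u5P1000.eq_1
  have := @CA.QP.u5P1000.eq_def
  have := @CA.QP.u5P1000.congr_simp
  have := @CA.QP.u5P1011.eq_1
  have := @CA.QP.u5P1011.eq_def
  have := @CA.QP.u5P1011.congr_simp
  have := @CA.QP.u5P1000010.eq_1
  have := @CA.QP.u5P1000010.eq_def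
  have := @CA.QP.u5P1000010.congr_simp
  have := @CA.QP.u5P1101.eq_1
  have := @CA.QP.u5P1101.eq_def
  have := @CA.QP.u5P1101.congr_simp
  have := @CA.QP.u5P110001.eq_1
  have := @CA.QP.u5P110001.eq_def
  have := @CA.QP.u5P110001.congr_simp
  have := @CA.QP.u5P1011101.eq_1
  have := @CA.QP.u5P1011101.eq_def
  have := @CA.QP.u5P1011101.congr_simp
  have := @CA.QP.u5P1100110.eq_1
  have := @CA.QP.u5P1100110.eq_def
  have := @CA.QP.u5P1100110.congr_simp
  have := @CA.QP.u5P1110010.eq_1
  have := @CA.QP.u5P1110010.eq_def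
  have := @CA.QP.u5P1110010.congr_simp
  have := @CA.QP.u5P111010.eq_1
  have := @CA.QP.u5P111010.eq_def
  have := @CA.QP.u5P111010.congr_simp
  have := @CA.QP.u5P0111.eq_1
  have := @CA.QP.u5P0111.eq_def
  have := @CA.QP.u5P0111.congr_simp
  have := @CA.QP.u5P1000000.eq_1
  have := @CA.QP.u5P1000000.eq_def
  have := @CA.QP.u5P1000000.congr_simp
  have := @CA.QP.u5P1111111.eq_1
  have := @CA.QP.u5P1111111.eq_def
  have := @CA.QP.u5P1111111.congr_simp
  have := @CA.QP.u5P10100.eq_1
  have := @CA.QP.u5P10100.eq_def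
  have := @CA.QP.u5P10100.congr_simp
  have := @CA.QP.u5P0110101.eq_1
  have := @CA.QP.u5P0110101.eq_def
  have := @CA.QP.u5P0110101.congr_simp
  have := @CA.QP.u5P10000.eq_1
  have := @CA.QP.u5P10000.eq_def
  have := @CA.QP.u5P10000.congr_simp
  have := @CA.QP.u5P001101.eq_1
  have := @CA.QP.u5P001101.eq_def
  have := @CA.QP.u5P001101.congr_simp
  have := @CA.QP.u5P11101.eq_1
  have := @CA.QP.u5P11101.eq_def
  have := @CA.QP.u5P11101.congr_simp
  have := @CA.QP.u5P01.eq_1
  have := @CA.QP.u5P01.eq_def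
  have := @CA.QP.u5P01.congr_simp
  have := @CA.QP.u5P1010001.eq_1
  have := @CA.QP.u5P1010001.eq_def
  have := @CA.QP.u5P1010001.congr_simp
  have := @CA.QP.u5P1010011.eq_1
  have := @CA.QP.u5P1010011.eq_def
  have := @CA.QP.u5P1010011.congr_simp
  have := @CA.QP.u5P011000.eq_1
  have := @CA.QP.u5P011000.eq_def
  have := @CA.QP.u5P011000.congr_simp
  have := @CA.QP.u5P001110.eq_1
  have := @CA.QP.u5P001110.eq_def
  have := @CA.QP.u5P001110.congr_simp
  have := @CA.QP.u5P0010100.eq_1
  have := @CA.QP.u5P0010100.eq_def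
  have := @CA.QP.u5P0010100.congr_simp
  have := @CA.QP.u5P1010110.eq_1
  have := @CA.QP.u5P1010110.eq_def
  have := @CA.QP.u5P1010110.congr_simp
  have := @CA.QP.u5P00000.eq_1
  have := @CA.QP.u5P00000.eq_def
  have := @CA.QP.u5P00000.congr_simp
  have := @CA.QP.u5P01010.eq_1
  have := @CA.QP.u5P01010.eq_def
  have := @CA.QP.u5P01010.congr_simp
  have := @CA.QP.u5P001011.eq_1
  have := @CA.QP.u5P001011.eq_def
  have := @CA.QP.u5P001011.congr_simp
  have := @CA.QP.u5P1111.eq_1
  have := @CA.QP.u5P1111.eq_def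
  have := @CA.QP.u5P1111.congr_simp
  have := @CA.QP.u5P100010.eq_1
  have := @CA.QP.u5P100010.eq_def
  have := @CA.QP.u5P100010.congr_simp
  have := @CA.QP.u5P1011111.eq_1
  have := @CA.QP.u5P1011111.eq_def
  have := @CA.QP.u5P1011111.congr_simp
  have := @CA.QP.u5Q.eq_1
  have := @CA.QP.u5Q.eq_def
  have := @CA.QP.u5Q.congr_simp
  have := @CA.QP.u5P0000001.eq_1
  have := @CA.QP.u5P0000001.eq_def
  have := @CA.QP.u5P0000001.congr_simp
  have := @CA.QP.u5P0110010.eq_1
  have := @CA.QP.u5P0110010.eq_def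
  have := @CA.QP.u5P0110010.congr_simp
  have := @CA.QP.u5P111011.eq_1
  have := @CA.QP.u5P111011.eq_def
  have := @CA.QP.u5P111011.congr_simp
  have := @CA.QP.u5P111.eq_1
  have := @CA.QP.u5P111.eq_def
  have := @CA.QP.u5P111.congr_simp
  have := @CA.QP.u5P100100.eq_1
  have := @CA.QP.u5P100100.eq_def
  have := @CA.QP.u5P100100.congr_simp
  have := @CA.QP.u5P0010001.eq_1
  have := @CA.QP.u5P0010001.eq_def
  have := @CA.QP.u5P0010001.congr_simp
  have := @CA.QP.u5P11000.eq_1
  have := @CA.QP.u5P11000.eq_def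
  have := @CA.QP.u5P11000.congr_simp
  trivial

end CA.QP
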